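import Cfsg.Agent.Lib.Presented.A5

/-!
# Homomorphisms out of `S₄` and `A₅` given by their presentations

`x² = y³ = (xy)⁴ = 1` bounds the generated group by 24; a subdirect product argument then turns
such a pair in any group into a homomorphism from `S₄` (resp. `x³ = y⁵ = (xy)² = 1` from `A₅`),
which is injective as soon as `(xy)² ≠ 1` (resp. `x ≠ 1`).
-/

set_option autoImplicit false

namespace Cfsg.Agent.Presented.SmallHom

variable {G : Type*} [Group G]

/-- The subdirect product trick. -/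
theorem exists_hom_of_bound {P : Type*} [Group P] [Finite P] {a b : P}
    (hgen : Subgroup.closure {a, b} = ⊤) (x y : G)
    (hb : Finite (Subgroup.closure ({(a, x), (b, y)} : Set (P × G))) ∧
      Nat.card (Subgroup.closure ({(a, x), (b, y)} : Set (P × G))) ≤ Nat.card P) :
    ∃ φ : P →* G, φ a = x ∧ φ b = y := by
  set S := Subgroup.closure ({(a, x), (b, y)} : Set (P × G))
  obtain ⟨hfin, hle⟩ := hb
  let f : S →* P := (MonoidHom.fst P G).comp S.subtype
  have hsurj : Function.Surjective f := by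
    rw [← MonoidHom.range_eq_top, eq_top_iff, ← hgen, Subgroup.closure_le]
    rintro g (h | h)
    · exact ⟨⟨(a, x), Subgroup.subset_closure (Or.inl rfl)⟩, h.symm⟩
    · exact ⟨⟨(b, y), Subgroup.subset_closure (Or.inr rfl)⟩, h.symm⟩
  have hbij : Function.Bijective f := (Nat.bijective_iff_surjective_and_card f).2
    ⟨hsurj, le_antisymm hle (Nat.card_le_card_of_surjective f hsurj)⟩
  let e := MulEquiv.ofBijective f hbij
  refine ⟨(MonoidHom.snd P G).comp (S.subtype.comp e.symm.toMonoidHom), ?_, ?_⟩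
  · have : e.symm a = ⟨(a, x), Subgroup.subset_closure (Or.inl rfl)⟩ :=
      e.symm_apply_eq.2 rfl
    simp [this]
  · have : e.symm b = ⟨(b, y), Subgroup.subset_closure (Or.inr rfl)⟩ :=
      e.symm_apply_eq.2 rfl
    simp [this]

theorem closure_pair_eq_top {x y : G} :
    Subgroup.closure
      ({⟨x, Subgroup.subset_closure (Or.inl rfl)⟩, ⟨y, Subgroup.subset_closure (Or.inr rfl)⟩} :
        Set (Subgroup.closure ({x, y} : Set G))) = ⊤ := by
  rw [← Subgroup.map_injective (Subgroup.closure ({x, y} : Set G)).subtype_injective |>.eq_iff,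
    MonoidHom.map_closure, Set.image_pair, ← MonoidHom.range_eq_map, Subgroup.range_subtype]
  rfl

/-- `x² = y³ = (xy)⁴ = 1` gives at most 24 elements. -/
theorem card_le_sfour {K : Type*} [Group K] {x y : K} (hgen : Subgroup.closure {x, y} = ⊤)
    (hx : x ^ 2 = 1) (hy : y ^ 3 = 1) (hxy : (x * y) ^ 4 = 1) :
    Finite K ∧ Nat.card K ≤ 24 := by
  obtain ⟨z, hz⟩ : ∃ z, z = x * y := ⟨_, rfl⟩
  have hxx : x⁻¹ = x := inv_eq_of_mul_eq_one_right (by rw [← pow_two, hx])
  have hyy : y⁻¹ = y * y := inv_eq_of_mul_eq_one_right (by rw [← pow_two, ← pow_succ', hy])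
  have key : y * x * y * x = z * (y * x * (y * y)) := by
    have h1 : (y * x * y * x) * (y * x * y * x) = 1 := by
      have : (y * x * y * x) * (y * x * y * x) = x⁻¹ * (x * y) ^ 4 * x := by
        rw [show (4 : ℕ) = 1 + 1 + 1 + 1 from rfl, pow_succ, pow_succ, pow_succ, pow_one]
        group
      rw [this, hxy, mul_one, inv_mul_cancel]
    rw [← inv_eq_of_mul_eq_one_right h1, hz, mul_inv_rev, mul_inv_rev, mul_inv_rev, hxx, hyy]
    group
  let w : Fin 6 → K := ![1, x, y, y * x, y * x * y, y * x * (y * y)]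
  have hstep : ∀ i, (∃ (j : Fin 6) (k : ℤ), w i * x = z ^ k * w j) ∧
      ∃ (j : Fin 6) (k : ℤ), w i * y = z ^ k * w j := by
    have hxx' : x * x = 1 := by rw [← pow_two, hx]
    have hy3 : y * y * y = 1 := by rw [← pow_two, ← pow_succ, hy]
    intro i
    fin_cases i
    · exact ⟨⟨1, 0, by simp [w]⟩, ⟨2, 0, by simp [w]⟩⟩
    · exact ⟨⟨0, 0, by simp [w, hxx']⟩, ⟨0, 1, by simp [w, hz]⟩⟩
    · refine ⟨⟨3, 0, by simp [w]⟩, ⟨1, -1, ?_⟩⟩
      show y * y = z ^ (-1 : ℤ) * x
      rw [zpow_neg_one, hz, mul_inv_rev, inv_mul_cancel_right, hyy]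
    · refine ⟨⟨2, 0, ?_⟩, ⟨4, 0, by simp [w]⟩⟩
      show y * x * x = z ^ (0 : ℤ) * y
      rw [mul_assoc, hxx', mul_one, zpow_zero, one_mul]
    · refine ⟨⟨5, 1, ?_⟩, ⟨5, 0, ?_⟩⟩
      · show y * x * y * x = z ^ (1 : ℤ) * (y * x * (y * y))
        rw [zpow_one, key]
      · show y * x * y * y = z ^ (0 : ℤ) * (y * x * (y * y))
        rw [zpow_zero, one_mul, ← mul_assoc]
    · refine ⟨⟨4, -1, ?_⟩, ⟨3, 0, ?_⟩⟩
      · show y * x * (y * y) * x = z ^ (-1 : ℤ) * (y * x * y)
        rw [zpow_neg_one, eq_inv_mul_iff_mul_eq, ← mul_assoc, ← key, mul_assoc _ x, hxx', mul_one]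
      · show y * x * (y * y) * y = z ^ (0 : ℤ) * (y * x)
        rw [mul_assoc _ (y * y), hy3, mul_one, zpow_zero, one_mul]
  have hrep : ∀ g : K, ∃ (k : ℤ) (i : Fin 6), g = z ^ k * w i := by
    have hmul : ∀ {u g : K}, (∃ (k : ℤ) (i : Fin 6), u = z ^ k * w i) →
        (∀ i, ∃ (j : Fin 6) (k : ℤ), w i * g = z ^ k * w j) →
        ∃ (k : ℤ) (i : Fin 6), u * g = z ^ k * w i := by
      rintro u g ⟨k, i, rfl⟩ hg
      obtain ⟨j, l, hl⟩ := hg i
      exact ⟨k + l, j, by rw [mul_assoc, hl, ← mul_assoc, zpow_add]⟩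
    intro g
    have hg : g ∈ Subgroup.closure {x, y} := hgen ▸ Subgroup.mem_top g
    induction hg using Subgroup.closure_induction_right with
    | one => exact ⟨0, 0, by simp [w]⟩
    | mul_right u _ g hg hu =>
      rcases hg with rfl | rfl
      · exact hmul hu fun i => (hstep i).1
      · exact hmul hu fun i => (hstep i).2
    | mul_inv_cancel u _ g hg hu =>
      rcases hg with rfl | rfl
      · rw [hxx]; exact hmul hu fun i => (hstep i).1
      · rw [hyy, ← mul_assoc]
        exact hmul (hmul hu fun i => (hstep i).2) fun i => (hstep i).2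
  let f : Fin 4 × Fin 6 → K := fun p => z ^ (p.1 : ℕ) * w p.2
  have hf : Function.Surjective f := by
    intro g
    obtain ⟨k, i, rfl⟩ := hrep g
    refine ⟨(⟨(k % 4).toNat, by omega⟩, i), ?_⟩
    have h4 : z ^ (4 : ℤ) = 1 := by
      rw [show (4 : ℤ) = ((4 : ℕ) : ℤ) from rfl, zpow_natCast, hz, hxy]
    show z ^ (k % 4).toNat * w i = z ^ k * w i
    conv_rhs => rw [← Int.emod_add_mul_ediv k 4, zpow_add, zpow_mul, h4, one_zpow, mul_one,
      ← Int.toNat_of_nonneg (Int.emod_nonneg k (by norm_num : (4 : ℤ) ≠ 0)), zpow_natCast]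
  have hfin : Finite K := Finite.of_surjective f hf
  exact ⟨hfin, by simpa using Nat.card_le_card_of_surjective f hf⟩

/-- An `(2, 3, 4)` pair gives a homomorphism from `S₄`, injective if `(xy)² ≠ 1`. -/
theorem exists_permFour_hom {x y : G} (hx : x ^ 2 = 1) (hy : y ^ 3 = 1) (hxy : (x * y) ^ 4 = 1)
    (hne : (x * y) ^ 2 ≠ 1) : ∃ φ : Equiv.Perm (Fin 4) →* G, Function.Injective φ := by
  let a : Equiv.Perm (Fin 4) := Equiv.swap 0 1
  let b : Equiv.Perm (Fin 4) := Equiv.swap 1 2 * Equiv.swap 2 3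
  have hgen : Subgroup.closure {a, b} = ⊤ := by
    have ha : a ∈ Subgroup.closure {a, b} := Subgroup.subset_closure (Or.inl rfl)
    have hb : b ∈ Subgroup.closure {a, b} := Subgroup.subset_closure (Or.inr rfl)
    have hc : a * b ∈ Subgroup.closure {a, b} := Subgroup.mul_mem _ ha hb
    have d : ∀ z ∈ Subgroup.closure {a, b}, ∀ n, z ^ n = 1 → (∀ m < n, 0 < m → z ^ m ≠ 1) → 0 < n →
        n ∣ Nat.card (Subgroup.closure ({a, b} : Set (Equiv.Perm (Fin 4)))) := by
      intro z hz n h1 h2 h3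
      rw [← (orderOf_eq_iff h3).2 ⟨h1, h2⟩]
      exact Subgroup.orderOf_dvd_natCard _ hz
    have h3 := d _ hb 3 (by decide +kernel) (by decide +kernel) (by norm_num)
    have h4 := d _ hc 4 (by decide +kernel) (by decide +kernel) (by norm_num)
    have h12 : 12 ∣ Nat.card (Subgroup.closure ({a, b} : Set (Equiv.Perm (Fin 4)))) := by omega
    have hcard : Nat.card (Equiv.Perm (Fin 4)) = 24 := by
      rw [Nat.card_perm, Nat.card_fin]; decide
    refine Subgroup.eq_top_of_card_eq _ ?_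
    have hd := (Subgroup.closure ({a, b} : Set (Equiv.Perm (Fin 4)))).card_subgroup_dvd_card
    rw [hcard] at hd ⊢
    have hle := Nat.le_of_dvd (by norm_num) hd
    rcases h12 with ⟨c, hc'⟩
    by_contra hne'
    have hpos := Nat.card_pos (α := Subgroup.closure ({a, b} : Set (Equiv.Perm (Fin 4))))
    have h12' : Nat.card (Subgroup.closure ({a, b} : Set (Equiv.Perm (Fin 4)))) = 12 := by
      rw [hc'] at hle hne' hpos ⊢
      omega
    have halt : Subgroup.closure ({a, b} : Set (Equiv.Perm (Fin 4))) = alternatingGroup (Fin 4) := by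
      refine Equiv.Perm.eq_alternatingGroup_of_index_eq_two ?_
      have := (Subgroup.closure ({a, b} : Set (Equiv.Perm (Fin 4)))).index_mul_card
      rw [hcard, h12'] at this
      omega
    rw [halt] at ha
    exact absurd (Equiv.Perm.mem_alternatingGroup.1 ha) (by decide +kernel)
  obtain ⟨φ, hφa, hφb⟩ := exists_hom_of_bound hgen x y (by
    have h := card_le_sfour (K := Subgroup.closure ({(a, x), (b, y)} : Set (Equiv.Perm (Fin 4) × G)))
      closure_pair_eq_top
      (Subtype.ext (Prod.ext (show a ^ 2 = 1 by decide +kernel) hx))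
      (Subtype.ext (Prod.ext (show b ^ 3 = 1 by decide +kernel) hy))
      (Subtype.ext (Prod.ext (show (a * b) ^ 4 = 1 by decide +kernel) hxy))
    refine ⟨h.1, h.2.trans_eq ?_⟩
    rw [Nat.card_perm, Nat.card_fin]; decide)
  refine ⟨φ, (injective_iff_map_eq_one φ).2 fun z hz => ?_⟩
  by_contra hz1
  have hc : φ ((a * b) ^ 2) ≠ 1 := by rwa [map_pow, map_mul, hφa, hφb]
  have hall : ∀ z : Equiv.Perm (Fin 4), z ≠ 1 → ∃ u v : Equiv.Perm (Fin 4),
      z * (u * z * u⁻¹) = v * (a * b) ^ 2 * v⁻¹ ∨ z = v * (a * b) ^ 2 * v⁻¹ := by decide +kernel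
  obtain ⟨u, v, h | h⟩ := hall z hz1
  · apply hc
    have := congrArg φ h
    simp only [map_mul, map_inv, hz, mul_one, mul_inv_cancel, one_mul] at this
    rw [eq_comm, mul_inv_eq_one, mul_eq_left] at this
    exact this
  · apply hc
    have := congrArg φ h
    simp only [map_mul, map_inv, hz] at this
    rw [eq_comm, mul_inv_eq_one, mul_eq_left] at this
    exact this

/-- A nontrivial `(3, 5, 2)` pair gives an injective homomorphism from `A₅`. -/
theorem exists_altFive_hom {x y : G} (hx : x ^ 3 = 1) (hy : y ^ 5 = 1) (hxy : (x * y) ^ 2 = 1)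
    (hne : x ≠ 1) : ∃ φ : alternatingGroup (Fin 5) →* G, Function.Injective φ := by
  obtain ⟨a, b, ha, hb, hab, hgen⟩ := A5.exists_gens
  obtain ⟨φ, hφa, -⟩ := exists_hom_of_bound hgen x y (by
    have h := A5.card_le (K := Subgroup.closure ({(a, x), (b, y)} : Set (alternatingGroup (Fin 5) × G)))
      closure_pair_eq_top (Subtype.ext (Prod.ext ha hx)) (Subtype.ext (Prod.ext hb hy))
      (Subtype.ext (Prod.ext hab hxy))
    refine ⟨h.1, h.2.trans_eq ?_⟩
    rw [nat_card_alternatingGroup, Nat.card_fin]; decide)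
  refine ⟨φ, ?_⟩
  haveI : IsSimpleGroup (alternatingGroup (Fin 5)) := alternatingGroup.isSimpleGroup_five
  rcases IsSimpleGroup.eq_bot_or_eq_top_of_normal φ.ker inferInstance with h | h
  · exact (MonoidHom.ker_eq_bot_iff φ).1 h
  · exact absurd (hφa ▸ MonoidHom.mem_ker.1 (h ▸ Subgroup.mem_top a)) hne

end Cfsg.Agent.Presented.SmallHom
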