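import Cfsg.Agent.Lib.Presented.Coset

/-!
# Logged Todd–Coxeter deductions as certificates

A `DerivCert` is a pruned log of a coset enumeration with coincidences: nodes defined from earlier
nodes, and facts `s g • c u = c v` or `c u = c v`, each derived from earlier facts by reading one word.
It is used to prove that further words lie in the subgroup.
-/

set_option autoImplicit false

namespace Cfsg.Agent.Presented

/-- Log of deductions. A fact is packed as `(u * (m + 1) + g) * 2 ^ 24 + v`, where `g = m` means equality.
A rule is `0` for a definition, otherwise `1 + 2 * (word + 1024 * (pos + 1024 * start))`. -/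
structure DerivCert where
  m : ℕ
  nodes : ℕ
  nodePar : NTree
  nF : ℕ
  depth : ℕ
  fact : NTree
  rule : NTree
  span : NTree
  steps : NTree
  nR : ℕ
  words : List (List ℕ)
  loops : List (List ℕ × ℕ × ℕ)

namespace DerivCert

variable (D : DerivCert)

/-- Follow `len` facts (numbered below `bd`) from node `p`, spelling the word `w`, ending at `tgt`. -/
noncomputable def follow (bd tgt len : ℕ) : ℕ → ℕ → List ℕ → Bool :=
  Nat.rec (motive := fun _ => ℕ → ℕ → List ℕ → Bool)
    (fun _ p w => w.isEmpty && Nat.beq p tgt)
    (fun _ ih off p w =>
      force (D.steps.get 24 off) fun f => Nat.blt f bd &&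
      force (D.fact.get 64 f) fun F => force (F % 16777216) fun v =>
      force (F / 16777216 % (D.m + 1)) fun g => force (F / 16777216 / (D.m + 1)) fun u =>
        (Nat.beq p u || Nat.beq p v) &&
        force (bif Nat.beq p u then v else u) fun q =>
        bif Nat.beq g D.m then ih (off + 1) q w
        else
          match w with
          | [] => false
          | g' :: rest => Nat.beq g' g && ih (off + 1) q rest)
    len

theorem follow_zero (bd tgt off p : ℕ) (w : List ℕ) :
    D.follow bd tgt 0 off p w = (w.isEmpty && Nat.beq p tgt) := rfl

theorem follow_succ (bd tgt len off p : ℕ) (w : List ℕ) :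
    D.follow bd tgt (len + 1) off p w =
      force (D.steps.get 24 off) fun f => Nat.blt f bd &&
      force (D.fact.get 64 f) fun F => force (F % 16777216) fun v =>
      force (F / 16777216 % (D.m + 1)) fun g => force (F / 16777216 / (D.m + 1)) fun u =>
        (Nat.beq p u || Nat.beq p v) &&
        force (bif Nat.beq p u then v else u) fun q =>
        bif Nat.beq g D.m then D.follow bd tgt len (off + 1) q w
        else
          match w with
          | [] => false
          | g' :: rest => Nat.beq g' g && D.follow bd tgt len (off + 1) q rest := rfl

/-- A single fact is justified. -/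
noncomputable def checkFact (f : ℕ) : Bool :=
  force (D.fact.get 64 f) fun F => force (F % 16777216) fun v =>
  force (F / 16777216 % (D.m + 1)) fun g => force (F / 16777216 / (D.m + 1)) fun u =>
  force (D.rule.get 64 f) fun R =>
    bif Nat.beq (R % 2) 0 then
      Nat.blt g D.m && Nat.blt u v && Nat.blt v D.nodes && Nat.beq (D.nodePar.get 32 v) (u * D.m + g)
    else
      force (R / 2 % 1024) fun r => force (R / 2048 % 1024) fun k => force (R / 2097152) fun st =>
      force (D.span.get 48 f) fun S => force (S % 4096) fun l₁ => force (S / 4096 % 4096) fun l₂ =>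
      force (S / 16777216) fun off =>
        Nat.blt r D.words.length && (Nat.blt r D.nR || Nat.beq st 0) &&
        D.follow f u l₁ off st ((D.words.getD r []).take k) &&
        (bif Nat.beq g D.m then D.follow f st l₂ (off + l₁) v ((D.words.getD r []).drop k)
         else Nat.beq ((D.words.getD r []).getD k D.m) g &&
           D.follow f st l₂ (off + l₁) v ((D.words.getD r []).drop (k + 1)))

/-- All facts are justified. -/
noncomputable def factsOK : Bool := checkBelow D.checkFact D.depth D.nF && Nat.blt 0 D.m

/-- All loops close at node `0`. -/
noncomputable def loopsOK : Bool :=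
  D.loops.all fun l => D.follow D.nF 0 l.2.2 l.2.1 0 l.1

variable {G : Type*} [Group G] {s : ℕ → G} (H : Subgroup G)

/-- Meaning of fact `f`. -/
def Holds (c : ℕ → G ⧸ H) (s : ℕ → G) (f : ℕ) : Prop :=
  let F := D.fact.get 64 f
  if F / 16777216 % (D.m + 1) = D.m then c (F / 16777216 / (D.m + 1)) = c (F % 16777216)
  else s (F / 16777216 % (D.m + 1)) • c (F / 16777216 / (D.m + 1)) = c (F % 16777216)

theorem follow_spec (hs : ∀ g, g < D.m → s g * s g = 1) (c : ℕ → G ⧸ H) (bd tgt : ℕ)
    (good : ∀ f, f < bd → D.Holds H c s f) : ∀ (len off p : ℕ) (w : List ℕ),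
    D.follow bd tgt len off p w = true → wval s w • c p = c tgt := by
  intro len
  induction len with
  | zero =>
    intro off p w h
    simp only [follow_zero, Bool.and_eq_true, List.isEmpty_iff, Nat.beq_eq] at h
    rw [h.1, h.2]; simp [wval]
  | succ len ih =>
    intro off p w h
    simp only [follow_succ, force_eq, Bool.and_eq_true, Nat.blt_eq] at h
    obtain ⟨hf, hp, h⟩ := h
    have hgood := good _ hf
    simp only [Holds] at hgood
    generalize D.fact.get 64 (D.steps.get 24 off) = F at *
    generalize hu : F / 16777216 / (D.m + 1) = u at *
    generalize hv : F % 16777216 = v at *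
    simp only [Bool.or_eq_true, Nat.beq_eq] at hp
    by_cases hg : F / 16777216 % (D.m + 1) = D.m
    · rw [if_pos hg] at hgood
      rw [show Nat.beq (F / 16777216 % (D.m + 1)) D.m = true from Nat.beq_eq.mpr hg, cond_true] at h
      by_cases hpu : p = u
      · rw [show Nat.beq p u = true from Nat.beq_eq.mpr hpu, cond_true] at h
        rw [hpu, hgood]; exact ih _ _ _ h
      · rw [show Nat.beq p u = false by simpa [Bool.eq_false_iff, Nat.beq_eq] using hpu, cond_false] at h
        rw [hp.resolve_left hpu, ← hgood]; exact ih _ _ _ h
    · rw [if_neg hg] at hgood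
      rw [show Nat.beq (F / 16777216 % (D.m + 1)) D.m = false by
        simpa [Bool.eq_false_iff, Nat.beq_eq] using hg, cond_false] at h
      match w, h with
      | g' :: rest, h =>
        simp only [Bool.and_eq_true, Nat.beq_eq] at h
        obtain ⟨rfl, h⟩ := h
        have hlt : F / 16777216 % (D.m + 1) < D.m := by
          have := Nat.mod_lt (F / 16777216) (show D.m + 1 > 0 by omega); omega
        rw [wval, mul_smul]
        by_cases hpu : p = u
        · rw [show Nat.beq p u = true from Nat.beq_eq.mpr hpu, cond_true] at h
          rw [hpu, hgood]; exact ih _ _ _ h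
        · rw [show Nat.beq p u = false by simpa [Bool.eq_false_iff, Nat.beq_eq] using hpu,
            cond_false] at h
          rw [hp.resolve_left hpu, ← hgood, ← mul_smul _ _ (c u), hs _ hlt, one_smul]
          exact ih _ _ _ h

theorem loops_mem (hok : D.factsOK = true) (hloop : D.loopsOK = true)
    (hs : ∀ g, g < D.m → s g * s g = 1)
    (hR : ∀ w ∈ D.words.take D.nR, wval s w = 1)
    (hK : ∀ w ∈ D.words.drop D.nR, wval s w ∈ H) :
    ∀ w ∈ D.loops.map Prod.fst, wval s w ∈ H := by
  simp only [factsOK, Bool.and_eq_true, Nat.blt_eq] at hok
  -- the nodes of the log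
  let c : ℕ → G ⧸ H := fun i => WellFounded.fix Nat.lt_wfRel.wf (fun i rec =>
    if h : D.nodePar.get 32 i / D.m < i then s (D.nodePar.get 32 i % D.m) • rec _ h
    else QuotientGroup.mk 1) i
  have hc : ∀ i, D.nodePar.get 32 i / D.m < i →
      c i = s (D.nodePar.get 32 i % D.m) • c (D.nodePar.get 32 i / D.m) := by
    intro i h
    show WellFounded.fix _ _ i = _
    rw [WellFounded.fix_eq, dif_pos h]
  have hc0 : c 0 = QuotientGroup.mk 1 := by
    show WellFounded.fix _ _ 0 = _
    rw [WellFounded.fix_eq]; simp
  have key : ∀ n, n ≤ D.nF → ∀ f, f < n → D.Holds H c s f := by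
    intro n
    induction n with
    | zero => intros; omega
    | succ n ih =>
      intro hn f hf
      by_cases hfn : f < n
      · exact ih (by omega) f hfn
      obtain rfl : f = n := by omega
      have good := ih (by omega)
      have h := checkBelow_spec hok.1 f (by omega)
      simp only [checkFact, force_eq] at h
      simp only [Holds]
      generalize D.fact.get 64 f = F at *
      generalize F / 16777216 / (D.m + 1) = u at *
      generalize F % 16777216 = v at *
      generalize F / 16777216 % (D.m + 1) = g at *
      by_cases hdef : D.rule.get 64 f % 2 = 0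
      · simp only [hdef, Nat.beq_refl, cond_true, Bool.and_eq_true, Nat.blt_eq, Nat.beq_eq] at h
        obtain ⟨⟨⟨hg, huv⟩, -⟩, hpar⟩ := h
        obtain ⟨hd, hm⟩ : (u * D.m + g) / D.m = u ∧ (u * D.m + g) % D.m = g := by
          constructor
          · rw [mul_comm, Nat.mul_add_div (by omega), Nat.div_eq_of_lt hg, add_zero]
          · rw [mul_comm, Nat.mul_add_mod, Nat.mod_eq_of_lt hg]
        rw [if_neg (by omega), hc v (by rw [hpar, hd]; exact huv), hpar, hd, hm]
      · rw [show Nat.beq (D.rule.get 64 f % 2) 0 = false by
          simpa [Bool.eq_false_iff, Nat.beq_eq] using hdef, cond_false] at h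
        simp only [Bool.and_eq_true, Bool.or_eq_true, Nat.blt_eq, Nat.beq_eq] at h
        obtain ⟨⟨⟨hr, hsub⟩, hA⟩, hB⟩ := h
        generalize D.rule.get 64 f / 2 % 1024 = r at *
        generalize D.rule.get 64 f / 2048 % 1024 = k at *
        generalize D.rule.get 64 f / 2097152 = st at *
        rw [List.getD_eq_getElem _ _ hr] at hA hB
        generalize hw : D.words[r] = w at *
        have eA := D.follow_spec H hs c _ _ good _ _ _ _ hA
        have hfix : wval s w • c st = c st := by
          by_cases hrR : r < D.nR
          · have hmem : w ∈ D.words.take D.nR := by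
              rw [← hw, List.mem_take_iff_getElem]; exact ⟨r, by omega, rfl⟩
            rw [hR w hmem, one_smul]
          · have hst0 : st = 0 := hsub.resolve_left hrR
            subst hst0
            have hmem : w ∈ D.words.drop D.nR := by
              rw [List.mem_drop_iff_getElem]
              exact ⟨r - D.nR, by omega, by simp only [← hw]; congr 1; omega⟩
            rw [hc0, MulAction.Quotient.smul_mk, smul_eq_mul, mul_one, QuotientGroup.eq, mul_one]
            exact inv_mem (hK w hmem)
        by_cases hg : g = D.m
        · rw [show Nat.beq g D.m = true from Nat.beq_eq.mpr hg, cond_true] at hB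
          have eB := D.follow_spec H hs c _ _ good _ _ _ _ hB
          rw [if_pos hg]
          rw [← List.take_append_drop k w, wval_append, mul_smul, eA, ← eB] at hfix
          exact MulAction.injective _ hfix
        · rw [show Nat.beq g D.m = false by simpa [Bool.eq_false_iff, Nat.beq_eq] using hg,
            cond_false, Bool.and_eq_true, Nat.beq_eq] at hB
          obtain ⟨hk', hB⟩ := hB
          have hk : k < w.length := by
            by_contra hk
            rw [List.getD_eq_default _ _ (by omega)] at hk'
            omega
          rw [List.getD_eq_getElem _ _ hk] at hk'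
          have eB := D.follow_spec H hs c _ _ good _ _ _ _ hB
          rw [if_neg hg]
          have hdec : w = w.take k ++ g :: w.drop (k + 1) := by
            rw [← hk', List.getElem_cons_drop, List.take_append_drop]
          rw [hdec, wval_append, wval, mul_smul, mul_smul, eA, ← eB] at hfix
          exact MulAction.injective _ hfix
  intro w hw
  obtain ⟨l, hl, rfl⟩ := List.mem_map.mp hw
  have h := List.all_eq_true.mp hloop l hl
  have := D.follow_spec H hs c _ _ (key _ le_rfl) _ _ _ _ h
  rw [hc0, MulAction.Quotient.smul_mk, smul_eq_mul, mul_one, QuotientGroup.eq, mul_one] at this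
  exact (inv_mem_iff (H := H)).mp this

end DerivCert

end Cfsg.Agent.Presented
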