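import Mathlib

/-!
# The relations x³ = y⁵ = (xy)² = 1

A coset enumeration over ⟨y⟩ (12 cosets): a group generated by such `x`, `y` has at most 60 elements,
and it maps onto, hence is isomorphic to, the alternating group of degree 5 once it is nontrivial.
-/

set_option autoImplicit false

namespace Cfsg.Agent.Presented.A5

variable {K : Type*} [Group K] {y w w' g p q : K} {k A B : ℤ}

theorem einv (h : w * g = y ^ k * w') : w' * g⁻¹ = y ^ (-k) * w := by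
  rw [zpow_neg, eq_inv_mul_iff_mul_eq, ← mul_assoc, ← h, mul_inv_cancel_right]

theorem start (y w : K) : w = y ^ (0 : ℤ) * w := by simp

theorem step (hp : p = y ^ A * w) (he : w * g = y ^ k * w') : p * g = y ^ (A + k) * w' := by
  rw [hp, mul_assoc, he, ← mul_assoc, zpow_add]

theorem fin (hp : p = y ^ A * w) (hq : q = y ^ B * w') (hrel : p * g = q) (hk : B - A = k) :
    w * g = y ^ k * w' := by
  subst hk
  rw [hp, hq, mul_assoc] at hrel
  rw [zpow_sub, ← (Commute.zpow_zpow_self y B A).inv_right.eq.symm, mul_assoc, ← hrel, inv_mul_cancel_left]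

/-- Every element is `y ^ i * w j` for a list `w` of twelve coset representatives. -/
theorem exists_rep {x y : K} (hgen : Subgroup.closure {x, y} = ⊤)
    (hx : ∀ c : K, x * (x * (x * c)) = c) (hy : ∀ c : K, y * (y * (y * (y * (y * c)))) = c)
    (hxy : ∀ c : K, x * (y * (x * (y * c))) = c) :
    ∃ w : Fin 12 → K, ∀ z : K, ∃ (k : ℤ) (i : Fin 12), z = y ^ k * w i := by
  suffices h : ∃ w : Fin 12 → K, (∃ i, w i = 1) ∧ ∀ i,
      (∃ (j : Fin 12) (k : ℤ), w i * x = y ^ k * w j) ∧ (∃ (j : Fin 12) (k : ℤ), w i * x⁻¹ = y ^ k * w j) ∧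
      (∃ (j : Fin 12) (k : ℤ), w i * y = y ^ k * w j) ∧ ∃ (j : Fin 12) (k : ℤ), w i * y⁻¹ = y ^ k * w j by
    obtain ⟨w, ⟨i₀, hi₀⟩, hw⟩ := h
    refine ⟨w, fun z => ?_⟩
    have hz : z ∈ Subgroup.closure {x, y} := hgen ▸ Subgroup.mem_top z
    have hmul : ∀ {u g : K}, (∃ (k : ℤ) (i : Fin 12), u = y ^ k * w i) →
        (∀ i, ∃ (j : Fin 12) (k : ℤ), w i * g = y ^ k * w j) → ∃ (k : ℤ) (i : Fin 12), u * g = y ^ k * w i := by
      rintro u g ⟨k, i, rfl⟩ hg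
      obtain ⟨j, l, hl⟩ := hg i
      exact ⟨k + l, j, by rw [mul_assoc, hl, ← mul_assoc, zpow_add]⟩
    induction hz using Subgroup.closure_induction_right with
    | one => exact ⟨0, i₀, by simp [hi₀]⟩
    | mul_right u _ g hg hu =>
      rcases hg with rfl | rfl
      · exact hmul hu fun i => (hw i).1
      · exact hmul hu fun i => (hw i).2.2.1
    | mul_inv_cancel u _ g hg hu =>
      rcases hg with rfl | rfl
      · exact hmul hu fun i => (hw i).2.1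
      · exact hmul hu fun i => (hw i).2.2.2
  let w0 : K := 1
  have e0 : w0 * y = y ^ (1 : ℤ) * w0 := by simp [w0]
  have e0' : w0 * y⁻¹ = y ^ (-1 : ℤ) * w0 := einv e0
  let w1 : K := w0 * x
  have e1 : w0 * x = y ^ (0 : ℤ) * w1 := by simp [w1]
  have e1' : w1 * x⁻¹ = y ^ (0 : ℤ) * w0 := einv e1
  let w2 : K := w1 * x
  have e2 : w1 * x = y ^ (0 : ℤ) * w2 := by simp [w2]
  have e2' : w2 * x⁻¹ = y ^ (0 : ℤ) * w1 := einv e2
  have e3 : w2 * x = y ^ (0 : ℤ) * w0 := fin (step (step (start y w0) e1) e2) (start y w0) (by rw [← mul_inv_eq_one]; simp only [mul_assoc, mul_inv_rev, inv_inv, hx, mul_inv_cancel, inv_mul_cancel_left, mul_inv_cancel_left]) (by norm_num)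
  have e3' : w0 * x⁻¹ = y ^ (0 : ℤ) * w2 := einv e3
  have e4 : w1 * y = y ^ (-1 : ℤ) * w2 := fin (step (start y w0) e1) (step (step (start y w0) e0') e3') (by rw [← mul_inv_eq_one]; simp only [mul_assoc, mul_inv_rev, inv_inv, hxy, mul_inv_cancel, inv_mul_cancel_left, mul_inv_cancel_left]) (by norm_num)
  have e4' : w2 * y⁻¹ = y ^ (1 : ℤ) * w1 := einv e4
  let w3 : K := w2 * y
  have e5 : w2 * y = y ^ (0 : ℤ) * w3 := by simp [w3]
  have e5' : w3 * y⁻¹ = y ^ (0 : ℤ) * w2 := einv e5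
  let w4 : K := w3 * x
  have e6 : w3 * x = y ^ (0 : ℤ) * w4 := by simp [w4]
  have e6' : w4 * x⁻¹ = y ^ (0 : ℤ) * w3 := einv e6
  have e7 : w4 * y = y ^ (0 : ℤ) * w1 := fin (step (step (step (start y w1) e2) e5) e6) (start y w1) (by rw [← mul_inv_eq_one]; simp only [mul_assoc, mul_inv_rev, inv_inv, hxy, mul_inv_cancel, inv_mul_cancel_left, mul_inv_cancel_left]) (by norm_num)
  have e7' : w1 * y⁻¹ = y ^ (0 : ℤ) * w4 := einv e7
  let w5 : K := w3 * y
  have e8 : w3 * y = y ^ (0 : ℤ) * w5 := by simp [w5]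
  have e8' : w5 * y⁻¹ = y ^ (0 : ℤ) * w3 := einv e8
  have e9 : w5 * y = y ^ (1 : ℤ) * w4 := fin (step (step (step (start y w1) e4) e5) e8) (step (start y w1) e7') (by rw [← mul_inv_eq_one]; simp only [mul_assoc, mul_inv_rev, inv_inv, hy, mul_inv_cancel, inv_mul_cancel_left, mul_inv_cancel_left]) (by norm_num)
  have e9' : w4 * y⁻¹ = y ^ (-1 : ℤ) * w5 := einv e9
  let w6 : K := w4 * x
  have e10 : w4 * x = y ^ (0 : ℤ) * w6 := by simp [w6]
  have e10' : w6 * x⁻¹ = y ^ (0 : ℤ) * w4 := einv e10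
  have e11 : w6 * x = y ^ (0 : ℤ) * w3 := fin (step (step (start y w3) e6) e10) (start y w3) (by rw [← mul_inv_eq_one]; simp only [mul_assoc, mul_inv_rev, inv_inv, hx, mul_inv_cancel, inv_mul_cancel_left, mul_inv_cancel_left]) (by norm_num)
  have e11' : w3 * x⁻¹ = y ^ (0 : ℤ) * w6 := einv e11
  let w7 : K := w5 * x
  have e12 : w5 * x = y ^ (0 : ℤ) * w7 := by simp [w7]
  have e12' : w7 * x⁻¹ = y ^ (0 : ℤ) * w5 := einv e12
  have e13 : w7 * y = y ^ (0 : ℤ) * w6 := fin (step (start y w5) e12) (step (step (start y w5) e8') e11') (by rw [← mul_inv_eq_one]; simp only [mul_assoc, mul_inv_rev, inv_inv, hxy, mul_inv_cancel, inv_mul_cancel_left, mul_inv_cancel_left]) (by norm_num)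
  have e13' : w6 * y⁻¹ = y ^ (0 : ℤ) * w7 := einv e13
  let w8 : K := w6 * y
  have e14 : w6 * y = y ^ (0 : ℤ) * w8 := by simp [w8]
  have e14' : w8 * y⁻¹ = y ^ (0 : ℤ) * w6 := einv e14
  have e15 : w8 * x = y ^ (-1 : ℤ) * w5 := fin (step (step (start y w4) e10) e14) (step (start y w4) e9') (by rw [← mul_inv_eq_one]; simp only [mul_assoc, mul_inv_rev, inv_inv, hxy, mul_inv_cancel, inv_mul_cancel_left, mul_inv_cancel_left]) (by norm_num)
  have e15' : w5 * x⁻¹ = y ^ (1 : ℤ) * w8 := einv e15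
  have e16 : w7 * x = y ^ (1 : ℤ) * w8 := fin (step (start y w5) e12) (step (start y w5) e15') (by rw [← mul_inv_eq_one]; simp only [mul_assoc, mul_inv_rev, inv_inv, hx, mul_inv_cancel, inv_mul_cancel_left, mul_inv_cancel_left]) (by norm_num)
  have e16' : w8 * x⁻¹ = y ^ (-1 : ℤ) * w7 := einv e16
  let w9 : K := w8 * y
  have e17 : w8 * y = y ^ (0 : ℤ) * w9 := by simp [w9]
  have e17' : w9 * y⁻¹ = y ^ (0 : ℤ) * w8 := einv e17
  let w10 : K := w9 * x
  have e18 : w9 * x = y ^ (0 : ℤ) * w10 := by simp [w10]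
  have e18' : w10 * x⁻¹ = y ^ (0 : ℤ) * w9 := einv e18
  have e19 : w10 * y = y ^ (-1 : ℤ) * w7 := fin (step (step (step (start y w7) e16) e17) e18) (start y w7) (by rw [← mul_inv_eq_one]; simp only [mul_assoc, mul_inv_rev, inv_inv, hxy, mul_inv_cancel, inv_mul_cancel_left, mul_inv_cancel_left]) (by norm_num)
  have e19' : w7 * y⁻¹ = y ^ (1 : ℤ) * w10 := einv e19
  have e20 : w9 * y = y ^ (1 : ℤ) * w10 := fin (step (step (start y w6) e14) e17) (step (step (start y w6) e13') e19') (by rw [← mul_inv_eq_one]; simp only [mul_assoc, mul_inv_rev, inv_inv, hy, mul_inv_cancel, inv_mul_cancel_left, mul_inv_cancel_left]) (by norm_num)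
  have e20' : w10 * y⁻¹ = y ^ (-1 : ℤ) * w9 := einv e20
  let w11 : K := w10 * x
  have e21 : w10 * x = y ^ (0 : ℤ) * w11 := by simp [w11]
  have e21' : w11 * x⁻¹ = y ^ (0 : ℤ) * w10 := einv e21
  have e22 : w11 * x = y ^ (0 : ℤ) * w9 := fin (step (step (start y w9) e18) e21) (start y w9) (by rw [← mul_inv_eq_one]; simp only [mul_assoc, mul_inv_rev, inv_inv, hx, mul_inv_cancel, inv_mul_cancel_left, mul_inv_cancel_left]) (by norm_num)
  have e22' : w9 * x⁻¹ = y ^ (0 : ℤ) * w11 := einv e22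
  have e23 : w11 * y = y ^ (-1 : ℤ) * w11 := fin (step (start y w10) e21) (step (step (start y w10) e20') e22') (by rw [← mul_inv_eq_one]; simp only [mul_assoc, mul_inv_rev, inv_inv, hxy, mul_inv_cancel, inv_mul_cancel_left, mul_inv_cancel_left]) (by norm_num)
  have e23' : w11 * y⁻¹ = y ^ (1 : ℤ) * w11 := einv e23
  refine ⟨![w0, w1, w2, w3, w4, w5, w6, w7, w8, w9, w10, w11], ⟨0, rfl⟩, fun i => ?_⟩
  fin_cases i
  · exact ⟨⟨1, 0, e1⟩, ⟨2, 0, e3'⟩, ⟨0, 1, e0⟩, ⟨0, -1, e0'⟩⟩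
  · exact ⟨⟨2, 0, e2⟩, ⟨0, 0, e1'⟩, ⟨2, -1, e4⟩, ⟨4, 0, e7'⟩⟩
  · exact ⟨⟨0, 0, e3⟩, ⟨1, 0, e2'⟩, ⟨3, 0, e5⟩, ⟨1, 1, e4'⟩⟩
  · exact ⟨⟨4, 0, e6⟩, ⟨6, 0, e11'⟩, ⟨5, 0, e8⟩, ⟨2, 0, e5'⟩⟩
  · exact ⟨⟨6, 0, e10⟩, ⟨3, 0, e6'⟩, ⟨1, 0, e7⟩, ⟨5, -1, e9'⟩⟩
  · exact ⟨⟨7, 0, e12⟩, ⟨8, 1, e15'⟩, ⟨4, 1, e9⟩, ⟨3, 0, e8'⟩⟩
  · exact ⟨⟨3, 0, e11⟩, ⟨4, 0, e10'⟩, ⟨8, 0, e14⟩, ⟨7, 0, e13'⟩⟩
  · exact ⟨⟨8, 1, e16⟩, ⟨5, 0, e12'⟩, ⟨6, 0, e13⟩, ⟨10, 1, e19'⟩⟩
  · exact ⟨⟨5, -1, e15⟩, ⟨7, -1, e16'⟩, ⟨9, 0, e17⟩, ⟨6, 0, e14'⟩⟩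
  · exact ⟨⟨10, 0, e18⟩, ⟨11, 0, e22'⟩, ⟨10, 1, e20⟩, ⟨8, 0, e17'⟩⟩
  · exact ⟨⟨11, 0, e21⟩, ⟨9, 0, e18'⟩, ⟨7, -1, e19⟩, ⟨9, -1, e20'⟩⟩
  · exact ⟨⟨9, 0, e22⟩, ⟨10, 0, e21'⟩, ⟨11, -1, e23⟩, ⟨11, 1, e23'⟩⟩

/-- A group generated by `x`, `y` with the relations has order at most 60. -/
theorem card_le {x y : K} (hgen : Subgroup.closure {x, y} = ⊤) (hx : x ^ 3 = 1) (hy : y ^ 5 = 1)
    (hxy : (x * y) ^ 2 = 1) : Finite K ∧ Nat.card K ≤ 60 := by
  obtain ⟨w, hw⟩ := exists_rep hgen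
    (fun c => by rw [← mul_assoc, ← mul_assoc, ← pow_three', hx, one_mul])
    (fun c => by simp only [← mul_assoc]; rw [show y * y * y * y * y = y ^ 5 by simp only [pow_succ, pow_zero, one_mul], hy, one_mul])
    (fun c => by simp only [← mul_assoc]; rw [show x * y * x * y = (x * y) ^ 2 by rw [sq, ← mul_assoc], hxy, one_mul])
  let f : Fin 5 × Fin 12 → K := fun p => y ^ (p.1 : ℕ) * w p.2
  have hf : Function.Surjective f := by
    intro z
    obtain ⟨k, i, rfl⟩ := hw z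
    refine ⟨(⟨(k % 5).toNat, by omega⟩, i), ?_⟩
    show y ^ (k % 5).toNat * w i = y ^ k * w i
    rw [← zpow_natCast, Int.toNat_of_nonneg (Int.emod_nonneg _ (by norm_num))]
    conv_rhs => rw [show k = k % 5 + 5 * (k / 5) by omega, zpow_add, zpow_mul, show y ^ (5 : ℤ) = 1 by rw [← hy]; exact zpow_natCast y 5, one_zpow, mul_one]
  have : Finite K := Finite.of_surjective f hf
  exact ⟨this, (Nat.card_le_card_of_surjective f hf).trans_eq (by simp)⟩

/-- The alternating group of degree 5 is generated by a (3, 5, 2) pair. -/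
theorem exists_gens : ∃ a b : alternatingGroup (Fin 5), a ^ 3 = 1 ∧ b ^ 5 = 1 ∧ (a * b) ^ 2 = 1 ∧
    Subgroup.closure {a, b} = ⊤ := by
  haveI : Fact (Nat.Prime 5) := ⟨by norm_num⟩
  let a : alternatingGroup (Fin 5) := ⟨Equiv.swap 0 1 * Equiv.swap 1 2, by rw [Equiv.Perm.mem_alternatingGroup]; decide +kernel⟩
  let b : alternatingGroup (Fin 5) :=
    ⟨Equiv.swap 0 4 * Equiv.swap 0 3 * Equiv.swap 0 2 * Equiv.swap 0 1, by rw [Equiv.Perm.mem_alternatingGroup]; decide +kernel⟩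
  obtain ⟨a, ha, b, hb, hab⟩ : ∃ a : alternatingGroup (Fin 5), orderOf a = 3 ∧
      ∃ b : alternatingGroup (Fin 5), orderOf b = 5 ∧ orderOf (a * b) = 2 := by
    exact ⟨a, orderOf_eq_prime (by decide +kernel) (by decide +kernel), b ^ 2,
      orderOf_eq_prime (by decide +kernel) (by decide +kernel),
      orderOf_eq_prime (by decide +kernel) (by decide +kernel)⟩
  refine ⟨a, b, orderOf_dvd_iff_pow_eq_one.1 ha.dvd, orderOf_dvd_iff_pow_eq_one.1 hb.dvd, orderOf_dvd_iff_pow_eq_one.1 hab.dvd, ?_⟩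
  set H := Subgroup.closure ({a, b} : Set (alternatingGroup (Fin 5)))
  have ha' : a ∈ H := Subgroup.subset_closure (by simp)
  have hb' : b ∈ H := Subgroup.subset_closure (by simp)
  have d : ∀ z ∈ H, orderOf z ∣ Nat.card H := fun z hz => Subgroup.orderOf_dvd_natCard H hz
  have h30 : 30 ∣ Nat.card H := by
    have h1 := d _ ha'; have h2 := d _ hb'; have h3 := d _ (H.mul_mem ha' hb')
    rw [ha] at h1; rw [hb] at h2; rw [hab] at h3
    omega
  have hidx : H.index = 1 ∨ H.index = 2 := by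
    have h := H.card_mul_index
    rw [nat_card_alternatingGroup, Nat.card_fin, show Nat.factorial 5 / 2 = 60 by decide] at h
    obtain ⟨c, hc⟩ := h30
    rw [hc, mul_assoc] at h
    exact (Nat.dvd_prime Nat.prime_two).1 (Dvd.intro_left c (show c * H.index = 2 by omega))
  rcases hidx with h1 | h2
  · exact Subgroup.index_eq_one.1 h1
  · haveI := Subgroup.normal_of_index_eq_two h2
    haveI : IsSimpleGroup (alternatingGroup (Fin 5)) := alternatingGroup.isSimpleGroup_five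
    rcases IsSimpleGroup.eq_bot_or_eq_top_of_normal H inferInstance with h | h
    · rw [h, Subgroup.card_bot] at h30; omega
    · exact h

/-- A nontrivial group generated by a (3, 5, 2) pair, with a surjection to `Alt 5`, is `Alt 5`. -/
theorem bijective_of_surjective {x y : K} (hgen : Subgroup.closure {x, y} = ⊤) (hx : x ^ 3 = 1)
    (hy : y ^ 5 = 1) (hxy : (x * y) ^ 2 = 1) (f : K →* alternatingGroup (Fin 5))
    (hf : Function.Surjective f) : Function.Bijective f := by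
  obtain ⟨hfin, hle⟩ := card_le hgen hx hy hxy
  refine ⟨(Nat.bijective_iff_surjective_and_card f).2 ⟨hf, le_antisymm ?_ (Nat.card_le_card_of_surjective f hf)⟩ |>.1, hf⟩
  rw [nat_card_alternatingGroup, Nat.card_fin, show Nat.factorial 5 / 2 = 60 by decide]
  exact hle

end Cfsg.Agent.Presented.A5
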