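import Cfsg.Agent.Lib.Presented.Orbit

/-!
# Orders and simplicity from coset tables

* `closure_card_le`: an enumeration of `H` in the subgroup generated by some of the generators bounds the
  order of that subgroup by `N` times the order of `H`.
* `chain_card_le`: a stabiliser chain with certified orbits bounds the order from below.
* `isSimpleGroup_of_table`: primitivity and a prime `p` prime to the order of the point stabiliser give
  simplicity, once the generators are products of elements of order dividing a power of `p`.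
-/

set_option autoImplicit false

namespace Cfsg.Agent.Presented

variable {G : Type*} [Group G] {s : ℕ → G}

/-- The subgroup generated by the values of a list of words. -/
def wordSub (s : ℕ → G) (ws : List (List ℕ)) : Subgroup G :=
  Subgroup.closure {x | ∃ k ∈ ws, x = wval s k}

theorem wval_map {β : Type*} [Group β] (φ : G →* β) (w : List ℕ) :
    φ (wval s w) = wval (fun i => φ (s i)) w := by
  induction w with
  | nil => simp [wval]
  | cons g w ih => simp [wval, ih]

theorem wval_comp (π : ℕ → ℕ) (w : List ℕ) : wval (fun i => s (π i)) w = wval s (w.map π) := by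
  induction w with
  | nil => rfl
  | cons g w ih => simp [wval, ih]

theorem wval_replicate (u : List ℕ) (k : ℕ) :
    wval s (List.replicate k u).flatten = wval s u ^ k := by
  induction k with
  | zero => simp [wval]
  | succ k ih => rw [List.replicate_succ, List.flatten_cons, wval_append, ih, pow_succ]

/-- A subgroup is finite of order at most `n`. -/
def OrderLE (H : Subgroup G) (n : ℕ) : Prop := Finite H ∧ Nat.card H ≤ n

theorem orderLE_bot : OrderLE (⊥ : Subgroup G) 1 :=
  ⟨inferInstance, le_of_eq Subgroup.card_bot⟩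

/-- A checked enumeration bounds the order of the subgroup generated by its generators. -/
theorem closure_card_le {D : CosetCert} (he : D.edgesOK = true) (hn : D.nodesOK = true)
    (hs : ∀ g, g < D.m → s g * s g = 1) (hR : ∀ w ∈ D.words.take D.nR, wval s w = 1)
    (H : Subgroup G) (hK : ∀ w ∈ D.words.drop D.nR, wval s w ∈ H) {n : ℕ} (hH : OrderLE H n) :
    OrderLE (Subgroup.closure (s '' {g | g < D.m})) (D.N * n) := by
  set A := Subgroup.closure (s '' {g | g < D.m}) with hA
  obtain ⟨c, hc0, hc⟩ := CosetCert.exists_cosets (s := s) hn H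
  have good : ∀ i g, i < D.N → g < D.m → s g • c i = c (D.actOf i g) := fun i g hi hg =>
    CosetCert.edge_good he hn H hs hR hK hc0 hc _ i g hi hg D.rankOf_lt
  have h0 : 0 < D.N := by
    simp only [CosetCert.nodesOK, Bool.and_eq_true, Nat.blt_eq] at hn; exact hn.1.2
  have inv : ∀ a ∈ A, ∀ i, i < D.N → ∃ j, j < D.N ∧ a • c i = c j := by
    intro a ha
    induction ha using Subgroup.closure_induction'' with
    | one => exact fun i hi => ⟨i, hi, one_smul _ _⟩
    | mem x hx =>
      obtain ⟨g, hg, rfl⟩ := hx
      exact fun i hi => ⟨_, CosetCert.actOf_lt he hn hi hg, good i g hi hg⟩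
    | inv_mem x hx =>
      obtain ⟨g, hg, rfl⟩ := hx
      intro i hi
      rw [inv_eq_of_mul_eq_one_right (hs g hg)]
      exact ⟨_, CosetCert.actOf_lt he hn hi hg, good i g hi hg⟩
    | mul x y _ _ ihx ihy =>
      intro i hi
      obtain ⟨j, hj, hy'⟩ := ihy i hi
      obtain ⟨k, hk, hx'⟩ := ihx j hj
      exact ⟨k, hk, by rw [mul_smul, hy', hx']⟩
  -- the cosets of `H` met by `A`
  let B := H.subgroupOf A
  let f : A ⧸ B → Set.range (fun i : Fin D.N => c i) := Quotient.lift
    (fun a => ⟨(a : G) • (QuotientGroup.mk 1 : G ⧸ H), by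
      obtain ⟨j, hj, hj'⟩ := inv a.1 a.2 0 h0
      exact ⟨⟨j, hj⟩, by rw [← hc0, hj']⟩⟩)
    fun a b hab => by
      have h := QuotientGroup.leftRel_apply.mp hab
      apply Subtype.ext
      simp only [MulAction.Quotient.smul_mk, smul_eq_mul, mul_one, QuotientGroup.eq]
      exact h
  have hf : Function.Injective f := by
    intro x y
    induction x using QuotientGroup.induction_on with
    | H a => induction y using QuotientGroup.induction_on with
      | H b =>
        intro h
        have h' : ((a : G) • (QuotientGroup.mk 1 : G ⧸ H)) = (b : G) • QuotientGroup.mk 1 :=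
          congrArg Subtype.val h
        simp only [MulAction.Quotient.smul_mk, smul_eq_mul, mul_one, QuotientGroup.eq] at h'
        rw [QuotientGroup.eq]
        exact h'
  haveI : Finite (A ⧸ B) := Finite.of_injective f hf
  have hq : Nat.card (A ⧸ B) ≤ D.N := by
    refine (Nat.card_le_card_of_injective f hf).trans ?_
    refine le_of_le_of_eq (Nat.card_le_card_of_surjective
      (Set.rangeFactorization fun i : Fin D.N => c i) Set.rangeFactorization_surjective) ?_
    rw [Nat.card_fin]
  haveI := hH.1
  let ι : B → H := fun b => ⟨(b : A).1, b.2⟩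
  have hι : Function.Injective ι := fun x y h => by
    have h' := congrArg Subtype.val h
    exact Subtype.ext (Subtype.ext h')
  haveI : Finite B := Finite.of_injective ι hι
  haveI : Finite A := Finite.of_subgroup_quotient B
  refine ⟨inferInstance, ?_⟩
  rw [Subgroup.card_eq_card_quotient_mul_card_subgroup B]
  exact Nat.mul_le_mul hq ((Nat.card_le_card_of_injective ι hι).trans hH.2)

/-- One level of a stabiliser chain: a base point, words fixing the earlier base points, orbit data. -/
structure Level where
  pt : ℕ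
  gens : List (List ℕ)
  orb : NTree
  size : ℕ

/-- Check of a stabiliser chain below the points `ps`. -/
noncomputable def chainOK (D : CosetCert) (ls : List Level) : List ℕ → Bool :=
  List.rec (motive := fun _ => List ℕ → Bool) (fun _ => true)
    (fun l _ ih ps => (ps.all fun p => l.gens.all fun k => Nat.beq (D.path k p) p) &&
      D.orbitOK l.gens l.orb l.pt && Nat.beq (D.orbitCount l.orb) l.size && ih (l.pt :: ps)) ls

theorem chainOK_nil {D : CosetCert} (ps : List ℕ) : chainOK D [] ps = true := rfl

/-- A chain is checked level by level. -/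
theorem chainOK_cons {D : CosetCert} {l : Level} {ls : List Level} {ps : List ℕ}
    (h₁ : chainOK D [l] ps = true) (h₂ : chainOK D ls (l.pt :: ps) = true) :
    chainOK D (l :: ls) ps = true := by
  change ((ps.all fun p => l.gens.all fun k => Nat.beq (D.path k p) p) &&
      D.orbitOK l.gens l.orb l.pt && Nat.beq (D.orbitCount l.orb) l.size && chainOK D [] (l.pt :: ps)) =
    true at h₁
  change ((ps.all fun p => l.gens.all fun k => Nat.beq (D.path k p) p) &&
      D.orbitOK l.gens l.orb l.pt && Nat.beq (D.orbitCount l.orb) l.size && chainOK D ls (l.pt :: ps)) =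
    true
  simp only [Bool.and_eq_true] at h₁ ⊢
  exact ⟨h₁.1, h₂⟩

/-- Elements fixing all listed cosets. -/
def fixer {N : ℕ} {X : Type*} [MulAction G X] (e : Fin N ≃ X) : List ℕ → Subgroup G
  | [] => ⊤
  | p :: ps => (⨅ h : p < N, MulAction.stabilizer G (e ⟨p, h⟩)) ⊓ fixer e ps

theorem mem_fixer {N : ℕ} {X : Type*} [MulAction G X] {e : Fin N ≃ X} :
    ∀ {ps : List ℕ} {g : G}, (∀ p ∈ ps, ∀ h : p < N, g • e ⟨p, h⟩ = e ⟨p, h⟩) → g ∈ fixer e ps := by
  intro ps
  induction ps with
  | nil => intro g _; exact Subgroup.mem_top g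
  | cons p ps ih =>
    intro g hg
    refine ⟨Subgroup.mem_iInf.mpr fun h => MulAction.mem_stabilizer_iff.mpr (hg p List.mem_cons_self h),
      ih fun q hq => hg q (List.mem_cons_of_mem _ hq)⟩

section

variable {D : CosetCert} (he : D.edgesOK = true) (hn : D.nodesOK = true) {H : Subgroup G}
  (e : Fin D.N ≃ G ⧸ H)
  (hequiv : ∀ g (hg : g < D.m) (i : Fin D.N),
    s g • e i = e ⟨D.actOf i g, CosetCert.actOf_lt he hn i.2 hg⟩)
include hequiv

theorem chain_card_le [Finite G] (hd : D.N < 2 ^ D.depth) : ∀ (ls : List Level) (ps : List ℕ),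
    chainOK D ls ps = true →
      (ls.map Level.size).prod * Nat.card (fixer e ((ls.map Level.pt).reverse ++ ps) : Subgroup G) ≤
        Nat.card (fixer e ps : Subgroup G) := by
  intro ls
  induction ls with
  | nil => intro ps _; simp
  | cons l ls ih =>
    intro ps h
    change ((ps.all fun p => l.gens.all fun k => Nat.beq (D.path k p) p) &&
      D.orbitOK l.gens l.orb l.pt && Nat.beq (D.orbitCount l.orb) l.size &&
        chainOK D ls (l.pt :: ps)) = true at h
    simp only [Bool.and_eq_true, List.all_eq_true, Nat.beq_eq] at h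
    obtain ⟨⟨⟨hfix, horb⟩, hcnt⟩, hrec⟩ := h
    have ih' := ih (l.pt :: ps) hrec
    have horb' := horb
    simp only [CosetCert.orbitOK, Bool.and_eq_true, List.all_eq_true, Nat.blt_eq] at horb'
    obtain ⟨⟨⟨hroot, -⟩, hlt⟩, -⟩ := horb'
    set x := e ⟨l.pt, hroot⟩ with hx
    set A : Subgroup G := fixer e ps with hA
    have hsub : wordSub s l.gens ≤ A := by
      rw [wordSub, Subgroup.closure_le]
      rintro _ ⟨k, hk, rfl⟩
      refine mem_fixer fun p hp hpN => ?_
      rw [CosetCert.smul_path he hn e hequiv k (hlt k hk) ⟨p, hpN⟩]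
      exact congrArg e (Fin.ext (hfix p hp k hk))
    have hsize : l.size ≤ Nat.card (MulAction.orbit A x) := by
      rw [← hcnt, ← CosetCert.orbit_ncard he hn e hequiv (A := wordSub s l.gens) rfl hroot horb hd,
        Nat.card_coe_set_eq]
      refine Set.ncard_le_ncard ?_ (Set.toFinite _)
      rintro _ ⟨⟨a, ha⟩, rfl⟩
      exact ⟨⟨a, hsub ha⟩, rfl⟩
    have hstab : Nat.card (fixer e (l.pt :: ps) : Subgroup G) = Nat.card (MulAction.stabilizer A x) := by
      refine Nat.card_congr
        { toFun := fun g => ⟨⟨g.1, g.2.2⟩, ?_⟩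
          invFun := fun a => ⟨a.1.1, ⟨Subgroup.mem_iInf.mpr fun _ => ?_, a.1.2⟩⟩
          left_inv := fun g => rfl
          right_inv := fun a => rfl }
      · exact MulAction.mem_stabilizer_iff.mp (Subgroup.mem_iInf.mp g.2.1 hroot)
      · exact MulAction.mem_stabilizer_iff.mpr (MulAction.mem_stabilizer_iff.mp a.2)
    have horbstab : Nat.card A =
        Nat.card (MulAction.orbit A x) * Nat.card (MulAction.stabilizer A x) := by
      rw [← Nat.card_prod]
      exact Nat.card_congr (MulAction.orbitProdStabilizerEquivGroup A x).symm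
    rw [List.map_cons, List.prod_cons, List.map_cons, List.reverse_cons, List.append_assoc,
      List.singleton_append, mul_assoc, horbstab]
    exact Nat.mul_le_mul hsize (ih'.trans hstab.le)

/-- When the chain reaches the order of the group, two words with the same walks are equal. -/
theorem eq_of_paths [Finite G] (hd : D.N < 2 ^ D.depth) {ls : List Level}
    (hls : chainOK D ls [] = true) (hcard : Nat.card G ≤ (ls.map Level.size).prod)
    (g g' : G) (h : ∀ p ∈ ls.map Level.pt, ∀ hp : p < D.N, g • e ⟨p, hp⟩ = g' • e ⟨p, hp⟩) : g = g' := by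
  have hb := chain_card_le he hn e hequiv hd ls [] hls
  have htop : Nat.card (fixer e ([] : List ℕ) : Subgroup G) = Nat.card G := by
    rw [show (fixer e ([] : List ℕ) : Subgroup G) = ⊤ from rfl]; exact Subgroup.card_top
  rw [htop] at hb
  have hpos : 0 < (ls.map Level.size).prod := lt_of_lt_of_le Nat.card_pos hcard
  have hone : Nat.card (fixer e ((ls.map Level.pt).reverse ++ []) : Subgroup G) ≤ 1 :=
    Nat.le_of_mul_le_mul_left (by rw [mul_one]; exact hb.trans hcard) hpos
  have hmem : g⁻¹ * g' ∈ fixer e ((ls.map Level.pt).reverse ++ []) :=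
    mem_fixer fun p hpm hp => by
      rw [mul_smul, ← h p (by simpa using hpm) hp, inv_smul_smul]
  rw [Subgroup.eq_bot_of_card_le _ hone, Subgroup.mem_bot, inv_mul_eq_one] at hmem
  exact hmem

end

/-- `u ^ q` fixes every point of a base, so that it is trivial. -/
noncomputable def powOK (D : CosetCert) (ps : List ℕ) (q : ℕ) (u : List ℕ) : Bool :=
  (u.all fun g => Nat.blt g D.m) &&
  ps.all fun p => Nat.beq (D.path (List.replicate q u).flatten p) p

/-- Two words agree on every point of a base, so that they are equal. -/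
noncomputable def sameOK (D : CosetCert) (ps : List ℕ) (u v : List ℕ) : Bool :=
  (u.all fun g => Nat.blt g D.m) && (v.all fun g => Nat.blt g D.m) &&
  ps.all fun p => Nat.beq (D.path u p) (D.path v p)

/-- `i` lies in one of the listed orbits, or is the base coset. -/
noncomputable def inUnion (ts : List NTree) (i : ℕ) : Bool :=
  Nat.beq i 0 || ts.any fun t => CosetCert.inOrbit t i

/-- The suborbit data covers all cosets and only the trivial unions have sizes dividing `N`. -/
noncomputable def blockOK (D : CosetCert) (ts : List (ℕ × NTree)) (Ks : List (List ℕ)) : Bool :=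
  (ts.all fun t => D.orbitOK Ks t.2 t.1) &&
  checkBelow (fun i => inUnion (ts.map Prod.snd) i) D.depth D.N &&
  ts.sublists.all fun sel => sel.isEmpty || Nat.beq sel.length ts.length ||
    !(Nat.beq (D.N % countBelow (inUnion (sel.map Prod.snd)) D.depth D.N) 0)

section

variable {D : CosetCert} (he : D.edgesOK = true) (hn : D.nodesOK = true) {H : Subgroup G}
  (e : Fin D.N ≃ G ⧸ H) (he0 : ∀ i : Fin D.N, (i : ℕ) = 0 → e i = QuotientGroup.mk 1)
  (hequiv : ∀ g (hg : g < D.m) (i : Fin D.N),
    s g • e i = e ⟨D.actOf i g, CosetCert.actOf_lt he hn i.2 hg⟩)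
include he0 hequiv

/-- Simplicity from a checked table and a base with trivial pointwise stabiliser. -/
theorem isSimpleGroup_of_faith [Finite G] (hgen : Subgroup.closure (s '' {g | g < D.m}) = ⊤)
    (hd : D.N < 2 ^ D.depth) {pts : List ℕ}
    (hfaith : ∀ g g' : G,
      (∀ p ∈ pts, ∀ hp : p < D.N, g • e ⟨p, hp⟩ = g' • e ⟨p, hp⟩) → g = g')
    (hN : 1 < D.N) {Ks : List (List ℕ)} (hHK : H = wordSub s Ks) {ts : List (ℕ × NTree)}
    (hblock : blockOK D ts Ks = true)
    {q : ℕ} (hq : Nat.Coprime q (Nat.card H))
    (fs : List (List (List ℕ))) (hlen : fs.length = D.m)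
    (hpow : (fs.all fun f => f.all (powOK D pts q)) = true)
    (hsame : ((List.range D.m).all fun g => sameOK D pts [g] (fs.getD g []).flatten) = true) :
    IsSimpleGroup G := by
  have h0 : 0 < D.N := by omega
  set x₀ := e ⟨0, h0⟩ with hx₀
  have hx₀' : x₀ = QuotientGroup.mk 1 := he0 _ rfl
  simp only [blockOK, Bool.and_eq_true, List.all_eq_true] at hblock
  obtain ⟨⟨horbs, hcov⟩, hsel⟩ := hblock
  haveI : Nontrivial G := by
    by_contra hnt
    rw [not_nontrivial_iff_subsingleton] at hnt
    have h1 : (G ⧸ H) → True := fun _ => trivial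
    have := Nat.card_congr e
    rw [Nat.card_fin] at this
    have h2 : Nat.card (G ⧸ H) ≤ 1 := Finite.card_le_one_iff_subsingleton.mpr
      ⟨fun a b => by
        induction a using QuotientGroup.induction_on with
        | H a => induction b using QuotientGroup.induction_on with
          | H b => rw [Subsingleton.elim a b]⟩
    omega
  constructor
  intro N hNn
  by_cases hbot : N = ⊥
  · exact Or.inl hbot
  right
  set B := MulAction.orbit N x₀ with hB
  -- `B` is a block invariant under the stabiliser
  have hblk : MulAction.IsBlock G B := MulAction.IsBlock.orbit_of_normal x₀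
  haveI : MulAction.IsPretransitive G (G ⧸ H) := inferInstance
  haveI : Finite (G ⧸ H) := Finite.of_equiv _ e
  have hdvd : B.ncard ∣ D.N := by
    have := hblk.ncard_dvd_card ⟨x₀, MulAction.mem_orbit_self _⟩
    rwa [← Nat.card_congr e, Nat.card_fin] at this
  have hinv : ∀ h ∈ H, ∀ x, h • x ∈ B → x ∈ B := by
    intro h hh x hx
    obtain ⟨⟨n, hn'⟩, hn''⟩ := hx
    change n • x₀ = h • x at hn''
    refine ⟨⟨h⁻¹ * n * h, by simpa using hNn.conj_mem n hn' h⁻¹⟩, ?_⟩
    show (h⁻¹ * n * h) • x₀ = x
    have hfix : h • x₀ = x₀ := by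
      rw [hx₀', MulAction.Quotient.smul_mk, smul_eq_mul, mul_one, QuotientGroup.eq, mul_one]
      exact inv_mem hh
    rw [mul_smul, mul_smul, hfix, hn'', inv_smul_smul]
  have horbB : ∀ t ∈ ts, ∀ i : Fin D.N, CosetCert.inOrbit t.2 i.1 = true →
      ∀ hr : t.1 < D.N, (e i ∈ B ↔ e ⟨t.1, hr⟩ ∈ B) := by
    intro t ht i hi hr
    have himg := CosetCert.orbit_eq_image he hn e hequiv hHK hr (horbs t ht)
    have hmem : e i ∈ MulAction.orbit H (e ⟨t.1, hr⟩) := by rw [himg]; exact ⟨i, hi, rfl⟩
    obtain ⟨⟨h, hh⟩, hh'⟩ := hmem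
    change h • e ⟨t.1, hr⟩ = e i at hh'
    constructor
    · intro hb; exact hinv h hh _ (by rw [hh']; exact hb)
    · intro hb
      exact hinv h⁻¹ (inv_mem hh) _ (by rw [← hh', inv_smul_smul]; exact hb)
  classical
  let sel := ts.filter fun t => decide (∃ hr : t.1 < D.N, e ⟨t.1, hr⟩ ∈ B)
  have hBset : B = e '' {i : Fin D.N | inUnion (sel.map Prod.snd) i.1 = true} := by
    ext x
    obtain ⟨i, rfl⟩ := e.surjective x
    constructor
    · intro hb
      refine ⟨i, ?_, rfl⟩
      have hc := checkBelow_spec hcov i.1 i.2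
      simp only [inUnion, Bool.or_eq_true, List.any_eq_true, List.mem_map] at hc
      simp only [Set.mem_ofPred_eq, inUnion, Bool.or_eq_true, List.any_eq_true, List.mem_map]
      rcases hc with hc | ⟨_, ⟨t, ht, rfl⟩, hti⟩
      · exact Or.inl hc
      · have hr : t.1 < D.N := by
          have := horbs t ht
          simp only [CosetCert.orbitOK, Bool.and_eq_true, Nat.blt_eq] at this
          exact this.1.1.1
        refine Or.inr ⟨_, ⟨t, ?_, rfl⟩, hti⟩
        rw [List.mem_filter, decide_eq_true_eq]
        exact ⟨ht, hr, (horbB t ht i hti hr).mp hb⟩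
    · rintro ⟨j, hj, hji⟩
      obtain rfl : j = i := e.injective hji
      simp only [Set.mem_ofPred_eq, inUnion, Bool.or_eq_true, List.any_eq_true, List.mem_map] at hj
      rcases hj with hj | ⟨_, ⟨t, ht, rfl⟩, hti⟩
      · rw [he0 j (Nat.beq_eq.mp hj), ← hx₀']; exact MulAction.mem_orbit_self _
      · rw [List.mem_filter, decide_eq_true_eq] at ht
        obtain ⟨ht, hr, hb⟩ := ht
        exact (horbB t ht j hti hr).mpr hb
  have hcount : B.ncard = countBelow (inUnion (sel.map Prod.snd)) D.depth D.N := by
    rw [hBset, Set.ncard_image_of_injective _ e.injective, countBelow_spec _ hd, ← Nat.card_coe_set_eq]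
    rfl
  have htrans : ∀ x : G ⧸ H, ∃ n ∈ N, n • x₀ = x := by
    have hs := hsel sel (List.mem_sublists.mpr List.filter_sublist)
    simp only [Bool.or_eq_true, List.isEmpty_iff, Nat.beq_eq, Bool.not_eq_true'] at hs
    rcases hs with (hs | hs) | hs
    · -- `B` is the single point, so `N` fixes everything
      exfalso
      apply hbot
      rw [eq_bot_iff]
      intro n hn'
      rw [Subgroup.mem_bot]
      refine hfaith n 1 fun p _ hp => ?_
      generalize (⟨p, hp⟩ : Fin D.N) = i
      rw [one_smul]
      obtain ⟨a, ha⟩ := MulAction.exists_smul_eq G x₀ (e i)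
      have hb : (a⁻¹ * n * a) • x₀ ∈ B := ⟨⟨a⁻¹ * n * a, by simpa using hNn.conj_mem n hn' a⁻¹⟩, rfl⟩
      rw [hBset, hs] at hb
      obtain ⟨j, hj, hj'⟩ := hb
      simp only [Set.mem_ofPred_eq, inUnion, List.map_nil, List.any_nil, Bool.or_false,
        Nat.beq_eq] at hj
      rw [show j = (⟨0, h0⟩ : Fin D.N) from Fin.ext hj, ← hx₀, mul_smul, mul_smul, ha,
        eq_inv_smul_iff, ha] at hj'
      exact hj'.symm
    · intro x
      have hall : sel = ts := List.filter_sublist.eq_of_length hs
      have : x ∈ B := by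
        rw [hBset, hall]
        obtain ⟨i, rfl⟩ := e.surjective x
        exact ⟨i, checkBelow_spec hcov i.1 i.2, rfl⟩
      obtain ⟨⟨n, hn'⟩, hx⟩ := this
      exact ⟨n, hn', hx⟩
    · exfalso
      rw [← hcount, Nat.dvd_iff_mod_eq_zero.mp hdvd] at hs
      simp at hs
  -- so `G = N H` and every element of order prime to `|H|` lies in `N`
  have hpowN : ∀ g : G, g ^ q = 1 → g ∈ N := by
    intro g hg
    have hsurj : Function.Surjective (fun h : H => ((h : G) : G ⧸ N)) := by
      intro y
      induction y using QuotientGroup.induction_on with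
      | H a =>
        obtain ⟨n, hn', hna⟩ := htrans (QuotientGroup.mk a)
        rw [hx₀', MulAction.Quotient.smul_mk, smul_eq_mul, mul_one, QuotientGroup.eq] at hna
        refine ⟨⟨_, hna⟩, ?_⟩
        show ((n⁻¹ * a : G) : G ⧸ N) = (a : G ⧸ N)
        rw [QuotientGroup.mk_mul, (QuotientGroup.eq_one_iff _).mpr (inv_mem hn'), one_mul]
    have hdvdH : Nat.card (G ⧸ N) ∣ Nat.card H :=
      Subgroup.card_dvd_of_surjective ((QuotientGroup.mk' N).comp H.subtype) hsurj
    rw [← QuotientGroup.eq_one_iff, ← orderOf_eq_one_iff]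
    refine Nat.eq_one_of_dvd_coprimes hq ?_ ((orderOf_dvd_natCard _).trans hdvdH)
    apply orderOf_dvd_of_pow_eq_one
    rw [← QuotientGroup.mk_pow, hg, QuotientGroup.mk_one]
  -- every generator is a product of such elements
  rw [eq_top_iff, ← hgen, Subgroup.closure_le]
  rintro _ ⟨g, hg, rfl⟩
  change g < D.m at hg
  have hs := List.all_eq_true.mp hsame g (List.mem_range.mpr hg)
  simp only [sameOK, Bool.and_eq_true, List.all_eq_true, Nat.blt_eq] at hs
  obtain ⟨⟨hu, hv⟩, hpath⟩ := hs
  rw [List.getD_eq_getElem _ _ (by omega)] at hv hpath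
  generalize hf : fs[g]'(by omega) = f at hv hpath
  have heq : s g = wval s f.flatten := by
    rw [show s g = wval s [g] by simp [wval]]
    refine hfaith _ _ fun p hpm hp => ?_
    rw [CosetCert.smul_path he hn e hequiv _ hu ⟨p, hp⟩, CosetCert.smul_path he hn e hequiv _ hv ⟨p, hp⟩]
    exact congrArg e (Fin.ext (Nat.beq_eq.mp (hpath p hpm)))
  have hfmem : ∀ u ∈ f, wval s u ∈ N := by
    intro u hu'
    apply hpowN
    have hp := List.all_eq_true.mp (List.all_eq_true.mp hpow f (hf ▸ List.getElem_mem (by omega))) u hu'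
    simp only [powOK, Bool.and_eq_true, List.all_eq_true, Nat.blt_eq] at hp
    obtain ⟨hlt, hp⟩ := hp
    rw [← wval_replicate]
    refine hfaith _ _ fun p hpm hp' => ?_
    have hlt' : ∀ a ∈ (List.replicate q u).flatten, a < D.m := by
      intro a ha
      simp only [List.mem_flatten, List.mem_replicate] at ha
      obtain ⟨l, ⟨-, rfl⟩, hal⟩ := ha
      exact hlt a hal
    rw [CosetCert.smul_path he hn e hequiv _ hlt' ⟨p, hp'⟩, one_smul]
    exact congrArg e (Fin.ext (Nat.beq_eq.mp (hp p hpm)))
  rw [SetLike.mem_coe, heq]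
  clear heq hv hpath hf
  induction f with
  | nil => simp [wval, N.one_mem]
  | cons u f ih =>
    rw [List.flatten_cons, wval_append]
    exact N.mul_mem (ih fun v hv => hfmem v (List.mem_cons_of_mem _ hv)) (hfmem u List.mem_cons_self)

/-- Simplicity from a checked table. -/
theorem isSimpleGroup_of_table [Finite G] (hgen : Subgroup.closure (s '' {g | g < D.m}) = ⊤)
    (hd : D.N < 2 ^ D.depth) {ls : List Level} (hls : chainOK D ls [] = true)
    (hcard : Nat.card G ≤ (ls.map Level.size).prod) (hN : 1 < D.N)
    {Ks : List (List ℕ)} (hHK : H = wordSub s Ks) {ts : List (ℕ × NTree)}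
    (hblock : blockOK D ts Ks = true)
    {q : ℕ} (hq : Nat.Coprime q (Nat.card H))
    (fs : List (List (List ℕ))) (hlen : fs.length = D.m)
    (hpow : (fs.all fun f => f.all (powOK D (ls.map Level.pt) q)) = true)
    (hsame : ((List.range D.m).all fun g => sameOK D (ls.map Level.pt) [g] (fs.getD g []).flatten) = true) :
    IsSimpleGroup G :=
  isSimpleGroup_of_faith he hn e he0 hequiv hgen hd (eq_of_paths he hn e hequiv hd hls hcard) hN hHK
    hblock hq fs hlen hpow hsame

end

end Cfsg.Agent.Presented
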