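import Cfsg.Agent.Lib.Presented.Index
import Cfsg.Agent.Lib.Presented.Order

/-!
# Upper bounds for orders along a tower of generated subgroups

Each step of a tower takes a list `π` of generator numbers and a certificate for the cosets, in the
subgroup generated by these generators, of the subgroup of the previous step.
-/

set_option autoImplicit false

namespace Cfsg.Agent.Presented

open Cfsg.Spor

/-- All words are rotations of relators or are among the words `ex`. -/
def stepRelsOK {α : Type*} [DecidableEq α] (gens : List α) (edges : List (α × ℕ × α))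
    (extra : List (FreeGroup α)) (π : List ℕ) (ex : List (List ℕ)) (ws : List (List ℕ)) : Bool :=
  (ws.all fun w => w.all fun g => Nat.blt g π.length) &&
  ws.all fun w => ex.contains (w.map fun g => π.getD g 0) ||
    rotOK gens edges extra [w.map fun g => π.getD g 0]

variable {α : Type*} [DecidableEq α] {gens : List α} {edges : List (α × ℕ × α)}
  {extra : List (FreeGroup α)}

/-- Generators of a step, numbered by position in `π`. -/
def stepGen (gens : List α) (edges : List (α × ℕ × α)) (extra : List (FreeGroup α)) (π : List ℕ)
    (i : ℕ) : CoxPresented α edges extra :=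
  genFun gens edges extra (π.getD i 0)

theorem wval_stepGen (π : List ℕ) (w : List ℕ) :
    wval (stepGen gens edges extra π) w = wval (genFun gens edges extra) (w.map fun g => π.getD g 0) :=
  wval_comp (s := genFun gens edges extra) (fun g => π.getD g 0) w

theorem stepRels (hall : ∀ x, x ∈ gens) (hg : gensOK gens edges = true) {π : List ℕ}
    {ex : List (List ℕ)} (hex : ∀ w ∈ ex, wval (genFun gens edges extra) w = 1) {ws : List (List ℕ)}
    (h : stepRelsOK gens edges extra π ex ws = true) :
    ∀ w ∈ ws, wval (stepGen gens edges extra π) w = 1 := by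
  intro w hw
  simp only [stepRelsOK, Bool.and_eq_true, List.all_eq_true, Bool.or_eq_true, List.contains_eq_mem,
    decide_eq_true_eq] at h
  rw [wval_stepGen]
  rcases h.2 w hw with h' | h'
  · exact hex _ h'
  · exact wval_rot hall hg h' _ List.mem_cons_self

theorem wordSub_mono {G : Type*} [Group G] {s : ℕ → G} {K K' : List (List ℕ)} (h : ∀ k ∈ K, k ∈ K') :
    wordSub s K ≤ wordSub s K' :=
  Subgroup.closure_mono fun _ ⟨k, hk, he⟩ => ⟨k, h k hk, he⟩

theorem OrderLE.mono {G : Type*} [Group G] {H K : Subgroup G} {n : ℕ} (hK : OrderLE K n) (h : H ≤ K) :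
    OrderLE H n := by
  haveI := hK.1
  exact ⟨Finite.of_injective (Subgroup.inclusion h) (Subgroup.inclusion_injective h),
    (Nat.card_le_card_of_injective (Subgroup.inclusion h) (Subgroup.inclusion_injective h)).trans hK.2⟩

/-- A deduction log in a step gives further words in the subgroup. -/
theorem step_more (hall : ∀ x, x ∈ gens) (hg : gensOK gens edges = true) {π : List ℕ}
    {ex : List (List ℕ)} (hex : ∀ w ∈ ex, wval (genFun gens edges extra) w = 1) {E : DerivCert}
    (hf : E.factsOK = true) (hl : E.loopsOK = true) {H : Subgroup (CoxPresented α edges extra)}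
    (hR : stepRelsOK gens edges extra π ex (E.words.take E.nR) = true) {Kprev : List (List ℕ)}
    (hK : ∀ k ∈ (E.words.drop E.nR).map (List.map fun g => π.getD g 0), k ∈ Kprev)
    (hKH : wordSub (genFun gens edges extra) Kprev ≤ H) {L : List (List ℕ)}
    (hloops : L = E.loops.map Prod.fst) :
    ∀ w ∈ L, wval (stepGen gens edges extra π) w ∈ H := by
  rw [hloops]
  refine DerivCert.loops_mem E H hf hl (fun g _ => genFun_mul_self hall hg _) (stepRels hall hg hex hR) ?_
  intro w hw
  rw [wval_stepGen]
  exact hKH (Subgroup.subset_closure ⟨_, hK _ (List.mem_map.mpr ⟨w, hw, rfl⟩), rfl⟩)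

/-- One step of a tower: the subgroup on the generators `π` has order at most `N * n`. -/
theorem step_le (hall : ∀ x, x ∈ gens) (hg : gensOK gens edges = true) {π : List ℕ}
    {ex : List (List ℕ)} (hex : ∀ w ∈ ex, wval (genFun gens edges extra) w = 1) {D : CosetCert}
    (he : D.edgesOK = true) (hn : D.nodesOK = true) (hm : D.m = π.length)
    (hR : stepRelsOK gens edges extra π ex (D.words.take D.nR) = true) (nK : ℕ) {Kprev : List (List ℕ)}
    (hK : ∀ k ∈ ((D.words.drop D.nR).take nK).map (List.map fun g => π.getD g 0), k ∈ Kprev) {n : ℕ}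
    (hprev : OrderLE (wordSub (genFun gens edges extra) Kprev) n)
    (hmore : ∀ w ∈ (D.words.drop D.nR).drop nK,
      wval (stepGen gens edges extra π) w ∈ wordSub (genFun gens edges extra) Kprev) :
    OrderLE (wordSub (genFun gens edges extra) (π.map fun g => [g])) (D.N * n) := by
  have hKmem : ∀ w ∈ D.words.drop D.nR,
      wval (stepGen gens edges extra π) w ∈ wordSub (genFun gens edges extra) Kprev := by
    intro w hw
    rw [← List.take_append_drop nK (D.words.drop D.nR), List.mem_append] at hw
    rcases hw with hw | hw
    · rw [wval_stepGen]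
      exact Subgroup.subset_closure ⟨_, hK _ (List.mem_map.mpr ⟨w, hw, rfl⟩), rfl⟩
    · exact hmore w hw
  have h := closure_card_le (s := stepGen gens edges extra π) he hn
    (fun g _ => genFun_mul_self hall hg _) (stepRels hall hg hex hR)
    (wordSub (genFun gens edges extra) Kprev) hKmem hprev
  refine h.mono ?_
  rw [wordSub, Subgroup.closure_le]
  rintro _ ⟨k, hk, rfl⟩
  obtain ⟨g, hgm, rfl⟩ := List.mem_map.mp hk
  obtain ⟨i, hi, rfl⟩ := List.mem_iff_getElem.mp hgm
  apply Subgroup.subset_closure
  refine ⟨i, by rw [Set.mem_ofPred_eq, hm]; exact hi, ?_⟩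
  simp [stepGen, wval, hi]

theorem orderLE_nil {G : Type*} [Group G] (s : ℕ → G) : OrderLE (wordSub s []) 1 := by
  rw [show wordSub s [] = ⊥ by simp [wordSub]]
  exact orderLE_bot

/-- The order of the whole group from an index and the order of the subgroup. -/
theorem card_le_of_table {N n : ℕ} {G : Type*} [Group G] {H : Subgroup G} (e : Fin N ≃ G ⧸ H)
    (h : OrderLE H n) : Finite G ∧ Nat.card G ≤ N * n := by
  haveI := h.1
  haveI : Finite (G ⧸ H) := Finite.of_equiv _ e
  haveI : Finite G := Finite.of_subgroup_quotient H
  refine ⟨inferInstance, ?_⟩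
  rw [Subgroup.card_eq_card_quotient_mul_card_subgroup H, ← Nat.card_congr e, Nat.card_fin]
  exact Nat.mul_le_mul_left _ h.2

/-- A checked enumeration bounds the index of the subgroup, when the generators generate the group. -/
theorem index_le_of_cert {G : Type*} [Group G] [Finite G] {s : ℕ → G} {D : CosetCert} (he : D.edgesOK = true)
    (hn : D.nodesOK = true) (hs : ∀ g, g < D.m → s g * s g = 1)
    (hR : ∀ w ∈ D.words.take D.nR, wval s w = 1) (hgen : Subgroup.closure (s '' {g | g < D.m}) = ⊤)
    (H : Subgroup G) (hK : ∀ w ∈ D.words.drop D.nR, wval s w ∈ H) : H.index ≤ D.N := by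
  have h := closure_card_le he hn hs hR H hK (n := Nat.card H) ⟨inferInstance, le_rfl⟩
  rw [hgen] at h
  have h2 := h.2
  rw [Subgroup.card_top, ← H.index_mul_card] at h2
  exact Nat.le_of_mul_le_mul_right h2 Nat.card_pos

/-- The index of a subgroup whose order bound and coset bound multiply to the order of the group. -/
theorem index_eq_of_bounds {N n : ℕ} {G : Type*} [Group G] [Finite G] (H : Subgroup G)
    (hidx : H.index ≤ N) (hcard : OrderLE H n) (hG : Nat.card G = N * n) : H.index = N := by
  refine le_antisymm hidx ?_
  by_contra hlt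
  have h : H.index * Nat.card H < N * n := by
    have h1 : H.index * Nat.card H ≤ H.index * n := Nat.mul_le_mul_left _ hcard.2
    have hn : 0 < n := lt_of_lt_of_le Nat.card_pos hcard.2
    exact lt_of_le_of_lt h1 (Nat.mul_lt_mul_of_pos_right (by omega) hn)
  rw [H.index_mul_card, hG] at h
  exact lt_irrefl _ h

end Cfsg.Agent.Presented
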