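import Cfsg.Agent.Lib.Presented.FiIndex
import Cfsg.Agent.Lib.Presented.Tower
import Cfsg.Agent.Lib.Presented.Data.FiT120
import Cfsg.Agent.Lib.Presented.Data.FiT16
import Cfsg.Agent.Lib.Presented.Data.FiT27
import Cfsg.Agent.Lib.Presented.Data.FiT28
import Cfsg.Agent.Lib.Presented.Data.FiT3159
import Cfsg.Agent.Lib.Presented.Data.FiT14080Checks
import Cfsg.Agent.Lib.Presented.Data.FiChain

/-!
# The order and simplicity of the presented Fischer group Fi22
-/

set_option autoImplicit false

namespace Cfsg.Agent.Presented.FiOrder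

open Cfsg.Spor Cfsg.Agent.Presented FiIndex

theorem bound_FiT120_rels : stepRelsOK gens Fi22.edges Fi22.extra [2, 3, 4, 5] []
    (FiT120.cert.words.take FiT120.cert.nR) = true := by decide +kernel

theorem bound_FiT120_sub : ((FiT120.cert.words.drop FiT120.cert.nR).take 0).map
    (List.map fun g => [2, 3, 4, 5].getD g 0) = ([] : List (List ℕ)) := by decide +kernel

theorem bound_FiT120_more : ∀ w ∈ (FiT120.cert.words.drop FiT120.cert.nR).drop 0,
    wval (stepGen gens Fi22.edges Fi22.extra [2, 3, 4, 5]) w ∈ wordSub gen [] := by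
  rw [show (FiT120.cert.words.drop FiT120.cert.nR).drop 0 = [] by decide +kernel]
  simp

theorem bound_FiT120 : OrderLE (wordSub gen [[2], [3], [4], [5]]) 120 := by
  have h := step_le gens_all gens_ok (π := [2, 3, 4, 5]) (ex := []) (by simp) FiT120.cert_edgesOK
    FiT120.cert_nodesOK rfl bound_FiT120_rels 0 (Kprev := []) (by rw [bound_FiT120_sub]; simp)
    (orderLE_nil gen) bound_FiT120_more
  exact ⟨h.1, h.2.trans (le_of_eq (by decide +kernel))⟩

theorem bound_FiT16_rels : stepRelsOK gens Fi22.edges Fi22.extra [2, 3, 4, 5, 7] []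
    (FiT16.cert.words.take FiT16.cert.nR) = true := by decide +kernel

theorem bound_FiT16_sub : ((FiT16.cert.words.drop FiT16.cert.nR).take 4).map
    (List.map fun g => [2, 3, 4, 5, 7].getD g 0) = [[2], [3], [4], [5]] := by decide +kernel

theorem bound_FiT16_more : ∀ w ∈ (FiT16.cert.words.drop FiT16.cert.nR).drop 4,
    wval (stepGen gens Fi22.edges Fi22.extra [2, 3, 4, 5, 7]) w ∈ wordSub gen [[2], [3], [4], [5]] := by
  rw [show (FiT16.cert.words.drop FiT16.cert.nR).drop 4 = [] by decide +kernel]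
  simp

theorem bound_FiT16 : OrderLE (wordSub gen [[2], [3], [4], [5], [7]]) 1920 := by
  have h := step_le gens_all gens_ok (π := [2, 3, 4, 5, 7]) (ex := []) (by simp) FiT16.cert_edgesOK
    FiT16.cert_nodesOK rfl bound_FiT16_rels 4 (Kprev := [[2], [3], [4], [5]]) (by rw [bound_FiT16_sub]; simp)
    bound_FiT120 bound_FiT16_more
  exact ⟨h.1, h.2.trans (le_of_eq (by decide +kernel))⟩

theorem bound_FiT27_rels : stepRelsOK gens Fi22.edges Fi22.extra [1, 2, 3, 4, 5, 7] []
    (FiT27.cert.words.take FiT27.cert.nR) = true := by decide +kernel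

theorem bound_FiT27_sub : ((FiT27.cert.words.drop FiT27.cert.nR).take 5).map
    (List.map fun g => [1, 2, 3, 4, 5, 7].getD g 0) = [[2], [3], [4], [5], [7]] := by decide +kernel

theorem bound_FiT27_more : ∀ w ∈ (FiT27.cert.words.drop FiT27.cert.nR).drop 5,
    wval (stepGen gens Fi22.edges Fi22.extra [1, 2, 3, 4, 5, 7]) w ∈ wordSub gen [[2], [3], [4], [5], [7]] := by
  rw [show (FiT27.cert.words.drop FiT27.cert.nR).drop 5 = [] by decide +kernel]
  simp

theorem bound_FiT27 : OrderLE (wordSub gen [[1], [2], [3], [4], [5], [7]]) 51840 := by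
  have h := step_le gens_all gens_ok (π := [1, 2, 3, 4, 5, 7]) (ex := []) (by simp) FiT27.cert_edgesOK
    FiT27.cert_nodesOK rfl bound_FiT27_rels 5 (Kprev := [[2], [3], [4], [5], [7]]) (by rw [bound_FiT27_sub]; simp)
    bound_FiT16 bound_FiT27_more
  exact ⟨h.1, h.2.trans (le_of_eq (by decide +kernel))⟩

theorem bound_FiT28_rels : stepRelsOK gens Fi22.edges Fi22.extra [1, 2, 3, 4, 5, 6, 7] []
    (FiT28.cert.words.take FiT28.cert.nR) = true := by decide +kernel

theorem bound_FiT28_sub : ((FiT28.cert.words.drop FiT28.cert.nR).take 6).map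
    (List.map fun g => [1, 2, 3, 4, 5, 6, 7].getD g 0) = [[1], [2], [3], [4], [5], [7]] := by decide +kernel

theorem bound_FiT28_more : ∀ w ∈ (FiT28.cert.words.drop FiT28.cert.nR).drop 6,
    wval (stepGen gens Fi22.edges Fi22.extra [1, 2, 3, 4, 5, 6, 7]) w ∈ wordSub gen [[1], [2], [3], [4], [5], [7]] := by
  rw [show (FiT28.cert.words.drop FiT28.cert.nR).drop 6 = [] by decide +kernel]
  simp

theorem bound_FiT28 : OrderLE (wordSub gen [[1], [2], [3], [4], [5], [6], [7]]) 1451520 := by
  have h := step_le gens_all gens_ok (π := [1, 2, 3, 4, 5, 6, 7]) (ex := []) (by simp) FiT28.cert_edgesOK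
    FiT28.cert_nodesOK rfl bound_FiT28_rels 6 (Kprev := [[1], [2], [3], [4], [5], [7]]) (by rw [bound_FiT28_sub]; simp)
    bound_FiT27 bound_FiT28_more
  exact ⟨h.1, h.2.trans (le_of_eq (by decide +kernel))⟩

theorem bound_FiT3159_rels : stepRelsOK gens Fi22.edges Fi22.extra [1, 2, 3, 4, 5, 6, 7, 8] []
    (FiT3159.cert.words.take FiT3159.cert.nR) = true := by decide +kernel

theorem bound_FiT3159_sub : ((FiT3159.cert.words.drop FiT3159.cert.nR).take 7).map
    (List.map fun g => [1, 2, 3, 4, 5, 6, 7, 8].getD g 0) = [[1], [2], [3], [4], [5], [6], [7]] := by decide +kernel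

theorem bound_FiT3159_more : ∀ w ∈ (FiT3159.cert.words.drop FiT3159.cert.nR).drop 7,
    wval (stepGen gens Fi22.edges Fi22.extra [1, 2, 3, 4, 5, 6, 7, 8]) w ∈ wordSub gen [[1], [2], [3], [4], [5], [6], [7]] := by
  have hR : stepRelsOK gens Fi22.edges Fi22.extra [1, 2, 3, 4, 5, 6, 7, 8] []
      (FiT3159.deriv.words.take FiT3159.deriv.nR) = true := by decide +kernel
  have h0 : ((FiT3159.deriv.words.drop FiT3159.deriv.nR).map
      (List.map fun g => [1, 2, 3, 4, 5, 6, 7, 8].getD g 0)) = [[1], [2], [3], [4], [5], [6], [7]] := by decide +kernel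
  have h1 : (FiT3159.cert.words.drop FiT3159.cert.nR).drop 7 = FiT3159.deriv.loops.map Prod.fst := by
    decide +kernel
  exact step_more gens_all gens_ok (ex := []) (by simp) FiT3159.deriv_factsOK FiT3159.deriv_loopsOK hR
    (Kprev := [[1], [2], [3], [4], [5], [6], [7]]) (by rw [h0]; simp) le_rfl h1

theorem bound_FiT3159 : OrderLE (wordSub gen [[1], [2], [3], [4], [5], [6], [7], [8]]) 4585351680 := by
  have h := step_le gens_all gens_ok (π := [1, 2, 3, 4, 5, 6, 7, 8]) (ex := []) (by simp) FiT3159.cert_edgesOK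
    FiT3159.cert_nodesOK rfl bound_FiT3159_rels 7 (Kprev := [[1], [2], [3], [4], [5], [6], [7]]) (by rw [bound_FiT3159_sub]; simp)
    bound_FiT28 bound_FiT3159_more
  exact ⟨h.1, h.2.trans (le_of_eq (by decide +kernel))⟩

theorem bound_FiT14080_rels : stepRelsOK gens Fi22.edges Fi22.extra [0, 1, 2, 3, 4, 5, 6, 7, 8] []
    (FiT14080.cert.words.take FiT14080.cert.nR) = true := by decide +kernel

theorem bound_FiT14080_sub : ((FiT14080.cert.words.drop FiT14080.cert.nR).take 8).map
    (List.map fun g => [0, 1, 2, 3, 4, 5, 6, 7, 8].getD g 0) = [[1], [2], [3], [4], [5], [6], [7], [8]] := by decide +kernel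

theorem bound_FiT14080_more : ∀ w ∈ (FiT14080.cert.words.drop FiT14080.cert.nR).drop 8,
    wval (stepGen gens Fi22.edges Fi22.extra [0, 1, 2, 3, 4, 5, 6, 7, 8]) w ∈ wordSub gen [[1], [2], [3], [4], [5], [6], [7], [8]] := by
  have hR : stepRelsOK gens Fi22.edges Fi22.extra [0, 1, 2, 3, 4, 5, 6, 7, 8] []
      (FiT14080.deriv.words.take FiT14080.deriv.nR) = true := by decide +kernel
  have h0 : ((FiT14080.deriv.words.drop FiT14080.deriv.nR).map
      (List.map fun g => [0, 1, 2, 3, 4, 5, 6, 7, 8].getD g 0)) = [[1], [2], [3], [4], [5], [6], [7], [8]] := by decide +kernel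
  have h1 : (FiT14080.cert.words.drop FiT14080.cert.nR).drop 8 = FiT14080.deriv.loops.map Prod.fst := by
    decide +kernel
  exact step_more gens_all gens_ok (ex := []) (by simp) FiT14080.deriv_factsOK FiT14080.deriv_loopsOK hR
    (Kprev := [[1], [2], [3], [4], [5], [6], [7], [8]]) (by rw [h0]; simp) le_rfl h1

theorem bound_FiT14080 : OrderLE (wordSub gen [[0], [1], [2], [3], [4], [5], [6], [7], [8]]) 64561751654400 := by
  have h := step_le gens_all gens_ok (π := [0, 1, 2, 3, 4, 5, 6, 7, 8]) (ex := []) (by simp) FiT14080.cert_edgesOK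
    FiT14080.cert_nodesOK rfl bound_FiT14080_rels 8 (Kprev := [[1], [2], [3], [4], [5], [6], [7], [8]]) (by rw [bound_FiT14080_sub]; simp)
    bound_FiT3159 bound_FiT14080_more
  exact ⟨h.1, h.2.trans (le_of_eq (by decide +kernel))⟩

theorem closure_gens : Subgroup.closure (gen '' {g | g < 9}) = ⊤ := by
  rw [eq_top_iff, ← PresentedGroup.closure_range_of, Subgroup.closure_le]
  rintro _ ⟨x, rfl⟩
  exact Subgroup.subset_closure
    ⟨gens.idxOf x, List.idxOf_lt_length_of_mem (gens_all x), genFun_idxOf gens_all x⟩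

theorem wordSub_top : wordSub gen [[0], [1], [2], [3], [4], [5], [6], [7], [8]] = ⊤ := by
  rw [eq_top_iff, ← closure_gens, Subgroup.closure_le]
  rintro _ ⟨g, hg, rfl⟩
  change g < 9 at hg
  refine Subgroup.subset_closure ⟨[g], ?_, by simp [wval]⟩
  interval_cases g <;> decide

theorem card_le : Finite Fi22 ∧ Nat.card Fi22 ≤ 64561751654400 := by
  have h := bound_FiT14080
  rw [wordSub_top] at h
  haveI := h.1
  refine ⟨Finite.of_equiv _ Subgroup.topEquiv.toEquiv, ?_⟩
  rw [← Subgroup.card_top]
  exact h.2.trans (le_of_eq (by decide +kernel))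

theorem chain_prod : (FiChain.chain.map Level.size).prod = 64561751654400 := by decide +kernel

theorem card_fi22 : Nat.card Fi22 = 64561751654400 := by
  obtain ⟨e, -, he⟩ := exists_table
  haveI := card_le.1
  refine le_antisymm card_le.2 ?_
  have h := chain_card_le FiC3510.cert_edgesOK FiC3510.cert_nodesOK e he (by decide +kernel)
    FiChain.chain [] FiChain.chain_ok
  rw [chain_prod] at h
  refine le_trans ?_ (h.trans ?_)
  · exact Nat.le_mul_of_pos_right _ Nat.card_pos
  · exact Nat.card_le_card_of_injective _ Subtype.val_injective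

theorem card_hSub : Nat.card hSub = 18393661440 := by
  have h := hSub.index_mul_card
  rw [hSub_index, card_fi22] at h
  omega

theorem simple_fi22 : IsSimpleGroup Fi22 := by
  obtain ⟨e, he0, he⟩ := exists_table
  haveI := card_le.1
  exact isSimpleGroup_of_table FiC3510.cert_edgesOK FiC3510.cert_nodesOK e he0 he closure_gens
    (by decide +kernel) FiChain.chain_ok (by rw [chain_prod, card_fi22]) (by decide +kernel)
    hSub_eq_closure (ts := FiChain.suborbs) (by decide +kernel) (q := 13)
    (by rw [card_hSub]; decide +kernel) FiChain.factors (by decide +kernel) (by decide +kernel)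
    (by decide +kernel)

/-- The generating words `b, …, i`. -/
def o7Gens : List (FreeGroup Fi22.Gen) :=
  [Fi22.b, Fi22.c, Fi22.d, Fi22.e, Fi22.f, Fi22.g, Fi22.h, Fi22.i]

theorem o7_index : ((Subgroup.closure {x | x ∈ o7Gens}).map
    (PresentedGroup.mk (coxRelators Fi22.edges ∪ {r | r ∈ Fi22.extra}))).index = 14080 := by
  haveI := card_le.1
  have hS : (Subgroup.closure {x | x ∈ o7Gens}).map
      (PresentedGroup.mk (coxRelators Fi22.edges ∪ {r | r ∈ Fi22.extra})) =
        wordSub gen [[1], [2], [3], [4], [5], [6], [7], [8]] := by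
    rw [map_closure_eq_wval gens_all gens_ok,
      show o7Gens.map (letters gens) = [[1], [2], [3], [4], [5], [6], [7], [8]] by decide +kernel]
    rfl
  rw [hS]
  have hw : ∀ w ∈ FiT14080.cert.words,
      w.map (fun g => [0, 1, 2, 3, 4, 5, 6, 7, 8].getD g 0) = w := by decide +kernel
  refine index_eq_of_bounds _ ?_ bound_FiT3159 (by rw [card_fi22])
  refine index_le_of_cert (D := FiT14080.cert) FiT14080.cert_edgesOK FiT14080.cert_nodesOK
    (fun g _ => genFun_mul_self gens_all gens_ok g) ?_ closure_gens _ ?_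
  · intro w hmem
    have h := stepRels gens_all gens_ok (ex := []) (by simp) bound_FiT14080_rels w hmem
    rwa [wval_stepGen, hw w (List.mem_of_mem_take hmem)] at h
  · intro w hmem
    rw [← List.take_append_drop 8 (FiT14080.cert.words.drop FiT14080.cert.nR), List.mem_append] at hmem
    rcases hmem with hmem | hmem
    · have h := bound_FiT14080_sub
      refine Subgroup.subset_closure ⟨w, ?_, rfl⟩
      rw [← h, List.mem_map]
      exact ⟨w, hmem, hw w (List.mem_of_mem_drop (List.mem_of_mem_take hmem))⟩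
    · have h := bound_FiT14080_more w hmem
      rwa [wval_stepGen, hw w (List.mem_of_mem_drop (List.mem_of_mem_drop hmem))] at h

end Cfsg.Agent.Presented.FiOrder
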