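import Cfsg.Agent.Lib.Presented.Table

/-!
# Fast counting for kernel evaluation

`countBelow` is evaluated slowly by the kernel; `countFast` is the same number, computed by recursors with
forced intermediate values.
-/

set_option autoImplicit false

namespace Cfsg.Agent.Presented

theorem blt_of_lt {a b : ℕ} (h : a < b) : Nat.blt a b = true := by rw [Nat.blt_eq]; exact h

theorem countBlock_ge (f : ℕ → Bool) {hi lo : ℕ} (h : hi ≤ lo) : ∀ d, countBlock f hi d lo = 0 := by
  intro d
  rw [countBlock_spec, Finset.card_eq_zero, Finset.filter_eq_empty_iff]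
  intro i hi' hc
  rw [Finset.mem_Ico] at hi'
  omega

/-- Counting over a block by recursors. -/
noncomputable def countRec (f : ℕ → Bool) (hi d : ℕ) : ℕ → ℕ :=
  Nat.rec (motive := fun _ => ℕ → ℕ) (fun lo => Bool.rec 0 (Bool.rec 0 1 (f lo)) (Nat.blt lo hi))
    (fun d ih lo => Bool.rec 0 (force (ih lo) fun a => force (Nat.add lo (Nat.pow 2 d)) fun l =>
      force (ih l) fun b => Nat.add a b) (Nat.blt lo hi)) d

theorem countRec_eq (f : ℕ → Bool) (hi : ℕ) : ∀ d lo, countRec f hi d lo = countBlock f hi d lo := by
  intro d
  induction d with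
  | zero =>
    intro lo
    show Bool.rec (motive := fun _ => ℕ) 0 (Bool.rec (motive := fun _ => ℕ) 0 1 (f lo)) (Nat.blt lo hi) = _
    rw [countBlock]
    cases Nat.blt lo hi <;> cases f lo <;> rfl
  | succ d ih =>
    intro lo
    show Bool.rec (motive := fun _ => ℕ) 0 (force (countRec f hi d lo) (fun a => force (Nat.add lo (Nat.pow 2 d))
      fun l => force (countRec f hi d l) fun b => Nat.add a b)) (Nat.blt lo hi) = _
    cases h : Nat.blt lo hi
    · have hle : hi ≤ lo := by
        by_contra hlt
        rw [blt_of_lt (Nat.lt_of_not_le hlt)] at h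
        exact Bool.noConfusion h
      exact (countBlock_ge f hle (d + 1)).symm
    · simp only [force_eq]
      rw [countBlock, ih, ih]
      rfl

/-- Block check which skips blocks beyond the bound. -/
noncomputable def checkRec (f : ℕ → Bool) (hi d : ℕ) : ℕ → Bool :=
  Nat.rec (motive := fun _ => ℕ → Bool) (fun lo => Bool.rec true (f lo) (Nat.blt lo hi))
    (fun d ih lo => Bool.rec true (Bool.rec false (force (Nat.add lo (Nat.pow 2 d)) ih) (ih lo))
      (Nat.blt lo hi)) d

theorem checkRec_eq (f : ℕ → Bool) (hi : ℕ) : ∀ d lo, checkRec f hi d lo = checkBlock f hi d lo := by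
  intro d
  induction d with
  | zero => intro lo; rfl
  | succ d ih =>
    intro lo
    show Bool.rec (motive := fun _ => Bool) true (Bool.rec (motive := fun _ => Bool) false
      (force (Nat.add lo (Nat.pow 2 d)) (checkRec f hi d)) (checkRec f hi d lo)) (Nat.blt lo hi) = _
    cases h : Nat.blt lo hi
    · have hle : hi ≤ lo := by
        by_contra hlt
        rw [blt_of_lt (Nat.lt_of_not_le hlt)] at h
        exact Bool.noConfusion h
      exact (checkBlock_ge (d + 1) lo hle).symm
    · simp only [force_eq]
      rw [checkBlock_succ, ih, ih]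
      cases checkBlock f hi d lo <;> rfl

/-- `f` holds at every `i < n`, checked without visiting blocks beyond `n`. -/
noncomputable def checkFast (f : ℕ → Bool) (d n : ℕ) : Bool := Nat.blt n (2 ^ d) && checkRec f n d 0

theorem checkBelow_fast (f : ℕ → Bool) (d n : ℕ) : checkBelow f d n = checkFast f d n := by
  rw [checkBelow, checkFast, checkRec_eq]

/-- The number of `i < n` at which `f` holds. -/
noncomputable def countFast (f : ℕ → Bool) (d n : ℕ) : ℕ :=
  Bool.rec 0 (countRec f n d 0) (Nat.blt n (Nat.pow 2 d))

theorem countBelow_fast (f : ℕ → Bool) (d n : ℕ) : countBelow f d n = countFast f d n := by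
  rw [countBelow, countFast]
  show (if Nat.blt n (2 ^ d) = true then countBlock f n d 0 else 0) = _
  cases h : Nat.blt n (2 ^ d)
  · rfl
  · rw [countRec_eq]; rfl

end Cfsg.Agent.Presented
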