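import Cfsg.Agent.Lib.Presented.Table

/-!
# Coset tables as certificates

A `CosetCert` holds a complete coset table for a subgroup `H` of a group `G` generated by involutions
`s g` (`g < m`), together with a justification for every edge: a spanning tree edge, the mirror of an
edge of lower rank, or a word that is trivial in `G` (or lies in `H` and is read from coset `0`) all
whose other edges have lower rank.  `CosetCert.exists_equiv` turns a checked certificate into an
equivariant bijection `Fin N ≃ G ⧸ H`.
-/

set_option autoImplicit false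

namespace Cfsg.Agent.Presented

variable {G : Type*} [Group G] {s : ℕ → G}

/-- The value of a word read from left to right as a walk: the first letter acts first. -/
def wval (s : ℕ → G) : List ℕ → G
  | [] => 1
  | g :: w => wval s w * s g

theorem wval_append (a b : List ℕ) : wval s (a ++ b) = wval s b * wval s a := by
  induction a with
  | nil => simp [wval]
  | cons g a ih => simp [wval, ih, mul_assoc]

theorem wval_eq_prod (w : List ℕ) : wval s w = ((w.map s).reverse).prod := by
  induction w with
  | nil => simp [wval]
  | cons g w ih => simp [wval, ih]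

/-- Certificate data for a coset enumeration. -/
structure CosetCert where
  N : ℕ
  m : ℕ
  depth : ℕ
  act : NTree
  aw : ℕ
  rank : NTree
  rw : ℕ
  just : NTree
  jw : ℕ
  par : NTree
  pw : ℕ
  nR : ℕ
  words : List (List ℕ)

theorem blt_true {a b : ℕ} (h : a < b) : Nat.blt a b = true := by rw [Nat.blt_eq]; exact h

namespace CosetCert

variable (D : CosetCert)

/-- Image of coset `i` under generator `g`. -/
noncomputable def actOf (i g : ℕ) : ℕ := D.act.get D.aw (i * D.m + g)

/-- Rank of the edge `(i, g)`. -/
noncomputable def rankOf (i g : ℕ) : ℕ := D.rank.get D.rw (i * D.m + g)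

/-- One step of a walk along edges of rank below `r`; `D.N` signals failure. -/
noncomputable def step (r g i : ℕ) : ℕ :=
  bif (Nat.blt i D.N && Nat.blt g D.m) && Nat.blt (D.rankOf i g) r then D.actOf i g else D.N

/-- Walk along a word using only edges of rank below `r`. -/
noncomputable def walk (r : ℕ) (w : List ℕ) : ℕ → ℕ :=
  List.rec (motive := fun _ => ℕ → ℕ) (fun i => i) (fun g _ ih i => force (D.step r g i) ih) w

@[simp] theorem walk_nil (r i : ℕ) : D.walk r [] i = i := rfl

@[simp] theorem walk_cons (r g i : ℕ) (w : List ℕ) :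
    D.walk r (g :: w) i = D.walk r w (D.step r g i) := force_eq _ _

theorem walk_ge (r : ℕ) : ∀ (w : List ℕ) {i : ℕ}, D.N ≤ i → D.N ≤ D.walk r w i := by
  intro w
  induction w with
  | nil => intro i h; simpa
  | cons g w ih =>
    intro i h
    rw [walk_cons]
    exact ih (by simp [step, Nat.blt_eq, Nat.not_lt.mpr h, Bool.cond_eq_ite])

/-- Justification of an edge `e = i * m + g`. -/
noncomputable def checkEdge (e : ℕ) : Bool :=
  force (e / D.m) fun i => force (e % D.m) fun g => force (D.act.get D.aw e) fun j =>
  force (D.just.get D.jw e) fun u =>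
    Nat.blt j D.N && Nat.beq (D.actOf j g) i &&
    (bif Nat.beq (u % 4) 0 then Nat.blt i j && Nat.beq (D.par.get D.pw j) e
     else bif Nat.beq (u % 4) 1 then Nat.blt (D.rankOf j g) (D.rank.get D.rw e)
     else force (u / 4 % 1024) fun r => force (u / 4096 % 1024) fun k => force (u / 4194304) fun st =>
       force (D.rank.get D.rw e) fun rk =>
         Nat.blt st D.N && Nat.blt r D.words.length && (Nat.blt r D.nR || Nat.beq st 0) &&
         Nat.beq ((D.words.getD r []).getD k D.m) g &&
         Nat.beq (D.walk rk ((D.words.getD r []).take k) st) i &&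
         Nat.beq (D.walk rk ((D.words.getD r []).drop (k + 1)) j) st)

/-- Every coset `i > 0` has a parent edge leading to it. -/
noncomputable def checkNode (i : ℕ) : Bool :=
  Nat.beq i 0 || force (D.par.get D.pw i) fun e =>
    Nat.blt (e / D.m) i && Nat.blt e (D.N * D.m) && Nat.beq (D.act.get D.aw e) i

/-- All edges in a range of blocks are justified. -/
noncomputable def edgesOK : Bool := checkBelow D.checkEdge D.depth (D.N * D.m)

/-- All nodes have parents. -/
noncomputable def nodesOK : Bool :=
  checkBelow D.checkNode D.depth D.N && Nat.blt 0 D.N && Nat.blt 0 D.m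

/-- Plain walk along the table. -/
noncomputable def path (w : List ℕ) : ℕ → ℕ :=
  List.rec (motive := fun _ => ℕ → ℕ) (fun i => i) (fun g _ ih i => force (D.actOf i g) ih) w

@[simp] theorem path_nil (i : ℕ) : D.path [] i = i := rfl

@[simp] theorem path_cons (g i : ℕ) (w : List ℕ) : D.path (g :: w) i = D.path w (D.actOf i g) :=
  force_eq _ _

/-- All words below `nR` close at coset `i`. -/
noncomputable def checkWords (i : ℕ) : Bool :=
  allList (fun w => Nat.beq (D.path w i) i) (D.words.take D.nR)

/-- Every word below `nR` closes at every coset. -/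
noncomputable def wordsOK : Bool := checkBelow D.checkWords D.depth D.N

/-- The words from `nR` on fix coset `0`. -/
noncomputable def subOK : Bool :=
  (D.words.drop D.nR).all fun w => Nat.beq (D.path w 0) 0

theorem div_mod_edge {i g : ℕ} (hg : g < D.m) :
    (i * D.m + g) / D.m = i ∧ (i * D.m + g) % D.m = g := by
  constructor
  · rw [mul_comm, Nat.mul_add_div (by omega), Nat.div_eq_of_lt hg, add_zero]
  · rw [mul_comm, Nat.mul_add_mod, Nat.mod_eq_of_lt hg]

theorem edge_lt {i g : ℕ} (hi : i < D.N) (hg : g < D.m) : i * D.m + g < D.N * D.m :=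
  calc i * D.m + g < (i + 1) * D.m := by rw [Nat.succ_mul]; omega
    _ ≤ D.N * D.m := Nat.mul_le_mul_right _ hi

theorem rankOf_lt {i g : ℕ} : D.rankOf i g < 2 ^ D.rw := by
  have : ∀ (t : NTree) (k : ℕ), t.get D.rw k < 2 ^ D.rw := by
    intro t
    induction t with
    | leaf d => intro k; exact Nat.mod_lt _ (Nat.two_pow_pos _)
    | node k l r hl hr =>
      intro i
      show Bool.rec (motive := fun _ => ℕ) (r.get D.rw (i - k)) (l.get D.rw i) (Nat.blt i k) < _
      cases Nat.blt i k
      · exact hr _
      · exact hl _
  exact this _ _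

section

variable {D}
variable (he : D.edgesOK = true) (hn : D.nodesOK = true)
include he hn

theorem actOf_lt {i g : ℕ} (hi : i < D.N) (hg : g < D.m) : D.actOf i g < D.N := by
  have h := checkBelow_spec he _ (D.edge_lt hi hg)
  simp only [checkEdge, force_eq, (D.div_mod_edge hg).1, (D.div_mod_edge hg).2, Bool.and_eq_true,
    Nat.blt_eq, Nat.beq_eq] at h
  exact h.1.1

theorem actOf_actOf {i g : ℕ} (hi : i < D.N) (hg : g < D.m) : D.actOf (D.actOf i g) g = i := by
  have h := checkBelow_spec he _ (D.edge_lt hi hg)
  simp only [checkEdge, force_eq, (D.div_mod_edge hg).1, (D.div_mod_edge hg).2, Bool.and_eq_true,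
    Nat.blt_eq, Nat.beq_eq] at h
  exact h.1.2

theorem path_lt : ∀ (w : List ℕ), (∀ g ∈ w, g < D.m) → ∀ {i : ℕ}, i < D.N → D.path w i < D.N := by
  intro w
  induction w with
  | nil => intro _ i hi; simpa
  | cons g w ih =>
    intro hw i hi
    rw [path_cons]
    exact ih (fun x hx => hw x (List.mem_cons_of_mem _ hx)) (actOf_lt he hn hi (hw g List.mem_cons_self))

variable (H : Subgroup G)

omit he in
theorem exists_cosets : ∃ c : ℕ → G ⧸ H, c 0 = QuotientGroup.mk 1 ∧
    ∀ i, 0 < i → i < D.N → c i = s (D.par.get D.pw i % D.m) • c (D.par.get D.pw i / D.m) := by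
  simp only [nodesOK, Bool.and_eq_true] at hn
  have hp : ∀ i, 0 < i → i < D.N → D.par.get D.pw i / D.m < i := by
    intro i h0 hi
    have h := checkBelow_spec hn.1.1 i hi
    simp only [checkNode, force_eq, Bool.or_eq_true, Bool.and_eq_true, Nat.blt_eq, Nat.beq_eq] at h
    rcases h with h | h
    · omega
    · exact h.1.1
  refine ⟨fun i => WellFounded.fix Nat.lt_wfRel.wf (fun i rec =>
    if h : 0 < i ∧ i < D.N then s (D.par.get D.pw i % D.m) • rec _ (hp i h.1 h.2)
    else QuotientGroup.mk 1) i, ?_, ?_⟩
  · simp only; rw [WellFounded.fix_eq]; simp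
  · intro i h0 hi
    simp only
    conv_lhs => rw [WellFounded.fix_eq]
    rw [dif_pos ⟨h0, hi⟩]

omit hn in
theorem walk_spec (r : ℕ) (c : ℕ → G ⧸ H)
    (good : ∀ i g, i < D.N → g < D.m → D.rankOf i g < r → s g • c i = c (D.actOf i g)) :
    ∀ (w : List ℕ) {i j : ℕ}, D.walk r w i = j → j < D.N → wval s w • c i = c j := by
  intro w
  induction w with
  | nil => intro i j h _; simp at h; subst h; simp [wval]
  | cons g w ih =>
    intro i j h hj
    rw [walk_cons] at h
    by_cases hc : i < D.N ∧ g < D.m ∧ D.rankOf i g < r
    · rw [show D.step r g i = D.actOf i g by simp [step, blt_true hc.1, blt_true hc.2.1, blt_true hc.2.2]] at h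
      rw [wval, mul_smul, good i g hc.1 hc.2.1 hc.2.2, ih h hj]
    · rw [show D.step r g i = D.N by
        simp only [step, Bool.cond_eq_ite, Bool.and_eq_true, Nat.blt_eq]
        rw [if_neg (by tauto)]] at h
      have := D.walk_ge r w (le_refl D.N)
      omega

variable (hs : ∀ g, g < D.m → s g * s g = 1)
variable (hR : ∀ w ∈ D.words.take D.nR, wval s w = 1)
variable (hK : ∀ w ∈ D.words.drop D.nR, wval s w ∈ H)
include hs hR hK

theorem edge_good {c : ℕ → G ⧸ H} (hc0 : c 0 = QuotientGroup.mk 1)
    (hc : ∀ i, 0 < i → i < D.N → c i = s (D.par.get D.pw i % D.m) • c (D.par.get D.pw i / D.m)) :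
    ∀ n, ∀ i g, i < D.N → g < D.m → D.rankOf i g < n → s g • c i = c (D.actOf i g) := by
  intro n
  induction n with
  | zero => intros; omega
  | succ n ih =>
    intro i g hi hg hlt
    have h := checkBelow_spec he _ (D.edge_lt hi hg)
    simp only [checkEdge, force_eq, (D.div_mod_edge hg).1, (D.div_mod_edge hg).2, Bool.and_eq_true,
      Nat.blt_eq, Nat.beq_eq] at h
    obtain ⟨⟨hj, hinv⟩, h⟩ := h
    change D.actOf i g < D.N at hj
    change D.actOf (D.actOf i g) g = i at hinv
    by_cases h0 : D.just.get D.jw (i * D.m + g) % 4 = 0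
    · simp only [h0, Nat.beq_refl, cond_true, Bool.and_eq_true, Nat.blt_eq, Nat.beq_eq] at h
      have hj0 : 0 < D.act.get D.aw (i * D.m + g) := by omega
      change s g • c i = c (D.act.get D.aw (i * D.m + g))
      rw [hc _ hj0 hj, h.2, (D.div_mod_edge hg).1, (D.div_mod_edge hg).2]
    · rw [show Nat.beq (D.just.get D.jw (i * D.m + g) % 4) 0 = false by
        simpa [Bool.eq_false_iff, Nat.beq_eq] using h0, cond_false] at h
      by_cases h1 : D.just.get D.jw (i * D.m + g) % 4 = 1
      · simp only [h1, Nat.beq_refl, cond_true, Nat.blt_eq] at h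
        change D.rankOf (D.actOf i g) g < D.rankOf i g at h
        have hm := ih (D.actOf i g) g hj hg (by omega)
        rw [hinv] at hm
        rw [← hm, ← mul_smul, hs g hg, one_smul]
      · rw [show Nat.beq (D.just.get D.jw (i * D.m + g) % 4) 1 = false by
          simpa [Bool.eq_false_iff, Nat.beq_eq] using h1, cond_false] at h
        simp only [Bool.and_eq_true, Bool.or_eq_true, Nat.blt_eq, Nat.beq_eq] at h
        obtain ⟨⟨⟨⟨⟨hst, hr⟩, hsub⟩, hg'⟩, hA⟩, hB⟩ := h
        generalize D.just.get D.jw (i * D.m + g) / 4 % 1024 = r at *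
        generalize D.just.get D.jw (i * D.m + g) / 4096 % 1024 = k at *
        generalize D.just.get D.jw (i * D.m + g) / 4194304 = st at *
        rw [List.getD_eq_getElem _ _ hr] at hg' hA hB
        generalize hw : D.words[r] = w at *
        have hk : k < w.length := by
          by_contra hk
          rw [List.getD_eq_default _ _ (by omega)] at hg'
          omega
        rw [List.getD_eq_getElem _ _ hk] at hg'
        have hgood : ∀ x y, x < D.N → y < D.m → D.rankOf x y < D.rank.get D.rw (i * D.m + g) →
            s y • c x = c (D.actOf x y) := fun x y hx hy hxy => ih x y hx hy (by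
              change D.rankOf i g < n + 1 at hlt
              change D.rankOf x y < D.rankOf i g at hxy
              omega)
        have eA := walk_spec (s := s) he H _ c hgood _ hA hi
        have eB := walk_spec (s := s) he H _ c hgood _ hB hst
        have hdec : w = w.take k ++ g :: w.drop (k + 1) := by
          rw [← hg', List.getElem_cons_drop, List.take_append_drop]
        have hfix : wval s w • c st = c st := by
          by_cases hrR : r < D.nR
          · have hmem : w ∈ D.words.take D.nR := by
              rw [← hw, List.mem_take_iff_getElem]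
              exact ⟨r, by omega, rfl⟩
            rw [hR w hmem, one_smul]
          · have hst0 : st = 0 := hsub.resolve_left hrR
            subst hst0
            have hmem : w ∈ D.words.drop D.nR := by
              rw [List.mem_drop_iff_getElem]
              exact ⟨r - D.nR, by omega, by simp only [← hw]; congr 1; omega⟩
            rw [hc0, MulAction.Quotient.smul_mk, smul_eq_mul, mul_one, QuotientGroup.eq, mul_one]
            exact inv_mem (hK w hmem)
        rw [hdec, wval_append, wval, mul_smul, mul_smul, eA, ← eB] at hfix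
        exact MulAction.injective _ hfix

theorem exists_equiv (hw : D.wordsOK = true) (hsub : D.subOK = true)
    (hgen : Subgroup.closure (s '' {g | g < D.m}) = ⊤)
    (φ : G →* Equiv.Perm (Fin D.N))
    (hφ : ∀ g, g < D.m → ∀ i : Fin D.N, ((φ (s g)) i : ℕ) = D.actOf i g)
    (hφH : ∀ h ∈ H, ∀ i : Fin D.N, (i : ℕ) = 0 → φ h i = i) :
    ∃ e : Fin D.N ≃ G ⧸ H, (∀ i : Fin D.N, (i : ℕ) = 0 → e i = QuotientGroup.mk 1) ∧
      ∀ g (hg : g < D.m) (i : Fin D.N), s g • e i = e ⟨D.actOf i g, actOf_lt he hn i.2 hg⟩ := by
  obtain ⟨c, hc0, hc⟩ := exists_cosets (s := s) hn H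
  have good : ∀ i g, i < D.N → g < D.m → s g • c i = c (D.actOf i g) := fun i g hi hg =>
    edge_good he hn H hs hR hK hc0 hc _ i g hi hg D.rankOf_lt
  have hn' := hn
  simp only [nodesOK, Bool.and_eq_true, Nat.blt_eq] at hn'
  let z : Fin D.N := ⟨0, hn'.1.2⟩
  have hall : ∀ x : G ⧸ H, ∀ i : Fin D.N, c i = x → ∀ a : G, c (φ a i) = a • x := by
    intro x i hix a
    have ha : a ∈ Subgroup.closure (s '' {g | g < D.m}) := by rw [hgen]; trivial
    induction ha using Subgroup.closure_induction generalizing x i with
    | mem y hy =>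
      obtain ⟨g, hg, rfl⟩ := hy
      rw [hφ g hg, ← good i g i.2 hg, hix]
    | one => simp [hix]
    | mul a b _ _ iha ihb =>
      rw [map_mul, Equiv.Perm.mul_apply, mul_smul]
      exact iha _ _ (ihb x i hix)
    | inv a _ iha =>
      rw [eq_inv_smul_iff, ← iha (c (φ a⁻¹ i)) (φ a⁻¹ i) rfl]
      rw [← Equiv.Perm.mul_apply, ← map_mul, mul_inv_cancel, map_one, Equiv.Perm.one_apply, hix]
  have hsurj : Function.Surjective (fun i : Fin D.N => c i) := by
    intro x
    induction x using QuotientGroup.induction_on with
    | H a => exact ⟨φ a z, by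
        show c (φ a z) = _
        rw [hall (QuotientGroup.mk 1) z hc0 a, MulAction.Quotient.smul_mk, smul_eq_mul, mul_one]⟩
  have hinj : Function.Injective (fun i : Fin D.N => c i) := by
    -- an inverse: evaluate the permutation representation at coset `0`
    let ψ : G ⧸ H → Fin D.N := Quotient.lift (fun a => φ a z) fun a b hab => by
      have hab' : a⁻¹ * b ∈ H := QuotientGroup.leftRel_apply.mp hab
      have := hφH _ hab' z rfl
      calc φ a z = φ a (φ (a⁻¹ * b) z) := by rw [this]
        _ = φ b z := by rw [← Equiv.Perm.mul_apply, ← map_mul, mul_inv_cancel_left]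
    have hψ : ∀ a b : G, ψ (a • (QuotientGroup.mk b : G ⧸ H)) = φ a (ψ (QuotientGroup.mk b)) := by
      intro a b
      show φ (a * b) z = φ a (φ b z)
      rw [map_mul, Equiv.Perm.mul_apply]
    have hid : ∀ n, ∀ i : Fin D.N, (i : ℕ) < n → ψ (c i) = i := by
      intro n
      induction n with
      | zero => intros; omega
      | succ n ih =>
        intro i hi
        by_cases h0 : (i : ℕ) = 0
        · rw [h0, hc0]
          show φ 1 z = i
          rw [map_one, Equiv.Perm.one_apply]
          exact Fin.ext h0.symm
        · have h := checkBelow_spec hn'.1.1 i.1 i.2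
          simp only [checkNode, force_eq, Bool.or_eq_true, Bool.and_eq_true, Nat.blt_eq,
            Nat.beq_eq] at h
          rcases h with h | ⟨⟨hp, he'⟩, hact⟩
          · exact absurd h h0
          have hm : 0 < D.m := hn'.2
          have hg : D.par.get D.pw i % D.m < D.m := Nat.mod_lt _ hm
          rw [hc i.1 (by omega) i.2]
          obtain ⟨b, hb⟩ := QuotientGroup.mk_surjective (c (D.par.get D.pw i / D.m))
          rw [← hb, hψ, hb, ih ⟨D.par.get D.pw i / D.m, by omega⟩ (Nat.lt_of_lt_of_le hp (Nat.le_of_lt_succ hi))]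
          apply Fin.ext
          rw [hφ _ hg]
          show D.act.get D.aw _ = _
          rw [mul_comm, Nat.div_add_mod]
          exact hact
    intro i j hij
    rw [← hid (i + 1) i (by omega), ← hid (j + 1) j (by omega)]
    exact congrArg ψ hij
  refine ⟨Equiv.ofBijective _ ⟨hinj, hsurj⟩, ?_, ?_⟩
  · intro i hi; show c i = _; rw [hi, hc0]
  · intro g hg i; exact good i g i.2 hg

end

end CosetCert

end Cfsg.Agent.Presented
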