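import Mathlib

/-!
# Packed tables for kernel-checked certificates

`NTree` stores an array of naturals as a balanced tree of packed chunks.  All checkers in
`Cfsg.Agent.Presented` read their data through `NTree.get`, and are evaluated by `decide +kernel`.
-/

set_option autoImplicit false

namespace Cfsg.Agent.Presented

/-- A binary tree of packed chunks of naturals. `node k l r`: the entries below `k` are in `l`. -/
inductive NTree where
  | leaf (data : ℕ)
  | node (k : ℕ) (l r : NTree)

/-- Entry `i` of a tree whose chunks have fields of `w` bits. -/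
noncomputable def NTree.get (w : ℕ) (t : NTree) : ℕ → ℕ :=
  NTree.rec (motive := fun _ => ℕ → ℕ)
    (fun d i => Nat.mod (Nat.shiftRight d (Nat.mul w i)) (Nat.pow 2 w))
    (fun k _ _ gl gr i => Bool.rec (gr (Nat.sub i k)) (gl i) (Nat.blt i k)) t

/-- Makes the kernel evaluate `n` to a literal before it is substituted into `k`. -/
noncomputable def force {α : Sort*} (n : ℕ) (k : ℕ → α) : α :=
  Nat.rec (k 0) (fun m _ => k (Nat.succ m)) n

@[simp] theorem force_eq {α : Sort*} (n : ℕ) (k : ℕ → α) : force n k = k n := by
  cases n <;> rfl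

/-- `f` holds at every `i < hi` in the block of size `2 ^ d` starting at `lo`. -/
noncomputable def checkBlock (f : ℕ → Bool) (hi d : ℕ) : ℕ → Bool :=
  Nat.rec (motive := fun _ => ℕ → Bool) (fun lo => Bool.rec true (f lo) (Nat.blt lo hi))
    (fun d ih lo => Bool.rec false (force (Nat.add lo (Nat.pow 2 d)) ih) (ih lo)) d

theorem checkBlock_zero (f : ℕ → Bool) (hi lo : ℕ) :
    checkBlock f hi 0 lo = if Nat.blt lo hi then f lo else true := by
  show Bool.rec (motive := fun _ => Bool) true (f lo) (Nat.blt lo hi) = _
  cases Nat.blt lo hi <;> rfl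

theorem checkBlock_succ (f : ℕ → Bool) (hi d lo : ℕ) :
    checkBlock f hi (d + 1) lo = (checkBlock f hi d lo && checkBlock f hi d (lo + 2 ^ d)) := by
  show Bool.rec (motive := fun _ => Bool) false (force (lo + 2 ^ d) (checkBlock f hi d)) (checkBlock f hi d lo) = _
  rw [force_eq]
  cases checkBlock f hi d lo <;> rfl

/-- A block beyond the bound is checked. -/
theorem checkBlock_ge {f : ℕ → Bool} {hi : ℕ} : ∀ (d lo : ℕ), hi ≤ lo → checkBlock f hi d lo = true := by
  intro d
  induction d with
  | zero =>
    intro lo h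
    rw [checkBlock_zero, if_neg (by rw [Nat.blt_eq]; omega)]
  | succ d ih =>
    intro lo h
    rw [checkBlock_succ, ih lo h, ih _ (le_trans h (Nat.le_add_right _ _))]; rfl

/-- A block is checked when both halves are. -/
theorem checkBlock_join {f : ℕ → Bool} {hi lo : ℕ} (d : ℕ) (h₁ : checkBlock f hi d lo = true)
    (h₂ : checkBlock f hi d (lo + 2 ^ d) = true) : checkBlock f hi (d + 1) lo = true := by
  rw [checkBlock_succ, h₁, h₂]; rfl

/-- Conjunction over a list, by the recursor. -/
noncomputable def allList {β : Type} (f : β → Bool) (l : List β) : Bool :=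
  List.rec (motive := fun _ => Bool) true (fun a _ ih => Bool.rec false ih (f a)) l

theorem allList_eq {β : Type} (f : β → Bool) (l : List β) : allList f l = l.all f := by
  induction l with
  | nil => rfl
  | cons a l ih =>
    show Bool.rec (motive := fun _ => Bool) false (allList f l) (f a) = _
    rw [List.all_cons, ih]; cases f a <;> rfl

theorem checkBlock_spec {f : ℕ → Bool} {hi : ℕ} : ∀ {d lo : ℕ}, checkBlock f hi d lo = true →
    ∀ i, lo ≤ i → i < lo + 2 ^ d → i < hi → f i = true := by
  intro d
  induction d with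
  | zero =>
    intro lo h i h1 h2 h3
    have hi' : i = lo := by omega
    subst hi'
    simpa [checkBlock_zero, Nat.blt_eq, h3] using h
  | succ d ih =>
    intro lo h i h1 h2 h3
    rw [checkBlock_succ, Bool.and_eq_true] at h
    by_cases hlt : i < lo + 2 ^ d
    · exact ih h.1 i h1 hlt h3
    · exact ih h.2 i (by omega) (by rw [pow_succ] at h2; omega) h3

/-- `f` holds at every `i < n` (`n < 2 ^ d`). -/
noncomputable def checkBelow (f : ℕ → Bool) (d n : ℕ) : Bool := Nat.blt n (2 ^ d) && checkBlock f n d 0

theorem checkBelow_of_block {f : ℕ → Bool} {d n : ℕ} (hn : Nat.blt n (2 ^ d) = true)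
    (h : checkBlock f n d 0 = true) : checkBelow f d n = true := by
  rw [checkBelow, hn, h]; rfl

theorem checkBelow_spec {f : ℕ → Bool} {d n : ℕ} (h : checkBelow f d n = true) :
    ∀ i, i < n → f i = true := by
  intro i hi
  rw [checkBelow, Bool.and_eq_true, Nat.blt_eq] at h
  exact checkBlock_spec h.2 i (Nat.zero_le _) (by omega) hi

/-- Number of `i` with `lo ≤ i < lo + 2 ^ d`, `i < hi` at which `f` holds. -/
def countBlock (f : ℕ → Bool) (hi : ℕ) : ℕ → ℕ → ℕ
  | 0, lo => if Nat.blt lo hi && f lo then 1 else 0
  | d + 1, lo => countBlock f hi d lo + countBlock f hi d (lo + 2 ^ d)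

theorem countBlock_spec (f : ℕ → Bool) (hi : ℕ) : ∀ d lo,
    countBlock f hi d lo = ((Finset.Ico lo (lo + 2 ^ d)).filter fun i => i < hi ∧ f i = true).card := by
  intro d
  induction d with
  | zero =>
    intro lo
    rw [countBlock, pow_zero, Nat.Ico_succ_singleton, Finset.filter_singleton]
    by_cases h : lo < hi ∧ f lo = true
    · rw [if_pos h, if_pos (by simpa [Nat.blt_eq] using h), Finset.card_singleton]
    · rw [if_neg h, if_neg (by simpa [Nat.blt_eq] using h), Finset.card_empty]
  | succ d ih =>
    intro lo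
    rw [countBlock, ih, ih, ← Finset.card_union_of_disjoint, ← Finset.filter_union,
      Finset.Ico_union_Ico_eq_Ico (Nat.le_add_right _ _) (Nat.le_add_right _ _), pow_succ, mul_two, ← add_assoc]
    exact Finset.disjoint_filter_filter (Finset.Ico_disjoint_Ico_consecutive _ _ _)

/-- Number of `i < n` at which `f` holds, computed by recursion on blocks. -/
def countBelow (f : ℕ → Bool) (d n : ℕ) : ℕ := if Nat.blt n (2 ^ d) then countBlock f n d 0 else 0

theorem countBelow_spec (f : ℕ → Bool) {d n : ℕ} (hn : n < 2 ^ d) :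
    countBelow f d n = Nat.card {i : Fin n // f i.1 = true} := by
  rw [countBelow, if_pos (by simpa [Nat.blt_eq] using hn), countBlock_spec, Nat.card_eq_fintype_card,
    Fintype.card_subtype]
  refine Finset.card_bij (fun i hi => (⟨i, (Finset.mem_filter.mp hi).2.1⟩ : Fin n)) ?_ ?_ ?_
  · intro i hi; simpa using (Finset.mem_filter.mp hi).2.2
  · intro i _ j _ h; exact congrArg Fin.val h
  · intro j hj
    refine ⟨j.1, ?_, rfl⟩
    simp only [Finset.mem_filter, Finset.mem_Ico, Finset.mem_univ, true_and] at hj ⊢
    exact ⟨⟨Nat.zero_le _, by omega⟩, j.2, hj⟩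

end Cfsg.Agent.Presented
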