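import Cfsg.Agent.Lib.Presented.Fi23Cover
import Cfsg.Prelude.Def_Sporadic

/-!
# The transpositions of the presented group Fi23

The central involution of the double cover of Fi22 has that cover as centraliser, and its conjugates
form a class of 3-transpositions.
-/

set_option autoImplicit false

namespace Cfsg.Agent.Presented.Fi23Transp

open Cfsg.Spor Cfsg.Agent.Presented Fi23Index Fi23Order Fi23Cover

/-- The transposition. -/
def t : Fi23 := wval gen Fi23Chain.zWord

theorem coe_z : ((z : hSub) : Fi23) = t := coe_wval (by decide +kernel)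

theorem wval_reverse (w : List ℕ) : wval gen w.reverse = (wval gen w)⁻¹ := by
  induction w with
  | nil => simp [wval]
  | cons g w ih =>
    rw [List.reverse_cons, wval_append, ih]
    simp only [wval, one_mul, mul_inv_rev]
    rw [← eq_inv_of_mul_eq_one_left (genFun_mul_self gens_all gens_ok g)]

theorem hSub_le_centralizer : hSub ≤ Subgroup.centralizer ({t} : Set Fi23) := by
  intro x hx
  rw [Subgroup.mem_centralizer_singleton_iff]
  have h := congrArg Subtype.val (z_central ⟨x, hx⟩)
  simpa [coe_z] using h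

theorem eq_of_smul_base {e : Fin Fi23C31671.cert.N ≃ Fi23 ⧸ hSub}
    (he0 : ∀ i : Fin Fi23C31671.cert.N, (i : ℕ) = 0 → e i = QuotientGroup.mk 1) (g g' : Fi23)
    (h : g • e ⟨0, by decide +kernel⟩ = g' • e ⟨0, by decide +kernel⟩) : g⁻¹ * g' ∈ hSub := by
  rw [he0 _ rfl, MulAction.Quotient.smul_mk, MulAction.Quotient.smul_mk, smul_eq_mul, smul_eq_mul,
    mul_one, mul_one, QuotientGroup.eq] at h
  exact h

/-- Every element is in the double cover or in one of two double cosets of it. -/
theorem cosets (g : Fi23) :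
    g ∈ hSub ∨ ∃ w ∈ [[7], [7, 6, 5, 4, 3, 2, 8, 3, 4, 5, 6, 7]], ∃ h k : Fi23,
      h ∈ hSub ∧ k ∈ hSub ∧ g = h * wval gen w * k := by
  obtain ⟨e, he0, he⟩ := exists_table
  have h0 : 0 < Fi23C31671.cert.N := by decide +kernel
  obtain ⟨i, hi⟩ := e.surjective (g • e ⟨0, h0⟩)
  have hc := checkBelow_spec block_cover i.1 i.2
  simp only [inUnion, Bool.or_eq_true, List.any_eq_true, List.map_cons, List.map_nil,
    List.mem_cons, List.not_mem_nil, or_false] at hc
  have key : ∀ (r : ℕ) (T : NTree) (w : List ℕ), (hr : r < Fi23C31671.cert.N) →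
      Fi23C31671.cert.orbitOK [[0], [1], [2], [3], [4], [5], [6], [8], [9]] T r = true →
      (hw : ∀ a ∈ w, a < Fi23C31671.cert.m) → Fi23C31671.cert.path w 0 = r →
      CosetCert.inOrbit T i.1 = true →
      ∃ h k : Fi23, h ∈ hSub ∧ k ∈ hSub ∧ g = h * wval gen w * k := by
    intro r T w hr hok hw hp hin
    have himg := CosetCert.orbit_eq_image Fi23C31671.cert_edgesOK Fi23C31671.cert_nodesOK e he
      hSub_eq_closure hr hok
    have hmem : e i ∈ MulAction.orbit hSub (e ⟨r, hr⟩) := by rw [himg]; exact ⟨i, hin, rfl⟩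
    obtain ⟨⟨h, hh⟩, hh'⟩ := hmem
    change h • e ⟨r, hr⟩ = e i at hh'
    have hb : wval gen w • e ⟨0, h0⟩ = e ⟨r, hr⟩ := by
      rw [CosetCert.smul_path Fi23C31671.cert_edgesOK Fi23C31671.cert_nodesOK e he w hw ⟨0, h0⟩]
      exact congrArg e (Fin.ext hp)
    rw [← hb, ← mul_smul, hi] at hh'
    refine ⟨h, (h * wval gen w)⁻¹ * g, hh, eq_of_smul_base he0 _ _ hh', ?_⟩
    rw [mul_inv_cancel_left]
  rcases hc with hc | ⟨T, hT, hin⟩
  · left
    rw [Nat.beq_eq] at hc
    rw [show i = ⟨0, h0⟩ from Fin.ext hc] at hi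
    have := eq_of_smul_base he0 1 g (by rw [one_smul]; exact hi)
    simpa using this
  · right
    rcases hT with rfl | rfl
    · exact ⟨_, List.mem_cons_self, key 1 _ _ (by decide +kernel) Fi23C31671.orbit0_ok
        (by decide +kernel) (by decide +kernel) hin⟩
    · exact ⟨_, List.mem_cons_of_mem _ List.mem_cons_self, key 52 _ _ (by decide +kernel)
        Fi23C31671.orbit1_ok (by decide +kernel) (by decide +kernel) hin⟩

theorem centralizer_eq : Subgroup.centralizer ({t} : Set Fi23) = hSub := by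
  refine le_antisymm (fun g hg => ?_) hSub_le_centralizer
  rcases cosets g with h | ⟨w, hw, h, k, hh, hk, rfl⟩
  · exact h
  exfalso
  have hwc : wval gen w ∈ Subgroup.centralizer ({t} : Set Fi23) := by
    have h1 := (Subgroup.centralizer ({t} : Set Fi23)).mul_mem (Subgroup.mul_mem _
      (inv_mem (hSub_le_centralizer hh)) hg) (inv_mem (hSub_le_centralizer hk))
    simpa [mul_assoc] using h1
  rw [Subgroup.mem_centralizer_singleton_iff] at hwc
  obtain ⟨e, -, he⟩ := exists_table
  have hmove : ([[7], [7, 6, 5, 4, 3, 2, 8, 3, 4, 5, 6, 7]].all fun w =>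
      (Fi23Chain.chain.map Level.pt).any fun p => Nat.blt p Fi23C31671.cert.N &&
        ((Fi23Chain.zWord ++ w).all fun a => Nat.blt a Fi23C31671.cert.m) &&
        !(Nat.beq (Fi23C31671.cert.path (Fi23Chain.zWord ++ w) p)
          (Fi23C31671.cert.path (w ++ Fi23Chain.zWord) p))) = true := by decide +kernel
  have hm := List.all_eq_true.mp hmove w hw
  simp only [List.any_eq_true, Bool.and_eq_true, Nat.blt_eq, List.all_eq_true,
    Bool.not_eq_true'] at hm
  obtain ⟨p, -, ⟨hp, hlt⟩, hne⟩ := hm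
  have hlt' : ∀ a ∈ w ++ Fi23Chain.zWord, a < Fi23C31671.cert.m := fun a ha =>
    hlt a (by simp only [List.mem_append] at ha ⊢; exact ha.symm)
  have h1 := CosetCert.smul_path Fi23C31671.cert_edgesOK Fi23C31671.cert_nodesOK e he _ hlt ⟨p, hp⟩
  have h2 := CosetCert.smul_path Fi23C31671.cert_edgesOK Fi23C31671.cert_nodesOK e he _ hlt' ⟨p, hp⟩
  rw [wval_append] at h1 h2
  have hwc' : wval gen w * wval gen Fi23Chain.zWord = wval gen Fi23Chain.zWord * wval gen w := hwc
  rw [hwc', h2] at h1
  have h3 := congrArg Fin.val (e.injective h1)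
  simp only at h3
  rw [h3] at hne
  simp at hne

theorem t_sq : t * t = 1 := by
  rw [← coe_z, ← Subgroup.coe_mul, z_sq, Subgroup.coe_one]

theorem t_ne : t ≠ 1 := by
  intro h
  exact z_ne (Subtype.ext (coe_z.trans h))

theorem conj_mem_hSub {h : Fi23} (hh : h ∈ hSub) : h * t * h⁻¹ = t := by
  have := Subgroup.mem_centralizer_singleton_iff.mp (hSub_le_centralizer hh)
  rw [this, mul_inv_cancel_right]

theorem pow_pair (g : Fi23) : (t * (g * t * g⁻¹)) ^ 2 = 1 ∨ (t * (g * t * g⁻¹)) ^ 3 = 1 := by
  rcases cosets g with h | ⟨w, hw, h, k, hh, hk, rfl⟩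
  · left; rw [conj_mem_hSub h, t_sq, one_pow]
  have hconj : h * wval gen w * k * t * (h * wval gen w * k)⁻¹ =
      h * (wval gen w * t * (wval gen w)⁻¹) * h⁻¹ := by
    have hk' := conj_mem_hSub hk
    calc _ = h * wval gen w * (k * t * k⁻¹) * (wval gen w)⁻¹ * h⁻¹ := by group
      _ = _ := by rw [hk']; group
  have hprod : t * (h * (wval gen w * t * (wval gen w)⁻¹) * h⁻¹) =
      h * (t * (wval gen w * t * (wval gen w)⁻¹)) * h⁻¹ := by
    calc _ = h * t * h⁻¹ * (h * (wval gen w * t * (wval gen w)⁻¹) * h⁻¹) := by rw [conj_mem_hSub hh]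
      _ = _ := by group
  rw [hconj, hprod, conj_pow, conj_pow]
  have hword : t * (wval gen w * t * (wval gen w)⁻¹) =
      wval gen (w.reverse ++ Fi23Chain.zWord ++ w ++ Fi23Chain.zWord) := by
    simp only [wval_append, wval_reverse, t, mul_assoc]
  rw [hword]
  have hall : ([[7], [7, 6, 5, 4, 3, 2, 8, 3, 4, 5, 6, 7]].all fun w =>
      sameOK Fi23C31671.cert (Fi23Chain.chain.map Level.pt)
        (List.replicate 2 (w.reverse ++ Fi23Chain.zWord ++ w ++ Fi23Chain.zWord)).flatten [] ||
      sameOK Fi23C31671.cert (Fi23Chain.chain.map Level.pt)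
        (List.replicate 3 (w.reverse ++ Fi23Chain.zWord ++ w ++ Fi23Chain.zWord)).flatten []) = true := by
    decide +kernel
  have h1 := List.all_eq_true.mp hall w hw
  rw [Bool.or_eq_true] at h1
  rcases h1 with h1 | h1
  · left
    have h2 := eq_of_same _ _ h1
    rw [wval_replicate] at h2
    rw [h2]; simp [wval]
  · right
    have h2 := eq_of_same _ _ h1
    rw [wval_replicate] at h2
    rw [h2]; simp [wval]

theorem threeTransp : IsThreeTranspositionClass (conjugatesOf t) := by
  refine ⟨⟨?_, ?_⟩, ⟨t, mem_conjugatesOf_self, rfl⟩, ?_⟩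
  · intro d hd
    obtain ⟨a, rfl⟩ := isConj_iff.mp hd
    refine orderOf_eq_prime ?_ fun h => t_ne ?_
    · rw [conj_pow, pow_two, t_sq]; group
    · rwa [conj_eq_one_iff] at h
  · intro d hd d' hd'
    obtain ⟨a, rfl⟩ := isConj_iff.mp hd
    obtain ⟨b, rfl⟩ := isConj_iff.mp hd'
    have hprod : a * t * a⁻¹ * (b * t * b⁻¹) =
        a * (t * ((a⁻¹ * b) * t * (a⁻¹ * b)⁻¹)) * a⁻¹ := by group
    rw [hprod, conj_pow, conj_pow]
    rcases pow_pair (a⁻¹ * b) with h | h
    · left; rw [h]; group
    · right; rw [h]; group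
  · haveI := simple_fi23
    have hn : (Subgroup.closure (conjugatesOf t)).Normal := by
      have : Subgroup.closure (conjugatesOf t) = Subgroup.normalClosure ({t} : Set Fi23) := by
        rw [Subgroup.normalClosure, Group.conjugatesOfSet]
        simp
      rw [this]; infer_instance
    rcases hn.eq_bot_or_eq_top with h | h
    · exfalso
      have h1 : t ∈ Subgroup.closure (conjugatesOf t) := Subgroup.subset_closure mem_conjugatesOf_self
      rw [h, Subgroup.mem_bot] at h1
      exact t_ne h1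
    · exact h

theorem card_class : Nat.card (conjugatesOf t) = 31671 := by
  rw [← hSub_index, ← centralizer_eq, Subgroup.index]
  refine (Nat.card_congr (Equiv.ofBijective
    (fun q : Fi23 ⧸ Subgroup.centralizer ({t} : Set Fi23) =>
      (⟨Quotient.liftOn' q (fun a => a * t * a⁻¹) ?_, ?_⟩ : conjugatesOf t)) ⟨?_, ?_⟩)).symm
  · intro a b hab
    rw [QuotientGroup.leftRel_apply, Subgroup.mem_centralizer_singleton_iff] at hab
    calc a * t * a⁻¹ = a * (t * (a⁻¹ * b)) * b⁻¹ := by group
      _ = a * (a⁻¹ * b * t) * b⁻¹ := by rw [hab]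
      _ = b * t * b⁻¹ := by group
  · induction q using QuotientGroup.induction_on with
    | H a => exact isConj_iff.mpr ⟨a, rfl⟩
  · intro p q
    induction p using QuotientGroup.induction_on with
    | H a => induction q using QuotientGroup.induction_on with
      | H b =>
        intro h
        have h' : a * t * a⁻¹ = b * t * b⁻¹ := congrArg Subtype.val h
        rw [QuotientGroup.eq, Subgroup.mem_centralizer_singleton_iff]
        calc a⁻¹ * b * t = a⁻¹ * (b * t * b⁻¹) * b := by group
          _ = t * (a⁻¹ * b) := by rw [← h']; group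
  · rintro ⟨d, hd⟩
    obtain ⟨a, rfl⟩ := isConj_iff.mp hd
    exact ⟨QuotientGroup.mk a, rfl⟩

/-- Transport of double covers along isomorphisms. -/
theorem cover_congr {H H' K : Type*} [Group H] [Group H'] [Group K] (f : H ≃* H')
    (h : IsNonsplitDoubleCover H K) : IsNonsplitDoubleCover H' K := by
  obtain ⟨hc, ⟨φ⟩, hs⟩ := h
  have hmap : (Subgroup.center H).map f.toMonoidHom = Subgroup.center H' := by
    ext x
    simp only [Subgroup.mem_map, Subgroup.mem_center_iff]
    constructor
    · rintro ⟨y, hy, rfl⟩ w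
      obtain ⟨v, rfl⟩ := f.surjective w
      simp only [MulEquiv.coe_toMonoidHom, ← map_mul, hy v]
    · intro hx
      refine ⟨f.symm x, fun v => f.injective ?_, by simp⟩
      simp [map_mul, hx (f v)]
  refine ⟨?_, ⟨(QuotientGroup.congr _ _ f hmap).symm.trans φ⟩, fun L hL => hs (L.comap f.toMonoidHom) ?_⟩
  · rw [← hmap]
    exact (Nat.card_congr ((Subgroup.center H).equivMapOfInjective _ f.injective).toEquiv).symm.trans hc
  · have hd := hL.disjoint
    refine Subgroup.isComplement'_of_disjoint_and_mul_eq_univ ?_ ?_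
    · rw [Subgroup.disjoint_def]
      intro y hy hy'
      apply f.injective
      rw [map_one]
      exact Subgroup.disjoint_def.mp hd (hmap ▸ Subgroup.mem_map_of_mem _ hy) hy'
    · rw [Set.eq_univ_iff_forall]
      intro g
      obtain ⟨⟨⟨x, hx⟩, ⟨l, hl⟩⟩, hg⟩ := hL.2 (f g)
      rw [← hmap] at hx
      obtain ⟨y, hy, rfl⟩ := hx
      refine Set.mem_mul.mpr ⟨y, hy, f.symm l, ?_, f.injective ?_⟩
      · simpa using hl
      · rw [map_mul, MulEquiv.apply_symm_apply]; exact hg

theorem exists_fi23 : ∃ (G : Type) (_ : Group G) (_ : Finite G), IsFi23 G ∧ ∃ D : Set G,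
    IsThreeTranspositionClass D ∧ Nat.card D = 31671 ∧ ∀ d ∈ D, ∃ (K : Type) (_ : Group K),
      IsFi22 K ∧ IsNonsplitDoubleCover (Subgroup.centralizer ({d} : Set G)) K := by
  refine ⟨Fi23, inferInstance, card_le.1, ⟨simple_fi23, card_fi23⟩, conjugatesOf t, threeTransp,
    card_class, fun d hd => ⟨Fi22, inferInstance, ⟨FiOrder.simple_fi22, FiOrder.card_fi22⟩, ?_⟩⟩
  obtain ⟨a, rfl⟩ := isConj_iff.mp hd
  have hmap : hSub.map (MulAut.conj a).toMonoidHom = Subgroup.centralizer ({a * t * a⁻¹} : Set Fi23) := by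
    rw [← centralizer_eq]
    ext x
    simp only [Subgroup.mem_map, Subgroup.mem_centralizer_singleton_iff, MulEquiv.coe_toMonoidHom,
      MulAut.conj_apply]
    constructor
    · rintro ⟨y, hy, rfl⟩
      calc a * y * a⁻¹ * (a * t * a⁻¹) = a * (y * t) * a⁻¹ := by group
        _ = _ := by rw [hy]; group
    · intro hx
      refine ⟨a⁻¹ * x * a, ?_, by group⟩
      calc a⁻¹ * x * a * t = a⁻¹ * (x * (a * t * a⁻¹)) * a := by group
        _ = _ := by rw [hx]; group
  rw [← hmap]
  exact cover_congr (hSub.equivMapOfInjective _ (MulAut.conj a).injective) double_cover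

end Cfsg.Agent.Presented.Fi23Transp
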