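import Cfsg.Agent.Lib.Presented.SuzOrder
import Cfsg.Agent.Lib.Presented.Data.SuzG2Data
import Cfsg.Agent.Lib.G2Four.Orbit
import Cfsg.Agent.S1059

/-!
# The subgroup `⟨a, …, f⟩` of the presented Suzuki group is `G₂(4)`

Six explicit involutions of `chevG2.group K4` satisfy the relators in `a, …, f` and generate it.  The
enumerations that bound the order of `⟨a, …, f⟩` only use these relators, so they also bound the
subgroup of `Suz × G₂(4)` generated by the six pairs; both projections are then bijective.
-/

set_option autoImplicit false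
set_option maxRecDepth 20000

namespace Cfsg.Agent.Presented.SuzG2

open Cfsg.Spor Cfsg.Lie Matrix Cfsg.Agent.Presented

/-! ## Matrices from codes -/

/-- The matrix with the given code. -/
def unpack (c : ℕ) : Matrix (Fin 7) (Fin 7) G2Four.K4 :=
  Matrix.of fun i j => ⟨Fin.ofNat 4 (c >>> (14 * (i : ℕ) + 2 * (j : ℕ)))⟩

/-- A checked product of two codes. -/
def stepOK (cur g next : ℕ) : Bool :=
  decide (unpack cur * unpack g = unpack next)

/-- A checked chain of partial products. -/
def chainOK (cs : List ℕ) : ℕ → List ℕ → List ℕ → Bool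
  | _, [], [] => true
  | cur, g :: w, n :: ns => stepOK cur (cs.getD g 0) n && chainOK cs n w ns
  | _, _, _ => false

/-- A chain from the identity, with letters in range, ending at `target`. -/
def wordOK (cs : List ℕ) (p : List ℕ × List ℕ) (target : ℕ) : Bool :=
  chainOK cs SuzG2Data.oneCode p.1 p.2 && (p.1.all fun g => Nat.blt g cs.length) &&
    (p.2.getLastD SuzG2Data.oneCode == target)

theorem chain_prod (cs : List ℕ) (s : ℕ → G2Four.Q)
    (hs : ∀ g, g < cs.length → G2Four.fst7 (s g) = unpack (cs.getD g 0)) :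
    ∀ w cur ns, chainOK cs cur w ns = true → (∀ g ∈ w, g < cs.length) →
      unpack cur * G2Four.fst7 (w.map s).prod = unpack (ns.getLastD cur) := by
  intro w
  induction w with
  | nil =>
    intro cur ns h _
    cases ns with
    | nil => simp
    | cons n ns => simp [chainOK] at h
  | cons g w ih =>
    intro cur ns h hlt
    cases ns with
    | nil => simp [chainOK] at h
    | cons n ns =>
      simp only [chainOK, Bool.and_eq_true, stepOK, decide_eq_true_eq] at h
      have e : unpack cur * unpack (cs.getD g 0) = unpack n := h.1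
      rw [List.map_cons, List.prod_cons, map_mul, hs g (hlt g List.mem_cons_self), ← mul_assoc, e,
        ih n ns h.2 fun g' hg' => hlt g' (List.mem_cons_of_mem _ hg'), List.getLastD_cons]

theorem unpack_one : unpack SuzG2Data.oneCode = 1 := by
  decide +kernel

theorem word_value {cs : List ℕ} {s : ℕ → G2Four.Q}
    (hs : ∀ g, g < cs.length → G2Four.fst7 (s g) = unpack (cs.getD g 0))
    {p : List ℕ × List ℕ} {target : ℕ} (h : wordOK cs p target = true) :
    G2Four.fst7 (p.1.map s).prod = unpack target := by
  simp only [wordOK, Bool.and_eq_true, List.all_eq_true, Nat.blt_eq, beq_iff_eq] at h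
  obtain ⟨⟨h1, h2⟩, h3⟩ := h
  have := chain_prod cs s hs _ _ _ h1 h2
  rwa [unpack_one, one_mul, h3] at this

/-! ## The projection to the 7-dimensional matrices is injective -/

/-- A coordinate that sees exactly one basis element. -/
def pos : chevG2.Idx → Fin 7 × Fin 7
  | Sum.inl i => if (i : ℕ) = 0 then (0, 0) else (2, 2)
  | Sum.inr r =>
    (Fin.ofNat 7 ((G2Four.bSupp (2 + r)).headD (0, 0)).1,
      Fin.ofNat 7 ((G2Four.bSupp (2 + r)).headD (0, 0)).2)

theorem pos_spec : ∀ k i : chevG2.Idx,
    G2Four.bas i (pos k).1 (pos k).2 = if i = k then (1 : G2Four.K4) else 0 := by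
  decide +kernel

theorem fst7_injective : Function.Injective G2Four.fst7 := by
  have key : ∀ x : G2Four.Q, G2Four.fst7 x = 1 → x = 1 := by
    rintro ⟨⟨g, A⟩, hp⟩ hg
    obtain ⟨hR, -⟩ := G2Four.good_of_mem hp
    have hg' : g = 1 := Units.ext hg
    subst hg'
    refine Subtype.ext (Prod.ext rfl (Units.ext ?_))
    ext k j
    have h := congrFun (congrFun (hR j) (pos k).1) (pos k).2
    simp only [Units.val_one, Matrix.one_mul, Matrix.sum_apply, Matrix.smul_apply,
      pos_spec, smul_eq_mul, mul_ite, mul_one, mul_zero, Finset.sum_ite_eq', Finset.mem_univ,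
      if_true] at h
    change _ = (1 : Matrix chevG2.Idx chevG2.Idx G2Four.K4) k j
    rw [Matrix.one_apply, ← h]
    exact if_congr eq_comm rfl rfl
  intro x y hxy
  have h1 : G2Four.fst7 (x⁻¹ * y) = 1 := by
    rw [map_mul, ← hxy, ← map_mul, inv_mul_cancel, map_one]
  exact inv_mul_eq_one.1 (key _ h1)

/-! ## The six images -/

theorem genE_code : ∀ g : Fin 16,
    G2Four.x7 (G2Four.genR g) (G2Four.genT g) = unpack (SuzG2Data.genCodes.getD g 0) := by
  decide +kernel

/-- The image of generator number `i`. -/
noncomputable def qImg (i : ℕ) : G2Four.Q :=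
  ((SuzG2Data.imgWords.getD i ([], [])).1.map G2Four.genE).prod

theorem imgWords_ok : ((List.range 6).all fun i =>
    wordOK SuzG2Data.genCodes (SuzG2Data.imgWords.getD i ([], [])) (SuzG2Data.imgCodes.getD i 0)) = true := by
  decide +kernel

theorem fst7_qImg (i : ℕ) (hi : i < SuzG2Data.imgCodes.length) :
    G2Four.fst7 (qImg i) = unpack (SuzG2Data.imgCodes.getD i 0) :=
  word_value (fun g hg => genE_code ⟨g, lt_of_lt_of_eq hg (by rfl)⟩)
    (List.all_eq_true.1 imgWords_ok i (List.mem_range.2 hi))

theorem rootWords_ok : ((List.range 36).all fun i =>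
    wordOK SuzG2Data.imgCodes (SuzG2Data.rootWords.getD i ([], []))
      ((SuzG2Data.rootWords.getD i ([], [])).2.getLastD SuzG2Data.oneCode)) = true := by
  decide +kernel

theorem rootWords_target : ∀ r : Fin chevG2.nroots, ∀ t : G2Four.K4,
    (if (t.v : ℕ) = 0 then (1 : Matrix (Fin 7) (Fin 7) G2Four.K4) else
      unpack ((SuzG2Data.rootWords.getD (3 * (r : ℕ) + ((t.v : ℕ) - 1)) ([], [])).2.getLastD
        SuzG2Data.oneCode)) = G2Four.x7 r t := by
  decide +kernel

theorem relWords_ok : (SuzG2Data.relWords.all fun p =>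
    wordOK SuzG2Data.imgCodes p SuzG2Data.oneCode) = true := by
  decide +kernel

theorem relWords_fst : SuzG2Data.rels.map List.reverse = SuzG2Data.relWords.map Prod.fst := by
  decide +kernel

theorem qImg_rels {w : List ℕ} (hw : w ∈ SuzG2Data.rels) : wval qImg w = 1 := by
  have : w.reverse ∈ SuzG2Data.relWords.map Prod.fst := relWords_fst ▸ List.mem_map_of_mem hw
  obtain ⟨p, hp, e⟩ := List.mem_map.1 this
  rw [wval_eq_prod, ← List.map_reverse, ← e]
  refine fst7_injective ?_
  rw [word_value fst7_qImg (List.all_eq_true.1 relWords_ok p hp), unpack_one, map_one]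

theorem closure_qImg : Subgroup.closure (qImg '' {g | g < 6}) = ⊤ := by
  set C := Subgroup.closure (qImg '' {g | g < 6})
  have hle : G2Four.Q ≤ C.map G2Four.Q.subtype := by
    refine (Subgroup.closure_le _).2 fun p hp => ?_
    obtain ⟨r, t, h1, h2⟩ := hp
    refine ⟨⟨p, Subgroup.subset_closure ⟨r, t, h1, h2⟩⟩, ?_, rfl⟩
    have hx := rootWords_target r t
    by_cases ht : (t.v : ℕ) = 0
    · rw [if_pos ht] at hx
      rw [show (⟨p, Subgroup.subset_closure ⟨r, t, h1, h2⟩⟩ : G2Four.Q) = 1 from
        fst7_injective (by rw [map_one]; exact h1.trans hx.symm)]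
      exact C.one_mem
    · rw [if_neg ht] at hx
      have hr : (r : ℕ) < 12 := r.isLt
      have htv : (t.v : ℕ) < 4 := t.v.isLt
      have hok := List.all_eq_true.1 rootWords_ok (3 * (r : ℕ) + ((t.v : ℕ) - 1))
        (List.mem_range.2 (by omega))
      generalize SuzG2Data.rootWords.getD (3 * (r : ℕ) + ((t.v : ℕ) - 1)) ([], []) = pr at hok hx
      rw [show (⟨p, Subgroup.subset_closure ⟨r, t, h1, h2⟩⟩ : G2Four.Q) = (pr.1.map qImg).prod from
        fst7_injective (by rw [word_value fst7_qImg hok, hx]; exact h1)]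
      refine Subgroup.list_prod_mem _ fun y hy => ?_
      obtain ⟨g, hg, rfl⟩ := List.mem_map.1 hy
      simp only [wordOK, Bool.and_eq_true, List.all_eq_true, Nat.blt_eq] at hok
      exact Subgroup.subset_closure ⟨g, hok.1.2 g hg, rfl⟩
  rw [eq_top_iff]
  intro x _
  obtain ⟨y, hy, e⟩ := hle x.2
  rwa [← Subtype.ext e]

theorem card_Q : Nat.card G2Four.Q = 251596800 := by
  rw [Nat.card_congr G2Four.qEquiv.toEquiv, S1059.result G2Four.card_K4]
  norm_num

/-! ## The enumerations, relative to the relators in six generators -/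

/-- Every word is empty or a rotation of a relator in six generators or of a reversed one. -/
def rotOK6 (ws : List (List ℕ)) : Bool :=
  ws.all fun w => w.isEmpty || (List.range w.length).any fun k =>
    SuzG2Data.rels.contains (w.rotate k) || SuzG2Data.rels.contains (w.rotate k).reverse

variable {P : Type*} [Group P] {s : ℕ → P}

theorem wval_rot6 (hs : ∀ g, s g * s g = 1) (hrel : ∀ w ∈ SuzG2Data.rels, wval s w = 1)
    {ws : List (List ℕ)} (h : rotOK6 ws = true) : ∀ w ∈ ws, wval s w = 1 := by
  intro w hw
  simp only [rotOK6, List.all_eq_true, Bool.or_eq_true, List.any_eq_true, List.contains_eq_mem,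
    decide_eq_true_eq] at h
  have inv : ∀ u : List ℕ, wval s u.reverse = (wval s u)⁻¹ := by
    intro u
    rw [wval_eq_prod, wval_eq_prod, List.map_reverse, List.reverse_reverse, List.prod_inv_reverse,
      List.map_reverse, List.reverse_reverse, List.map_map]
    exact congrArg List.prod (List.map_congr_left fun g _ => eq_inv_of_mul_eq_one_left (hs g))
  rcases h w hw with h | ⟨k, -, h'⟩
  · rw [List.isEmpty_iff] at h; rw [h]; rfl
  · have h1 : wval s (w.rotate k) = 1 := by
      rcases h' with h' | h'
      · exact hrel _ h'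
      · exact inv_eq_one.1 ((inv _).symm.trans (hrel _ h'))
    rw [List.rotate_eq_drop_append_take_mod, wval_append, mul_eq_one_comm, ← wval_append,
      List.take_append_drop] at h1
    exact h1

theorem step6 (hs : ∀ g, s g * s g = 1) (hrel : ∀ w ∈ SuzG2Data.rels, wval s w = 1)
    {D : CosetCert} {E : DerivCert} (he : D.edgesOK = true) (hn : D.nodesOK = true)
    (hf : E.factsOK = true) (hl : E.loopsOK = true)
    (hD : rotOK6 (D.words.take D.nR) = true) (hE : rotOK6 (E.words.take E.nR) = true) {k n : ℕ}
    (hk : (D.words.drop D.nR).take k = (List.range k).map fun g => [g])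
    (hEk : E.words.drop E.nR = (List.range k).map fun g => [g])
    (hrest : (D.words.drop D.nR).drop k = E.loops.map Prod.fst)
    (hprev : OrderLE (Subgroup.closure (s '' {g | g < k})) n) :
    OrderLE (Subgroup.closure (s '' {g | g < D.m})) (D.N * n) := by
  have hgen : ∀ w ∈ (List.range k).map (fun g => [g]),
      wval s w ∈ Subgroup.closure (s '' {g | g < k}) := by
    intro w hw
    obtain ⟨g, hg, rfl⟩ := List.mem_map.1 hw
    exact Subgroup.subset_closure ⟨g, List.mem_range.1 hg, by simp [wval]⟩
  refine closure_card_le he hn (fun g _ => hs g) (wval_rot6 hs hrel hD) _ ?_ hprev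
  intro w hw
  rw [← List.take_append_drop k (D.words.drop D.nR), List.mem_append, hk, hrest] at hw
  rcases hw with hw | hw
  · exact hgen w hw
  · exact DerivCert.loops_mem E _ hf hl (fun g _ => hs g) (wval_rot6 hs hrel hE) (by rw [hEk]; exact hgen) w hw

theorem bound_closure (hs : ∀ g, s g * s g = 1) (hrel : ∀ w ∈ SuzG2Data.rels, wval s w = 1) :
    OrderLE (Subgroup.closure (s '' {g | g < 6})) 251596800 := by
  have h0 : OrderLE (Subgroup.closure (s '' {g | g < 0})) 1 := by
    simpa using (orderLE_bot (G := P))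
  have h4 := step6 hs hrel SuzT2160.cert_edgesOK SuzT2160.cert_nodesOK SuzT2160.deriv_factsOK
    SuzT2160.deriv_loopsOK (by decide +kernel) (by decide +kernel) (k := 0) (by decide +kernel)
    (by decide +kernel) (by decide +kernel) h0
  have h5 := step6 hs hrel SuzT280.cert_edgesOK SuzT280.cert_nodesOK SuzT280.deriv_factsOK
    SuzT280.deriv_loopsOK (by decide +kernel) (by decide +kernel) (k := 4) (by decide +kernel)
    (by decide +kernel) (by decide +kernel) h4
  exact step6 hs hrel SuzT416.cert_edgesOK SuzT416.cert_nodesOK SuzT416.deriv_factsOK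
    SuzT416.deriv_loopsOK (by decide +kernel) (by decide +kernel) (k := 5) (by decide +kernel)
    (by decide +kernel) (by decide +kernel) h5

/-! ## The isomorphism -/

/-- The pairs. -/
noncomputable def sPair (i : ℕ) : Suz × G2Four.Q :=
  if i < 6 then (SuzIndex.gen i, qImg i) else 1

theorem rels_lt : ∀ w ∈ SuzG2Data.rels, ∀ g ∈ w, g < 6 := by decide +kernel

theorem rels_suz : rotOK SuzIndex.gens Suz.edges Suz.extra SuzG2Data.rels = true := by
  decide +kernel

theorem wval_congr {G : Type*} [Group G] {f g : ℕ → G} {w : List ℕ} (h : ∀ i ∈ w, f i = g i) :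
    wval f w = wval g w := by
  rw [wval_eq_prod, wval_eq_prod, List.map_congr_left h]

theorem sPair_rels (w : List ℕ) (hw : w ∈ SuzG2Data.rels) : wval sPair w = 1 := by
  refine Prod.ext ?_ ?_
  · refine ((wval_map (MonoidHom.fst Suz G2Four.Q) w).trans (wval_congr (g := SuzIndex.gen) ?_)).trans
      (wval_rot SuzIndex.gens_all SuzIndex.gens_ok rels_suz w hw)
    intro i hi
    simp [sPair, rels_lt w hw i hi]
  · refine ((wval_map (MonoidHom.snd Suz G2Four.Q) w).trans (wval_congr (g := qImg) ?_)).trans
      (qImg_rels hw)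
    intro i hi
    simp [sPair, rels_lt w hw i hi]

theorem sPair_sq (g : ℕ) : sPair g * sPair g = 1 := by
  by_cases hg : g < 6
  · have key : ∀ i < 6, [i, i] ∈ SuzG2Data.rels := by decide +kernel
    simpa [wval] using sPair_rels _ (key g hg)
  · simp [sPair, hg]

theorem exists_equiv : Nonempty (SuzIndex.hSub ≃* chevG2.group G2Four.K4) := by
  set S := Subgroup.closure (sPair '' {g | g < 6}) with hS
  obtain ⟨hfin, hle⟩ := bound_closure sPair_sq sPair_rels
  have h1 : S.map (MonoidHom.fst Suz G2Four.Q) = SuzIndex.hSub := by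
    rw [hS, MonoidHom.map_closure, SuzIndex.hSub_eq_closure]
    congr 1
    ext x
    constructor
    · rintro ⟨_, ⟨g, hg, rfl⟩, rfl⟩
      have hg' : g < 6 := hg
      refine ⟨[g], ?_, by simp [sPair, hg', wval]⟩
      interval_cases g <;> simp
    · rintro ⟨k, hk, rfl⟩
      simp only [List.mem_cons, List.not_mem_nil, or_false] at hk
      have key : ∀ g < 6, wval SuzIndex.gen [g] ∈
          ⇑(MonoidHom.fst Suz G2Four.Q) '' (sPair '' {g | g < 6}) := fun g hg =>
        ⟨_, ⟨g, hg, rfl⟩, by simp [sPair, hg, wval]⟩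
      rcases hk with rfl | rfl | rfl | rfl | rfl | rfl <;> exact key _ (by norm_num)
  have h2 : S.map (MonoidHom.snd Suz G2Four.Q) = ⊤ := by
    rw [← closure_qImg, hS, MonoidHom.map_closure, Set.image_image]
    congr 1
    exact Set.image_congr fun g hg => by
      have hg' : g < 6 := hg
      simp [sPair, hg']
  have : Finite G2Four.Q := Nat.finite_of_card_ne_zero (by rw [card_Q]; norm_num)
  have : Finite Suz := SuzOrder.finite_suz
  have i1 : Function.Injective ((MonoidHom.fst Suz G2Four.Q).subgroupMap S) :=
    ((Nat.bijective_iff_surjective_and_card _).2 ⟨MonoidHom.subgroupMap_surjective _ _, le_antisymm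
      (hle.trans (le_of_eq (by rw [h1, SuzOrder.card_hSub])))
      (Nat.card_le_card_of_surjective _ (MonoidHom.subgroupMap_surjective _ _))⟩).1
  have i2 : Function.Injective ((MonoidHom.snd Suz G2Four.Q).subgroupMap S) :=
    ((Nat.bijective_iff_surjective_and_card _).2 ⟨MonoidHom.subgroupMap_surjective _ _, le_antisymm
      (hle.trans (le_of_eq (by rw [h2, Subgroup.card_top, card_Q])))
      (Nat.card_le_card_of_surjective _ (MonoidHom.subgroupMap_surjective _ _))⟩).1
  exact ⟨(MulEquiv.subgroupCongr h1.symm).trans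
    ((MulEquiv.ofBijective _ ⟨i1, MonoidHom.subgroupMap_surjective _ _⟩).symm.trans
      ((MulEquiv.ofBijective _ ⟨i2, MonoidHom.subgroupMap_surjective _ _⟩).trans
        ((MulEquiv.subgroupCongr h2).trans (Subgroup.topEquiv.trans G2Four.qEquiv))))⟩

end Cfsg.Agent.Presented.SuzG2
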