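import Cfsg.Agent.Lib.Presented.Words
import Cfsg.Agent.Lib.Presented.Derive

/-!
# Indices of subgroups of presented groups from certificates
-/

set_option autoImplicit false

namespace Cfsg.Agent.Presented

open Cfsg.Spor

variable {α : Type*} [DecidableEq α] {gens : List α} {edges : List (α × ℕ × α)}
  {extra : List (FreeGroup α)}

/-- Every word is empty, or a rotation of a relator or of a reversed relator. -/
def rotOK (gens : List α) (edges : List (α × ℕ × α)) (extra : List (FreeGroup α))
    (ws : List (List ℕ)) : Bool :=
  let L := (relList gens edges extra).map (letters gens)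
  ws.all fun w => w.isEmpty || (List.range w.length).any fun k =>
    L.contains (w.rotate k) || L.contains (w.rotate k).reverse

theorem wval_rot (hall : ∀ x, x ∈ gens) (hg : gensOK gens edges = true) {ws : List (List ℕ)}
    (h : rotOK gens edges extra ws = true) : ∀ w ∈ ws, wval (genFun gens edges extra) w = 1 := by
  intro w hw
  simp only [rotOK, List.all_eq_true, Bool.or_eq_true, List.any_eq_true, List.contains_eq_mem,
    decide_eq_true_eq] at h
  have hrel : ∀ u ∈ (relList gens edges extra).map (letters gens),
      wval (genFun gens edges extra) u = 1 := by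
    intro u hu
    obtain ⟨r, hr, rfl⟩ := List.mem_map.mp hu
    rw [← mk_eq_wval hall hg]
    exact PresentedGroup.one_of_mem (rels_of_mem_relList hall hg hr)
  rcases h w hw with h | ⟨k, -, h | h⟩
  · rw [List.isEmpty_iff] at h; rw [h]; rfl
  · have h1 := hrel _ h
    rw [List.rotate_eq_drop_append_take_mod, wval_append, mul_eq_one_comm, ← wval_append,
      List.take_append_drop] at h1
    exact h1
  · have h1 := hrel _ h
    rw [wval_eq_prod, List.map_reverse, List.reverse_reverse] at h1
    have h2 : wval (genFun gens edges extra) (w.rotate k) = 1 := by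
      rw [wval_eq_prod]
      generalize w.rotate k = u at h1 ⊢
      have : ((u.map (genFun gens edges extra)).reverse).prod =
          ((u.map (genFun gens edges extra)).prod)⁻¹ := by
        rw [List.prod_inv_reverse, List.map_map]
        refine congrArg List.prod (congrArg List.reverse (List.map_congr_left fun g _ => ?_))
        exact eq_inv_of_mul_eq_one_left (genFun_mul_self hall hg g)
      rw [this, h1, inv_one]
    rw [List.rotate_eq_drop_append_take_mod, wval_append, mul_eq_one_comm, ← wval_append,
      List.take_append_drop] at h2
    exact h2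

variable {D : CosetCert} {E : DerivCert}

/-- `hmore` of `indexCert` from a checked deduction log. -/
theorem deriv_more (hall : ∀ x, x ∈ gens) (hg : gensOK gens edges = true)
    (hf : E.factsOK = true) (hl : E.loopsOK = true) (Hgens : List (FreeGroup α))
    (H : Subgroup (CoxPresented α edges extra))
    (hH : H = (Subgroup.closure {x | x ∈ Hgens}).map
      (PresentedGroup.mk (coxRelators edges ∪ {r | r ∈ extra})))
    (hR : rotOK gens edges extra (E.words.take E.nR) = true)
    (hK : E.words.drop E.nR = Hgens.map (letters gens))
    (hloops : (D.words.drop D.nR).drop Hgens.length = E.loops.map Prod.fst) :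
    ∀ w ∈ (D.words.drop D.nR).drop Hgens.length, wval (genFun gens edges extra) w ∈ H := by
  rw [hloops]
  refine DerivCert.loops_mem E H hf hl (fun g _ => genFun_mul_self hall hg g) (wval_rot hall hg hR) ?_
  intro w hw
  rw [hK] at hw
  obtain ⟨x, hx, rfl⟩ := List.mem_map.mp hw
  rw [← mk_eq_wval hall hg, hH]
  exact Subgroup.mem_map_of_mem _ (Subgroup.subset_closure hx)

/-- The image of the subgroup generated by words is generated by the values of their walk words. -/
theorem map_closure_eq_wval (hall : ∀ x, x ∈ gens) (hg : gensOK gens edges = true)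
    (Hgens : List (FreeGroup α)) :
    (Subgroup.closure {x | x ∈ Hgens}).map (PresentedGroup.mk (coxRelators edges ∪ {r | r ∈ extra})) =
      Subgroup.closure {x : CoxPresented α edges extra |
        ∃ k ∈ Hgens.map (letters gens), x = wval (genFun gens edges extra) k} := by
  rw [MonoidHom.map_closure]
  congr 1
  ext y
  constructor
  · rintro ⟨x, hx, rfl⟩
    exact ⟨_, List.mem_map.mpr ⟨x, hx, rfl⟩, mk_eq_wval hall hg x⟩
  · rintro ⟨k, hk, rfl⟩
    obtain ⟨x, hx, rfl⟩ := List.mem_map.mp hk
    exact ⟨x, hx, mk_eq_wval hall hg x⟩

theorem card_quotient_of_equiv {N : ℕ} {G : Type*} [Group G] {H : Subgroup G} (e : Fin N ≃ G ⧸ H) :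
    H.index = N := by
  rw [Subgroup.index, ← Nat.card_congr e, Nat.card_fin]

end Cfsg.Agent.Presented
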