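import Cfsg.Agent.Lib.Presented.Coset

/-!
# Suborbits from a checked coset table

Orbit data gives, for each coset `i`, the number `col + 2 * (dep + 256 * (p * L + j))`: whether `i` lies
in the orbit, its depth, and the coset `p` and generating word `j` leading to it.
-/

set_option autoImplicit false

namespace Cfsg.Agent.Presented

namespace CosetCert

variable (D : CosetCert) (Ks : List (List ℕ)) (t : NTree)

/-- Membership of coset `i` in the orbit described by `t`. -/
noncomputable def inOrbit (i : ℕ) : Bool := Nat.beq (t.get 64 i % 2) 1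

/-- The orbit data is closed under the words and connected to `root`. -/
noncomputable def orbitOK (root : ℕ) : Bool :=
  Nat.blt root D.N && inOrbit t root && (Ks.all fun k => k.all fun g => Nat.blt g D.m) &&
  checkBelow (fun i =>
      (allList (fun k => inOrbit t (D.path k i) == inOrbit t i) Ks) &&
      (!(inOrbit t i) || Nat.beq i root ||
        force (t.get 64 i / 512) fun e => force (e / Ks.length) fun p => force (e % Ks.length) fun j =>
          Nat.blt p D.N && Nat.blt j Ks.length && inOrbit t p &&
            Nat.blt (t.get 64 p / 2 % 256) (t.get 64 i / 2 % 256) &&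
            Nat.beq (D.path (Ks.getD j []) p) i))
    D.depth D.N

/-- The number of cosets in the orbit. -/
noncomputable def orbitCount : ℕ := countBelow (inOrbit t) D.depth D.N

variable {D Ks t}

variable {G : Type*} [Group G] {s : ℕ → G} {H : Subgroup G}

theorem smul_path (he : D.edgesOK = true) (hn : D.nodesOK = true) (e : Fin D.N ≃ G ⧸ H)
    (hequiv : ∀ g (hg : g < D.m) (i : Fin D.N), s g • e i = e ⟨D.actOf i g, actOf_lt he hn i.2 hg⟩) :
    ∀ (w : List ℕ) (hw : ∀ g ∈ w, g < D.m) (i : Fin D.N),
      wval s w • e i = e ⟨D.path w i, path_lt he hn w hw i.2⟩ := by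
  intro w
  induction w with
  | nil => intro _ i; simp [wval]
  | cons g w ih =>
    intro hw i
    have hg := hw g List.mem_cons_self
    rw [wval, mul_smul, hequiv g hg i, ih (fun x hx => hw x (List.mem_cons_of_mem _ hx))]
    congr 2
    rw [path_cons]

theorem orbit_eq_image (he : D.edgesOK = true) (hn : D.nodesOK = true) (e : Fin D.N ≃ G ⧸ H)
    (hequiv : ∀ g (hg : g < D.m) (i : Fin D.N), s g • e i = e ⟨D.actOf i g, actOf_lt he hn i.2 hg⟩)
    {A : Subgroup G} (hle : A = Subgroup.closure {x | ∃ k ∈ Ks, x = wval s k}) {root : ℕ} (hroot : root < D.N)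
    (hok : D.orbitOK Ks t root = true) :
    MulAction.orbit A (e ⟨root, hroot⟩) = e '' {i : Fin D.N | inOrbit t i.1 = true} := by
  simp only [orbitOK, Bool.and_eq_true, List.all_eq_true, Nat.blt_eq] at hok
  obtain ⟨⟨⟨-, hin⟩, hlt⟩, hchk⟩ := hok
  have hall := checkBelow_spec hchk
  apply subset_antisymm
  · rintro x ⟨⟨h, hh⟩, rfl⟩
    have key : ∀ i : Fin D.N, ∃ i' : Fin D.N,
        h • e i = e i' ∧ inOrbit t i'.1 = inOrbit t i.1 := by
      rw [hle] at hh
      induction hh using Subgroup.closure_induction with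
      | mem y hy =>
        obtain ⟨k, hk, rfl⟩ := hy
        intro i
        refine ⟨_, smul_path he hn e hequiv k (hlt k hk) i, ?_⟩
        have := hall i.1 i.2
        simp only [allList_eq, Bool.and_eq_true, List.all_eq_true, beq_iff_eq] at this
        exact this.1 k hk
      | one => intro i; exact ⟨i, one_smul _ _, rfl⟩
      | mul a b _ _ iha ihb =>
        intro i
        obtain ⟨i₁, h1, h1'⟩ := ihb i
        obtain ⟨i₂, h2, h2'⟩ := iha i₁
        exact ⟨i₂, by rw [mul_smul, h1, h2], h2'.trans h1'⟩
      | inv a _ iha =>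
        intro i
        classical
        have hf : ∀ j, ∃ j' : Fin D.N, a • e j = e j' ∧ inOrbit t j'.1 = inOrbit t j.1 := iha
        refine ⟨e.symm (a⁻¹ • e i), by simp, ?_⟩
        obtain ⟨j', hj, hj'⟩ := hf (e.symm (a⁻¹ • e i))
        rw [Equiv.apply_symm_apply, smul_inv_smul] at hj
        rw [← hj', e.injective hj]
    obtain ⟨i', h1, h2⟩ := key ⟨root, hroot⟩
    exact ⟨i', h2.trans hin, h1.symm⟩
  · rintro x ⟨i, hi, rfl⟩
    have key : ∀ d, ∀ i : Fin D.N, t.get 64 i.1 / 2 % 256 < d → inOrbit t i.1 = true →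
        e i ∈ MulAction.orbit A (e ⟨root, hroot⟩) := by
      intro d
      induction d with
      | zero => intros; omega
      | succ d ih =>
        intro i hid hi
        have := hall i.1 i.2
        simp only [Bool.and_eq_true, Bool.or_eq_true, force_eq, hi, Bool.not_true,
          Bool.false_eq_true, false_or, Nat.blt_eq, Nat.beq_eq] at this
        rcases this.2 with h | ⟨⟨⟨⟨hp, hj⟩, hpin⟩, hdep⟩, hpath⟩
        · rw [show i = ⟨root, hroot⟩ from Fin.ext h]; exact MulAction.mem_orbit_self _
        · generalize t.get 64 i.1 / 512 / Ks.length = p at *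
          generalize t.get 64 i.1 / 512 % Ks.length = j at *
          rw [List.getD_eq_getElem _ _ hj] at hpath
          have hmem : wval s Ks[j] ∈ A := by
            rw [hle]
            exact Subgroup.subset_closure ⟨_, List.getElem_mem hj, rfl⟩
          have h1 := smul_path he hn e hequiv Ks[j] (hlt _ (List.getElem_mem hj)) ⟨p, hp⟩
          have h2 := MulAction.mem_orbit_of_mem_orbit (⟨_, hmem⟩ : A)
            (ih ⟨p, hp⟩ (Nat.lt_of_lt_of_le hdep (Nat.le_of_lt_succ hid)) hpin)
          rw [show (⟨_, hmem⟩ : A) • e ⟨p, hp⟩ = wval s Ks[j] • e ⟨p, hp⟩ from rfl, h1] at h2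
          rw [show i = ⟨D.path Ks[j] p, path_lt he hn _ (hlt _ (List.getElem_mem hj)) hp⟩ from
            Fin.ext hpath.symm]
          exact h2
    exact key _ i (Nat.lt_succ_self _) hi

theorem orbit_ncard (he : D.edgesOK = true) (hn : D.nodesOK = true) (e : Fin D.N ≃ G ⧸ H)
    (hequiv : ∀ g (hg : g < D.m) (i : Fin D.N), s g • e i = e ⟨D.actOf i g, actOf_lt he hn i.2 hg⟩)
    {A : Subgroup G} (hle : A = Subgroup.closure {x | ∃ k ∈ Ks, x = wval s k}) {root : ℕ} (hroot : root < D.N)
    (hok : D.orbitOK Ks t root = true) (hd : D.N < 2 ^ D.depth) :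
    (MulAction.orbit A (e ⟨root, hroot⟩)).ncard = D.orbitCount t := by
  rw [orbit_eq_image he hn e hequiv hle hroot hok, Set.ncard_image_of_injective _ e.injective, orbitCount, countBelow_spec _ hd,
    ← Nat.card_coe_set_eq]
  rfl

end CosetCert

end Cfsg.Agent.Presented
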