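import Cfsg.Prelude.Def_Spor_He
import Cfsg.Agent.Lib.Presented.Index
import Cfsg.Agent.Lib.Presented.Orbit
import Cfsg.Agent.Lib.Presented.Data.HeC2058

/-!
# A subgroup of index 2058 of the presented group He
-/

set_option autoImplicit false

namespace Cfsg.Agent.Presented.HeIndex

open Cfsg.Spor Cfsg.Agent.Presented

/-- The generators in table order. -/
def gens : List He.Gen := [.a, .b, .c, .d, .e, .f, .g]

theorem gens_all (x : He.Gen) : x ∈ gens := by cases x <;> decide

theorem gens_nodup : gens.Nodup := by decide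

theorem gens_ok : gensOK gens He.edges = true := by decide +kernel

/-- The generating words of the subgroup. -/
def hGens : List (FreeGroup He.Gen) := [He.a, He.c, He.d, He.e, He.f, (He.a * He.b) ^ 2, (He.b * He.c * He.d * He.e) ^ 7]

/-- The subgroup generated by the words `hGens`. -/
def hSub : Subgroup He :=
  (Subgroup.closure {x | x ∈ hGens}).map
    (PresentedGroup.mk (coxRelators He.edges ∪ {r | r ∈ He.extra}))

/-- The generators of `He` by number. -/
abbrev gen : ℕ → He := genFun gens He.edges He.extra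

theorem exists_table : ∃ e : Fin HeC2058.cert.N ≃ He ⧸ hSub,
    (∀ i : Fin HeC2058.cert.N, (i : ℕ) = 0 → e i = QuotientGroup.mk 1) ∧
    ∀ g (hgm : g < HeC2058.cert.m) (i : Fin HeC2058.cert.N),
      gen g • e i = e ⟨HeC2058.cert.actOf i g,
        CosetCert.actOf_lt HeC2058.cert_edgesOK HeC2058.cert_nodesOK i.2 hgm⟩ := by
  have h1 : (HeC2058.cert.words.drop HeC2058.cert.nR).take hGens.length = hGens.map (letters gens) := by
    decide +kernel
  have h2 : relsOK gens He.edges He.extra (HeC2058.cert.words.take HeC2058.cert.nR) = true := by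
    decide +kernel
  have h3 : rotOK gens He.edges He.extra (HeC2058.deriv.words.take HeC2058.deriv.nR) = true := by
    decide +kernel
  have h4 : HeC2058.deriv.words.drop HeC2058.deriv.nR = hGens.map (letters gens) := by decide +kernel
  have h5 : (HeC2058.cert.words.drop HeC2058.cert.nR).drop hGens.length =
      HeC2058.deriv.loops.map Prod.fst := by decide +kernel
  exact indexCert gens_all gens_ok rfl HeC2058.cert_edgesOK HeC2058.cert_nodesOK
    HeC2058.cert_wordsOK HeC2058.cert_subOK h2 gens_nodup hGens hSub rfl h1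
    (deriv_more gens_all gens_ok HeC2058.deriv_factsOK HeC2058.deriv_loopsOK hGens hSub rfl h3 h4 h5)

theorem hSub_index : hSub.index = 2058 := by
  obtain ⟨e, -, -⟩ := exists_table
  rw [card_quotient_of_equiv e]; rfl

theorem hSub_eq_closure :
    hSub = Subgroup.closure {x | ∃ k ∈ ([[0], [2], [3], [4], [5], [1, 0, 1, 0], [4, 3, 2, 1, 4, 3, 2, 1, 4, 3, 2, 1, 4, 3, 2, 1, 4, 3, 2, 1, 4, 3, 2, 1, 4, 3, 2, 1]] : List (List ℕ)), x = wval gen k} := by
  rw [hSub, map_closure_eq_wval gens_all gens_ok,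
    show hGens.map (letters gens) = [[0], [2], [3], [4], [5], [1, 0, 1, 0], [4, 3, 2, 1, 4, 3, 2, 1, 4, 3, 2, 1, 4, 3, 2, 1, 4, 3, 2, 1, 4, 3, 2, 1, 4, 3, 2, 1]] by decide +kernel]

theorem suborbits : ∃ q₁ q₂ q₃ q₄ : He ⧸ hSub,
    MulAction.orbit hSub q₁ ≠ MulAction.orbit hSub q₂ ∧
    (MulAction.orbit hSub q₁).ncard = 136 ∧
    (MulAction.orbit hSub q₂).ncard = 136 ∧
    (MulAction.orbit hSub q₃).ncard = 425 ∧
    (MulAction.orbit hSub q₄).ncard = 1360 := by
  obtain ⟨e, -, he⟩ := exists_table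
  refine ⟨e ⟨46, by decide +kernel⟩, e ⟨65, by decide +kernel⟩, e ⟨2, by decide +kernel⟩, e ⟨1, by decide +kernel⟩, ?_, ?_, ?_, ?_, ?_⟩
  · intro h
    rw [CosetCert.orbit_eq_image HeC2058.cert_edgesOK HeC2058.cert_nodesOK e he hSub_eq_closure
        _ HeC2058.orbit2_ok,
      CosetCert.orbit_eq_image HeC2058.cert_edgesOK HeC2058.cert_nodesOK e he hSub_eq_closure
        _ HeC2058.orbit3_ok] at h
    have h' := (Set.ext_iff.mp h (e ⟨46, by decide +kernel⟩)).mp ⟨_, (by decide +kernel), rfl⟩
    obtain ⟨k, hk, hke⟩ := h'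
    rw [e.injective hke] at hk
    revert hk
    decide +kernel
  · rw [CosetCert.orbit_ncard HeC2058.cert_edgesOK HeC2058.cert_nodesOK e he hSub_eq_closure
      _ HeC2058.orbit2_ok (by decide +kernel)]
    exact HeC2058.orbit2_count
  · rw [CosetCert.orbit_ncard HeC2058.cert_edgesOK HeC2058.cert_nodesOK e he hSub_eq_closure
      _ HeC2058.orbit3_ok (by decide +kernel)]
    exact HeC2058.orbit3_count
  · rw [CosetCert.orbit_ncard HeC2058.cert_edgesOK HeC2058.cert_nodesOK e he hSub_eq_closure
      _ HeC2058.orbit1_ok (by decide +kernel)]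
    exact HeC2058.orbit1_count
  · rw [CosetCert.orbit_ncard HeC2058.cert_edgesOK HeC2058.cert_nodesOK e he hSub_eq_closure
      _ HeC2058.orbit0_ok (by decide +kernel)]
    exact HeC2058.orbit0_count

end Cfsg.Agent.Presented.HeIndex
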