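import Cfsg.Agent.Lib.Presented.HeIndex
import Cfsg.Agent.Lib.Presented.Tower
import Cfsg.Agent.Lib.Presented.Data.HeTZ
import Cfsg.Agent.Lib.Presented.Data.HeT120
import Cfsg.Agent.Lib.Presented.Data.HeT672
import Cfsg.Agent.Lib.Presented.Data.HeT49980Checks
import Cfsg.Agent.Lib.Presented.Data.HeChain

/-!
# The order and simplicity of the presented Held group
-/

set_option autoImplicit false

namespace Cfsg.Agent.Presented.HeOrder

open Cfsg.Spor Cfsg.Agent.Presented HeIndex

theorem zWord_one : ∀ w ∈ HeTZ.deriv.loops.map Prod.fst, wval gen w = 1 := by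
  have hR : stepRelsOK gens He.edges He.extra [0, 1, 2, 3, 4] []
      (HeTZ.deriv.words.take HeTZ.deriv.nR) = true := by decide +kernel
  have h0 : HeTZ.deriv.words.drop HeTZ.deriv.nR = [] := by decide +kernel
  have hlt : ∀ w ∈ HeTZ.deriv.loops.map Prod.fst,
      w.map (fun g => [0, 1, 2, 3, 4].getD g 0) = w := by decide +kernel
  intro w hw
  have h := step_more gens_all gens_ok (π := [0, 1, 2, 3, 4]) (ex := []) (by simp) HeTZ.deriv_factsOK
    HeTZ.deriv_loopsOK (H := wordSub gen []) hR (Kprev := []) (by rw [h0]; simp) le_rfl rfl w hw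
  rw [wval_stepGen, hlt w hw] at h
  rwa [show wordSub gen [] = ⊥ by simp [wordSub], Subgroup.mem_bot] at h

theorem bound120 : OrderLE (wordSub gen [[0], [2], [3], [4]]) 120 := by
  have hR : stepRelsOK gens He.edges He.extra [0, 2, 3, 4] (HeTZ.deriv.loops.map Prod.fst)
      (HeT120.cert.words.take HeT120.cert.nR) = true := by decide +kernel
  have h1 : (HeT120.cert.words.drop HeT120.cert.nR).drop 0 = [] := by decide +kernel
  exact step_le gens_all gens_ok (π := [0, 2, 3, 4]) zWord_one HeT120.cert_edgesOK
    HeT120.cert_nodesOK rfl hR 0 (Kprev := []) (by simp) (orderLE_nil gen) (by rw [h1]; simp)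

theorem bound80640 : OrderLE (wordSub gen [[0], [2], [3], [4], [5], [6]]) (672 * 120) := by
  have hR : stepRelsOK gens He.edges He.extra [0, 2, 3, 4, 5, 6] (HeTZ.deriv.loops.map Prod.fst)
      (HeT672.cert.words.take HeT672.cert.nR) = true := by decide +kernel
  have hK : (((HeT672.cert.words.drop HeT672.cert.nR).take 4).map
      (List.map fun g => [0, 2, 3, 4, 5, 6].getD g 0)) = [[0], [2], [3], [4]] := by decide +kernel
  have h1 : (HeT672.cert.words.drop HeT672.cert.nR).drop 4 = [] := by decide +kernel
  exact step_le gens_all gens_ok (π := [0, 2, 3, 4, 5, 6]) zWord_one HeT672.cert_edgesOK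
    HeT672.cert_nodesOK rfl hR 4 (Kprev := [[0], [2], [3], [4]]) (by rw [hK]; simp) bound120
    (by rw [h1]; simp)

theorem boundHe : OrderLE (wordSub gen [[0], [1], [2], [3], [4], [5], [6]]) (49980 * (672 * 120)) := by
  have hR : stepRelsOK gens He.edges He.extra [0, 1, 2, 3, 4, 5, 6] []
      (HeT49980.cert.words.take HeT49980.cert.nR) = true := by decide +kernel
  have hK : (((HeT49980.cert.words.drop HeT49980.cert.nR).take 6).map
      (List.map fun g => [0, 1, 2, 3, 4, 5, 6].getD g 0)) = [[0], [2], [3], [4], [5], [6]] := by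
    decide +kernel
  have h1 : (HeT49980.cert.words.drop HeT49980.cert.nR).drop 6 = [] := by decide +kernel
  exact step_le gens_all gens_ok (π := [0, 1, 2, 3, 4, 5, 6]) (ex := []) (by simp) HeT49980.cert_edgesOK
    HeT49980.cert_nodesOK rfl hR 6 (Kprev := [[0], [2], [3], [4], [5], [6]]) (by rw [hK]; simp)
    bound80640 (by rw [h1]; simp)

theorem closure_gens : Subgroup.closure (gen '' {g | g < 7}) = ⊤ := by
  rw [eq_top_iff, ← PresentedGroup.closure_range_of, Subgroup.closure_le]
  rintro _ ⟨x, rfl⟩
  exact Subgroup.subset_closure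
    ⟨gens.idxOf x, List.idxOf_lt_length_of_mem (gens_all x), genFun_idxOf gens_all x⟩

theorem wordSub_top : wordSub gen [[0], [1], [2], [3], [4], [5], [6]] = ⊤ := by
  rw [eq_top_iff, ← closure_gens, Subgroup.closure_le]
  rintro _ ⟨g, hg, rfl⟩
  change g < 7 at hg
  refine Subgroup.subset_closure ⟨[g], ?_, by simp [wval]⟩
  interval_cases g <;> decide

theorem card_le : Finite He ∧ Nat.card He ≤ 4030387200 := by
  have h := boundHe
  rw [wordSub_top] at h
  haveI := h.1
  have hf : Finite He := Finite.of_equiv _ Subgroup.topEquiv.toEquiv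
  refine ⟨hf, ?_⟩
  rw [← Subgroup.card_top]
  exact h.2.trans (le_of_eq (by decide +kernel))

theorem chain_prod : (HeChain.chain.map Level.size).prod = 4030387200 := by decide +kernel

theorem card_he : Nat.card He = 4030387200 := by
  obtain ⟨e, -, he⟩ := exists_table
  haveI := card_le.1
  refine le_antisymm card_le.2 ?_
  have h := chain_card_le HeC2058.cert_edgesOK HeC2058.cert_nodesOK e he (by decide +kernel)
    HeChain.chain [] HeChain.chain_ok
  rw [chain_prod] at h
  refine le_trans ?_ (h.trans ?_)
  · exact Nat.le_mul_of_pos_right _ Nat.card_pos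
  · exact Nat.card_le_card_of_injective _ Subtype.val_injective

theorem card_hSub : Nat.card hSub = 1958400 := by
  have h := hSub.index_mul_card
  rw [hSub_index, card_he] at h
  omega

theorem simple_he : IsSimpleGroup He := by
  obtain ⟨e, he0, he⟩ := exists_table
  haveI := card_le.1
  exact isSimpleGroup_of_table HeC2058.cert_edgesOK HeC2058.cert_nodesOK e he0 he closure_gens
    (by decide +kernel) HeChain.chain_ok (by rw [chain_prod, card_he]) (by decide +kernel)
    hSub_eq_closure (ts := HeChain.suborbs) (by decide +kernel) (q := 7)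
    (by rw [card_hSub]; decide +kernel) HeChain.factors (by decide +kernel) (by decide +kernel)
    (by decide +kernel)

end Cfsg.Agent.Presented.HeOrder
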