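import Cfsg.Agent.Lib.Presented.Fi23Order
import Cfsg.Agent.Lib.Presented.FiOrder
import Cfsg.Prelude.Def_SporadicB

/-!
# The double cover of Fi22 in the presented group Fi23
-/

set_option autoImplicit false

namespace Cfsg.Agent.Presented.Fi23Cover

open Cfsg.Spor Cfsg.Agent.Presented Fi23Index Fi23Order

/-- Two words with the same walks from all base points are equal in `Fi23`. -/
theorem eq_of_same (u v : List ℕ)
    (h : sameOK Fi23C31671.cert (Fi23Chain.chain.map Level.pt) u v = true) : wval gen u = wval gen v := by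
  obtain ⟨e, -, he⟩ := exists_table
  haveI := card_le.1
  simp only [sameOK, Bool.and_eq_true, List.all_eq_true, Nat.blt_eq] at h
  obtain ⟨⟨hu, hv⟩, hp⟩ := h
  refine faith e he (by rw [chain_prod, card_fi23]) _ _ fun p hpm hp' => ?_
  rw [CosetCert.smul_path Fi23C31671.cert_edgesOK Fi23C31671.cert_nodesOK e he u hu ⟨p, hp'⟩,
    CosetCert.smul_path Fi23C31671.cert_edgesOK Fi23C31671.cert_nodesOK e he v hv ⟨p, hp'⟩]
  exact congrArg e (Fin.ext (Nat.beq_eq.mp (hp p hpm)))

/-- The numbers of the generators of the double cover. -/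
def idx : List ℕ := [0, 1, 2, 3, 4, 5, 6, 8, 9]

theorem gen_mem {k : ℕ} (hk : k ∈ idx) : gen k ∈ hSub := by
  rw [hSub_eq_closure]
  refine Subgroup.subset_closure ⟨[k], ?_, by simp [wval]⟩
  simp only [idx, List.mem_cons, List.not_mem_nil, or_false] at hk
  simp only [List.mem_cons, List.cons.injEq, and_true, List.not_mem_nil, or_false]
  exact hk

open Classical in
/-- The generators, as elements of the double cover. -/
noncomputable def sH (k : ℕ) : hSub := if h : k ∈ idx then ⟨gen k, gen_mem h⟩ else 1

theorem coe_sH {k : ℕ} (hk : k ∈ idx) : (sH k : Fi23) = gen k := by rw [sH, dif_pos hk]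

theorem coe_wval {w : List ℕ} (hw : ∀ k ∈ w, k ∈ idx) : ((wval sH w : hSub) : Fi23) = wval gen w := by
  induction w with
  | nil => rfl
  | cons k w ih =>
    rw [wval, wval, Subgroup.coe_mul, coe_sH (hw k List.mem_cons_self),
      ih fun x hx => hw x (List.mem_cons_of_mem _ hx)]

theorem map_wval {G K : Type*} [Group G] [Group K] (f : G →* K) (s : ℕ → G) (w : List ℕ) :
    f (wval s w) = wval (fun i => f (s i)) w := by
  induction w with
  | nil => exact map_one f
  | cons g w ih => simp [wval, ih]

/-- Checked equality of words inside the double cover. -/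
noncomputable def sameH (u v : List ℕ) : Bool :=
  (u.all fun k => idx.contains k) && (v.all fun k => idx.contains k) &&
    sameOK Fi23C31671.cert (Fi23Chain.chain.map Level.pt) u v

theorem eq_of_sameH {u v : List ℕ} (h : sameH u v = true) : wval sH u = wval sH v := by
  simp only [sameH, Bool.and_eq_true, List.all_eq_true, List.contains_eq_mem, decide_eq_true_eq] at h
  apply Subtype.ext
  rw [coe_wval h.1.1, coe_wval h.1.2]
  exact eq_of_same u v h.2

theorem closure_sH : Subgroup.closure (sH '' {k | k ∈ idx}) = ⊤ := by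
  apply Subgroup.map_injective hSub.subtype_injective
  rw [MonoidHom.map_closure, ← MonoidHom.range_eq_map, Subgroup.range_subtype]
  conv_rhs => rw [hSub_eq_closure]
  congr 1
  ext x
  constructor
  · rintro ⟨_, ⟨k, hk, rfl⟩, rfl⟩
    refine ⟨[k], ?_, by simp [wval, coe_sH hk]⟩
    simp only [Set.mem_ofPred_eq, idx, List.mem_cons, List.not_mem_nil, or_false] at hk
    simp only [List.mem_cons, List.cons.injEq, and_true, List.not_mem_nil, or_false]
    exact hk
  · rintro ⟨w, hw, rfl⟩
    have : ∃ k ∈ idx, w = [k] := by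
      simp only [List.mem_cons, List.not_mem_nil, or_false] at hw
      rcases hw with rfl | rfl | rfl | rfl | rfl | rfl | rfl | rfl | rfl <;>
        exact ⟨_, by decide, rfl⟩
    obtain ⟨k, hk, rfl⟩ := this
    exact ⟨sH k, ⟨k, hk, rfl⟩, by simp [wval, coe_sH hk]⟩

/-- The central involution. -/
noncomputable def z : hSub := wval sH Fi23Chain.zWord

theorem z_central (x : hSub) : x * z = z * x := by
  have hx : x ∈ Subgroup.closure (sH '' {k | k ∈ idx}) := by rw [closure_sH]; trivial
  induction hx using Subgroup.closure_induction with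
  | mem y hy =>
    obtain ⟨k, hk, rfl⟩ := hy
    have hall : (idx.all fun k => sameH (Fi23Chain.zWord ++ [k]) (k :: Fi23Chain.zWord)) = true := by
      decide +kernel
    have h := eq_of_sameH (List.all_eq_true.mp hall k hk)
    rw [wval_append] at h
    simpa [wval, z] using h
  | one => rw [one_mul, mul_one]
  | mul a b _ _ ha hb => rw [mul_assoc, hb, ← mul_assoc, ha, mul_assoc]
  | inv a _ ha => rw [inv_mul_eq_iff_eq_mul, ← mul_assoc, ha, mul_inv_cancel_right]

theorem z_sq : z * z = 1 := by
  rw [z, ← wval_append]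
  exact eq_of_sameH (u := Fi23Chain.zWord ++ Fi23Chain.zWord) (v := []) (by decide +kernel)

theorem z_ne : z ≠ 1 := by
  intro h
  obtain ⟨e, -, he⟩ := exists_table
  have hz : ∀ k ∈ Fi23Chain.zWord, k ∈ idx := by decide +kernel
  have hlt : ∀ g ∈ Fi23Chain.zWord, g < Fi23C31671.cert.m := by decide +kernel
  have h1 : wval gen Fi23Chain.zWord = 1 := by
    rw [← coe_wval hz, show wval sH Fi23Chain.zWord = 1 from h]; rfl
  have hmove : ((Fi23Chain.chain.map Level.pt).any fun p => Nat.blt p Fi23C31671.cert.N &&
      !(Nat.beq (Fi23C31671.cert.path Fi23Chain.zWord p) p)) = true := by decide +kernel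
  simp only [List.any_eq_true, Bool.and_eq_true, Nat.blt_eq, Bool.not_eq_true'] at hmove
  obtain ⟨p, -, hp, hne⟩ := hmove
  have h2 := CosetCert.smul_path Fi23C31671.cert_edgesOK Fi23C31671.cert_nodesOK e he _ hlt ⟨p, hp⟩
  rw [h1, one_smul] at h2
  have h3 := congrArg Fin.val (e.injective h2)
  simp only at h3
  rw [← h3] at hne
  simp at hne

theorem z_normal : (Subgroup.zpowers z).Normal := by
  constructor
  intro a ha x
  obtain ⟨n, rfl⟩ := Subgroup.mem_zpowers_iff.mp ha
  have hc : Commute x (z ^ n) := (show Commute x z from z_central x).zpow_right n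
  rw [hc.eq, mul_inv_cancel_right]
  exact ⟨n, rfl⟩

theorem card_zpowers : Nat.card (Subgroup.zpowers z) = 2 := by
  rw [Nat.card_zpowers]
  exact orderOf_eq_prime (by rw [pow_two]; exact z_sq) z_ne

attribute [local instance] z_normal

/-- Generators of `Fi22` in the quotient of the cover by its centre. -/
noncomputable def sQ (k : ℕ) : hSub ⧸ Subgroup.zpowers z := QuotientGroup.mk (sH (idx.getD k 0))

theorem sH_sq (k : ℕ) : sH k * sH k = 1 := by
  by_cases h : k ∈ idx
  · apply Subtype.ext
    rw [Subgroup.coe_mul, coe_sH h]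
    exact genFun_mul_self gens_all gens_ok k
  · rw [sH, dif_neg h, one_mul]

theorem fi22_rels : ∀ r ∈ coxRelators Fi22.edges ∪ {r | r ∈ Fi22.extra},
    FreeGroup.lift (fun x => sQ (FiIndex.gens.idxOf x)) r = 1 := by
  intro r hr
  rw [lift_eq_wval _ (fun x => by
    rw [sQ, ← QuotientGroup.mk_mul, sH_sq]; rfl) FiIndex.gens_all sQ (fun _ => rfl)]
  have hall : (((relList FiIndex.gens Fi22.edges Fi22.extra).map (letters FiIndex.gens)).all fun w =>
      sameH (w.map fun k => idx.getD k 0) [] || sameH (w.map fun k => idx.getD k 0) Fi23Chain.zWord) =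
        true := by decide +kernel
  have h := List.all_eq_true.mp hall _ (List.mem_map.mpr ⟨r, mem_relList FiIndex.gens_all hr, rfl⟩)
  rw [show wval sQ (letters FiIndex.gens r) =
    QuotientGroup.mk' (Subgroup.zpowers z) (wval sH ((letters FiIndex.gens r).map fun k => idx.getD k 0)) by
      rw [map_wval, ← wval_comp]; rfl]
  rw [Bool.or_eq_true] at h
  rw [QuotientGroup.mk'_apply, QuotientGroup.eq_one_iff]
  rcases h with h | h
  · rw [eq_of_sameH h]; exact one_mem _
  · rw [eq_of_sameH h]; exact Subgroup.mem_zpowers z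

/-- The map from `Fi22` onto the quotient of the cover. -/
noncomputable def phi : Fi22 →* hSub ⧸ Subgroup.zpowers z := PresentedGroup.toGroup fi22_rels

theorem phi_surjective : Function.Surjective phi := by
  rw [← MonoidHom.range_eq_top, eq_top_iff]
  rintro y -
  induction y using QuotientGroup.induction_on with
  | H a =>
    have ha : a ∈ Subgroup.closure (sH '' {k | k ∈ idx}) := by rw [closure_sH]; trivial
    induction ha using Subgroup.closure_induction with
    | mem b hb =>
      obtain ⟨k, hk, rfl⟩ := hb
      refine ⟨FiIndex.gen (idx.idxOf k), ?_⟩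
      have hlt : idx.idxOf k < idx.length := List.idxOf_lt_length_of_mem hk
      have hlt' : idx.idxOf k < FiIndex.gens.length := hlt
      rw [FiIndex.gen, genFun, dif_pos hlt', phi, PresentedGroup.toGroup.of, sQ,
        FiIndex.gens_nodup.idxOf_getElem _ hlt', List.getD_eq_getElem _ _ hlt, List.getElem_idxOf]
    | one => exact one_mem _
    | mul a b _ _ ha hb => exact mul_mem ha hb
    | inv a _ ha => exact inv_mem ha

theorem phi_bijective : Function.Bijective phi := by
  haveI := card_le.1
  haveI := FiOrder.card_le.1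
  refine (Function.Surjective.bijective_of_nat_card_le phi_surjective ?_)
  have h := (Subgroup.zpowers z).card_eq_card_quotient_mul_card_subgroup
  rw [card_zpowers, card_hSub] at h
  rw [FiOrder.card_fi22]
  omega

theorem center_fi22 : Subgroup.center Fi22 = ⊥ := by
  haveI := FiOrder.simple_fi22
  rcases (inferInstance : (Subgroup.center Fi22).Normal).eq_bot_or_eq_top with h | h
  · exact h
  · exfalso
    haveI := FiOrder.card_le.1
    letI : CommGroup Fi22 := { (inferInstance : Group Fi22) with
      mul_comm := fun a b => by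
        have ha : b ∈ Subgroup.center Fi22 := by rw [h]; trivial
        exact Subgroup.mem_center_iff.mp ha a }
    have hp : (Nat.card Fi22).Prime := IsSimpleGroup.prime_card
    rw [FiOrder.card_fi22] at hp
    rcases hp.eq_one_or_self_of_dvd 2 (by norm_num) with h2 | h2 <;> omega

theorem center_eq : Subgroup.center hSub = Subgroup.zpowers z := by
  apply le_antisymm
  · intro x hx
    obtain ⟨w, hw⟩ := phi_surjective (QuotientGroup.mk x)
    have hwc : w ∈ Subgroup.center Fi22 := by
      rw [Subgroup.mem_center_iff]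
      intro v
      apply phi_bijective.1
      rw [map_mul, map_mul, hw]
      obtain ⟨y, hy⟩ := QuotientGroup.mk_surjective (phi v)
      rw [← hy, ← QuotientGroup.mk_mul, ← QuotientGroup.mk_mul, Subgroup.mem_center_iff.mp hx y]
    rw [center_fi22, Subgroup.mem_bot] at hwc
    rw [hwc, map_one] at hw
    exact (QuotientGroup.eq_one_iff x).mp hw.symm
  · rw [Subgroup.zpowers_le, Subgroup.mem_center_iff]
    exact z_central

theorem nonsplit (L : Subgroup hSub) : ¬ (Subgroup.center hSub).IsComplement' L := by
  intro hL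
  have hidx : L.index = 2 := by rw [hL.index_eq_card, center_eq, card_zpowers]
  have h3 : ∀ a b : ℕ, sameH [a, b, a, b, a, b] [] = true → (sH a ∈ L ↔ sH b ∈ L) := by
    intro a b h
    have he := eq_of_sameH h
    simp only [wval, one_mul] at he
    have h1 : sH b * sH a * (sH b * sH a) * (sH b * sH a) ∈ L := by
      rw [← mul_assoc, ← mul_assoc, he]; exact one_mem _
    have h2 : sH b * sH a * (sH b * sH a) ∈ L := Subgroup.mul_self_mem_of_index_two hidx _
    have h4 := (Subgroup.mul_mem_cancel_left L h2).mp h1
    exact ((Subgroup.mul_mem_iff_of_index_two hidx).mp h4).symm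
  have e01 := h3 0 1 (by decide +kernel)
  have e12 := h3 1 2 (by decide +kernel)
  have e23 := h3 2 3 (by decide +kernel)
  have e34 := h3 3 4 (by decide +kernel)
  have e45 := h3 4 5 (by decide +kernel)
  have e56 := h3 5 6 (by decide +kernel)
  have e38 := h3 3 8 (by decide +kernel)
  have e89 := h3 8 9 (by decide +kernel)
  have hiff : ∀ k ∈ idx, (sH k ∈ L ↔ sH 0 ∈ L) := by
    intro k hk
    simp only [idx, List.mem_cons, List.not_mem_nil, or_false] at hk
    have f3 : sH 3 ∈ L ↔ sH 0 ∈ L := ((e01.trans e12).trans e23).symm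
    rcases hk with rfl | rfl | rfl | rfl | rfl | rfl | rfl | rfl | rfl
    · exact Iff.rfl
    · exact e01.symm
    · exact (e01.trans e12).symm
    · exact f3
    · exact e34.symm.trans f3
    · exact (e34.trans e45).symm.trans f3
    · exact ((e34.trans e45).trans e56).symm.trans f3
    · exact e38.symm.trans f3
    · exact (e38.trans e89).symm.trans f3
  have hrel : wval sH (List.replicate 9 [0, 1, 2, 3, 4, 5, 8]).flatten = 1 :=
    eq_of_sameH (v := []) (by decide +kernel)
  have hmem0 : sH 0 ∈ L := by
    by_contra h0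
    rw [wval_replicate] at hrel
    have hm : wval sH [0, 1, 2, 3, 4, 5, 8] ∉ L := by
      simp only [wval, one_mul, Subgroup.mul_mem_iff_of_index_two hidx,
        hiff 1 (by decide), hiff 2 (by decide), hiff 3 (by decide), hiff 4 (by decide),
        hiff 5 (by decide), hiff 8 (by decide)]
      tauto
    refine hm ?_
    have h8 : wval sH [0, 1, 2, 3, 4, 5, 8] ^ (2 * 4) ∈ L := by
      rw [pow_mul]; exact pow_mem (by rw [pow_two]; exact Subgroup.mul_self_mem_of_index_two hidx _) 4
    have h9 : wval sH [0, 1, 2, 3, 4, 5, 8] ^ 9 ∈ L := by rw [hrel]; exact one_mem _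
    rw [pow_succ] at h9
    exact (Subgroup.mul_mem_cancel_left L h8).mp h9
  have htop : L = ⊤ := by
    rw [eq_top_iff, ← closure_sH, Subgroup.closure_le]
    rintro _ ⟨k, hk, rfl⟩
    exact (hiff k hk).mpr hmem0
  rw [htop, Subgroup.index_top] at hidx
  omega

theorem double_cover : IsNonsplitDoubleCover hSub Fi22 := by
  refine ⟨by rw [center_eq, card_zpowers], ⟨?_⟩, nonsplit⟩
  exact (QuotientGroup.quotientMulEquivOfEq center_eq).trans (MulEquiv.ofBijective phi phi_bijective).symm

end Cfsg.Agent.Presented.Fi23Cover
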