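import Cfsg.Agent.Lib.Presented.Data.FiRigidConj0
import Cfsg.Agent.Lib.Presented.Data.FiRigidCent0
import Cfsg.Agent.Lib.Presented.Data.FiRigidConj1
import Cfsg.Agent.Lib.Presented.Data.FiRigidCent1
import Cfsg.Agent.Lib.Presented.Data.FiRigidConj2
import Cfsg.Agent.Lib.Presented.Data.FiRigidCent2
import Cfsg.Agent.Lib.Presented.Data.FiRigidConj3
import Cfsg.Agent.Lib.Presented.Data.FiRigidCent3
import Cfsg.Agent.Lib.Presented.Data.FiRigidConj4
import Cfsg.Agent.Lib.Presented.Data.FiRigidCent4
import Cfsg.Agent.Lib.Presented.Data.FiRigidConj5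
import Cfsg.Agent.Lib.Presented.Data.FiRigidCent5
import Cfsg.Agent.Lib.Presented.Data.FiRigidConj6
import Cfsg.Agent.Lib.Presented.Data.FiRigidCent6
import Cfsg.Agent.Lib.Presented.Data.FiRigidConj7
import Cfsg.Agent.Lib.Presented.Data.FiRigidCent7
import Cfsg.Agent.Lib.Presented.Data.FiRigidConj8
import Cfsg.Agent.Lib.Presented.Data.FiRigidCent8
import Cfsg.Agent.Lib.Presented.Data.FiRigidConj9
import Cfsg.Agent.Lib.Presented.Data.FiRigidCent9
import Cfsg.Agent.Lib.Presented.Data.FiRigidConj10
import Cfsg.Agent.Lib.Presented.Data.FiRigidCent10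
import Cfsg.Agent.Lib.Presented.Data.FiRigidConj11
import Cfsg.Agent.Lib.Presented.Data.FiRigidCent11
import Cfsg.Agent.Lib.Presented.Data.FiRigidConj12
import Cfsg.Agent.Lib.Presented.Data.FiRigidCent12
import Cfsg.Agent.Lib.Presented.Data.FiRigidConj13
import Cfsg.Agent.Lib.Presented.Data.FiRigidCent13
import Cfsg.Agent.Lib.Presented.Data.FiRigidConj14
import Cfsg.Agent.Lib.Presented.Data.FiRigidCent14
import Cfsg.Agent.Lib.Presented.Data.FiRigidConj15
import Cfsg.Agent.Lib.Presented.Data.FiRigidCent15
import Cfsg.Agent.Lib.Presented.FiOrder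
import Cfsg.Agent.Lib.Presented.Data.FiRigidXChecks
import Cfsg.Agent.Lib.Presented.Data.FiRigidYChecks
import Cfsg.Agent.Lib.Presented.Data.FiRigidSol0
import Cfsg.Agent.Lib.Presented.Data.FiRigidSol1
import Cfsg.Agent.Lib.Presented.Data.FiRigidSol2
import Cfsg.Agent.Lib.Presented.Data.FiRigidSol3
import Cfsg.Agent.Lib.Presented.Data.FiRigidSol4
import Cfsg.Agent.Lib.Presented.Data.FiRigidSol5
import Cfsg.Agent.Lib.Presented.Data.FiRigidSol6
import Cfsg.Agent.Lib.Presented.Data.FiRigidSol7
import Cfsg.Agent.Lib.Presented.Data.FiRigidSol8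
import Cfsg.Agent.Lib.Presented.Data.FiRigidSol9
import Cfsg.Agent.Lib.Presented.Data.FiRigidSol10
import Cfsg.Agent.Lib.Presented.Data.FiRigidSol11
import Cfsg.Agent.Lib.Presented.Data.FiRigidCand1_0
import Cfsg.Agent.Lib.Presented.Data.FiRigidCand1_1
import Cfsg.Agent.Lib.Presented.Data.FiRigidCand1_2
import Cfsg.Agent.Lib.Presented.Data.FiRigidCand2_0
import Cfsg.Agent.Lib.Presented.Data.FiRigidCand2_1
import Cfsg.Agent.Lib.Presented.Data.FiRigidCand2_2

/-!
# The outer automorphism group of the presented group Fi22 has order two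
-/

set_option autoImplicit false
set_option maxRecDepth 20000

namespace Cfsg.Agent.Presented.FiRigid

open Cfsg.Spor Cfsg.Agent.Presented FiIndex

theorem bs_lt : ∀ p ∈ data.bs, p < FiC3510.cert.N := by decide +kernel

theorem x_images : imagesOK FiC3510.cert xWord XChain = true := by decide +kernel

theorem y_images : imagesOK FiC3510.cert yWord YChain = true := by decide +kernel

theorem x_base : rbase (XChain.map Prod.fst) = data.bs := by decide +kernel

theorem basic_ok : data.basicOK FiC3510.cert = true := by decide +kernel

theorem words_ok : ((List.range FiC3510.cert.m).all fun g => sameOn FiC3510.cert data.bs [g]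
    (subst [data.x, data.x.reverse, data.t, data.t.reverse, data.y, data.y.reverse]
      (data.words.getD g []))) = true := by
  decide +kernel

theorem imgs_ok : imgsOK FiC3510.cert data.bs gens Fi22.edges Fi22.extra imgs = true := by decide +kernel

theorem image_letters : lettersOK FiC3510.cert dxWord = true := by decide +kernel

theorem image_eq : sameOn FiC3510.cert data.bs (subst imgs xWord) dxWord = true := by decide +kernel

theorem image_ne : isOne FiC3510.cert data.bs dxWord = false := by decide +kernel

theorem out_card : Nat.card (Cfsg.Out Fi22) = 2 := by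
  obtain ⟨e, -, he⟩ := exists_table
  haveI : Finite Fi22 := FiOrder.card_le.1
  haveI := FiOrder.simple_fi22
  have M := model_of_equiv (D := FiC3510.cert) FiC3510.cert_edgesOK FiC3510.cert_nodesOK e he
    (genFun_mul_self gens_all gens_ok)
  have hXc : Nat.card Fi22 ≤ rsize (XChain.map Prod.fst) :=
    le_of_eq (FiOrder.card_fi22.trans XChain_size.symm)
  have hYc : Nat.card Fi22 ≤ rsize (YChain.map Prod.fst) :=
    le_of_eq (FiOrder.card_fi22.trans YChain_size.symm)
  have hB := isBaseFor M XChain_ok hXc
  rw [x_base] at hB
  have hgen : Subgroup.closure (gen '' {g | g < FiC3510.cert.m}) = ⊤ := by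
    rw [eq_top_iff, ← PresentedGroup.closure_range_of, Subgroup.closure_le]
    rintro _ ⟨x, rfl⟩
    exact Subgroup.subset_closure
      ⟨gens.idxOf x, List.idxOf_lt_length_of_mem (gens_all x), genFun_idxOf gens_all x⟩
  have hxl : lettersOK FiC3510.cert xWord = true := by decide +kernel
  have hp : data.p.Prime := by show Nat.Prime 13; norm_num
  have hp2 : ¬ data.p ^ 2 ∣ Nat.card Fi22 := by rw [FiOrder.card_fi22]; decide +kernel
  have hC : ∀ g, g * wval gen data.x = wval gen data.x * g →
      ∃ k, k < data.p ∧ g = wval gen data.x ^ k := by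
    intro g hg
    obtain ⟨k, hk, l, hl, -, rfl⟩ := exists_solution_slices M bs_lt (K := 220) XChain_ok hXc x_images
      hxl (by norm_num) hg
    have hk4 : k < 16 := by
      have : XLev0.2.length = 3510 := by decide +kernel
      change k * 220 < XLev0.2.length at hk
      omega
    have key : ((List.range 13).any fun i => sameOn FiC3510.cert data.bs l (rep i xWord)) = true := by
      interval_cases k
      · exact List.all_eq_true.1 cent0 l hl
      · exact List.all_eq_true.1 cent1 l hl
      · exact List.all_eq_true.1 cent2 l hl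
      · exact List.all_eq_true.1 cent3 l hl
      · exact List.all_eq_true.1 cent4 l hl
      · exact List.all_eq_true.1 cent5 l hl
      · exact List.all_eq_true.1 cent6 l hl
      · exact List.all_eq_true.1 cent7 l hl
      · exact List.all_eq_true.1 cent8 l hl
      · exact List.all_eq_true.1 cent9 l hl
      · exact List.all_eq_true.1 cent10 l hl
      · exact List.all_eq_true.1 cent11 l hl
      · exact List.all_eq_true.1 cent12 l hl
      · exact List.all_eq_true.1 cent13 l hl
      · exact List.all_eq_true.1 cent14 l hl
      · exact List.all_eq_true.1 cent15 l hl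
    obtain ⟨i, hi, h⟩ := List.any_eq_true.1 key
    exact ⟨i, List.mem_range.1 hi, (eq_of_sameOn M hB h).trans (wval_rep _ _)⟩
  have hcands : ∀ g, g * wval gen data.y = wval gen data.y ^ data.j * g →
      ∃ l ∈ data.cands, lettersOK FiC3510.cert l = true ∧ wval gen l = g := by
    intro g hg
    rw [← wval_rep] at hg
    obtain ⟨k, hk, l, hl, hl', hv⟩ := exists_solution_slices M bs_lt (K := 54) YChain_ok hYc y_images
      (by decide +kernel) (by norm_num) hg
    have hk' : k < 65 := by
      have : YLev0.2.length = 3510 := by decide +kernel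
      change k * 54 < YLev0.2.length at hk
      omega
    refine ⟨l, ?_, hl', hv⟩
    show l ∈ candParts.flatten
    change l ∈ solutions FiC3510.cert data.bs (slice YChain (k * 54) 54) yWord (rep 1 yWord) at hl
    interval_cases k
    · rw [sol0_ok] at hl; simp [candParts, hl]
    · rw [sol1_ok] at hl; simp [candParts, hl]
    · rw [sol2_ok] at hl; simp [candParts, hl]
    · rw [sol3_ok] at hl; simp [candParts, hl]
    · rw [sol4_ok] at hl; simp [candParts, hl]
    · rw [sol5_ok] at hl; simp [candParts, hl]
    · rw [sol6_ok] at hl; simp [candParts, hl]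
    · rw [sol7_ok] at hl; simp [candParts, hl]
    · rw [sol8_ok] at hl; simp [candParts, hl]
    · rw [sol9_ok] at hl; simp [candParts, hl]
    · rw [sol10_ok] at hl; simp [candParts, hl]
    · rw [sol11_ok] at hl; simp [candParts, hl]
    · rw [sol12_ok] at hl; simp [candParts, hl]
    · rw [sol13_ok] at hl; simp [candParts, hl]
    · rw [sol14_ok] at hl; simp [candParts, hl]
    · rw [sol15_ok] at hl; simp [candParts, hl]
    · rw [sol16_ok] at hl; simp [candParts, hl]
    · rw [sol17_ok] at hl; simp [candParts, hl]
    · rw [sol18_ok] at hl; simp [candParts, hl]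
    · rw [sol19_ok] at hl; simp [candParts, hl]
    · rw [sol20_ok] at hl; simp [candParts, hl]
    · rw [sol21_ok] at hl; simp [candParts, hl]
    · rw [sol22_ok] at hl; simp [candParts, hl]
    · rw [sol23_ok] at hl; simp [candParts, hl]
    · rw [sol24_ok] at hl; simp [candParts, hl]
    · rw [sol25_ok] at hl; simp [candParts, hl]
    · rw [sol26_ok] at hl; simp [candParts, hl]
    · rw [sol27_ok] at hl; simp [candParts, hl]
    · rw [sol28_ok] at hl; simp [candParts, hl]
    · rw [sol29_ok] at hl; simp [candParts, hl]
    · rw [sol30_ok] at hl; simp [candParts, hl]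
    · rw [sol31_ok] at hl; simp [candParts, hl]
    · rw [sol32_ok] at hl; simp [candParts, hl]
    · rw [sol33_ok] at hl; simp [candParts, hl]
    · rw [sol34_ok] at hl; simp [candParts, hl]
    · rw [sol35_ok] at hl; simp [candParts, hl]
    · rw [sol36_ok] at hl; simp [candParts, hl]
    · rw [sol37_ok] at hl; simp [candParts, hl]
    · rw [sol38_ok] at hl; simp [candParts, hl]
    · rw [sol39_ok] at hl; simp [candParts, hl]
    · rw [sol40_ok] at hl; simp [candParts, hl]
    · rw [sol41_ok] at hl; simp [candParts, hl]
    · rw [sol42_ok] at hl; simp [candParts, hl]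
    · rw [sol43_ok] at hl; simp [candParts, hl]
    · rw [sol44_ok] at hl; simp [candParts, hl]
    · rw [sol45_ok] at hl; simp [candParts, hl]
    · rw [sol46_ok] at hl; simp [candParts, hl]
    · rw [sol47_ok] at hl; simp [candParts, hl]
    · rw [sol48_ok] at hl; simp [candParts, hl]
    · rw [sol49_ok] at hl; simp [candParts, hl]
    · rw [sol50_ok] at hl; simp [candParts, hl]
    · rw [sol51_ok] at hl; simp [candParts, hl]
    · rw [sol52_ok] at hl; simp [candParts, hl]
    · rw [sol53_ok] at hl; simp [candParts, hl]
    · rw [sol54_ok] at hl; simp [candParts, hl]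
    · rw [sol55_ok] at hl; simp [candParts, hl]
    · rw [sol56_ok] at hl; simp [candParts, hl]
    · rw [sol57_ok] at hl; simp [candParts, hl]
    · rw [sol58_ok] at hl; simp [candParts, hl]
    · rw [sol59_ok] at hl; simp [candParts, hl]
    · rw [sol60_ok] at hl; simp [candParts, hl]
    · rw [sol61_ok] at hl; simp [candParts, hl]
    · rw [sol62_ok] at hl; simp [candParts, hl]
    · rw [sol63_ok] at hl; simp [candParts, hl]
    · rw [sol64_ok] at hl; simp [candParts, hl]
  have hok : ∀ a ∈ data.R, ∀ l ∈ data.cands, data.candOK FiC3510.cert a l = true := by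
    intro a ha l hl
    change a ∈ [1, 2] at ha
    change l ∈ candParts.flatten at hl
    simp only [candParts, List.flatten_cons, List.flatten_nil, List.mem_append, List.not_mem_nil,
      or_false] at hl
    simp only [List.mem_cons, List.not_mem_nil, or_false] at ha
    rcases ha with rfl | rfl
    · rcases hl with hl | hl | hl | hl | hl | hl | hl | hl | hl | hl | hl | hl | hl | hl | hl | hl | hl | hl | hl | hl | hl | hl | hl | hl | hl | hl | hl | hl | hl | hl | hl | hl | hl | hl | hl | hl | hl | hl | hl | hl | hl | hl | hl | hl | hl | hl | hl | hl | hl | hl | hl | hl | hl | hl | hl | hl | hl | hl | hl | hl | hl | hl | hl | hl | hl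
      · exact List.all_eq_true.1 cand1_0_ok l hl
      · exact List.all_eq_true.1 cand1_1_ok l hl
      · exact List.all_eq_true.1 cand1_2_ok l hl
      · exact List.all_eq_true.1 cand1_3_ok l hl
      · exact List.all_eq_true.1 cand1_4_ok l hl
      · exact List.all_eq_true.1 cand1_5_ok l hl
      · exact List.all_eq_true.1 cand1_6_ok l hl
      · exact List.all_eq_true.1 cand1_7_ok l hl
      · exact List.all_eq_true.1 cand1_8_ok l hl
      · exact List.all_eq_true.1 cand1_9_ok l hl
      · exact List.all_eq_true.1 cand1_10_ok l hl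
      · exact List.all_eq_true.1 cand1_11_ok l hl
      · exact List.all_eq_true.1 cand1_12_ok l hl
      · exact List.all_eq_true.1 cand1_13_ok l hl
      · exact List.all_eq_true.1 cand1_14_ok l hl
      · exact List.all_eq_true.1 cand1_15_ok l hl
      · exact List.all_eq_true.1 cand1_16_ok l hl
      · exact List.all_eq_true.1 cand1_17_ok l hl
      · exact List.all_eq_true.1 cand1_18_ok l hl
      · exact List.all_eq_true.1 cand1_19_ok l hl
      · exact List.all_eq_true.1 cand1_20_ok l hl
      · exact List.all_eq_true.1 cand1_21_ok l hl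
      · exact List.all_eq_true.1 cand1_22_ok l hl
      · exact List.all_eq_true.1 cand1_23_ok l hl
      · exact List.all_eq_true.1 cand1_24_ok l hl
      · exact List.all_eq_true.1 cand1_25_ok l hl
      · exact List.all_eq_true.1 cand1_26_ok l hl
      · exact List.all_eq_true.1 cand1_27_ok l hl
      · exact List.all_eq_true.1 cand1_28_ok l hl
      · exact List.all_eq_true.1 cand1_29_ok l hl
      · exact List.all_eq_true.1 cand1_30_ok l hl
      · exact List.all_eq_true.1 cand1_31_ok l hl
      · exact List.all_eq_true.1 cand1_32_ok l hl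
      · exact List.all_eq_true.1 cand1_33_ok l hl
      · exact List.all_eq_true.1 cand1_34_ok l hl
      · exact List.all_eq_true.1 cand1_35_ok l hl
      · exact List.all_eq_true.1 cand1_36_ok l hl
      · exact List.all_eq_true.1 cand1_37_ok l hl
      · exact List.all_eq_true.1 cand1_38_ok l hl
      · exact List.all_eq_true.1 cand1_39_ok l hl
      · exact List.all_eq_true.1 cand1_40_ok l hl
      · exact List.all_eq_true.1 cand1_41_ok l hl
      · exact List.all_eq_true.1 cand1_42_ok l hl
      · exact List.all_eq_true.1 cand1_43_ok l hl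
      · exact List.all_eq_true.1 cand1_44_ok l hl
      · exact List.all_eq_true.1 cand1_45_ok l hl
      · exact List.all_eq_true.1 cand1_46_ok l hl
      · exact List.all_eq_true.1 cand1_47_ok l hl
      · exact List.all_eq_true.1 cand1_48_ok l hl
      · exact List.all_eq_true.1 cand1_49_ok l hl
      · exact List.all_eq_true.1 cand1_50_ok l hl
      · exact List.all_eq_true.1 cand1_51_ok l hl
      · exact List.all_eq_true.1 cand1_52_ok l hl
      · exact List.all_eq_true.1 cand1_53_ok l hl
      · exact List.all_eq_true.1 cand1_54_ok l hl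
      · exact List.all_eq_true.1 cand1_55_ok l hl
      · exact List.all_eq_true.1 cand1_56_ok l hl
      · exact List.all_eq_true.1 cand1_57_ok l hl
      · exact List.all_eq_true.1 cand1_58_ok l hl
      · exact List.all_eq_true.1 cand1_59_ok l hl
      · exact List.all_eq_true.1 cand1_60_ok l hl
      · exact List.all_eq_true.1 cand1_61_ok l hl
      · exact List.all_eq_true.1 cand1_62_ok l hl
      · exact List.all_eq_true.1 cand1_63_ok l hl
      · exact List.all_eq_true.1 cand1_64_ok l hl
    · rcases hl with hl | hl | hl | hl | hl | hl | hl | hl | hl | hl | hl | hl | hl | hl | hl | hl | hl | hl | hl | hl | hl | hl | hl | hl | hl | hl | hl | hl | hl | hl | hl | hl | hl | hl | hl | hl | hl | hl | hl | hl | hl | hl | hl | hl | hl | hl | hl | hl | hl | hl | hl | hl | hl | hl | hl | hl | hl | hl | hl | hl | hl | hl | hl | hl | hl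
      · exact List.all_eq_true.1 cand2_0_ok l hl
      · exact List.all_eq_true.1 cand2_1_ok l hl
      · exact List.all_eq_true.1 cand2_2_ok l hl
      · exact List.all_eq_true.1 cand2_3_ok l hl
      · exact List.all_eq_true.1 cand2_4_ok l hl
      · exact List.all_eq_true.1 cand2_5_ok l hl
      · exact List.all_eq_true.1 cand2_6_ok l hl
      · exact List.all_eq_true.1 cand2_7_ok l hl
      · exact List.all_eq_true.1 cand2_8_ok l hl
      · exact List.all_eq_true.1 cand2_9_ok l hl
      · exact List.all_eq_true.1 cand2_10_ok l hl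
      · exact List.all_eq_true.1 cand2_11_ok l hl
      · exact List.all_eq_true.1 cand2_12_ok l hl
      · exact List.all_eq_true.1 cand2_13_ok l hl
      · exact List.all_eq_true.1 cand2_14_ok l hl
      · exact List.all_eq_true.1 cand2_15_ok l hl
      · exact List.all_eq_true.1 cand2_16_ok l hl
      · exact List.all_eq_true.1 cand2_17_ok l hl
      · exact List.all_eq_true.1 cand2_18_ok l hl
      · exact List.all_eq_true.1 cand2_19_ok l hl
      · exact List.all_eq_true.1 cand2_20_ok l hl
      · exact List.all_eq_true.1 cand2_21_ok l hl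
      · exact List.all_eq_true.1 cand2_22_ok l hl
      · exact List.all_eq_true.1 cand2_23_ok l hl
      · exact List.all_eq_true.1 cand2_24_ok l hl
      · exact List.all_eq_true.1 cand2_25_ok l hl
      · exact List.all_eq_true.1 cand2_26_ok l hl
      · exact List.all_eq_true.1 cand2_27_ok l hl
      · exact List.all_eq_true.1 cand2_28_ok l hl
      · exact List.all_eq_true.1 cand2_29_ok l hl
      · exact List.all_eq_true.1 cand2_30_ok l hl
      · exact List.all_eq_true.1 cand2_31_ok l hl
      · exact List.all_eq_true.1 cand2_32_ok l hl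
      · exact List.all_eq_true.1 cand2_33_ok l hl
      · exact List.all_eq_true.1 cand2_34_ok l hl
      · exact List.all_eq_true.1 cand2_35_ok l hl
      · exact List.all_eq_true.1 cand2_36_ok l hl
      · exact List.all_eq_true.1 cand2_37_ok l hl
      · exact List.all_eq_true.1 cand2_38_ok l hl
      · exact List.all_eq_true.1 cand2_39_ok l hl
      · exact List.all_eq_true.1 cand2_40_ok l hl
      · exact List.all_eq_true.1 cand2_41_ok l hl
      · exact List.all_eq_true.1 cand2_42_ok l hl
      · exact List.all_eq_true.1 cand2_43_ok l hl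
      · exact List.all_eq_true.1 cand2_44_ok l hl
      · exact List.all_eq_true.1 cand2_45_ok l hl
      · exact List.all_eq_true.1 cand2_46_ok l hl
      · exact List.all_eq_true.1 cand2_47_ok l hl
      · exact List.all_eq_true.1 cand2_48_ok l hl
      · exact List.all_eq_true.1 cand2_49_ok l hl
      · exact List.all_eq_true.1 cand2_50_ok l hl
      · exact List.all_eq_true.1 cand2_51_ok l hl
      · exact List.all_eq_true.1 cand2_52_ok l hl
      · exact List.all_eq_true.1 cand2_53_ok l hl
      · exact List.all_eq_true.1 cand2_54_ok l hl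
      · exact List.all_eq_true.1 cand2_55_ok l hl
      · exact List.all_eq_true.1 cand2_56_ok l hl
      · exact List.all_eq_true.1 cand2_57_ok l hl
      · exact List.all_eq_true.1 cand2_58_ok l hl
      · exact List.all_eq_true.1 cand2_59_ok l hl
      · exact List.all_eq_true.1 cand2_60_ok l hl
      · exact List.all_eq_true.1 cand2_61_ok l hl
      · exact List.all_eq_true.1 cand2_62_ok l hl
      · exact List.all_eq_true.1 cand2_63_ok l hl
      · exact List.all_eq_true.1 cand2_64_ok l hl
  obtain ⟨hfin, hle⟩ := outer_finite_card_le M hgen data hB bs_lt hp hp2 basic_ok words_ok hC hcands hok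
  have hlen : data.allowed.length = 2 := rfl
  obtain ⟨f, hf⟩ := exists_endomorphism gens_all M hB gens_nodup rfl imgs_ok
  have hno : ∀ g, g * wval gen xWord ≠ wval gen dxWord * g := by
    intro g hg
    obtain ⟨k, hk, l, hl, -⟩ := exists_solution_slices M bs_lt (K := 220) XChain_ok hXc x_images
      image_letters (by norm_num) hg
    have hk4 : k < 16 := by
      have : XLev0.2.length = 3510 := by decide +kernel
      change k * 220 < XLev0.2.length at hk
      omega
    change l ∈ solutions FiC3510.cert data.bs (slice XChain (k * 220) 220) xWord dxWord at hl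
    interval_cases k
    · rw [conj0_ok] at hl; simp at hl
    · rw [conj1_ok] at hl; simp at hl
    · rw [conj2_ok] at hl; simp at hl
    · rw [conj3_ok] at hl; simp at hl
    · rw [conj4_ok] at hl; simp at hl
    · rw [conj5_ok] at hl; simp at hl
    · rw [conj6_ok] at hl; simp at hl
    · rw [conj7_ok] at hl; simp at hl
    · rw [conj8_ok] at hl; simp at hl
    · rw [conj9_ok] at hl; simp at hl
    · rw [conj10_ok] at hl; simp at hl
    · rw [conj11_ok] at hl; simp at hl
    · rw [conj12_ok] at hl; simp at hl
    · rw [conj13_ok] at hl; simp at hl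
    · rw [conj14_ok] at hl; simp at hl
    · rw [conj15_ok] at hl; simp at hl
  obtain ⟨c, hc⟩ := exists_outer M bs_lt f image_letters
    ((hf xWord (lettersOK_spec hxl)).trans (eq_of_sameOn M hB image_eq)) image_ne hno
  have : Nontrivial (Cfsg.Out Fi22) := ⟨⟨c, 1, hc⟩⟩
  have := (Finite.one_lt_card_iff_nontrivial (α := Cfsg.Out Fi22)).2 inferInstance
  omega

end Cfsg.Agent.Presented.FiRigid
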