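import Cfsg.Agent.Lib.Presented.FiThreeTrans
import Cfsg.Agent.Lib.Presented.Count

/-!
# The transpositions of the presented group Fi22 as points of the coset table

`tau i` is the transposition belonging to coset `i`; the map is a bijection from the 3510 cosets onto the class
of the first generator, and conjugation is the action on cosets.
-/

set_option autoImplicit false
set_option maxRecDepth 20000

namespace Cfsg.Agent.Presented.Fi22Pts

open Cfsg.Spor FiIndex

/-- The table. -/
noncomputable abbrev D : CosetCert := FiC3510.cert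

/-- A word leading from coset `i` to coset `0`, along the parents. -/
noncomputable def wrev (i : ℕ) : List ℕ :=
  Nat.rec (motive := fun _ => ℕ → List ℕ) (fun _ => [])
    (fun _ ih j => Bool.rec (force (D.par.get D.pw j) fun e => (e % D.m) :: ih (e / D.m)) []
      (Nat.beq j 0)) 48 i

/-- The word of the transposition of coset `i`. -/
noncomputable def tword (i : ℕ) : List ℕ := wrev i ++ [0] ++ (wrev i).reverse

/-- The transposition of coset `i`. -/
noncomputable def tau (i : ℕ) : Fi22 := wval gen (tword i)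

/-- The image of coset `j` under the transposition of coset `i`. -/
noncomputable def tpt (i j : ℕ) : ℕ := D.path (tword i) j

/-- The word of a coset leads to coset `0`. -/
noncomputable def valid (i : ℕ) : Bool :=
  Nat.beq (D.path (wrev i) i) 0 && (wrev i).all fun g => Nat.blt g 9

theorem valid_all : checkFast valid 12 3510 = true := by decide +kernel

theorem valid_spec {i : ℕ} (hi : i < 3510) :
    D.path (wrev i) i = 0 ∧ ∀ g ∈ wrev i, g < D.m := by
  have h := checkBelow_spec ((checkBelow_fast valid 12 3510).trans valid_all) i hi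
  simp only [valid, Bool.and_eq_true, Nat.beq_eq, List.all_eq_true, Nat.blt_eq] at h
  exact h

theorem N_eq : D.N = 3510 := rfl

theorem gen_sq (g : ℕ) : gen g * gen g = 1 := genFun_mul_self gens_all gens_ok g

theorem wval_reverse (w : List ℕ) : wval gen w.reverse = (wval gen w)⁻¹ := by
  induction w with
  | nil => simp [wval]
  | cons g w ih =>
    rw [List.reverse_cons, wval_append, ih]
    simp only [wval, one_mul, mul_inv_rev]
    rw [← eq_inv_of_mul_eq_one_left (gen_sq g)]

theorem tau_eq (i : ℕ) : tau i = (wval gen (wrev i))⁻¹ * gen 0 * wval gen (wrev i) := by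
  rw [tau, tword, wval_append, wval_append, wval_reverse]
  simp [wval, mul_assoc]

theorem tau_sq (i : ℕ) : tau i * tau i = 1 := by
  rw [tau_eq, show (wval gen (wrev i))⁻¹ * gen 0 * wval gen (wrev i) *
    ((wval gen (wrev i))⁻¹ * gen 0 * wval gen (wrev i)) =
      (wval gen (wrev i))⁻¹ * (gen 0 * gen 0) * wval gen (wrev i) by group, gen_sq]
  group

theorem tau_inv (i : ℕ) : (tau i)⁻¹ = tau i := inv_eq_of_mul_eq_one_right (tau_sq i)

theorem tau_mem (i : ℕ) : tau i ∈ conjugatesOf (gen 0) :=
  isConj_iff.mpr ⟨(wval gen (wrev i))⁻¹, by rw [tau_eq, inv_inv]⟩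

theorem tword_lt {i : ℕ} (hi : i < 3510) : ∀ g ∈ tword i, g < D.m := by
  intro g hg
  simp only [tword, List.mem_append, List.mem_singleton, List.mem_reverse] at hg
  rcases hg with (hg | rfl) | hg
  exacts [(valid_spec hi).2 g hg, by decide +kernel, (valid_spec hi).2 g hg]

theorem path_lt {w : List ℕ} (hw : ∀ g ∈ w, g < D.m) {j : ℕ} (hj : j < 3510) : D.path w j < 3510 := by
  have h : D.path w j < D.N :=
    CosetCert.path_lt FiC3510.cert_edgesOK FiC3510.cert_nodesOK w hw (by rw [N_eq]; exact hj)
  rwa [N_eq] at h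

theorem tpt_lt {i j : ℕ} (hi : i < 3510) (hj : j < 3510) : tpt i j < 3510 := by
  unfold tpt
  exact path_lt (tword_lt hi) hj

/-- An element carrying coset `i` to coset `j` conjugates the transposition of `i` to that of `j`. -/
theorem tau_of_smul {e : Fin D.N ≃ Fi22 ⧸ hSub}
    (he0 : ∀ i : Fin D.N, (i : ℕ) = 0 → e i = QuotientGroup.mk 1)
    (he : ∀ g (hgm : g < D.m) (i : Fin D.N), gen g • e i = e ⟨D.actOf i g,
        CosetCert.actOf_lt FiC3510.cert_edgesOK FiC3510.cert_nodesOK i.2 hgm⟩)
    {i j : Fin D.N} {k : Fi22} (hk : k • e i = e j) : k * tau i * k⁻¹ = tau j := by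
  have hz : ∀ i : Fin D.N, wval gen (wrev i) • e i = QuotientGroup.mk 1 := by
    intro i
    rw [CosetCert.smul_path FiC3510.cert_edgesOK FiC3510.cert_nodesOK e he _ (valid_spec i.2).2 i]
    exact he0 _ (valid_spec i.2).1
  have hr : wval gen (wrev j) * k * (wval gen (wrev i))⁻¹ ∈ hSub := by
    have h : (wval gen (wrev j) * k * (wval gen (wrev i))⁻¹) •
        (QuotientGroup.mk 1 : Fi22 ⧸ hSub) = QuotientGroup.mk 1 := by
      rw [← hz i, mul_smul, mul_smul, inv_smul_smul, hk, hz j, hz i]
    rw [MulAction.Quotient.smul_mk, smul_eq_mul, mul_one] at h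
    simpa using (QuotientGroup.eq.1 h.symm)
  have hc := FiThreeTrans.hSub_comm _ hr
  rw [tau_eq, tau_eq]
  generalize wval gen (wrev i) = p at *
  generalize wval gen (wrev j) = q at *
  calc k * (p⁻¹ * gen 0 * p) * k⁻¹ = q⁻¹ * (q * k * p⁻¹ * gen 0) * (p * k⁻¹) := by group
    _ = q⁻¹ * (gen 0 * (q * k * p⁻¹)) * (p * k⁻¹) := by rw [hc]
    _ = q⁻¹ * gen 0 * q := by group

theorem conj_wval {w : List ℕ} (hw : ∀ g ∈ w, g < D.m) {i : ℕ} (hi : i < 3510) :
    wval gen w * tau i * (wval gen w)⁻¹ = tau (D.path w i) := by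
  obtain ⟨e, he0, he⟩ := exists_table
  have hi' : i < D.N := by rw [N_eq]; exact hi
  have hj' : D.path w i < D.N := by rw [N_eq]; exact path_lt hw hi
  exact tau_of_smul he0 he (i := ⟨i, hi'⟩) (j := ⟨_, hj'⟩)
    (CosetCert.smul_path FiC3510.cert_edgesOK FiC3510.cert_nodesOK e he w hw ⟨i, hi'⟩)

/-- Conjugation by a transposition. -/
theorem tau_conj {i j : ℕ} (hi : i < 3510) (hj : j < 3510) :
    tau i * tau j * tau i = tau (tpt i j) := by
  have h := conj_wval (tword_lt hi) hj
  rwa [show wval gen (tword i) = tau i from rfl, tau_inv] at h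

theorem tau_zero : tau 0 = gen 0 := by
  rw [tau, show tword 0 = [0] by decide +kernel]
  simp [wval]

theorem exists_tau {x : Fi22} (hx : x ∈ conjugatesOf (gen 0)) : ∃ i, i < 3510 ∧ x = tau i := by
  obtain ⟨g, rfl⟩ := isConj_iff.mp hx
  obtain ⟨e, he0, he⟩ := exists_table
  have h0 : 0 < D.N := by decide +kernel
  obtain ⟨j, hj⟩ := e.surjective (g • e ⟨0, h0⟩)
  refine ⟨j, j.2, ?_⟩
  rw [← tau_of_smul he0 he hj.symm, tau_zero]

theorem tau_inj {i j : ℕ} (hi : i < 3510) (hj : j < 3510) (h : tau i = tau j) : i = j := by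
  have := FiOrder.card_le.1
  have := FiOrder.simple_fi22
  obtain ⟨-, hcard, -⟩ := threeTrans_of_reps (gen 0) FiU6Iso.gen0_ne_one (gen_sq 0) hSub
    FiThreeTrans.hSub_comm _ FiThreeTrans.cover FiThreeTrans.not_comm FiThreeTrans.order_three
  rw [hSub_index] at hcard
  let f : Fin 3510 → conjugatesOf (gen 0) := fun i => ⟨tau i, tau_mem i⟩
  have hf : Function.Surjective f := fun x => by
    obtain ⟨i, hi, hx⟩ := exists_tau x.2
    exact ⟨⟨i, hi⟩, Subtype.ext hx.symm⟩
  have hinj := ((Nat.bijective_iff_surjective_and_card f).2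
    ⟨hf, by rw [Nat.card_fin, hcard]⟩).1
  exact congrArg Fin.val (@hinj ⟨i, hi⟩ ⟨j, hj⟩ (Subtype.ext h))

theorem commute_iff {i j : ℕ} (hi : i < 3510) (hj : j < 3510) :
    Commute (tau i) (tau j) ↔ Nat.beq (tpt i j) j = true := by
  rw [Nat.beq_eq]
  constructor
  · intro h
    refine tau_inj (tpt_lt hi hj) hj ?_
    rw [← tau_conj hi hj, h.eq, mul_assoc, tau_sq, mul_one]
  · intro h
    have e := tau_conj hi hj
    rw [h] at e
    calc tau i * tau j = tau i * tau j * (tau i * tau i) := by rw [tau_sq, mul_one]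
      _ = tau j * tau i := by rw [← mul_assoc, e]

/-- Words moving a coset differently have different values. -/
theorem wval_ne {u v : List ℕ} (hu : ∀ g ∈ u, g < D.m) (hv : ∀ g ∈ v, g < D.m) {p : ℕ} (hp : p < 3510)
    (h : D.path u p ≠ D.path v p) : wval gen u ≠ wval gen v := by
  intro e'
  obtain ⟨e, -, he⟩ := exists_table
  have h1 := CosetCert.smul_path FiC3510.cert_edgesOK FiC3510.cert_nodesOK e he u hu ⟨p, hp⟩
  have h2 := CosetCert.smul_path FiC3510.cert_edgesOK FiC3510.cert_nodesOK e he v hv ⟨p, hp⟩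
  rw [e', h2] at h1
  exact h (congrArg Fin.val (e.injective h1)).symm

theorem wval_flatten (w : List ℕ) : wval tau w = wval gen (w.map tword).flatten := by
  induction w with
  | nil => rfl
  | cons i w ih => rw [List.map_cons, List.flatten_cons, wval_append, ← ih]; rfl

end Cfsg.Agent.Presented.Fi22Pts
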