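import Cfsg.Prelude.Def_SporadicB

/-!
# Classes of 3-transpositions from double coset representatives

If an involution `a` of a finite simple group commutes with a subgroup `H` and with none of the listed
representatives of the double cosets other than `H`, then `H` is its centraliser; the orders of the
products with the conjugates by the representatives then decide the 3-transposition property.
-/

set_option autoImplicit false

namespace Cfsg.Agent.Presented

variable {G : Type*} [Group G]

/-- Conjugation carries centralisers to centralisers. -/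
theorem centralizer_conj_equiv (a x : G) :
    Nonempty (Subgroup.centralizer ({x * a * x⁻¹} : Set G) ≃* Subgroup.centralizer ({a} : Set G)) := by
  have h : (Subgroup.centralizer ({a} : Set G)).map (MulAut.conj x).toMonoidHom =
      Subgroup.centralizer ({x * a * x⁻¹} : Set G) := by
    ext y
    rw [Subgroup.mem_map_equiv, MulAut.conj_symm_apply, Subgroup.mem_centralizer_singleton_iff,
      Subgroup.mem_centralizer_singleton_iff]
    constructor
    · intro hy
      have := congrArg (fun z => x * z * x⁻¹) hy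
      simpa [mul_assoc] using this
    · intro hy
      have := congrArg (fun z => x⁻¹ * z * x) hy
      simpa [mul_assoc] using this
  exact ⟨(MulEquiv.subgroupCongr h.symm).trans
    ((Subgroup.centralizer ({a} : Set G)).equivMapOfInjective _ (MulAut.conj x).injective).symm⟩

/-- The class of `a` is a class of 3-transpositions with centraliser `H`. -/
theorem threeTrans_of_reps [Finite G] [IsSimpleGroup G] (a : G) (ha1 : a ≠ 1) (ha2 : a * a = 1)
    (H : Subgroup G) (hHa : ∀ h ∈ H, h * a = a * h) (reps : List G)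
    (hcov : ∀ g : G, ∃ r, (r = 1 ∨ r ∈ reps) ∧ ∃ h ∈ H, ∃ h' ∈ H, g = h * r * h')
    (hne : ∀ r ∈ reps, r * a ≠ a * r)
    (h3 : ∀ r ∈ reps, (a * (r * a * r⁻¹)) ^ 2 = 1 ∨ (a * (r * a * r⁻¹)) ^ 3 = 1) :
    IsThreeTranspositionClass (conjugatesOf a) ∧ Nat.card (conjugatesOf a) = H.index ∧
      ∀ d ∈ conjugatesOf a, Nonempty (Subgroup.centralizer ({d} : Set G) ≃* H) := by
  have hord : orderOf a = 2 := orderOf_eq_prime (by rw [pow_two, ha2]) ha1
  have hmem : ∀ {d : G}, d ∈ conjugatesOf a → ∃ x : G, d = x * a * x⁻¹ := fun {d} hd => by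
    obtain ⟨x, hx⟩ := isConj_iff.mp (show IsConj a d from hd)
    exact ⟨x, hx.symm⟩
  have hinv : ∀ h ∈ H, h * a * h⁻¹ = a := fun h hh => by rw [hHa h hh, mul_inv_cancel_right]
  have hC : Subgroup.centralizer ({a} : Set G) = H := by
    refine le_antisymm (fun g hg => ?_)
      fun h hh => Subgroup.mem_centralizer_singleton_iff.mpr (hHa h hh)
    rw [Subgroup.mem_centralizer_singleton_iff] at hg
    obtain ⟨r, hr, h, hh, h', hh', rfl⟩ := hcov g
    rcases hr with rfl | hr
    · rw [mul_one]; exact mul_mem hh hh'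
    · exfalso
      apply hne r hr
      have e1 : r = h⁻¹ * (h * r * h') * h'⁻¹ := by group
      have c1 : Commute h⁻¹ a := Commute.inv_left (hHa h hh)
      have c3 : Commute h'⁻¹ a := Commute.inv_left (hHa h' hh')
      have c2 : Commute (h * r * h') a := hg
      rw [e1]
      exact (c1.mul_left c2).mul_left c3
  have htop : Subgroup.closure (conjugatesOf a) = ⊤ := by
    have hN : Subgroup.normalClosure ({a} : Set G) = Subgroup.closure (conjugatesOf a) := by
      rw [Subgroup.normalClosure, Group.conjugatesOfSet]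
      simp
    rw [← hN]
    refine (Subgroup.normalClosure_normal.eq_bot_or_eq_top).resolve_left fun h => ha1 ?_
    rw [← Subgroup.mem_bot, ← h]
    exact Subgroup.subset_normalClosure rfl
  refine ⟨⟨⟨fun d hd => ?_, fun d hd d' hd' => ?_⟩, ⟨a, mem_conjugatesOf_self, rfl⟩, htop⟩, ?_,
    fun d hd => ?_⟩
  · obtain ⟨x, rfl⟩ := hmem hd
    rw [← hord]
    exact orderOf_injective (MulAut.conj x).toMonoidHom (MulAut.conj x).injective a
  · obtain ⟨x, rfl⟩ := hmem hd
    obtain ⟨y, rfl⟩ := hmem hd'
    obtain ⟨r, hr, h, hh, h', hh', hg⟩ := hcov (x⁻¹ * y)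
    have hy : y = x * (h * r * h') := by rw [← hg, mul_inv_cancel_left]
    have key : x * a * x⁻¹ * (y * a * y⁻¹) = (x * h) * (a * (r * a * r⁻¹)) * (x * h)⁻¹ := by
      have e1 : h' * a * h'⁻¹ = a := hinv h' hh'
      calc x * a * x⁻¹ * (y * a * y⁻¹)
          = x * (a * (h * r * (h' * a * h'⁻¹) * r⁻¹ * h⁻¹)) * x⁻¹ := by rw [hy]; group
        _ = x * ((h * a * h⁻¹) * (h * r * a * r⁻¹ * h⁻¹)) * x⁻¹ := by rw [e1, hinv h hh]
        _ = _ := by group
    rw [key, conj_pow, conj_pow]
    rcases hr with rfl | hr
    · left; simp [ha2]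
    · rcases h3 r hr with h3 | h3
      · left; rw [h3, mul_one, mul_inv_cancel]
      · right; rw [h3, mul_one, mul_inv_cancel]
  · have e := MulAction.index_stabilizer (ConjAct G) a
    rw [ConjAct.orbit_eq_carrier_conjClasses, ← Nat.card_coe_set_eq] at e
    rw [← hC]
    have e2 : Nat.card (conjugatesOf a) = Nat.card (ConjClasses.mk a).carrier := rfl
    rw [e2, ← e, ConjAct.stabilizer_eq_centralizer]
    rfl
  · obtain ⟨x, rfl⟩ := hmem hd
    obtain ⟨f⟩ := centralizer_conj_equiv a x
    exact ⟨f.trans (MulEquiv.subgroupCongr hC)⟩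

end Cfsg.Agent.Presented
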