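import Cfsg.Agent.Lib.Presented.FiU6Iso
import Cfsg.Agent.Lib.Presented.ThreeTrans
import Cfsg.Prelude.Def_Sporadic

/-!
# The transpositions of the presented Fischer group Fi22
-/

set_option autoImplicit false
set_option maxRecDepth 20000

namespace Cfsg.Agent.Presented.FiThreeTrans

open Cfsg.Spor Cfsg.Agent.Presented FiIndex

theorem isNonsplitDoubleCover_congr {A B K : Type*} [Group A] [Group B] [Group K] (e : A ≃* B)
    (h : IsNonsplitDoubleCover B K) : IsNonsplitDoubleCover A K := by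
  obtain ⟨h1, ⟨f⟩, h3⟩ := h
  have hc : (Subgroup.center A).map e.toMonoidHom = Subgroup.center B := by
    ext y
    rw [Subgroup.mem_map_equiv, Subgroup.mem_center_iff, Subgroup.mem_center_iff]
    constructor
    · intro hy g; simpa using congrArg e (hy (e.symm g))
    · intro hy g; simpa using congrArg e.symm (hy (e g))
  refine ⟨?_, ⟨(QuotientGroup.congr _ _ e hc).trans f⟩, fun L hL => h3 (L.map e.toMonoidHom) ?_⟩
  · rw [← h1, ← hc, Subgroup.card_map_of_injective e.injective]
  · rw [← hc]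
    constructor
    · intro p q hpq
      obtain ⟨⟨_, a, ha, rfl⟩, ⟨_, b, hb, rfl⟩⟩ := p
      obtain ⟨⟨_, a', ha', rfl⟩, ⟨_, b', hb', rfl⟩⟩ := q
      have h' : a * b = a' * b' := e.injective (by simpa using hpq)
      have := hL.1 (a₁ := (⟨a, ha⟩, ⟨b, hb⟩)) (a₂ := (⟨a', ha'⟩, ⟨b', hb'⟩)) h'
      simp only [Prod.mk.injEq, Subtype.mk.injEq] at this
      simp [this.1, this.2]
    · intro y
      obtain ⟨⟨⟨a, ha⟩, ⟨b, hb⟩⟩, hab⟩ := hL.2 (e.symm y)
      refine ⟨(⟨e a, a, ha, rfl⟩, ⟨e b, b, hb, rfl⟩), ?_⟩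
      show e a * e b = y
      rw [← map_mul, show a * b = e.symm y from hab, e.apply_symm_apply]

/-- Words to the representatives of the two suborbits. -/
def repWords : List (List ℕ) := [[1], [1, 0, 2, 1]]

theorem hSub_comm : ∀ h ∈ hSub, h * gen 0 = gen 0 * h := by
  intro h hh
  rw [← FiU6Iso.fu_closure] at hh
  induction hh using Subgroup.closure_induction with
  | mem y hy =>
    obtain ⟨i, hi, rfl⟩ := hy
    exact (FiU6Iso.gen0_comm (List.mem_range.1 hi)).symm
  | one => simp
  | mul y z _ _ hy hz => exact Commute.mul_left hy hz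
  | inv y _ hy => exact Commute.inv_left hy

theorem cover (g : Fi22) : ∃ r, (r = 1 ∨ r ∈ repWords.map (wval gen)) ∧
    ∃ h ∈ hSub, ∃ h' ∈ hSub, g = h * r * h' := by
  obtain ⟨e, he0, he⟩ := exists_table
  set z : Fin FiC3510.cert.N := ⟨0, by decide +kernel⟩
  have h00 : e z = QuotientGroup.mk 1 := he0 z rfl
  obtain ⟨i, hi⟩ := e.surjective (QuotientGroup.mk g)
  have hcase : ∀ r : Fi22, ∀ h ∈ hSub, h • (r • e z) = e i →
      ∃ h₁ ∈ hSub, ∃ h' ∈ hSub, g = h₁ * r * h' := by
    intro r h hh heq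
    rw [h00, hi, MulAction.Quotient.smul_mk, MulAction.Quotient.smul_mk, smul_eq_mul, smul_eq_mul,
      mul_one, QuotientGroup.eq] at heq
    exact ⟨h, hh, _, heq, by group⟩
  have hcov : checkBelow (fun i => inUnion [FiC3510.orbit0, FiC3510.orbit1] i) FiC3510.cert.depth
      FiC3510.cert.N = true := by decide +kernel
  have hi' := checkBelow_spec hcov i.1 i.2
  simp only [inUnion, Bool.or_eq_true, Nat.beq_eq, List.any_cons, List.any_nil, Bool.or_false] at hi'
  have key : ∀ (w : List ℕ) (root : ℕ) (hr : root < FiC3510.cert.N) (t : NTree),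
      w ∈ repWords → FiC3510.cert.path w 0 = root → (∀ x ∈ w, x < FiC3510.cert.m) →
      FiC3510.cert.orbitOK ([[0], [2], [3], [4], [5], [6], [7], [8], [7, 4, 3, 2, 1, 0, 7, 4, 3, 2, 1, 0, 7, 4, 3, 2, 1, 0, 7, 4, 3, 2, 1, 0, 7, 4, 3, 2, 1, 0]]) t root = true →
      CosetCert.inOrbit t i.1 = true →
      ∃ r, (r = 1 ∨ r ∈ repWords.map (wval gen)) ∧ ∃ h ∈ hSub, ∃ h' ∈ hSub, g = h * r * h' := by
    intro w root hr t hw hpath hlt hok hin
    have horb := CosetCert.orbit_eq_image FiC3510.cert_edgesOK FiC3510.cert_nodesOK e he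
      hSub_eq_closure hr hok
    have hmem : e i ∈ MulAction.orbit hSub (e ⟨root, hr⟩) := by rw [horb]; exact ⟨i, hin, rfl⟩
    obtain ⟨⟨h, hh⟩, hh'⟩ := hmem
    change h • e ⟨root, hr⟩ = e i at hh'
    refine ⟨wval gen w, Or.inr (List.mem_map_of_mem hw), hcase _ h hh ?_⟩
    rw [CosetCert.smul_path FiC3510.cert_edgesOK FiC3510.cert_nodesOK e he w hlt z, ← hh']
    congr 2
    exact Fin.ext hpath
  rcases hi' with h0 | h1 | h6
  · refine ⟨1, Or.inl rfl, hcase 1 1 (one_mem _) ?_⟩
    rw [one_smul, one_smul]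
    exact congrArg e (Fin.ext h0.symm)
  · exact key [1] 1 (by decide +kernel) _ (by decide) (by decide +kernel) (by decide +kernel)
      FiC3510.orbit0_ok h1
  · exact key [1, 0, 2, 1] 6 (by decide +kernel) _ (by decide) (by decide +kernel) (by decide +kernel)
      FiC3510.orbit1_ok h6

/-- Products with conjugates, as words. -/
def prodWord (w : List ℕ) : List ℕ := w.reverse ++ [0] ++ w ++ [0]

theorem wval_prodWord (w : List ℕ) :
    wval gen (prodWord w) = gen 0 * (wval gen w * gen 0 * (wval gen w)⁻¹) := by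
  have hrev : wval gen w.reverse = (wval gen w)⁻¹ := by
    induction w with
    | nil => simp [wval]
    | cons g w ih =>
      have h1 : (gen g)⁻¹ = gen g :=
        inv_eq_of_mul_eq_one_right (genFun_mul_self gens_all gens_ok g)
      simp [wval_append, wval, ih, h1]
  rw [prodWord, wval_append, wval_append, wval_append, hrev]
  simp [wval, mul_assoc]

theorem not_comm : ∀ r ∈ repWords.map (wval gen), r * gen 0 ≠ gen 0 * r := by
  intro r hr
  obtain ⟨w, hw, rfl⟩ := List.mem_map.mp hr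
  intro hcomm
  have hmoves : ∀ w ∈ repWords, ∃ p : Fin FiC3510.cert.N,
      FiC3510.cert.path (prodWord w) p.1 ≠ p.1 ∧ (prodWord w).all (fun g => Nat.blt g FiC3510.cert.m) := by
    intro w hw
    simp only [repWords, List.mem_cons, List.not_mem_nil, or_false] at hw
    rcases hw with rfl | rfl
    · exact ⟨⟨0, by decide +kernel⟩, by decide +kernel, by decide +kernel⟩
    · exact ⟨⟨1, by decide +kernel⟩, by decide +kernel, by decide +kernel⟩
  obtain ⟨p, hp, hlt⟩ := hmoves w hw
  obtain ⟨e, -, he⟩ := exists_table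
  simp only [List.all_eq_true, Nat.blt_eq] at hlt
  have hone : wval gen (prodWord w) = 1 := by
    rw [wval_prodWord, hcomm, mul_inv_cancel_right]
    exact genFun_mul_self gens_all gens_ok 0
  have h1 := CosetCert.smul_path FiC3510.cert_edgesOK FiC3510.cert_nodesOK e he (prodWord w) hlt p
  rw [hone, one_smul] at h1
  exact hp (congrArg Fin.val (e.injective h1)).symm

theorem order_three : ∀ r ∈ repWords.map (wval gen),
    (gen 0 * (r * gen 0 * r⁻¹)) ^ 2 = 1 ∨ (gen 0 * (r * gen 0 * r⁻¹)) ^ 3 = 1 := by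
  intro r hr
  obtain ⟨w, hw, rfl⟩ := List.mem_map.mp hr
  rw [← wval_prodWord, ← wval_replicate, ← wval_replicate]
  have h : ∀ w ∈ repWords, FiU6Iso.same (List.replicate 2 (prodWord w)).flatten [] = true ∨
      FiU6Iso.same (List.replicate 3 (prodWord w)).flatten [] = true := by decide +kernel
  rcases h w hw with h | h
  · exact Or.inl (FiU6Iso.eq_of_same h)
  · exact Or.inr (FiU6Iso.eq_of_same h)

theorem realization : ∃ (G : Type) (_ : Group G) (_ : Finite G), Cfsg.IsFi22 G ∧
    ∃ D : Set G, Cfsg.IsThreeTranspositionClass D ∧ Nat.card D = 3510 ∧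
      ∀ d ∈ D, ∃ (F : Type) (_ : Field F) (_ : Fintype F), Fintype.card F = 4 ∧
        Cfsg.IsNonsplitDoubleCover (Subgroup.centralizer ({d} : Set G)) (Cfsg.PSU 6 F 2) := by
  haveI := FiOrder.card_le.1
  haveI := FiOrder.simple_fi22
  obtain ⟨hD, hcard, hcent⟩ := threeTrans_of_reps (gen 0) FiU6Iso.gen0_ne_one
    (genFun_mul_self gens_all gens_ok 0) hSub hSub_comm _ cover not_comm order_three
  refine ⟨Fi22, inferInstance, FiOrder.card_le.1, ⟨FiOrder.simple_fi22, FiOrder.card_fi22⟩, _, hD,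
    hcard.trans hSub_index, fun d hd => ?_⟩
  refine ⟨FiU6.K, inferInstance, inferInstance, FiU6.hK, ?_⟩
  obtain ⟨f⟩ := hcent d hd
  exact isNonsplitDoubleCover_congr f FiU6Iso.isNonsplitDoubleCover

end Cfsg.Agent.Presented.FiThreeTrans
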