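import Cfsg.Agent.Lib.Presented.Fi23Pair
import Cfsg.Agent.Lib.Presented.FiThreeTrans
import Cfsg.Agent.Lib.Presented.Fi22Pts
import Cfsg.Agent.Lib.Presented.Count

/-!
# The presented Fi22 is of type M(22)

`type22`: the class of the first generator makes the presented Fi22 a group of type M(22); the neighbours
of a member generate `2.U₆(2)` and those of a noncommuting pair come from the transpositions of Fi23
commuting with three given ones.
-/

set_option autoImplicit false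
set_option maxRecDepth 20000

namespace Cfsg.Agent.Presented.Fi22Type

open Cfsg Cfsg.Spor Cfsg.Agent.Presented

attribute [local instance] Fi23Cover.z_normal

open _root_.Cfsg.Agent.Presented.Fi22Mult (double)
open _root_.Cfsg.Agent.Presented.Fi23Type (nbhd)

/-- The transpositions of Fi22. -/
abbrev D22 : Set Fi22 := conjugatesOf (FiIndex.gen 0)

/-- The neighbours. -/
abbrev nb (d : Fi22) : Set Fi22 := {y : Fi22 | y ∈ D22 ∧ y ≠ d ∧ Commute d y}

theorem threeClass : IsThreeTranspositionClass D22 := by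
  haveI := FiOrder.card_le.1
  haveI := FiOrder.simple_fi22
  exact (threeTrans_of_reps (FiIndex.gen 0) FiU6Iso.gen0_ne_one
    (genFun_mul_self FiIndex.gens_all FiIndex.gens_ok 0) FiIndex.hSub FiThreeTrans.hSub_comm _
    FiThreeTrans.cover FiThreeTrans.not_comm FiThreeTrans.order_three).1

theorem double_sH {i : ℕ} (hi : i < 9) : double (Fi23Cover.sH (Fi23Cover.idx.getD i 0)) = FiIndex.gen i := by
  have hl : i < FiIndex.gens.length := hi
  have e : Fi23Cover.phi (FiIndex.gen i) =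
      QuotientGroup.mk (Fi23Cover.sH (Fi23Cover.idx.getD i 0)) := by
    rw [FiIndex.gen, genFun, dif_pos hl, Fi23Cover.phi, PresentedGroup.toGroup.of, Fi23Cover.sQ,
      FiIndex.gens_nodup.idxOf_getElem _ hl]
  show (MulEquiv.ofBijective Fi23Cover.phi Fi23Cover.phi_bijective).symm (QuotientGroup.mk' _ _) = _
  rw [MulEquiv.symm_apply_eq]
  exact e.symm

theorem coe_comm {x y : Fi23Index.hSub} : Commute x y ↔ Commute (x : Fi23) (y : Fi23) :=
  ⟨fun h => congrArg Subtype.val h.eq, fun h => Subtype.ext h.eq⟩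

theorem near_hSub {x : Fi23} (hx : x ∈ nbhd Fi23Transp.t) : x ∈ Fi23Index.hSub := by
  rw [← Fi23Type.closure_nbhd]; exact Subgroup.subset_closure hx

theorem conj_near {x : Fi23} (g : Fi23Index.hSub) (hx : x ∈ nbhd Fi23Transp.t) :
    (g : Fi23) * x * (g : Fi23)⁻¹ ∈ nbhd Fi23Transp.t := by
  have hg := Fi23Transp.conj_mem_hSub g.2
  obtain ⟨h1, h2, h3⟩ := hx
  refine ⟨?_, fun h => h2 (mul_left_cancel (mul_right_cancel (h.trans hg.symm))), ?_⟩
  · obtain ⟨a, rfl⟩ := isConj_iff.1 (h1 : IsConj Fi23Transp.t x)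
    exact isConj_iff.2 ⟨(g : Fi23) * a, by group⟩
  · rw [← hg]; exact (Commute.conj_iff (g : Fi23)).2 h3

/-- A neighbour of `t` times `t` is no transposition. -/
theorem mul_t_notMem {x : Fi23} (hx : x ∈ nbhd Fi23Transp.t) :
    x * Fi23Transp.t ∉ conjugatesOf Fi23Transp.t := by
  obtain ⟨h, hh, rfl⟩ := Fi23Pts.exists_conj_gen0 hx.1 hx.2.1 hx.2.2
  intro hmem
  have h0 : Fi23Index.gen 0 * Fi23Transp.t ∈ conjugatesOf Fi23Transp.t := by
    obtain ⟨a, ha⟩ := isConj_iff.1 hmem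
    refine isConj_iff.2 ⟨h⁻¹ * a, ?_⟩
    have ht := Fi23Transp.conj_mem_hSub hh
    calc h⁻¹ * a * Fi23Transp.t * (h⁻¹ * a)⁻¹ = h⁻¹ * (a * Fi23Transp.t * a⁻¹) * h := by group
      _ = h⁻¹ * (h * Fi23Index.gen 0 * h⁻¹ * Fi23Transp.t) * h := by rw [ha]
      _ = Fi23Index.gen 0 * (h⁻¹ * Fi23Transp.t * h) := by group
      _ = _ := by
        congr 1
        conv_lhs => rw [← ht]
        group
  obtain ⟨n1, n2, n3⟩ := Fi23Type.gen_near (k := 0) (by decide)
  obtain ⟨⟨-, hpair⟩, -, -⟩ := Fi23Transp.threeTransp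
  have c07 : Commute (Fi23Index.gen 0) (Fi23Index.gen 7) :=
    ((Fi23Pair.gen_mem_pair (k := 0) (by decide)).2.2.2).symm
  have g00 : Fi23Index.gen 0 * Fi23Index.gen 0 = 1 := genFun_mul_self Fi23Index.gens_all Fi23Index.gens_ok 0
  have g77 : Fi23Index.gen 7 * Fi23Index.gen 7 = 1 := genFun_mul_self Fi23Index.gens_all Fi23Index.gens_ok 7
  have hc : Commute (Fi23Index.gen 0) (Fi23Transp.t * Fi23Index.gen 7) := n3.symm.mul_right c07
  have e : ∀ n, (Fi23Index.gen 0 * Fi23Transp.t * Fi23Index.gen 7) ^ n =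
      Fi23Index.gen 0 ^ n * (Fi23Transp.t * Fi23Index.gen 7) ^ n := fun n => by
    rw [mul_assoc, hc.mul_pow]
  rcases hpair _ h0 _ (Fi23Pts.gen_mem_class (k := 7) (by norm_num)) with h2 | h3
  · rw [e, pow_two, g00, one_mul, pow_two] at h2
    apply Fi23Type.not_commute_seven
    show _ * _ = _ * _
    rw [← inv_eq_of_mul_eq_one_right h2, mul_inv_rev, inv_eq_of_mul_eq_one_right Fi23Transp.t_sq,
      inv_eq_of_mul_eq_one_right g77]
  · rcases hpair _ mem_conjugatesOf_self _ (Fi23Pts.gen_mem_class (k := 7) (by norm_num)) with h | h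
    · apply Fi23Type.not_commute_seven
      rw [pow_two] at h
      show _ * _ = _ * _
      rw [← inv_eq_of_mul_eq_one_right h, mul_inv_rev, inv_eq_of_mul_eq_one_right Fi23Transp.t_sq,
        inv_eq_of_mul_eq_one_right g77]
    · rw [e, h, mul_one, pow_succ, pow_two, g00, one_mul] at h3
      obtain ⟨a, ha⟩ := isConj_iff.1 (n1 : IsConj Fi23Transp.t (Fi23Index.gen 0))
      rw [h3] at ha
      exact Fi23Transp.t_ne (by simpa [mul_assoc] using congrArg (fun y => a⁻¹ * y * a) ha)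

/-- The double cover is injective on the neighbours. -/
theorem double_injOn {x y : Fi23Index.hSub} (hx : (x : Fi23) ∈ nbhd Fi23Transp.t)
    (hy : (y : Fi23) ∈ nbhd Fi23Transp.t) (h : double x = double y) : x = y := by
  have hk : x⁻¹ * y ∈ Subgroup.zpowers Fi23Cover.z := by
    rw [← Fi22Mult.double_ker, MonoidHom.mem_ker, map_mul, map_inv, h, inv_mul_cancel]
  obtain ⟨n, hn⟩ := Subgroup.mem_zpowers_iff.1 hk
  have hz2 : Fi23Cover.z ^ (2 : ℤ) = 1 := by rw [zpow_two, Fi23Cover.z_sq]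
  obtain ⟨k, hk | hk⟩ := Int.even_or_odd' n
  · rw [hk, zpow_mul, hz2, one_zpow] at hn
    exact inv_mul_eq_one.1 hn.symm
  · rw [hk, zpow_add, zpow_mul, hz2, one_zpow, one_mul, zpow_one] at hn
    exfalso
    apply mul_t_notMem hx
    have e : (x : Fi23) * Fi23Transp.t = (y : Fi23) := by
      rw [← Fi23Transp.coe_z, ← Subgroup.coe_mul, hn, mul_inv_cancel_left]
    rw [e]
    exact hy.1

/-- The neighbours of `t` map onto the transpositions. -/
theorem image_near : double '' {x : Fi23Index.hSub | (x : Fi23) ∈ nbhd Fi23Transp.t} = D22 := by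
  have h0 : ((Fi23Cover.sH 0 : Fi23Index.hSub) : Fi23) = Fi23Index.gen 0 :=
    Fi23Cover.coe_sH (by decide)
  have d0 : double (Fi23Cover.sH 0) = FiIndex.gen 0 := double_sH (i := 0) (by norm_num)
  apply Set.Subset.antisymm
  · rintro _ ⟨x, hx, rfl⟩
    obtain ⟨h, hh, e⟩ := Fi23Pts.exists_conj_gen0 hx.1 hx.2.1 hx.2.2
    refine isConj_iff.2 ⟨double ⟨h, hh⟩, ?_⟩
    rw [← d0, ← map_inv, ← map_mul, ← map_mul]
    congr 1
    apply Subtype.ext
    simp only [Subgroup.coe_mul, Subgroup.coe_inv, h0]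
    exact e
  · intro β hβ
    obtain ⟨b, rfl⟩ := isConj_iff.1 (hβ : IsConj (FiIndex.gen 0) β)
    obtain ⟨g, rfl⟩ := Fi22Mult.double_surjective b
    refine ⟨g * Fi23Cover.sH 0 * g⁻¹, ?_, by rw [map_mul, map_mul, map_inv, d0]⟩
    show ((g * Fi23Cover.sH 0 * g⁻¹ : Fi23Index.hSub) : Fi23) ∈ nbhd Fi23Transp.t
    rw [Subgroup.coe_mul, Subgroup.coe_mul, Subgroup.coe_inv, h0]
    exact conj_near g (Fi23Type.gen_near (by decide))

/-- Commuting images of neighbours come from commuting neighbours. -/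
theorem commute_iff {x y : Fi23Index.hSub} (hx : (x : Fi23) ∈ nbhd Fi23Transp.t)
    (hy : (y : Fi23) ∈ nbhd Fi23Transp.t) :
    Commute (double x) (double y) ↔ Commute (x : Fi23) (y : Fi23) := by
  rw [← coe_comm]
  refine ⟨fun h => ?_, fun h => h.map double⟩
  have e : double (x * y * x⁻¹) = double y := by
    rw [map_mul, map_mul, map_inv, h.eq, mul_inv_cancel_right]
  exact mul_inv_eq_iff_eq_mul.1 (double_injOn (conj_near x hy) hy e)

theorem gen_mem {i : ℕ} (hi : i < 9) : FiIndex.gen i ∈ D22 := by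
  have hk : Fi23Cover.idx.getD i 0 ∈ Fi23Cover.idx := by
    rw [List.getD_eq_getElem _ _ hi]; exact List.getElem_mem _
  rw [← image_near, ← double_sH hi]
  exact ⟨_, by show _ ∈ nbhd _; rw [Fi23Cover.coe_sH hk]; exact Fi23Type.gen_near hk, rfl⟩

/-- A transposition given by a word. -/
noncomputable def hit (j : ℕ) : Bool :=
  FiU6Iso.same (FiU6Iso.uWord 7) (Fi22Pts.tword j) && !(Nat.beq j 0)

theorem hit_count : countBelow hit 12 3510 = 1 := by rw [countBelow_fast]; decide +kernel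

theorem fu_near {i : ℕ} (hi : i < 8) : FiU6Iso.fu i ∈ nb (FiIndex.gen 0) := by
  have hc : Commute (FiIndex.gen 0) (FiU6Iso.fu i) := FiU6Iso.gen0_comm hi
  by_cases h7 : i = 7
  · subst h7
    have hn := countBelow_spec hit (d := 12) (n := 3510) (by norm_num)
    rw [hit_count] at hn
    obtain ⟨⟨j, hj⟩⟩ := (Nat.card_pos_iff.1 (by omega : 0 < Nat.card {i : Fin 3510 // hit i.1 = true})).1
    simp only [hit, Bool.and_eq_true, Bool.not_eq_true'] at hj
    have e : FiU6Iso.fu 7 = Fi22Pts.tau j.1 := by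
      rw [FiU6Iso.fu, FiU6Iso.eq_of_same hj.1]; rfl
    refine ⟨e ▸ Fi22Pts.tau_mem _, fun h => ?_, hc⟩
    have := Fi22Pts.tau_inj j.2 (by norm_num : 0 < 3510) (by rw [← e, h, Fi22Pts.tau_zero])
    rw [this] at hj
    simp at hj
  · have hw : ∀ i : Fin 8, i.1 ≠ 7 → FiU6Iso.uWord i.1 = [i.1 + 2] := by decide +kernel
    have e : FiU6Iso.fu i = FiIndex.gen (i + 2) := by
      rw [FiU6Iso.fu, hw ⟨i, hi⟩ h7]; simp [wval]
    refine ⟨e ▸ gen_mem (by omega), fun h => ?_, hc⟩
    have h0 := double_sH (i := 0) (by norm_num)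
    have h2 := double_sH (i := i + 2) (by omega)
    rw [← e, h, ← h0] at h2
    have hk : ∀ i : ℕ, i < 7 → Fi23Cover.idx.getD (i + 2) 0 ∈ Fi23Cover.idx ∧
        Nat.beq ([11589, 8004, 8003, 8000, 8001, 8002, 8005, 8006, 7999, 8007].getD
          (Fi23Cover.idx.getD (i + 2) 0) 0) 11589 = false := by decide +kernel
    obtain ⟨hk1, hk2⟩ := hk i (by omega)
    have := congrArg Subtype.val (double_injOn
      (by rw [Fi23Cover.coe_sH hk1]; exact Fi23Type.gen_near hk1)
      (by rw [Fi23Cover.coe_sH (by decide)]; exact Fi23Type.gen_near (by decide)) h2)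
    rw [Fi23Cover.coe_sH hk1, Fi23Cover.coe_sH (by decide)] at this
    have hpts : ∀ k ∈ Fi23Cover.idx, ∃ x ∈ Fi23Pts.genPts, x.1 = k ∧
        x.2.1 = [11589, 8004, 8003, 8000, 8001, 8002, 8005, 8006, 7999, 8007].getD k 0 := by
      decide +kernel
    obtain ⟨⟨k', p, w⟩, hx, rfl, rfl⟩ := hpts _ hk1
    obtain ⟨ep, hp⟩ := Fi23Pts.ι_gen hx
    have h11 := Fi23Pts.ι_inj hp (q := 11589) (by decide +kernel)
      (by rw [ep, Fi23Pts.ι_gen0]; exact this)
    rw [h11] at hk2
    simp at hk2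

theorem closure_nb : Subgroup.closure (nb (FiIndex.gen 0)) = FiIndex.hSub := by
  haveI := FiOrder.card_le.1
  apply le_antisymm
  · rw [Subgroup.closure_le]
    intro y hy
    obtain ⟨r, hr, h, hh, h', hh', rfl⟩ := FiThreeTrans.cover y
    rcases hr with rfl | hr
    · rw [mul_one]; exact mul_mem hh hh'
    exfalso
    apply FiThreeTrans.not_comm r hr
    have c1 : Commute h (FiIndex.gen 0) := FiThreeTrans.hSub_comm h hh
    have c2 : Commute h' (FiIndex.gen 0) := FiThreeTrans.hSub_comm h' hh'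
    have c3 : Commute (h⁻¹ * (h * r * h') * h'⁻¹) (FiIndex.gen 0) :=
      ((c1.inv_left.mul_left hy.2.2.symm).mul_left c2.inv_left)
    rw [show h⁻¹ * (h * r * h') * h'⁻¹ = r by group] at c3
    exact c3.eq
  · rw [← FiU6Iso.fu_closure]
    refine Subgroup.closure_mono ?_
    rintro _ ⟨i, hi, rfl⟩
    exact fu_near (List.mem_range.1 hi)

/-- The common neighbours of the two images. -/
abbrev S01 : Set Fi23 :=
  nbhd Fi23Transp.t ∩ nbhd (Fi23Index.gen 0) ∩ nbhd (Fi23Index.gen 1)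

theorem not_commute_01 : ¬ Commute (Fi23Index.gen 0) (Fi23Index.gen 1) := by
  intro h
  have hp : (11589 : ℕ) < Fi23C31671.cert.N := by decide +kernel
  have h' := (Fi23Pts.commute_word (w := [1]) (by decide +kernel) hp).1
    (by rw [Fi23Pts.ι_gen0]; simpa [wval] using h.symm)
  exact absurd h' (by decide +kernel)

/-- The common neighbours in Fi23 generate the reflection group. -/
theorem triple_iso :
    Nonempty (↥(Subgroup.closure S01) ≃* ↥(reflectionSubgroup (⇑O7Six.qSix) (2 : ZMod 3))) := by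
  obtain ⟨a1, a2, a3⟩ := Fi23Type.gen_near (k := 0) (by decide)
  obtain ⟨b1, b2, b3⟩ := Fi23Type.gen_near (k := 1) (by decide)
  obtain ⟨c, hc⟩ := isConj_iff.1 ((a1 : IsConj _ _).symm)
  have conjCl : ∀ {g x : Fi23}, x ∈ conjugatesOf Fi23Transp.t → g * x * g⁻¹ ∈ conjugatesOf Fi23Transp.t :=
    fun {g x} hx => by
      obtain ⟨a, rfl⟩ := isConj_iff.1 (hx : IsConj Fi23Transp.t x)
      exact isConj_iff.2 ⟨g * a, by group⟩
  obtain ⟨h, hh, e7⟩ := Fi23Type.exists_conj_gen7 (conjCl (g := c) b1) (fun hcc => not_commute_01 (by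
    rw [← Commute.conj_iff c, hc]; exact hcc))
  set k₂ := h * c with hk₂
  have k0 : k₂ * Fi23Index.gen 0 * k₂⁻¹ = Fi23Transp.t := by
    rw [hk₂, show h * c * Fi23Index.gen 0 * (h * c)⁻¹ = h * (c * Fi23Index.gen 0 * c⁻¹) * h⁻¹ by group, hc,
      Fi23Transp.conj_mem_hSub hh]
  have k1 : k₂ * Fi23Index.gen 1 * k₂⁻¹ = Fi23Index.gen 7 := by
    rw [hk₂, ← e7]; group
  have nbmap : ∀ (k : Fi23) {x s : Fi23}, x ∈ nbhd s → k * x * k⁻¹ ∈ nbhd (k * s * k⁻¹) :=
    fun k {x s} hx => ⟨conjCl hx.1, fun e => hx.2.1 (mul_left_cancel (mul_right_cancel e)),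
      (Commute.conj_iff k).2 hx.2.2⟩
  have ht0 : Fi23Transp.t ∈ nbhd (Fi23Index.gen 0) := ⟨mem_conjugatesOf_self, a2.symm, a3.symm⟩
  have ht1 : Fi23Transp.t ∈ nbhd (Fi23Index.gen 1) := ⟨mem_conjugatesOf_self, b2.symm, b3.symm⟩
  have hx : k₂ * Fi23Transp.t * k₂⁻¹ ∈ nbhd Fi23Transp.t ∩ nbhd (Fi23Index.gen 7) := by
    have h0 := nbmap k₂ ht0
    have h1 := nbmap k₂ ht1
    rw [k0] at h0
    rw [k1] at h1
    exact ⟨h0, h1⟩
  obtain ⟨a, ha, ea⟩ := Fi23Pair.exists_conj_pair hx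
  set k := a⁻¹ * k₂ with hk
  have ai := Subgroup.mem_centralizer_iff.1 (inv_mem ha)
  have kt : k * Fi23Transp.t * k⁻¹ = Fi23Index.gen 0 := by
    rw [hk, show a⁻¹ * k₂ * Fi23Transp.t * (a⁻¹ * k₂)⁻¹ = a⁻¹ * (k₂ * Fi23Transp.t * k₂⁻¹) * a by group, ← ea]
    group
  have kg0 : k * Fi23Index.gen 0 * k⁻¹ = Fi23Transp.t := by
    rw [hk, show a⁻¹ * k₂ * Fi23Index.gen 0 * (a⁻¹ * k₂)⁻¹ = a⁻¹ * (k₂ * Fi23Index.gen 0 * k₂⁻¹) * a by group,
      k0, ← ai _ (Or.inl rfl), inv_mul_cancel_right]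
  have kg1 : k * Fi23Index.gen 1 * k⁻¹ = Fi23Index.gen 7 := by
    rw [hk, show a⁻¹ * k₂ * Fi23Index.gen 1 * (a⁻¹ * k₂)⁻¹ = a⁻¹ * (k₂ * Fi23Index.gen 1 * k₂⁻¹) * a by group,
      k1, ← ai _ (Or.inr rfl), inv_mul_cancel_right]
  have himg : (MulAut.conj k).toMonoidHom '' S01 = Fi23Pair.M6 := by
    apply Set.Subset.antisymm
    · rintro _ ⟨x, ⟨⟨h1, h2⟩, h3⟩, rfl⟩
      exact ⟨⟨kg0 ▸ nbmap k h2, kg1 ▸ nbmap k h3⟩, kt ▸ nbmap k h1⟩
    · rintro x ⟨⟨h1, h2⟩, h3⟩
      refine ⟨k⁻¹ * x * k⁻¹⁻¹, ⟨⟨?_, ?_⟩, ?_⟩, by simp [mul_assoc]⟩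
      · have := nbmap k⁻¹ h3
        rw [show k⁻¹ * Fi23Index.gen 0 * k⁻¹⁻¹ = Fi23Transp.t by rw [← kt]; group] at this
        exact this
      · have := nbmap k⁻¹ h1
        rw [show k⁻¹ * Fi23Transp.t * k⁻¹⁻¹ = Fi23Index.gen 0 by rw [← kg0]; group] at this
        exact this
      · have := nbmap k⁻¹ h2
        rw [show k⁻¹ * Fi23Index.gen 7 * k⁻¹⁻¹ = Fi23Index.gen 1 by rw [← kg1]; group] at this
        exact this
  obtain ⟨e⟩ := Fi23Pair.six_iso
  exact ⟨(((Subgroup.closure S01).equivMapOfInjective _ (MulAut.conj k).injective).trans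
    (MulEquiv.subgroupCongr (by rw [MonoidHom.map_closure, himg]))).trans e⟩

theorem quot_six {T : Set Fi22} (hT : T = nb (FiIndex.gen 0) ∩ nb (FiIndex.gen 1)) :
    IsProjReflectionGroupModThree (↥(Subgroup.closure T) ⧸ Subgroup.center ↥(Subgroup.closure T)) 6 1 2 := by
  subst hT
  have hle : Subgroup.closure S01 ≤ Fi23Index.hSub :=
    (Subgroup.closure_le _).2 fun x hx => near_hSub hx.1.1
  set f : ↥(Subgroup.closure S01) →* Fi22 := double.comp (Subgroup.inclusion hle) with hf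
  have d0 : double (Fi23Cover.sH 0) = FiIndex.gen 0 := double_sH (i := 0) (by norm_num)
  have d1 : double (Fi23Cover.sH 1) = FiIndex.gen 1 := double_sH (i := 1) (by norm_num)
  have c0 : ((Fi23Cover.sH 0 : Fi23Index.hSub) : Fi23) = Fi23Index.gen 0 := Fi23Cover.coe_sH (by decide)
  have c1 : ((Fi23Cover.sH 1 : Fi23Index.hSub) : Fi23) = Fi23Index.gen 1 := Fi23Cover.coe_sH (by decide)
  have hg : ∀ (s : Fi23Index.hSub), (s : Fi23) ∈ nbhd Fi23Transp.t → ∀ x : Fi23Index.hSub,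
      (x : Fi23) ∈ nbhd Fi23Transp.t → (double x ∈ nb (double s) ↔ (x : Fi23) ∈ nbhd (s : Fi23)) := by
    intro s hs x hx
    constructor
    · rintro ⟨-, hne, hc⟩
      exact ⟨hx.1, fun e => hne (congrArg double (Subtype.ext e)), (commute_iff hs hx).1 hc⟩
    · rintro ⟨-, hne, hc⟩
      exact ⟨image_near ▸ ⟨x, hx, rfl⟩, fun e => hne (congrArg Subtype.val (double_injOn hx hs e)),
        (commute_iff hs hx).2 hc⟩
  have n0 : ((Fi23Cover.sH 0 : Fi23Index.hSub) : Fi23) ∈ nbhd Fi23Transp.t := by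
    rw [c0]; exact Fi23Type.gen_near (by decide)
  have n1 : ((Fi23Cover.sH 1 : Fi23Index.hSub) : Fi23) ∈ nbhd Fi23Transp.t := by
    rw [c1]; exact Fi23Type.gen_near (by decide)
  have himg : f '' {u | (u : Fi23) ∈ S01} = nb (FiIndex.gen 0) ∩ nb (FiIndex.gen 1) := by
    apply Set.Subset.antisymm
    · rintro _ ⟨u, ⟨⟨ht, h0⟩, h1⟩, rfl⟩
      rw [← d0, ← d1]
      exact ⟨(hg _ n0 (Subgroup.inclusion hle u) ht).2 (by rw [c0]; exact h0),
        (hg _ n1 (Subgroup.inclusion hle u) ht).2 (by rw [c1]; exact h1)⟩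
    · rintro β ⟨h0, h1⟩
      obtain ⟨x, hx, rfl⟩ : β ∈ double '' _ := image_near.symm ▸ h0.1
      rw [← d0] at h0
      rw [← d1] at h1
      have hx0 := (hg _ n0 x hx).1 h0
      have hx1 := (hg _ n1 x hx).1 h1
      rw [c0] at hx0
      rw [c1] at hx1
      exact ⟨⟨x, Subgroup.subset_closure ⟨⟨hx, hx0⟩, hx1⟩⟩, ⟨⟨hx, hx0⟩, hx1⟩, rfl⟩
  have hgen : Subgroup.closure {u : ↥(Subgroup.closure S01) | (u : Fi23) ∈ S01} = ⊤ := by
    refine Subgroup.map_injective (Subgroup.closure S01).subtype_injective ?_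
    rw [MonoidHom.map_closure, ← MonoidHom.range_eq_map, Subgroup.range_subtype]
    congr 1
    ext x
    exact ⟨by rintro ⟨u, hu, rfl⟩; exact hu, fun hx => ⟨⟨x, Subgroup.subset_closure hx⟩, hx, rfl⟩⟩
  have hrange : f.range = Subgroup.closure (nb (FiIndex.gen 0) ∩ nb (FiIndex.gen 1)) := by
    rw [MonoidHom.range_eq_map, ← hgen, MonoidHom.map_closure, himg]
  -- central images come from central elements
  have hcen : ∀ x, (∀ y, Commute (f x) (f y)) → x ∈ Subgroup.center ↥(Subgroup.closure S01) := by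
    intro x hx
    have hux : ∀ u : ↥(Subgroup.closure S01), (u : Fi23) ∈ S01 → Commute x u := by
      intro u hu
      have e : double (Subgroup.inclusion hle x * Subgroup.inclusion hle u * (Subgroup.inclusion hle x)⁻¹) =
          double (Subgroup.inclusion hle u) := by
        rw [map_mul, map_mul, map_inv]
        show f x * f u * (f x)⁻¹ = f u
        rw [(hx u).eq, mul_inv_cancel_right]
      have h := double_injOn (conj_near (Subgroup.inclusion hle x) hu.1.1) hu.1.1 e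
      exact Subgroup.inclusion_injective hle (by rw [map_mul, map_mul]; exact mul_inv_eq_iff_eq_mul.1 h)
    refine Subgroup.mem_center_iff.2 fun y => ?_
    have hy : y ∈ Subgroup.closure {u : ↥(Subgroup.closure S01) | (u : Fi23) ∈ S01} := by
      rw [hgen]; trivial
    induction hy using Subgroup.closure_induction with
    | mem u hu => exact (hux u hu).symm
    | one => exact Commute.one_left x
    | mul a b _ _ ha hb => exact Commute.mul_left ha hb
    | inv a _ ha => exact Commute.inv_left ha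
  set X := Subgroup.closure (nb (FiIndex.gen 0) ∩ nb (FiIndex.gen 1))
  let f' : ↥(Subgroup.closure S01) →* ↥X :=
    (MulEquiv.subgroupCongr hrange).toMonoidHom.comp f.rangeRestrict
  have hf' : Function.Surjective f' :=
    (MulEquiv.subgroupCongr hrange).surjective.comp f.rangeRestrict_surjective
  have hcoe : ∀ x, ((f' x : ↥X) : Fi22) = f x := fun x => rfl
  let q := (QuotientGroup.mk' (Subgroup.center ↥X)).comp f'
  have hq : Function.Surjective q := (QuotientGroup.mk'_surjective _).comp hf'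
  have hker : q.ker = Subgroup.center ↥(Subgroup.closure S01) := by
    ext x
    rw [MonoidHom.mem_ker]
    show (QuotientGroup.mk' (Subgroup.center ↥X)) (f' x) = 1 ↔ _
    rw [QuotientGroup.mk'_apply, QuotientGroup.eq_one_iff, Subgroup.mem_center_iff]
    constructor
    · intro h
      refine hcen x fun y => ?_
      have := congrArg Subtype.val (h (f' y))
      rw [Subgroup.coe_mul, Subgroup.coe_mul, hcoe, hcoe] at this
      exact this.symm
    · intro h g
      obtain ⟨y, rfl⟩ := hf' g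
      rw [← map_mul, ← map_mul, Subgroup.mem_center_iff.1 h y]
  obtain ⟨e⟩ := triple_iso
  exact ⟨O7Six.qSix, O7Six.qSix_nondegenerate, O7Six.qSix_det,
    ⟨((QuotientGroup.quotientKerEquivOfSurjective q hq).symm.trans
      (QuotientGroup.quotientMulEquivOfEq hker)).trans (ClassicalSimple.centerQuotientCongr e)⟩⟩

theorem quot_u6 {S : Set Fi22} (hS : S = nb (FiIndex.gen 0)) :
    Nonempty (↥(Subgroup.closure S) ⧸ Subgroup.center ↥(Subgroup.closure S) ≃* Cfsg.PSU 6 FiU6.K 2) := by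
  subst hS
  obtain ⟨-, ⟨e⟩, -⟩ := FiU6Iso.isNonsplitDoubleCover
  exact ⟨(ClassicalSimple.centerQuotientCongr (MulEquiv.subgroupCongr closure_nb)).trans e⟩

theorem not_commute_01' : ¬ Commute (FiIndex.gen 0) (FiIndex.gen 1) := by
  have d0 : double (Fi23Cover.sH 0) = FiIndex.gen 0 := double_sH (i := 0) (by norm_num)
  have d1 : double (Fi23Cover.sH 1) = FiIndex.gen 1 := double_sH (i := 1) (by norm_num)
  have c0 : ((Fi23Cover.sH 0 : Fi23Index.hSub) : Fi23) = Fi23Index.gen 0 := Fi23Cover.coe_sH (by decide)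
  have c1 : ((Fi23Cover.sH 1 : Fi23Index.hSub) : Fi23) = Fi23Index.gen 1 := Fi23Cover.coe_sH (by decide)
  intro h
  rw [← d0, ← d1] at h
  have := (commute_iff (by rw [c0]; exact Fi23Type.gen_near (by decide))
    (by rw [c1]; exact Fi23Type.gen_near (by decide))).1 h
  rw [c0, c1] at this
  exact not_commute_01 this

/-- The presented Fi22 is of type M(22). -/
theorem type22 : IsOfTypeM22 Fi22 D22 :=
  ⟨Fi23Cover.center_fi22, FiIndex.gen 0, mem_conjugatesOf_self, FiIndex.gen 1, gen_mem (by norm_num),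
    not_commute_01', ⟨FiU6.K, inferInstance, inferInstance, by rw [FiU6.hK]; norm_num, quot_u6 rfl⟩,
    2, by decide, quot_six rfl⟩

end Cfsg.Agent.Presented.Fi22Type
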