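import Cfsg.Agent.Lib.Presented.Fi22MultBound
import Cfsg.Agent.Lib.Presented.Fi23Cover

/-!
# The double cover of Fi22 with a given class of lifts

A perfect double cover of `Fi22` is the centraliser of a transposition in `Fi23`, by an isomorphism
taking the first generator into either class of lifts of transpositions (`exists_cover_iso`).
-/

set_option autoImplicit false
set_option maxRecDepth 20000

namespace Cfsg.Agent.Presented.Fi23Lifts

open Cfsg.Spor Cfsg.Agent.Presented FiIndex Fi22Mult

section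

variable {Γ : Type*} [Group Γ]

/-- Involutions with the Coxeter relations, trivial first word and spider, and value `z` of the second word. -/
structure Std (s : ℕ → Γ) (z : Γ) : Prop where
  sq : ∀ g, s g * s g = 1
  cox : ∀ b ∈ coxWords, wval s b = 1
  w9_eq : wval s w9 = 1
  spider_eq : wval s spider = 1
  v9_eq : wval s v9 = z
  central : ∀ x, Commute z x

theorem conj_shift (v r x c : Γ) : v * r⁻¹ * (r * x * r⁻¹) * (v * r⁻¹)⁻¹ * c = v * x * v⁻¹ * c := by
  group

/-- The exchange of the long arms. -/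
def arm (k : ℕ) : ℕ := [6, 5, 4, 3, 2, 1, 0, 7, 8].getD k k

theorem wval_twist {s : ℕ → Γ} {z : Γ} (hz : ∀ x, Commute z x) (u : List ℕ) :
    wval (fun k => s k * z) u = wval s u * z ^ u.length := by
  induction u with
  | nil => simp [wval]
  | cons a l ih =>
    rw [wval, wval, ih, List.length_cons, pow_succ']
    calc wval s l * z ^ l.length * (s a * z) = wval s l * (z ^ l.length * s a) * z := by group
      _ = _ := by rw [((hz (s a)).pow_left l.length).eq]; group

end

/-- The exchange of the long arms as an automorphism of `Fi22`. -/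
theorem exists_swap : ∃ f : Fi22 →* Fi22, Function.Bijective f ∧ ∀ k, f (gen (arm k)) = gen k := by
  have hsq : ∀ k, gen (arm k) * gen (arm k) = 1 := fun k => genFun_mul_self gens_all gens_ok _
  have hrel : ∀ r ∈ coxRelators Fi22.edges ∪ {r | r ∈ Fi22.extra},
      FreeGroup.lift (fun x => gen (arm (gens.idxOf x))) r = 1 := by
    intro r hr
    rw [lift_eq_wval _ (fun x => hsq _) gens_all (fun k => gen (arm k)) (fun _ => rfl)]
    have hall : (((relList gens Fi22.edges Fi22.extra).map (letters gens)).all fun w =>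
        same (w.map arm) []) = true := by decide +kernel
    have h := eq_of_same (List.all_eq_true.mp hall _ (List.mem_map.mpr ⟨r, mem_relList gens_all hr, rfl⟩))
    rw [← wval_comp] at h
    exact h
  let f : Fi22 →* Fi22 := PresentedGroup.toGroup hrel
  have hf : ∀ k, k < 9 → f (gen k) = gen (arm k) := by
    intro k hk
    have hlt : k < gens.length := hk
    rw [show gen k = PresentedGroup.of gens[k] from by simp [gen, genFun, hlt], PresentedGroup.toGroup.of,
      gens_nodup.idxOf_getElem _ hlt]
  have harm : ∀ k, arm (arm k) = k := by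
    intro k
    by_cases hk : k < 9
    · interval_cases k <;> rfl
    · have h1 : arm k = k := List.getD_eq_default _ _ (by simpa using hk)
      rw [h1, h1]
  have hfa : ∀ k, f (gen (arm k)) = gen k := by
    intro k
    by_cases hk : k < 9
    · have h9 : arm k < 9 := by interval_cases k <;> decide
      rw [hf _ h9, harm]
    · have hlen : ¬ k < gens.length := hk
      rw [show arm k = k from List.getD_eq_default _ _ (by simpa using hk)]
      simp [gen, genFun, hlen]
  have hinv : ∀ x, f (f x) = x := by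
    intro x
    have h : f.comp f = MonoidHom.id Fi22 := by
      refine PresentedGroup.ext fun y => ?_
      have hy : gens.idxOf y < 9 := List.idxOf_lt_length_of_mem (gens_all y)
      rw [MonoidHom.comp_apply, ← genFun_idxOf gens_all y]
      show f (f (gen _)) = gen _
      rw [hf _ hy, hfa]
    exact DFunLike.congr_fun h x
  exact ⟨f, Function.Involutive.bijective hinv, hfa⟩

/-- Lifts in either of the two classes. -/
theorem exists_std {Γ : Type} [Group Γ] [Finite Γ] (σ : Γ →* Fi22) (hσ : Function.Surjective σ) {z : Γ}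
    (hz1 : z ≠ 1) (hker : ∀ x, σ x = 1 ↔ x = 1 ∨ x = z) (hzc : ∀ x, Commute z x)
    (hperf : commutator Γ = ⊤) :
    ∃ s s' : ℕ → Γ, Std s z ∧ Std s' z ∧ (∀ k, σ (s k) = gen k) ∧ s' 0 = s 6 * z ∧
      (∀ k, 9 ≤ k → σ (s' k) = 1) ∧ Subgroup.closure (Set.range s) = ⊤ ∧ Subgroup.closure (Set.range s') = ⊤ := by
  have hc : σ.ker ≤ Subgroup.center Γ := by
    intro x hx
    rw [Subgroup.mem_center_iff]
    intro y
    rcases (hker x).1 hx with rfl | rfl
    · simp
    · exact (hzc y).eq.symm
  have hzσ : σ z = 1 := (hker z).2 (Or.inr rfl)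
  have hz2 : z * z = 1 := by
    rcases (hker (z * z)).1 (by rw [map_mul, hzσ, mul_one]) with h | h
    · exact h
    · exact absurd (mul_eq_left.mp h) hz1
  have spider_one : ∀ (τ : Γ →* Fi22) (s : ℕ → Γ), (∀ x, τ x = 1 ↔ σ x = 1) → (∀ g, τ (s g) = gen g) →
      (∀ g, s g * s g = 1) → (∀ b ∈ coxWords, wval s b = 1) → wval s spider = 1 := by
    intro τ s hτ hs hsq hcox
    obtain ⟨h1, h3⟩ := spider_cube τ hs hsq hcox (fun x hx => hc ((hτ x).1 hx))
    rcases (hker _).1 ((hτ _).1 h1) with e | e
    · exact e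
    · rw [e, pow_succ, pow_two, hz2, one_mul] at h3
      exact absurd h3 hz1
  obtain ⟨s, hs, hsq, hcox, h9, -⟩ := exists_lifts σ hσ hc
  have hsp := spider_one σ s (fun _ => Iff.rfl) hs hsq hcox
  have hv : wval s v9 = z := by
    have hle := ker_le σ hs hsq hcox hσ hc hperf h9 (show z ∈ σ.ker from hzσ)
    have hσv : σ (wval s v9) = 1 := by
      rw [map_word σ hs]; exact eq_of_same (v := []) (by decide +kernel)
    rcases (hker _).1 hσv with e | e
    · rw [e, hsp, Set.pair_eq_singleton, Subgroup.closure_singleton_one, Subgroup.mem_bot] at hle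
      exact absurd hle hz1
    · exact e
  let s' : ℕ → Γ := fun k => s (arm k) * z
  have hw' : ∀ u, wval s' u = wval s (u.map arm) * z ^ u.length := fun u => by
    rw [show s' = fun k => (fun j => s (arm j)) k * z from rfl, wval_twist hzc, ← wval_comp]
  have hzpow : ∀ n, z ^ (2 * n) = 1 := fun n => by rw [pow_mul, pow_two, hz2, one_pow]
  have hsq' : ∀ g, s' g * s' g = 1 := fun g => by
    show s (arm g) * z * (s (arm g) * z) = 1
    calc s (arm g) * z * (s (arm g) * z) = s (arm g) * (z * s (arm g)) * z := by group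
      _ = s (arm g) * (s (arm g) * z) * z := by rw [(hzc (s (arm g))).eq]
      _ = 1 := by rw [← mul_assoc, hsq, one_mul, hz2]
  have hcox' : ∀ b ∈ coxWords, wval s' b = 1 := by
    intro b hb
    have hall : (coxWords.all fun b => Fi23Mult.fromBase coxWords (b.map arm) && Nat.beq (b.length % 2) 0) =
        true := by decide +kernel
    have h := List.all_eq_true.mp hall b hb
    simp only [Bool.and_eq_true, Nat.beq_eq] at h
    rw [hw', Fi23Mult.wval_fromBase hsq hcox h.1, one_mul, ← Nat.div_add_mod b.length 2, h.2, add_zero, hzpow]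
  have hrot : ∀ (p q : List ℕ) (c : Γ), (∀ x, Commute c x) → wval s (p ++ q) = c → wval s (q ++ p) = c := by
    intro p q c hc' h
    rw [wval_append] at h ⊢
    have e : wval s p = (wval s q)⁻¹ * c := by rw [← h]; group
    rw [e]
    calc (wval s q)⁻¹ * c * wval s q = (wval s q)⁻¹ * (c * wval s q) := by group
      _ = c := by rw [(hc' (wval s q)).eq]; group
  have hlen : w9.length = 2 * 31 + 1 ∧ v9.length = 2 * 31 + 1 := by decide +kernel
  have h9' : wval s' w9 = 1 := by
    have e : w9.map arm = (v9.reverse.drop 1) ++ v9.reverse.take 1 := by decide +kernel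
    have hr : wval s v9.reverse = z := by
      rw [wval_reverse hsq, hv, inv_eq_of_mul_eq_one_right hz2]
    rw [hw', e, hrot _ _ z hzc (by rw [List.take_append_drop]; exact hr), hlen.1, pow_succ, hzpow, one_mul,
      hz2]
  have hv' : wval s' v9 = z := by
    have e : v9.map arm = (w9.reverse.drop 1) ++ w9.reverse.take 1 := by decide +kernel
    have hr : wval s w9.reverse = 1 := by rw [wval_reverse hsq, h9, inv_one]
    rw [hw', e, hrot _ _ 1 (fun x => Commute.one_left x) (by rw [List.take_append_drop]; exact hr), hlen.2,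
      pow_succ, hzpow, one_mul, one_mul]
  have hhigh' : ∀ k, 9 ≤ k → σ (s' k) = 1 := fun k hk => by
    show σ (s (arm k) * z) = 1
    have : ¬ k < gens.length := by show ¬ k < 9; omega
    rw [map_mul, hzσ, mul_one, hs, show arm k = k from List.getD_eq_default _ _ (by simpa using hk)]
    simp [gen, genFun, this]
  obtain ⟨f, hf, hfa⟩ := exists_swap
  have hs' : ∀ g, (f.comp σ) (s' g) = gen g := fun g => by
    show f (σ (s (arm g) * z)) = _
    rw [map_mul, hzσ, mul_one, hs, hfa]
  have hsp' := spider_one (f.comp σ) s' (fun x => by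
    rw [MonoidHom.comp_apply]
    exact ⟨fun h => hf.1 (h.trans (map_one f).symm), fun h => by rw [h, map_one]⟩) hs' hsq' hcox'
  have gen_top : ∀ (τ : Γ →* Fi22) (t : ℕ → Γ), (∀ x, τ x = 1 ↔ σ x = 1) → (∀ g, τ (t g) = gen g) →
      wval t v9 = z → Subgroup.closure (Set.range t) = ⊤ := by
    intro τ t hτ ht htv
    set K := Subgroup.closure (Set.range t)
    have hw : ∀ w, wval t w ∈ K := by
      intro w
      induction w with
      | nil => exact one_mem _
      | cons a l ih => exact mul_mem ih (Subgroup.subset_closure ⟨a, rfl⟩)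
    rw [eq_top_iff]
    intro x _
    have hx : τ x ∈ K.map τ := by
      have htop : Subgroup.closure (Set.range fun g => gen g) = ⊤ := by
        rw [eq_top_iff, ← PresentedGroup.closure_range_of, Subgroup.closure_le]
        rintro _ ⟨y, rfl⟩
        exact Subgroup.subset_closure ⟨gens.idxOf y, genFun_idxOf gens_all y⟩
      rw [show K.map τ = ⊤ by
        rw [← htop, MonoidHom.map_closure, ← Set.range_comp]
        exact congrArg Subgroup.closure (congrArg Set.range (funext ht))]
      trivial
    obtain ⟨y, hy, e⟩ := hx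
    rcases (hker (y⁻¹ * x)).1 ((hτ _).1 (by rw [map_mul, map_inv, e, inv_mul_cancel])) with h | h
    · rwa [← inv_mul_eq_one.1 h]
    · rw [show x = y * z by rw [← h, mul_inv_cancel_left]]
      exact mul_mem hy (htv ▸ hw v9)
  exact ⟨s, s', ⟨hsq, hcox, h9, hsp, hv, hzc⟩, ⟨hsq', hcox', h9', hsp', hv', hzc⟩, hs, rfl, hhigh',
    gen_top σ s (fun _ => Iff.rfl) hs hv,
    gen_top (f.comp σ) s' (fun x => by
      rw [MonoidHom.comp_apply]
      exact ⟨fun h => hf.1 (h.trans (map_one f).symm), fun h => by rw [h, map_one]⟩) hs' hv'⟩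

/-- The generators of the double cover in the numbering of `Fi22`. -/
noncomputable def sI (k : ℕ) : Fi23Index.hSub := Fi23Cover.sH (Fi23Cover.idx.getD k 10)

theorem std_cover : Std sI Fi23Cover.z := by
  have hok : ∀ {u v : List ℕ}, Fi23Cover.sameH (u.map fun k => Fi23Cover.idx.getD k 10)
      (v.map fun k => Fi23Cover.idx.getD k 10) = true → wval sI u = wval sI v := fun {u v} h => by
    have e := Fi23Cover.eq_of_sameH h
    rwa [← wval_comp, ← wval_comp] at e
  have hcx : (coxWords.all fun b => Fi23Cover.sameH (b.map fun k => Fi23Cover.idx.getD k 10)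
      (List.map (fun k => Fi23Cover.idx.getD k 10) [])) = true := by decide +kernel
  refine ⟨fun g => Fi23Cover.sH_sq _, fun b hb => hok (v := []) (List.all_eq_true.mp hcx b hb),
    hok (v := []) (by decide +kernel), hok (v := []) (by decide +kernel), ?_, fun x => (Fi23Cover.z_central x).symm⟩
  show wval sI v9 = wval Fi23Cover.sH Fi23Chain.zWord
  rw [show Fi23Chain.zWord = v9.map fun k => Fi23Cover.idx.getD k 10 by decide +kernel, ← wval_comp]
  rfl

theorem closure_sI : Subgroup.closure (Set.range sI) = ⊤ := by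
  rw [eq_top_iff, ← Fi23Cover.closure_sH, Subgroup.closure_le]
  rintro _ ⟨k, hk, rfl⟩
  refine Subgroup.subset_closure ⟨Fi23Cover.idx.idxOf k, ?_⟩
  have hlt : Fi23Cover.idx.idxOf k < Fi23Cover.idx.length := List.idxOf_lt_length_of_mem hk
  rw [sI, List.getD_eq_getElem _ _ hlt, List.getElem_idxOf]

theorem card_closure_le {P : Type*} [Group P] [Finite P] {p : ℕ → P} {ζ : P} (h : Std p ζ) (h2 : ζ * ζ = 1) :
    Nat.card (Subgroup.closure (Set.range fun k : Fin 9 => p k.1)) ≤ 2 * Nat.card Fi22 := by
  haveI := FiOrder.card_le.1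
  set N := Subgroup.zpowers ζ with hN
  haveI : N.Normal := ⟨fun a ha x => by
    obtain ⟨n, rfl⟩ := Subgroup.mem_zpowers_iff.mp ha
    rw [((h.central x).zpow_left n).symm.eq, mul_inv_cancel_right]; exact ⟨n, rfl⟩⟩
  let q : ℕ → P ⧸ N := fun g => QuotientGroup.mk' N (p g)
  have hq : ∀ g, q g * q g = 1 := fun g => by rw [← map_mul, h.sq, map_one]
  have hbase : ∀ b ∈ coxWords ++ [w9, v9, spider], wval q b = 1 := by
    intro b hb
    rw [show wval q b = QuotientGroup.mk' N (wval p b) from (Fi23Cover.map_wval _ _ _).symm]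
    simp only [List.mem_append, List.mem_cons, List.not_mem_nil, or_false] at hb
    rcases hb with hb | rfl | rfl | rfl
    · rw [h.cox b hb, map_one]
    · rw [h.w9_eq, map_one]
    · rw [h.v9_eq]; exact (QuotientGroup.eq_one_iff _).mpr (Subgroup.mem_zpowers ζ)
    · rw [h.spider_eq, map_one]
  have hrel : ∀ r ∈ coxRelators Fi22.edges ∪ {r | r ∈ Fi22.extra},
      FreeGroup.lift (fun x => q (gens.idxOf x)) r = 1 := by
    intro r hr
    rw [lift_eq_wval _ (fun x => hq _) gens_all q (fun _ => rfl)]
    refine Fi23Mult.wval_fromBase hq hbase ?_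
    have hall : (((relList gens Fi22.edges Fi22.extra).map (letters gens)).all fun w =>
        Fi23Mult.fromBase (coxWords ++ [w9, v9, spider]) w) = true := by decide +kernel
    exact List.all_eq_true.mp hall _ (List.mem_map.mpr ⟨r, mem_relList gens_all hr, rfl⟩)
  let φ : Fi22 →* P ⧸ N := PresentedGroup.toGroup hrel
  set H := Subgroup.closure (Set.range fun k : Fin 9 => p k.1)
  have hmap : H.map (QuotientGroup.mk' N) ≤ φ.range := by
    rw [MonoidHom.map_closure, Subgroup.closure_le]
    rintro _ ⟨_, ⟨k, rfl⟩, rfl⟩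
    have hlt : k.1 < gens.length := k.2
    refine ⟨PresentedGroup.of gens[k.1], ?_⟩
    rw [PresentedGroup.toGroup.of, gens_nodup.idxOf_getElem _ hlt]
  have hle : H ≤ (φ.range.comap (QuotientGroup.mk' N)) := Subgroup.map_le_iff_le_comap.mp hmap
  calc Nat.card H ≤ Nat.card (φ.range.comap (QuotientGroup.mk' N)) := Subgroup.card_le_of_le hle
    _ ≤ 2 * Nat.card Fi22 := by
      set M := φ.range.comap (QuotientGroup.mk' N)
      have hNM : N ≤ M := fun a ha => by
        show QuotientGroup.mk' N a ∈ φ.range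
        rw [QuotientGroup.mk'_apply, (QuotientGroup.eq_one_iff a).mpr ha]; exact one_mem _
      have h1 : N.relIndex M = Nat.card φ.range := by
        have := Subgroup.relIndex_comap (⊥ : Subgroup (P ⧸ N)) (QuotientGroup.mk' N) M
        rw [show (⊥ : Subgroup (P ⧸ N)).comap (QuotientGroup.mk' N) = N by
          rw [MonoidHom.comap_bot, QuotientGroup.ker_mk'], Subgroup.relIndex_bot_left,
          Subgroup.map_comap_eq_self_of_surjective (QuotientGroup.mk'_surjective N)] at this
        exact this
      have hN2 : Nat.card N ≤ 2 := by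
        rw [hN, Nat.card_zpowers]
        exact Nat.le_of_dvd two_pos (orderOf_dvd_of_pow_eq_one (by rw [pow_two, h2]))
      have hr : Nat.card φ.range ≤ Nat.card Fi22 :=
        Nat.le_of_dvd Nat.card_pos (Subgroup.card_range_dvd φ)
      have h2' := Subgroup.relIndex_mul_relIndex ⊥ N M bot_le hNM
      simp only [Subgroup.relIndex_bot_left, h1] at h2'
      rw [← h2']
      exact Nat.mul_le_mul hN2 hr

/-- The isomorphism from the double cover to a group with standard lifts. -/
theorem exists_iso_of_std {Γ : Type} [Group Γ] [Finite Γ] {s : ℕ → Γ} {z : Γ} (h : Std s z)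
    (h2 : z * z = 1) (htop : Subgroup.closure (Set.range fun k : Fin 9 => s k.1) = ⊤)
    (hcard : Nat.card Γ = 2 * Nat.card Fi22) :
    ∃ Ψ : Fi23Index.hSub ≃* Γ, Ψ Fi23Cover.z = z ∧ ∀ k < 9, Ψ (sI k) = s k := by
  haveI := Fi23Order.card_le.1
  haveI := FiOrder.card_le.1
  let p : ℕ → Γ × Fi23Index.hSub := fun k => (s k, sI k)
  have hwp : ∀ w, wval p w = (wval s w, wval sI w) := by
    intro w
    induction w with
    | nil => rfl
    | cons a l ih => rw [wval, wval, wval, ih]; rfl
  have hp : Std p (z, Fi23Cover.z) :=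
    ⟨fun g => Prod.ext (h.sq g) (std_cover.sq g),
      fun b hb => by rw [hwp, h.cox b hb, std_cover.cox b hb]; rfl,
      by rw [hwp, h.w9_eq, std_cover.w9_eq]; rfl,
      by rw [hwp, h.spider_eq, std_cover.spider_eq]; rfl,
      by rw [hwp, h.v9_eq, std_cover.v9_eq],
      fun x => Prod.ext (h.central x.1).eq (std_cover.central x.2).eq⟩
  have hle := card_closure_le hp (Prod.ext h2 Fi23Cover.z_sq)
  set H := Subgroup.closure (Set.range fun k : Fin 9 => p k.1)
  let p₁ : H →* Γ := (MonoidHom.fst _ _).comp H.subtype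
  let p₂ : H →* Fi23Index.hSub := (MonoidHom.snd _ _).comp H.subtype
  have hI9 : Subgroup.closure (Set.range fun k : Fin 9 => sI k.1) = ⊤ := by
    rw [eq_top_iff, ← closure_sI, Subgroup.closure_le]
    rintro _ ⟨k, rfl⟩
    by_cases hk : k < 9
    · exact Subgroup.subset_closure ⟨⟨k, hk⟩, rfl⟩
    · have h10 : Fi23Cover.idx.getD k 10 = 10 := List.getD_eq_default _ _ (by simpa [Fi23Cover.idx] using hk)
      rw [sI, h10, SetLike.mem_coe, Fi23Cover.sH, dif_neg (by decide)]
      exact one_mem _
  have s₁ : Function.Surjective p₁ := by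
    rw [← MonoidHom.range_eq_top, MonoidHom.range_comp, Subgroup.range_subtype, MonoidHom.map_closure,
      ← Set.range_comp]
    exact htop
  have s₂ : Function.Surjective p₂ := by
    rw [← MonoidHom.range_eq_top, MonoidHom.range_comp, Subgroup.range_subtype, MonoidHom.map_closure,
      ← Set.range_comp]
    exact hI9
  have hcI : Nat.card Fi23Index.hSub = 2 * Nat.card Fi22 := by
    rw [Fi23Order.card_hSub, FiOrder.card_fi22]
  have b₁ := s₁.bijective_of_nat_card_le (by rw [hcard]; exact hle)
  have b₂ := s₂.bijective_of_nat_card_le (by rw [hcI]; exact hle)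
  let Ψ := (MulEquiv.ofBijective p₂ b₂).symm.trans (MulEquiv.ofBijective p₁ b₁)
  have key : ∀ x : H, Ψ (x : Γ × Fi23Index.hSub).2 = (x : Γ × Fi23Index.hSub).1 := by
    intro x
    show (MulEquiv.ofBijective p₁ b₁) ((MulEquiv.ofBijective p₂ b₂).symm (p₂ x)) = p₁ x
    rw [show (MulEquiv.ofBijective p₂ b₂).symm (p₂ x) = x from (MulEquiv.ofBijective p₂ b₂).symm_apply_apply x]
    rfl
  have hmem : ∀ k < 9, p k ∈ H := fun k hk => Subgroup.subset_closure ⟨⟨k, hk⟩, rfl⟩
  refine ⟨Ψ, ?_, fun k hk => key ⟨p k, hmem k hk⟩⟩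
  have hv : wval p v9 ∈ H := by
    have : ∀ w : List ℕ, (∀ a ∈ w, a < 9) → wval p w ∈ H := by
      intro w
      induction w with
      | nil => intro _; exact one_mem _
      | cons a l ih => intro hw; exact mul_mem (ih fun x hx => hw x (List.mem_cons_of_mem _ hx)) (hmem a (hw a List.mem_cons_self))
    exact this v9 (by decide +kernel)
  have h' := key ⟨wval p v9, hv⟩
  simp only [hp.v9_eq] at h'
  exact h'

/-- A perfect double cover of `Fi22` is the double cover in `Fi23`, with a prescribed lift class. -/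
theorem exists_cover_iso {C : Type*} [Group C] [Finite C] (π : C →* Fi22) (hπ : Function.Surjective π)
    {z : C} (hz1 : z ≠ 1) (hker : ∀ x, π x = 1 ↔ x = 1 ∨ x = z) (hzc : ∀ x, Commute z x)
    (hperf : commutator C = ⊤) {a : C} (ha : IsConj (gen 0) (π a)) :
    ∃ Ψ : Fi23Index.hSub ≃* C, Ψ Fi23Cover.z = z ∧ IsConj (Ψ (sI 0)) a := by
  haveI := FiOrder.card_le.1
  let Γ := Shrink.{0} C
  let ε : Γ ≃* C := Shrink.mulEquiv
  let σ : Γ →* Fi22 := π.comp ε.toMonoidHom
  have hker' : ∀ x, σ x = 1 ↔ x = 1 ∨ x = ε.symm z := fun x => by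
    show π (ε x) = 1 ↔ _
    rw [hker, MulEquiv.map_eq_one_iff, ← ε.eq_symm_apply]
  have hperf' : commutator Γ = ⊤ := by
    rw [commutator_def, ← Subgroup.map_top_of_surjective ε.symm.toMonoidHom ε.symm.surjective,
      ← Subgroup.map_commutator, ← commutator_def, hperf]
  have hz1' : ε.symm z ≠ 1 := fun h => hz1 ((MulEquiv.map_eq_one_iff _).1 h)
  have hzc' : ∀ x, Commute (ε.symm z) x := fun x => by
    simpa using (hzc (ε x)).map ε.symm
  have hσs : Function.Surjective σ := fun x => by
    obtain ⟨y, rfl⟩ := hπ x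
    exact ⟨ε.symm y, congrArg π (ε.apply_symm_apply y)⟩
  have hσe : ∀ y, σ (ε.symm y) = π y := fun y => congrArg π (ε.apply_symm_apply y)
  obtain ⟨s, s', hs, hs', hlift, h0, hhigh', htop, htop'⟩ :=
    exists_std σ hσs hz1' hker' hzc' hperf'
  have hsI : ∀ {s : ℕ → Γ}, Std s (ε.symm z) → Subgroup.closure (Set.range s) = ⊤ →
      (∀ k, 9 ≤ k → σ (s k) = 1) → Subgroup.closure (Set.range fun k : Fin 9 => s k.1) = ⊤ := by
    intro s hs htop hhigh
    set K := Subgroup.closure (Set.range fun k : Fin 9 => s k.1)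
    have hzK : ε.symm z ∈ K := by
      have : ∀ w : List ℕ, (∀ a ∈ w, a < 9) → wval s w ∈ K := by
        intro w
        induction w with
        | nil => intro _; exact one_mem _
        | cons a l ih =>
          intro hw
          exact mul_mem (ih fun x hx => hw x (List.mem_cons_of_mem _ hx))
            (Subgroup.subset_closure ⟨⟨a, hw a List.mem_cons_self⟩, rfl⟩)
      exact hs.v9_eq ▸ this v9 (by decide +kernel)
    rw [eq_top_iff, ← htop, Subgroup.closure_le]
    rintro _ ⟨k, rfl⟩
    by_cases hk : k < 9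
    · exact Subgroup.subset_closure ⟨⟨k, hk⟩, rfl⟩
    · rcases (hker' _).1 (hhigh k (by omega)) with e | e <;> rw [e]
      exacts [one_mem _, hzK]
  have hgen : ∀ k, 9 ≤ k → gen k = 1 := fun k hk => by
    have : ¬ k < gens.length := by show ¬ k < 9; omega
    simp [gen, genFun, this]
  have h9 := hsI hs htop fun k hk => by rw [hlift, hgen k hk]
  have h9' := hsI hs' htop' hhigh'
  have hz2 : ε.symm z * ε.symm z = 1 := by
    rcases (hker' (ε.symm z * ε.symm z)).1 (by rw [map_mul, (hker' _).2 (Or.inr rfl), mul_one]) with h | h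
    · exact h
    · exact absurd (mul_eq_left.mp h) hz1'
  have hcard : Nat.card Γ = 2 * Nat.card Fi22 := by
    rw [← Subgroup.card_mul_index σ.ker, Subgroup.index_ker, MonoidHom.range_eq_top.2 hσs,
      Subgroup.card_top]
    congr 1
    have : (σ.ker : Set Γ) = {1, ε.symm z} := by
      ext x; simpa [MonoidHom.mem_ker] using hker' x
    rw [← SetLike.coe_sort_coe, this, Nat.card_coe_set_eq, Set.ncard_pair hz1'.symm]
  obtain ⟨g, hg⟩ := isConj_iff.1 ha
  obtain ⟨g', rfl⟩ := hπ g
  -- the two lifts over the class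
  have h06 : IsConj (s 0) (s 6) := by
    have step : ∀ {x y : ℕ},
        (List.replicate 3 [x, y]).flatten ∈ coxWords → IsConj (s y) (s x) := by
      intro x y h
      have e := hs.cox _ h
      rw [wval_replicate] at e
      simp only [wval, one_mul] at e
      refine isConj_iff.2 ⟨s y * s x, ?_⟩
      rw [pow_succ, pow_two] at e
      rw [mul_inv_rev, inv_eq_of_mul_eq_one_right (hs.sq x), inv_eq_of_mul_eq_one_right (hs.sq y)]
      calc s y * s x * s y * (s x * s y)
          = (s y * s x * (s y * s x) * (s y * s x)) * (s x)⁻¹ := by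
            simp only [mul_assoc, mul_inv_cancel, mul_one]
        _ = s x := by rw [e, one_mul, inv_eq_of_mul_eq_one_right (hs.sq x)]
    have m : ∀ a < 6, IsConj (s a) (s (a + 1)) := fun a ha => by
      refine step (x := a + 1) (y := a) ?_
      interval_cases a <;> decide +kernel
    exact (((((m 0 (by norm_num)).trans (m 1 (by norm_num))).trans (m 2 (by norm_num))).trans
      (m 3 (by norm_num))).trans (m 4 (by norm_num))).trans (m 5 (by norm_num))
  have hcase : IsConj (s 0) (ε.symm a) ∨ IsConj (s' 0) (ε.symm a) := by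
    have hy : σ (ε.symm g' * s 0 * (ε.symm g')⁻¹) = σ (ε.symm a) := by
      rw [map_mul, map_mul, map_inv, hlift, hσe, hσe]
      exact hg
    rcases (hker' ((ε.symm g' * s 0 * (ε.symm g')⁻¹)⁻¹ * ε.symm a)).1
      (by rw [map_mul, map_inv, hy, inv_mul_cancel]) with e | e
    · exact Or.inl (isConj_iff.2 ⟨_, inv_mul_eq_one.1 e⟩)
    · refine Or.inr ?_
      obtain ⟨r, hr⟩ := isConj_iff.1 h06
      rw [h0]
      refine isConj_iff.2 ⟨ε.symm g' * r⁻¹, ?_⟩
      rw [inv_mul_eq_iff_eq_mul.1 e]
      calc _ = ε.symm g' * r⁻¹ * s 6 * (ε.symm z * (ε.symm g' * r⁻¹)⁻¹) := by simp only [mul_assoc]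
        _ = ε.symm g' * r⁻¹ * s 6 * (ε.symm g' * r⁻¹)⁻¹ * ε.symm z := by
          rw [(hzc' (ε.symm g' * r⁻¹)⁻¹).eq]; simp only [mul_assoc]
        _ = _ := by rw [← hr]; exact conj_shift _ _ _ _
  rcases hcase with hc | hc
  · obtain ⟨Ψ, hΨz, hΨ⟩ := exists_iso_of_std hs hz2 h9 hcard
    refine ⟨Ψ.trans ε, by simp [hΨz], ?_⟩
    have := MonoidHom.map_isConj ε.toMonoidHom hc
    simpa [hΨ 0 (by norm_num)] using this
  · obtain ⟨Ψ, hΨz, hΨ⟩ := exists_iso_of_std hs' hz2 h9' hcard
    refine ⟨Ψ.trans ε, by simp [hΨz], ?_⟩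
    have := MonoidHom.map_isConj ε.toMonoidHom hc
    simpa [hΨ 0 (by norm_num)] using this

end Cfsg.Agent.Presented.Fi23Lifts
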