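import Cfsg.Agent.Lib.Presented.Fi22Triple
import Cfsg.Agent.Lib.Schur.FibreProduct

/-!
# The Schur multiplier of the presented group Fi22 is cyclic of order 6

The double cover is the centraliser of a transposition in the presented group Fi23, the triple cover a
group of matrices; their fibre product has a cyclic kernel of order six.
-/

set_option autoImplicit false
set_option maxRecDepth 20000

namespace Cfsg.Agent.Presented.Fi22Mult

open Cfsg.Spor Cfsg.Agent.Presented


attribute [local instance] Fi23Cover.z_normal

/-- The double cover. -/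
noncomputable def double : Fi23Index.hSub →* Fi22 :=
  (MulEquiv.ofBijective Fi23Cover.phi Fi23Cover.phi_bijective).symm.toMonoidHom.comp (QuotientGroup.mk' _)

theorem double_surjective : Function.Surjective double :=
  (MulEquiv.ofBijective Fi23Cover.phi Fi23Cover.phi_bijective).symm.surjective.comp
    (QuotientGroup.mk'_surjective _)

theorem double_ker : double.ker = Subgroup.zpowers Fi23Cover.z := by
  ext x
  rw [MonoidHom.mem_ker]
  constructor
  · intro h
    have h2 : (MulEquiv.ofBijective Fi23Cover.phi Fi23Cover.phi_bijective).symm (QuotientGroup.mk' _ x) = 1 := h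
    rw [MulEquiv.map_eq_one_iff] at h2
    exact (QuotientGroup.eq_one_iff x).mp h2
  · intro h
    show (MulEquiv.ofBijective Fi23Cover.phi Fi23Cover.phi_bijective).symm (QuotientGroup.mk' _ x) = 1
    rw [QuotientGroup.mk'_apply, (QuotientGroup.eq_one_iff x).mpr h, map_one]

theorem double_stem : Cfsg.IsStemExtension double := by
  refine ⟨double_surjective, ?_, ?_⟩
  · rw [double_ker, Subgroup.zpowers_le, Subgroup.mem_center_iff]
    exact Fi23Cover.z_central
  · rw [double_ker]
    by_contra hnot
    haveI := Fi23Order.card_le.1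
    haveI : Fact (Nat.card (Subgroup.zpowers Fi23Cover.z)).Prime :=
      ⟨by rw [Fi23Cover.card_zpowers]; exact Nat.prime_two⟩
    have hdisj : Subgroup.zpowers Fi23Cover.z ⊓ commutator Fi23Index.hSub = ⊥ := by
      rcases ((commutator Fi23Index.hSub).subgroupOf (Subgroup.zpowers Fi23Cover.z)).eq_bot_or_eq_top_of_prime_card
        with h | h
      · rw [Subgroup.subgroupOf_eq_bot] at h
        exact h.symm.eq_bot
      · exact absurd (Subgroup.subgroupOf_eq_top.mp h) hnot
    have hsup : Subgroup.zpowers Fi23Cover.z ⊔ commutator Fi23Index.hSub = ⊤ := by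
      rw [eq_top_iff]
      intro x _
      have hx : double x ∈ (commutator Fi23Index.hSub).map double := by
        rw [commutator_def, Subgroup.map_commutator, Subgroup.map_top_of_surjective double double_surjective,
          ← commutator_def, perfect_fi22]
        trivial
      obtain ⟨c, hc, hcx⟩ := hx
      have h1 : x * c⁻¹ ∈ Subgroup.zpowers Fi23Cover.z := by
        rw [← double_ker, MonoidHom.mem_ker, map_mul, map_inv, hcx, mul_inv_cancel]
      simpa using Subgroup.mul_mem_sup h1 hc
    refine Fi23Cover.nonsplit (commutator Fi23Index.hSub) ?_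
    rw [Fi23Cover.center_eq]
    exact Subgroup.isComplement'_of_disjoint_and_mul_eq_univ (disjoint_iff.mpr hdisj)
      (by rw [← Subgroup.coe_top, ← hsup, Subgroup.mul_normal])

theorem pow_card_ker {A B : Type*} [Group A] [Group B] (f : A →* B) {n : ℕ} (h : Nat.card f.ker = n) :
    ∀ a ∈ f.ker, a ^ n = 1 := fun a ha => by
  have := pow_card_eq_one' (G := f.ker) (x := ⟨a, ha⟩)
  rw [h] at this
  exact congrArg Subtype.val this

theorem isCyclic_prod_of_card {A B : Type*} [Group A] [Group B] {p q : ℕ} [Fact p.Prime] [Fact q.Prime]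
    (hA : Nat.card A = p) (hB : Nat.card B = q) (hpq : p.Coprime q) : IsCyclic (A × B) := by
  haveI : IsCyclic A := isCyclic_of_prime_card hA
  haveI : IsCyclic B := isCyclic_of_prime_card hB
  exact Group.isCyclic_prod_iff.mpr ⟨inferInstance, inferInstance, by rw [hA, hB]; exact hpq⟩

/-- The Schur multiplier of Fi22 is cyclic of order 6. -/
theorem multiplier : Cfsg.HasCyclicSchurMultiplier Fi22 6 := by
  refine ⟨?_, fun Γ _ _ σ hσ => kernel_bound σ hσ⟩
  haveI := Fi23Order.card_le.1
  have h2 : Nat.card double.ker = 2 := by rw [double_ker, Fi23Cover.card_zpowers]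
  have h3 : Nat.card Fi22Triple.cover.ker = 3 := by rw [Fi22Triple.cover_ker, Fi22Triple.card_zpowers]
  obtain ⟨hstem, ⟨e⟩⟩ := Schur.isStemExtension_fibre double_stem Fi22Triple.isStemExtension
    (m := 2) (n := 3) (by norm_num)
    (pow_card_ker double h2) (pow_card_ker Fi22Triple.cover h3)
  refine ⟨_, inferInstance, inferInstance, _, hstem, ⟨e.trans ?_⟩⟩
  haveI : Fact (Nat.Prime 2) := ⟨Nat.prime_two⟩
  haveI : Fact (Nat.Prime 3) := ⟨Nat.prime_three⟩
  haveI := isCyclic_prod_of_card h2 h3 (by norm_num)
  exact mulEquivOfCyclicCardEq (by rw [Nat.card_prod, h2, h3]; simp)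

end Cfsg.Agent.Presented.Fi22Mult
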