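import Cfsg.Agent.Lib.Presented.Fi23Seven
import Cfsg.Agent.Lib.Presented.Fi22Mult
import Cfsg.Agent.Lib.Transpos.ReflectionSevenStd
import Cfsg.Agent.Lib.Transpos.TypeTransfer

/-!
# The presented Fi23 is of type M(23)

`type23_of_type22`: if the presented Fi22 with the class of its first generator is of type M(22), then the
presented Fi23 with the class of `t` is of type M(23).
-/

set_option autoImplicit false
set_option maxRecDepth 20000

namespace Cfsg.Agent.Presented.Fi23Type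

open Cfsg Cfsg.Spor Cfsg.Agent.Presented Fi23Index Fi23Transp Fi23Pts

theorem not_commute_seven : ¬ Commute t (gen 7) := fun h => by
  obtain ⟨e7, hp7⟩ := Fi23Seven.gen7_pt
  have h1 := (commute_word (w := Fi23Chain.zWord) zWord_lt hp7).1 (by rw [e7]; exact h)
  exact absurd h1 (by decide +kernel)

theorem gen_near {k : ℕ} (hk : k ∈ Fi23Cover.idx) :
    gen k ∈ conjugatesOf t ∧ gen k ≠ t ∧ Commute t (gen k) := by
  have hc : gen k * t = t * gen k :=
    Subgroup.mem_centralizer_singleton_iff.1 (by rw [centralizer_eq]; exact Fi23Cover.gen_mem hk)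
  refine ⟨gen_mem_class ((by decide +kernel : ∀ k ∈ Fi23Cover.idx, k < 10) k hk), fun e => ?_, hc.symm⟩
  have hall : ∀ k ∈ Fi23Cover.idx, ∃ x ∈ genPts, x.1 = k ∧ x.2.1 ≠ 0 := by decide +kernel
  obtain ⟨⟨k', p, w⟩, hx, rfl, hne⟩ := hall k hk
  obtain ⟨e', hp⟩ := ι_gen hx
  exact hne (ι_inj hp (q := 0) (by decide +kernel) (by rw [e', ι_zero]; exact e))

theorem center_bot : Subgroup.center Fi23 = ⊥ := by
  haveI := Fi23Order.simple_fi23
  refine (IsSimpleGroup.eq_bot_or_eq_top_of_normal _ inferInstance).resolve_right fun h => ?_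
  exact not_commute_seven (Subgroup.mem_center_iff.1 (by rw [h]; trivial : gen 7 ∈ Subgroup.center Fi23) t)

/-- The neighbours of a member. -/
abbrev nbhd (d : Fi23) : Set Fi23 := {y : Fi23 | y ∈ conjugatesOf t ∧ y ≠ d ∧ Commute d y}

theorem closure_nbhd : Subgroup.closure (nbhd t) = hSub := by
  refine le_antisymm ((Subgroup.closure_le _).2 fun y hy => ?_) fun x hx => ?_
  · rw [SetLike.mem_coe, ← centralizer_eq, Subgroup.mem_centralizer_singleton_iff]
    exact hy.2.2.eq.symm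
  · have h : (⟨x, hx⟩ : hSub) ∈ Subgroup.closure (Fi23Cover.sH '' {k | k ∈ Fi23Cover.idx}) := by
      rw [Fi23Cover.closure_sH]; trivial
    have h2 := Subgroup.mem_map_of_mem hSub.subtype h
    rw [MonoidHom.map_closure] at h2
    refine Subgroup.closure_mono ?_ h2
    rintro _ ⟨_, ⟨k, hk, rfl⟩, rfl⟩
    show (Fi23Cover.sH k : Fi23) ∈ nbhd t
    rw [Fi23Cover.coe_sH hk]
    exact gen_near hk

attribute [local instance] Fi23Cover.z_normal

theorem double_sH_zero : Fi22Mult.double (Fi23Cover.sH 0) = FiIndex.gen 0 := by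
  have e : Fi23Cover.phi (FiIndex.gen 0) = QuotientGroup.mk (Fi23Cover.sH 0) := by
    have h0 : 0 < FiIndex.gens.length := by decide
    rw [FiIndex.gen, genFun, dif_pos h0, Fi23Cover.phi, PresentedGroup.toGroup.of, Fi23Cover.sQ,
      FiIndex.gens_nodup.idxOf_getElem _ h0]
    rfl
  show (MulEquiv.ofBijective Fi23Cover.phi Fi23Cover.phi_bijective).symm (QuotientGroup.mk' _ (Fi23Cover.sH 0)) = _
  rw [MulEquiv.symm_apply_eq]
  exact e.symm

theorem quot22 (h22 : IsOfTypeM22 Fi22 (conjugatesOf (FiIndex.gen 0))) {S : Set Fi23} (hS : S = nbhd t) :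
    IsOfTypeM22 (↥(Subgroup.closure S) ⧸ Subgroup.center ↥(Subgroup.closure S))
      ((QuotientGroup.mk : ↥(Subgroup.closure S) → _) '' {x : ↥(Subgroup.closure S) | (x : Fi23) ∈ S}) := by
  subst hS
  let ε : ↥(Subgroup.closure (nbhd t)) ≃* hSub := MulEquiv.subgroupCongr closure_nbhd
  let φ : ↥(Subgroup.closure (nbhd t)) →* Fi22 := Fi22Mult.double.comp ε.toMonoidHom
  have hφ : Function.Surjective φ := Fi22Mult.double_surjective.comp ε.surjective
  have hker : φ.ker = Subgroup.center ↥(Subgroup.closure (nbhd t)) := by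
    rw [← ClassicalSimple.center_map_equiv ε.symm, Fi23Cover.center_eq, ← Fi22Mult.double_ker]
    ext x
    rw [Subgroup.mem_map_equiv, MonoidHom.mem_ker, MonoidHom.mem_ker]
    rfl
  let e : ↥(Subgroup.closure (nbhd t)) ⧸ Subgroup.center ↥(Subgroup.closure (nbhd t)) ≃* Fi22 :=
    (QuotientGroup.quotientMulEquivOfEq hker.symm).trans (QuotientGroup.quotientKerEquivOfSurjective φ hφ)
  have he : ∀ x, e (QuotientGroup.mk x) = φ x := fun x => rfl
  have himg : e.symm '' conjugatesOf (FiIndex.gen 0) =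
      (QuotientGroup.mk : ↥(Subgroup.closure (nbhd t)) → _) ''
        {x : ↥(Subgroup.closure (nbhd t)) | (x : Fi23) ∈ nbhd t} := by
    apply Set.Subset.antisymm
    · rintro _ ⟨y, hy, rfl⟩
      obtain ⟨q, rfl⟩ := isConj_iff.1 (hy : IsConj (FiIndex.gen 0) y)
      obtain ⟨g, rfl⟩ := Fi22Mult.double_surjective q
      obtain ⟨h1, h2, h3⟩ := gen_near (k := 0) (by decide)
      refine ⟨ε.symm (g * Fi23Cover.sH 0 * g⁻¹), ?_, e.injective ?_⟩
      · show (((g * Fi23Cover.sH 0 * g⁻¹ : hSub)) : Fi23) ∈ nbhd t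
        simp only [Subgroup.coe_mul, Subgroup.coe_inv, Fi23Cover.coe_sH (show 0 ∈ Fi23Cover.idx by decide)]
        have hg : (g : Fi23) * t * (g : Fi23)⁻¹ = t := conj_mem_hSub g.2
        refine ⟨?_, fun h => h2 (mul_left_cancel (mul_right_cancel (h.trans hg.symm))), ?_⟩
        · obtain ⟨a, ha⟩ := isConj_iff.1 h1
          exact isConj_iff.2 ⟨(g : Fi23) * a, by rw [← ha]; group⟩
        · rw [← hg]
          exact (Commute.conj_iff (g : Fi23)).2 h3
      · rw [he, MulEquiv.apply_symm_apply]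
        show Fi22Mult.double (ε (ε.symm _)) = _
        rw [MulEquiv.apply_symm_apply, map_mul, map_mul, map_inv, double_sH_zero]
    · rintro _ ⟨x, ⟨hx, hne, hc⟩, rfl⟩
      obtain ⟨h, hh, e0⟩ := exists_conj_gen0 hx hne hc
      refine ⟨φ x, isConj_iff.2 ⟨Fi22Mult.double ⟨h, hh⟩, ?_⟩, ?_⟩
      · show _ = Fi22Mult.double (ε x)
        rw [← double_sH_zero, ← map_inv, ← map_mul, ← map_mul]
        congr 1
        apply Subtype.ext
        simp only [Subgroup.coe_mul, Subgroup.coe_inv, Fi23Cover.coe_sH (show 0 ∈ Fi23Cover.idx by decide)]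
        exact e0
      · rw [← he, MulEquiv.symm_apply_apply]
  rw [← himg]
  exact Transpos.TypeTransfer.m22 e.symm h22

theorem closure_pair :
    Subgroup.closure (nbhd t ∩ nbhd (gen 7)) = Subgroup.centralizer ({t, gen 7} : Set Fi23) := by
  refine le_antisymm ((Subgroup.closure_le _).2 fun y hy => ?_) ?_
  · rw [SetLike.mem_coe, Subgroup.mem_centralizer_iff]
    rintro s (rfl | rfl)
    exacts [hy.1.2.2.eq, hy.2.2.2.eq]
  · rw [(Fi23Seven.pair_cent).1, Subgroup.closure_le]
    rintro _ ⟨k, hk, rfl⟩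
    have hk' : k ∈ Fi23Cover.idx := (by decide +kernel : ∀ k ∈ Fi23Seven.arms, k ∈ Fi23Cover.idx) k hk
    obtain ⟨h1, h2, h3⟩ := gen_near hk'
    have hc := Subgroup.mem_centralizer_iff.1 (Fi23Seven.gen_mem_cent hk) (gen 7) (Or.inr rfl)
    exact Subgroup.subset_closure ⟨⟨h1, h2, h3⟩, h1,
      fun e => not_commute_seven (by rw [← e]; exact h3), hc⟩

theorem quot_seven {S : Set Fi23} (hS : S = nbhd t ∩ nbhd (gen 7)) :
    ∃ c : ZMod 3, c ≠ 0 ∧ IsProjReflectionGroupModThree
      (↥(Subgroup.closure S) ⧸ Subgroup.center ↥(Subgroup.closure S)) 7 (-c) c := by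
  subst hS
  obtain ⟨-, ⟨eL⟩, hzc⟩ := Fi23Seven.pair_cent
  obtain ⟨Q, c, hc, hN, hdet, ⟨eR⟩⟩ := Transpos.exists_refl_seven
  let ε := MulEquiv.subgroupCongr closure_pair
  have hz : Subgroup.center ↥(Subgroup.closure (nbhd t ∩ nbhd (gen 7))) = ⊥ :=
    Transpos.TypeTransfer.center_bot ε.symm hzc
  refine ⟨c, hc, Q, hN, hdet, ⟨?_⟩⟩
  exact ((QuotientGroup.quotientMulEquivOfEq hz).trans QuotientGroup.quotientBot).trans
    ((ε.trans eL).trans eR)

/-- The presented Fi23 is of type M(23) when the presented Fi22 is of type M(22). -/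
theorem type23_of_type22 (h22 : IsOfTypeM22 Fi22 (conjugatesOf (FiIndex.gen 0))) :
    IsOfTypeM23 Fi23 (conjugatesOf t) := by
  refine ⟨center_bot, t, mem_conjugatesOf_self, gen 7, gen_mem_class (by norm_num), not_commute_seven,
    quot22 h22 rfl, ?_⟩
  exact quot_seven rfl

/-! ## Primitivity -/

/-- A member not commuting with `t` is carried to the eighth generator by the centraliser of `t`. -/
theorem exists_conj_gen7 {x : Fi23} (hx : x ∈ conjugatesOf t) (hnc : ¬ Commute t x) :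
    ∃ h ∈ hSub, h * x * h⁻¹ = gen 7 := by
  obtain ⟨p, hp, rfl⟩ := ι_surj hx
  have hT : ∀ (r : ℕ) (T : NTree) (hr : r < Cc.N),
      Cc.orbitOK [[0], [1], [2], [3], [4], [5], [6], [8], [9]] T r = true →
      ∀ (q : ℕ) (hq : q < Cc.N), CosetCert.inOrbit T q = true →
      ∃ h ∈ hSub, h * ι r * h⁻¹ = ι q := by
    intro r T hr hok q hq hin
    have himg := CosetCert.orbit_eq_image Fi23C31671.cert_edgesOK Fi23C31671.cert_nodesOK tbl
      exists_table.choose_spec.2 hSub_eq_closure hr hok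
    have hmem : tbl ⟨q, hq⟩ ∈ MulAction.orbit hSub (tbl ⟨r, hr⟩) := by
      rw [himg]; exact ⟨⟨q, hq⟩, hin, rfl⟩
    obtain ⟨⟨h, hh⟩, hh'⟩ := hmem
    change h • tbl ⟨r, hr⟩ = tbl ⟨q, hq⟩ at hh'
    obtain ⟨a, ha⟩ := exists_rep hr
    refine ⟨h, hh, ?_⟩
    rw [ι_of_mk hr ha, ι_of_mk hq (r := h * a) (by rw [← hh', ha, MulAction.Quotient.smul_mk, smul_eq_mul])]
    group
  have h1 : 1 < Cc.N := by decide +kernel
  have h52 : 52 < Cc.N := by decide +kernel
  obtain ⟨e7, hp7⟩ := Fi23Seven.gen7_pt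
  have hcov := checkBelow_spec Fi23Order.block_cover p hp
  simp only [inUnion, Bool.or_eq_true, List.any_eq_true, List.map_cons, List.map_nil, List.mem_cons,
    List.not_mem_nil, or_false] at hcov
  rcases hcov with h | ⟨T, hTm, hin⟩
  · exact absurd (by rw [Nat.beq_eq.mp h, ι_zero]) hnc
  rcases hTm with rfl | rfl
  · obtain ⟨a, ha, ea⟩ := hT 1 _ h1 Fi23C31671.orbit0_ok p hp hin
    obtain ⟨b, hb, eb⟩ := hT 1 _ h1 Fi23C31671.orbit0_ok 8006 hp7 (by decide +kernel)
    refine ⟨b * a⁻¹, mul_mem hb (inv_mem ha), ?_⟩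
    rw [← e7, ← ea, ← eb]
    group
  · exfalso
    obtain ⟨a, ha, ea⟩ := hT 52 _ h52 Fi23C31671.orbit1_ok p hp hin
    apply hnc
    rw [← ea, ← conj_mem_hSub ha]
    refine (Commute.conj_iff a).2 ?_
    exact (commute_word zWord_lt h52).2 (by decide +kernel)

/-- The class of `t` is primitive. -/
theorem primitive : IsPrimitiveUnderConj (conjugatesOf t) := by
  have trans : ∀ a ∈ conjugatesOf t, ∀ b ∈ conjugatesOf t, ∃ g : Fi23, g * a * g⁻¹ = b := fun a ha b hb =>
    isConj_iff.1 ((ha : IsConj t a).symm.trans hb)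
  have n0 : gen 0 ≠ t := (gen_near (by decide)).2.1
  refine ⟨trans, ⟨t, mem_conjugatesOf_self, gen 0, gen_mem_class (by norm_num), n0.symm⟩, fun B hB hblock => ?_⟩
  rcases B.eq_empty_or_nonempty with rfl | ⟨b, hb⟩
  · exact Or.inl Set.subsingleton_empty
  by_cases hsub : B.Subsingleton
  · exact Or.inl hsub
  obtain ⟨b', hb', hne⟩ : ∃ b' ∈ B, b' ≠ b := by
    by_contra h
    push Not at h
    exact hsub fun x hx y hy => (h x hx).trans (h y hy).symm
  -- an element moving a point of the block into it fixes it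
  have fix : ∀ {g : Fi23} {x : Fi23}, x ∈ B → g * x * g⁻¹ ∈ B → ∀ y ∈ B, g * y * g⁻¹ ∈ B := by
    intro g x hx hgx y hy
    rcases hblock g with h | h
    · exact h ▸ ⟨y, hy, rfl⟩
    · exact absurd hgx (Set.disjoint_left.1 h ⟨x, hx, rfl⟩)
  have comm : ∀ {k : ℕ}, k < 10 → ∀ p w, (k, p, w) ∈ genPts → ∀ i < 10,
      Cc.actOf p i = p → Commute (gen i) (gen k) := by
    intro k _ p w hm i hi hact
    obtain ⟨e, hp⟩ := ι_gen hm
    have h := (commute_word (w := [i]) (fun g hg => by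
      rw [List.mem_singleton.1 hg]
      exact lt_of_lt_of_le hi (le_of_eq (by decide +kernel))) hp).2
      (by rw [CosetCert.path_cons, CosetCert.path_nil, hact])
    rw [e] at h
    simpa [wval] using h
  -- a commuting pair in the block gives everything
  have main : ∀ {C : Set Fi23}, (∀ {g : Fi23} {x : Fi23}, x ∈ C → g * x * g⁻¹ ∈ C → ∀ y ∈ C, g * y * g⁻¹ ∈ C) →
      t ∈ C → gen 0 ∈ C → ∀ x ∈ conjugatesOf t, x ∈ C := by
    intro C fixC htC h0C
    have hS : ∀ x ∈ conjugatesOf t, Commute t x → x ∈ C := by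
      intro x hx hc
      by_cases hxt : x = t
      · rwa [hxt]
      obtain ⟨h, hh, rfl⟩ := exists_conj_gen0 hx hxt hc
      exact fixC htC (by rw [conj_mem_hSub hh]; exact htC) _ h0C
    -- the neighbours of the first generator
    obtain ⟨g, hg⟩ := trans t mem_conjugatesOf_self (gen 0) (gen_mem_class (by norm_num))
    have h7 : gen 7 ∈ C := by
      have hc : Commute (gen 0) (gen 7) :=
        comm (by norm_num) 8006 _ (by decide +kernel : (7, 8006, [7, 6, 5, 4, 3, 2, 1, 8, 3, 2, 4, 3, 5, 4,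
          6, 5, 8, 3, 2, 1, 4, 3, 2, 8, 3, 4, 5, 6]) ∈ genPts) 0 (by norm_num) (by decide +kernel)
      have hy : g⁻¹ * gen 7 * g ∈ conjugatesOf t := by
        obtain ⟨a, ha⟩ := isConj_iff.1 (gen_mem_class (k := 7) (by norm_num) : IsConj t (gen 7))
        exact isConj_iff.2 ⟨g⁻¹ * a, by rw [← ha]; group⟩
      have hcy : Commute t (g⁻¹ * gen 7 * g) := by
        rw [← Commute.conj_iff g]
        rw [hg]
        simpa [mul_assoc] using hc
      have := fixC htC (by rw [hg]; exact h0C) _ (hS _ hy hcy)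
      simpa [mul_assoc] using this
    intro x hx
    by_cases hc : Commute t x
    · exact hS x hx hc
    obtain ⟨h, hh, e⟩ := exists_conj_gen7 hx hc
    have := fixC (g := h⁻¹) htC (by rw [conj_mem_hSub (inv_mem hh)]; exact htC) _ h7
    rw [← e] at this
    simpa [mul_assoc] using this
  refine Or.inr (Set.Subset.antisymm hB fun x hx => ?_)
  obtain ⟨g, hg⟩ := trans b (hB hb) t mem_conjugatesOf_self
  -- the block moved to `t`
  set C : Set Fi23 := (fun y => g * y * g⁻¹) '' B with hC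
  have fixC : ∀ {h : Fi23} {y : Fi23}, y ∈ C → h * y * h⁻¹ ∈ C → ∀ w ∈ C, h * w * h⁻¹ ∈ C := by
    rintro h _ ⟨y, hy, rfl⟩ ⟨y', hy', e⟩ _ ⟨w, hw, rfl⟩
    refine ⟨g⁻¹ * h * g * w * (g⁻¹ * h * g)⁻¹, fix hy ?_ w hw, by group⟩
    have e' : g⁻¹ * h * g * y * (g⁻¹ * h * g)⁻¹ = g⁻¹ * (h * (g * y * g⁻¹) * h⁻¹) * g := by group
    rw [e', ← (e : g * y' * g⁻¹ = h * (g * y * g⁻¹) * h⁻¹)]
    simpa [mul_assoc] using hy'
  have htC : t ∈ C := ⟨b, hb, hg⟩
  have hcl : ∀ y ∈ C, y ∈ conjugatesOf t := by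
    rintro _ ⟨y, hy, rfl⟩
    obtain ⟨a, ha⟩ := isConj_iff.1 (hB hy : IsConj t y)
    exact isConj_iff.2 ⟨g * a, by rw [← ha]; group⟩
  set b₁ := g * b' * g⁻¹ with hb₁
  have hb₁C : b₁ ∈ C := ⟨b', hb', rfl⟩
  have hb₁t : b₁ ≠ t := fun h => hne (mul_left_cancel (mul_right_cancel (h.trans hg.symm)))
  have h0C : gen 0 ∈ C := by
    by_cases hc : Commute t b₁
    · obtain ⟨h, hh, e⟩ := exists_conj_gen0 (hcl _ hb₁C) hb₁t hc
      have := fixC (h := h⁻¹) htC (by rw [conj_mem_hSub (inv_mem hh)]; exact htC) _ hb₁C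
      rw [← e] at this
      simpa [mul_assoc] using this
    · obtain ⟨h, hh, e⟩ := exists_conj_gen7 (hcl _ hb₁C) hc
      have h7 : gen 7 ∈ C := e ▸ fixC htC (by rw [conj_mem_hSub hh]; exact htC) _ hb₁C
      -- the sixth generator does not commute with the eighth one
      obtain ⟨a, ha⟩ := trans t mem_conjugatesOf_self (gen 7) (gen_mem_class (by norm_num))
      obtain ⟨n1, n2, n3⟩ := gen_near (k := 6) (by decide)
      have hn67 : ¬ Commute (gen 6) (gen 7) := fun hc67 => by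
        obtain ⟨e7, hp7⟩ := Fi23Seven.gen7_pt
        have h := (commute_word (w := [6]) (fun u hu => by rw [List.mem_singleton.1 hu]; decide +kernel) hp7).1
          (by rw [e7]; simpa [wval] using hc67)
        exact absurd h (by decide +kernel)
      have hy : a⁻¹ * gen 6 * a ∈ conjugatesOf t := by
        obtain ⟨q, hq⟩ := isConj_iff.1 (n1 : IsConj t (gen 6))
        exact isConj_iff.2 ⟨a⁻¹ * q, by rw [← hq]; group⟩
      have hncy : ¬ Commute t (a⁻¹ * gen 6 * a) := fun hcy => hn67 (by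
        have := (Commute.conj_iff a).2 hcy
        rw [ha] at this
        exact (by simpa [mul_assoc] using this : Commute (gen 7) (gen 6)).symm)
      obtain ⟨k, hk, ek⟩ := exists_conj_gen7 hy hncy
      have hy' : a⁻¹ * gen 6 * a ∈ C := by
        have := fixC (h := k⁻¹) htC (by rw [conj_mem_hSub (inv_mem hk)]; exact htC) _ h7
        rw [← ek] at this
        simpa [mul_assoc] using this
      have h6 : gen 6 ∈ C := by
        have := fixC (h := a) htC (by rw [ha]; exact h7) _ hy'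
        simpa [mul_assoc] using this
      obtain ⟨l, hl, el⟩ := exists_conj_gen0 n1 n2 n3
      have := fixC (h := l⁻¹) htC (by rw [conj_mem_hSub (inv_mem hl)]; exact htC) _ h6
      rw [← el] at this
      simpa [mul_assoc] using this
  have hx' : g * x * g⁻¹ ∈ conjugatesOf t := by
    obtain ⟨a, ha⟩ := isConj_iff.1 (hx : IsConj t x)
    exact isConj_iff.2 ⟨g * a, by rw [← ha]; group⟩
  obtain ⟨y, hy, e⟩ := main fixC htC h0C _ hx'
  rwa [← show y = x from mul_left_cancel (mul_right_cancel e)]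

end Cfsg.Agent.Presented.Fi23Type
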