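import Cfsg.Agent.Lib.Presented.SuzCentBound
import Cfsg.Agent.Lib.Transpos.OrthSixMinus
import Cfsg.Agent.Lib.Balance.CharP
import Cfsg.Agent.Lib.PGroup.SymplecticType
import Cfsg.Agent.S5379

/-!
# An involution of large extraspecial type in the presented Suzuki group

The centraliser of `a` acts on 27 pairs of its fixed cosets as `Ω₆⁻(2)` on the singular vectors; the
kernel is extraspecial of order 128 and contains conjugates of `a` other than `a`.
-/

set_option autoImplicit false
set_option maxRecDepth 20000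
set_option linter.style.haveILetI false

namespace Cfsg.Agent.Presented.SuzCent

open Cfsg.Spor Cfsg.Agent.Presented SuzIndex SuzCentData
open Cfsg.Agent.Transpos.O6 (I6 Q6 sv enc)
open scoped commutatorElement

/-! ### Word equality -/

theorem eq_of_same {u v : List ℕ}
    (h : sameOK SuzC1782.cert (SuzChain.chain.map Level.pt) u v = true) : wval gen u = wval gen v := by
  obtain ⟨e, -, he⟩ := exists_table
  haveI := SuzOrder.finite_suz
  simp only [sameOK, Bool.and_eq_true, List.all_eq_true, Nat.blt_eq] at h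
  obtain ⟨⟨hu, hv⟩, hpath⟩ := h
  refine eq_of_paths SuzC1782.cert_edgesOK SuzC1782.cert_nodesOK e he (by decide +kernel) SuzChain.chain_ok
    (by rw [SuzOrder.chain_prod, SuzOrder.card_suz]) _ _ fun p hpm hp => ?_
  rw [CosetCert.smul_path SuzC1782.cert_edgesOK SuzC1782.cert_nodesOK e he _ hu ⟨p, hp⟩,
    CosetCert.smul_path SuzC1782.cert_edgesOK SuzC1782.cert_nodesOK e he _ hv ⟨p, hp⟩]
  exact congrArg e (Fin.ext (Nat.beq_eq.mp (hpath p hpm)))

/-- Equality of two words by their images of the base. -/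
noncomputable def same (u v : List ℕ) : Bool := sameOK SuzC1782.cert (SuzChain.chain.map Level.pt) u v

/-! ### The generators of the centraliser -/

/-- A word in the generators of the centraliser as a word in the generators. -/
def wordC : List ℕ → List ℕ
  | [] => []
  | j :: k => cWords.getD j [] ++ wordC k

/-- A generator of the centraliser. -/
def xgen (j : ℕ) : Suz := wval gen (cWords.getD j [])

theorem wval_wordC : ∀ k : List ℕ, wval gen (wordC k) = wval xgen k
  | [] => rfl
  | j :: k => by rw [wordC, wval_append, wval_wordC k]; rfl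

theorem cWords_lt : ∀ j < 8, ∀ g ∈ cWords.getD j [], g < SuzC1782.cert.m := by decide +kernel

theorem cWords_comm : ((List.range 8).all fun j =>
    same (cWords.getD j [] ++ [0]) ([0] ++ cWords.getD j [])) = true := by decide +kernel

theorem xgen_comm {j : ℕ} (hj : j < 8) : xgen j * zinv = zinv * xgen j := by
  have h := eq_of_same (List.all_eq_true.1 cWords_comm j (List.mem_range.2 hj))
  rw [wval_append, wval_append, wval_zero] at h
  exact h.symm

theorem bTab_m : bTab.m = 8 := rfl

/-- The subgroup generated by the eight words. -/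
noncomputable def K : Subgroup Suz := Subgroup.closure (xgen '' {g | g < bTab.m})

/-- A generator, inside the subgroup. -/
noncomputable def kg (j : ℕ) : K :=
  if h : j < bTab.m then ⟨xgen j, Subgroup.subset_closure ⟨j, h, rfl⟩⟩ else 1

theorem kg_val {j : ℕ} (hj : j < 8) : ((kg j : K) : Suz) = xgen j := by rw [kg, dif_pos (show j < bTab.m from hj)]

theorem K_le : K ≤ Subgroup.centralizer ({zinv} : Set Suz) := by
  rw [K, Subgroup.closure_le]
  rintro _ ⟨j, hj, rfl⟩
  exact Subgroup.mem_centralizer_singleton_iff.2 (xgen_comm hj)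

theorem wval_kg : ∀ {w : List ℕ}, (∀ g ∈ w, g < 8) → ((wval kg w : K) : Suz) = wval xgen w
  | [], _ => rfl
  | g :: w, h => by
    show ((wval kg w : K) : Suz) * (kg g : Suz) = wval xgen w * xgen g
    rw [wval_kg fun x hx => h x (List.mem_cons_of_mem _ hx), kg_val (h g List.mem_cons_self)]

/-! ### The kernel elements -/

/-- The word of element `m`. -/
def qword (m : ℕ) : List ℕ := (List.range 7).flatMap fun j => if m.testBit j then qWords.getD j [] else []

/-- Element `m`. -/
noncomputable def qel (m : ℕ) : K := wval kg (qword m)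

theorem qword_lt : ∀ m < 128, ∀ g ∈ qword m, g < 8 := by decide +kernel

theorem qWords_lt : ∀ j < 7, ∀ g ∈ qWords.getD j [], g < 8 := by decide +kernel

theorem qel_val {m : ℕ} (hm : m < 128) : ((qel m : K) : Suz) = wval gen (wordC (qword m)) := by
  rw [wval_wordC]; exact wval_kg (qword_lt m hm)

/-- A generator of the kernel. -/
noncomputable def qg (j : ℕ) : K := wval kg (qWords.getD j [])

theorem qg_val {j : ℕ} (hj : j < 7) : ((qg j : K) : Suz) = wval gen (wordC (qWords.getD j [])) := by
  rw [wval_wordC]; exact wval_kg (qWords_lt j hj)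

/-- Product table and squares. -/
noncomputable def mulOK (m : ℕ) : Bool :=
  ((List.range 7).all fun j => Nat.blt (qMul.getD (7 * m + j) 0) 128 &&
    same (wordC (qword m) ++ wordC (qWords.getD j [])) (wordC (qword (qMul.getD (7 * m + j) 0)))) &&
  (same (wordC (qword m) ++ wordC (qword m)) [] || same (wordC (qword m) ++ wordC (qword m)) [0]) &&
  (Nat.beq m 0 || Nat.beq m 64 || (Nat.blt (qNon.getD m 0) 7 &&
    !(Nat.beq (numKey (wordC (qword m) ++ wordC (qWords.getD (qNon.getD m 0) [])))
      (numKey (wordC (qWords.getD (qNon.getD m 0) []) ++ wordC (qword m))))))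

theorem mul_check_0 : checkBlock mulOK 128 5 0 = true := by decide +kernel
theorem mul_check_1 : checkBlock mulOK 128 5 32 = true := by decide +kernel
theorem mul_check_2 : checkBlock mulOK 128 5 64 = true := by decide +kernel
theorem mul_check_3 : checkBlock mulOK 128 5 96 = true := by decide +kernel

theorem mul_check {m : ℕ} (hm : m < 128) : mulOK m = true :=
  checkBlock_spec (checkBlock_join 6 (checkBlock_join 5 mul_check_0 mul_check_1)
    (checkBlock_join 5 mul_check_2 mul_check_3)) m (Nat.zero_le _) (by norm_num; exact hm) hm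

theorem qel_top : same (wordC (qword 64)) [0] = true ∧ same (wordC (qWords.getD 6 [])) [0] = true := by
  decide +kernel

theorem qel_zero : qel 0 = 1 := by
  show wval kg (qword 0) = 1
  rw [show qword 0 = [] by decide +kernel]
  rfl

/-- The involution inside the subgroup. -/
noncomputable def zK : K := qel 64

theorem zK_val : ((zK : K) : Suz) = zinv := by
  rw [zK, qel_val (by norm_num), eq_of_same qel_top.1, wval_zero]

theorem qg_top : qg 6 = zK := Subtype.ext (by rw [zK_val, qg_val (by norm_num), eq_of_same qel_top.2, wval_zero])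

theorem zK_comm (k : K) : zK * k = k * zK := Subtype.ext (by
  rw [Subgroup.coe_mul, Subgroup.coe_mul, zK_val]
  exact (Subgroup.mem_centralizer_singleton_iff.1 (K_le k.2)).symm)

theorem qg_mul {m j : ℕ} (hm : m < 128) (hj : j < 7) :
    qg j * qel m = qel (qMul.getD (7 * m + j) 0) ∧ qMul.getD (7 * m + j) 0 < 128 := by
  have h := mul_check hm
  simp only [mulOK, Bool.and_eq_true, List.all_eq_true, Nat.blt_eq] at h
  obtain ⟨h1, h2⟩ := h.1.1 j (List.mem_range.2 hj)
  refine ⟨Subtype.ext ?_, h1⟩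
  rw [Subgroup.coe_mul, qg_val hj, qel_val hm, qel_val h1, ← wval_append, eq_of_same h2]

theorem qel_sq {m : ℕ} (hm : m < 128) : qel m * qel m = 1 ∨ qel m * qel m = zK := by
  have h := mul_check hm
  simp only [mulOK, Bool.and_eq_true, Bool.or_eq_true] at h
  rcases h.1.2 with h | h
  · refine Or.inl (Subtype.ext ?_)
    rw [Subgroup.coe_mul, qel_val hm, ← wval_append, eq_of_same h]; rfl
  · refine Or.inr (Subtype.ext ?_)
    rw [Subgroup.coe_mul, qel_val hm, ← wval_append, eq_of_same h, zK_val, wval_zero]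

theorem qel_noncomm {m : ℕ} (hm : m < 128) (h0 : m ≠ 0) (h64 : m ≠ 64) :
    ∃ j < 7, qg j * qel m ≠ qel m * qg j := by
  have h := mul_check hm
  simp only [mulOK, Bool.and_eq_true, Bool.or_eq_true, Nat.beq_eq, Nat.blt_eq] at h
  rcases h.2 with (h | h) | ⟨hj, hne⟩
  · exact absurd h h0
  · exact absurd h h64
  refine ⟨_, hj, fun e => ?_⟩
  obtain ⟨ε, -, he⟩ := exists_table
  have hlt : ∀ l : List ℕ, (∀ g ∈ l, g < 8) → ∀ g ∈ wordC l, g < SuzC1782.cert.m := by
    intro l
    induction l with
    | nil => intro _ g hg; exact absurd hg List.not_mem_nil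
    | cons a l ih =>
      intro hl g hg
      rcases List.mem_append.1 hg with hg | hg
      · exact cWords_lt a (hl a List.mem_cons_self) g hg
      · exact ih (fun x hx => hl x (List.mem_cons_of_mem _ hx)) g hg
  set u := wordC (qword m) ++ wordC (qWords.getD (qNon.getD m 0) [])
  set v := wordC (qWords.getD (qNon.getD m 0) []) ++ wordC (qword m)
  have huv : wval gen u = wval gen v := by
    have e' := congrArg (Subtype.val : K → Suz) e
    rw [Subgroup.coe_mul, Subgroup.coe_mul, qg_val hj, qel_val hm] at e'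
    simp only [u, v, wval_append]
    exact e'
  have hu : ∀ g ∈ u, g < SuzC1782.cert.m := fun g hg => (List.mem_append.1 hg).elim
    (hlt _ (qword_lt m hm) g) (hlt _ (qWords_lt _ hj) g)
  have hv : ∀ g ∈ v, g < SuzC1782.cert.m := fun g hg => (List.mem_append.1 hg).elim
    (hlt _ (qWords_lt _ hj) g) (hlt _ (qword_lt m hm) g)
  have hN : 943 < SuzC1782.cert.N := by decide +kernel
  have key : ∀ p, p ≤ 943 → SuzC1782.cert.path u p = SuzC1782.cert.path v p := by
    intro p hp
    have h1 := CosetCert.smul_path SuzC1782.cert_edgesOK SuzC1782.cert_nodesOK ε he _ hu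
      ⟨p, lt_of_le_of_lt hp hN⟩
    rw [huv, CosetCert.smul_path SuzC1782.cert_edgesOK SuzC1782.cert_nodesOK ε he _ hv
      ⟨p, lt_of_le_of_lt hp hN⟩] at h1
    exact (congrArg Fin.val (ε.injective h1)).symm
  have : numKey u = numKey v := by
    simp only [numKey]
    rw [key 0 (by omega), key 943 le_rfl, key 24 (by omega), key 8 (by omega), key 14 (by omega)]
  simp [this] at hne

theorem keys_nodup : ((List.range 128).map fun m => numKey (wordC (qword m))).Nodup := by decide +kernel

theorem qel_injective : Function.Injective fun m : Fin 128 => qel m := by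
  intro a b h
  have e := congrArg (Subtype.val : K → Suz) h
  simp only [qel_val a.2, qel_val b.2] at e
  obtain ⟨ε, -, he⟩ := exists_table
  have hlt : ∀ m < 128, ∀ g ∈ wordC (qword m), g < SuzC1782.cert.m := by decide +kernel
  have hN : 943 < SuzC1782.cert.N := by decide +kernel
  have key : ∀ p, p ≤ 943 →
      SuzC1782.cert.path (wordC (qword a)) p = SuzC1782.cert.path (wordC (qword b)) p := by
    intro p hp
    have h1 := CosetCert.smul_path SuzC1782.cert_edgesOK SuzC1782.cert_nodesOK ε he _ (hlt a a.2)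
      ⟨p, lt_of_le_of_lt hp hN⟩
    rw [e, CosetCert.smul_path SuzC1782.cert_edgesOK SuzC1782.cert_nodesOK ε he _ (hlt b b.2)
      ⟨p, lt_of_le_of_lt hp hN⟩] at h1
    exact (congrArg Fin.val (ε.injective h1)).symm
  have hk : numKey (wordC (qword a)) = numKey (wordC (qword b)) := by
    simp only [numKey]
    rw [key 0 (by omega), key 943 le_rfl, key 24 (by omega), key 8 (by omega), key 14 (by omega)]
  have := List.inj_on_of_nodup_map keys_nodup (List.mem_range.2 a.2) (List.mem_range.2 b.2) hk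
  exact Fin.ext this

theorem qel_inj {a b : ℕ} (ha : a < 128) (hb : b < 128) (h : qel a = qel b) : a = b :=
  congrArg Fin.val (qel_injective (a₁ := ⟨a, ha⟩) (a₂ := ⟨b, hb⟩) h)

/-- The extraspecial subgroup. -/
noncomputable def Qs : Subgroup K := Subgroup.closure {x | ∃ j < 7, x = qg j}

theorem qword_mem {m : ℕ} (_hm : m < 128) : qel m ∈ Qs := by
  rw [qel, qword]
  have : ∀ js : List ℕ, (∀ j ∈ js, j < 7) →
      wval kg (js.flatMap fun j => if m.testBit j then qWords.getD j [] else []) ∈ Qs := by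
    intro js
    induction js with
    | nil => intro _; exact one_mem _
    | cons a js ih =>
      intro h
      rw [List.flatMap_cons, wval_append]
      refine mul_mem (ih fun x hx => h x (List.mem_cons_of_mem _ hx)) ?_
      by_cases hb : m.testBit a
      · rw [if_pos hb]; exact Subgroup.subset_closure ⟨a, h a List.mem_cons_self, rfl⟩
      · rw [if_neg hb]; exact one_mem _
  exact this _ fun j hj => List.mem_range.1 hj

theorem qg_sq {j : ℕ} (hj : j < 7) : qg j * qg j = 1 := by
  have h : ∀ j < 7, same (wordC (qWords.getD j []) ++ wordC (qWords.getD j [])) [] = true := by decide +kernel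
  refine Subtype.ext ?_
  rw [Subgroup.coe_mul, qg_val hj, ← wval_append, eq_of_same (h j hj)]; rfl

theorem mem_Qs {x : K} (hx : x ∈ Qs) : ∃ m : Fin 128, qel m = x := by
  have step : ∀ j < 7, ∀ y : K, (∃ m : Fin 128, qel m = y) → ∃ m : Fin 128, qel m = qg j * y := by
    rintro j hj _ ⟨m, rfl⟩
    obtain ⟨h1, h2⟩ := qg_mul m.2 hj
    exact ⟨⟨_, h2⟩, h1.symm⟩
  refine Subgroup.closure_induction_left (p := fun y _ => ∃ m : Fin 128, qel m = y) ⟨0, qel_zero⟩
    ?_ ?_ hx
  · rintro _ ⟨j, hj, rfl⟩ y _ hy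
    exact step j hj y hy
  · rintro _ ⟨j, hj, rfl⟩ y _ hy
    rw [inv_eq_of_mul_eq_one_right (qg_sq hj)]
    exact step j hj y hy

theorem card_Qs : Nat.card Qs = 128 := by
  have e : Fin 128 ≃ Qs := Equiv.ofBijective (fun m => ⟨qel m, qword_mem m.2⟩)
    ⟨fun a b h => qel_injective (congrArg Subtype.val h),
      fun x => let ⟨m, hm⟩ := mem_Qs x.2; ⟨m, Subtype.ext hm⟩⟩
  rw [← Nat.card_congr e, Nat.card_fin]

/-! ### The action on the blocks -/

/-- `n` as an optional element of `Fin 27`, shifted by one. -/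
noncomputable def optB (n : ℕ) : Option (Fin 27) :=
  if h : 1 ≤ n ∧ n ≤ 27 then some ⟨n - 1, by omega⟩ else none

/-- The action of the eight words agrees with the table. -/
noncomputable def blkOK (i : ℕ) : Bool :=
  (List.range 8).all fun g => decide
    ((optB (blk.get 5 (SuzC1782.cert.path (cWords.getD g []) i))).map Fin.val =
      (optB (blk.get 5 i)).map fun l => bTab.img g l)

theorem blk_check : checkBelow blkOK 11 1782 = true := by decide +kernel

theorem blkRep_check : ∀ l : Fin 27, blkRep.getD l 0 < SuzC1782.cert.N ∧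
    optB (blk.get 5 (blkRep.getD l 0)) = some l := by decide +kernel

theorem exists_block_hom : ∃ φ : K →* Equiv.Perm (Fin bTab.N),
    ∀ g, g < bTab.m → ∀ i : Fin bTab.N, (φ (kg g) i : ℕ) = bTab.img g i := by
  haveI : Finite Suz := SuzOrder.finite_suz
  obtain ⟨e, -, he⟩ := exists_table
  let f : Suz ⧸ hSub → Option (Fin bTab.N) := fun x => optB (blk.get 5 (e.symm x))
  have hf : ∀ i, ∃ x, f x = some i := fun i => by
    obtain ⟨h1, h2⟩ := blkRep_check i
    exact ⟨e ⟨_, h1⟩, by simp only [f, Equiv.symm_apply_apply]; exact h2⟩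
  have hs : ∀ g, g < bTab.m → ∀ x,
      (f (xgen g • x)).map Fin.val = (f x).map fun i => bTab.img g i := by
    intro g hg x
    obtain ⟨i, rfl⟩ := e.surjective x
    rw [show xgen g • e i = _ from
      CosetCert.smul_path SuzC1782.cert_edgesOK SuzC1782.cert_nodesOK e he _ (cWords_lt g hg) i]
    simp only [f, Equiv.symm_apply_apply]
    have hN : SuzC1782.cert.N = 1782 := by decide +kernel
    exact of_decide_eq_true
      (List.all_eq_true.mp (checkBelow_spec blk_check i.1 (hN ▸ i.2)) g (List.mem_range.mpr hg))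
  obtain ⟨φ₀, hφ₀⟩ := PTab.exists_hom (T := bTab) (s := xgen) f hf hs
  refine ⟨φ₀, fun g hg i => ?_⟩
  have : kg g = ⟨xgen g, Subgroup.subset_closure ⟨g, hg, rfl⟩⟩ := dif_pos hg
  rw [this]
  exact hφ₀ g hg i

/-- The action on the blocks. -/
noncomputable def φ : K →* Equiv.Perm (Fin bTab.N) := exists_block_hom.choose

theorem φ_spec : ∀ g, g < bTab.m → ∀ i : Fin bTab.N, (φ (kg g) i : ℕ) = bTab.img g i :=
  exists_block_hom.choose_spec

theorem qWords_fix : ∀ j < 7, ∀ l : Fin 27, bTab.path (qWords.getD j []) l = l := by decide +kernel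

theorem Qs_le_ker : Qs ≤ φ.ker := by
  rw [Qs, Subgroup.closure_le]
  rintro _ ⟨j, hj, rfl⟩
  rw [SetLike.mem_coe, MonoidHom.mem_ker]
  refine Equiv.ext fun l => Fin.ext ?_
  rw [qg, PTab.apply_wval φ φ_spec _ (qWords_lt j hj) l]
  exact qWords_fix j hj l

theorem chain_ok : bTab.chainOK bChain [] = true ∧ PTab.chainSize bChain = 25920 := by decide +kernel

theorem counts : Subgroup.centralizer ({zinv} : Set Suz) ≤ K ∧ φ.ker = Qs ∧ Nat.card φ.range = 25920 := by
  haveI : Finite Suz := SuzOrder.finite_suz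
  have h1 := PTab.prod_le_card_range φ φ_spec chain_ok.1
  rw [chain_ok.2] at h1
  have h2 : 128 ≤ Nat.card φ.ker := card_Qs ▸ Subgroup.card_le_of_le Qs_le_ker
  have h3 : Nat.card K ≤ 3317760 := (Subgroup.card_le_of_le K_le).trans centralizer_le
  have h4 : Nat.card φ.range * Nat.card φ.ker = Nat.card K := by
    rw [← Subgroup.index_ker, mul_comm, Subgroup.card_mul_index]
  have h5 : Nat.card K = 3317760 := le_antisymm h3 (h4 ▸ Nat.mul_le_mul h1 h2)
  have h6 : Nat.card φ.ker = 128 := by nlinarith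
  refine ⟨?_, (Subgroup.eq_of_le_of_card_ge Qs_le_ker (by rw [h6, card_Qs])).symm, ?_⟩
  · refine le_of_eq (Subgroup.eq_of_le_of_card_ge K_le ?_).symm
    rw [h5]; exact centralizer_le
  · rw [h6, h5] at h4; omega

theorem trans_check : ∀ l : Fin 27, (∀ g ∈ blkTrans.getD l [], g < 8) ∧
    bTab.path (blkTrans.getD l []) 0 = l := by decide +kernel

theorem range_transitive : MulAction.IsPretransitive φ.range (Fin bTab.N) := by
  set o : Fin bTab.N := ⟨0, by decide +kernel⟩
  have h : ∀ l, ∃ g : φ.range, g • o = l := fun l => by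
    obtain ⟨h1, h2⟩ := trans_check l
    refine ⟨⟨φ (wval kg (blkTrans.getD l [])), _, rfl⟩, Fin.ext ?_⟩
    show (φ (wval kg (blkTrans.getD l [])) o : ℕ) = _
    rw [PTab.apply_wval φ φ_spec _ h1]
    exact h2
  refine ⟨fun x y => ?_⟩
  obtain ⟨gx, hx⟩ := h x
  obtain ⟨gy, hy⟩ := h y
  exact ⟨gy * gx⁻¹, by rw [mul_smul, ← hx, inv_smul_smul, hy]⟩

/-! ### The elements belonging to the blocks -/

theorem sel_check : (qSel.map id).Nodup ∧ qSel.length = 27 ∧ (∀ x ∈ qSel, x < 64) ∧
    (∀ m < 64, qMul.getD (7 * m + 6) 0 = m + 64) := by decide +kernel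

theorem img_check : ((List.range 8).all fun j => (List.range 27).all fun l =>
    force ((qImg.getD j []).getD l 0) fun m => Nat.blt m 128 &&
      same ((cWords.getD j []).reverse ++ wordC (qword (qSel.getD l 0)) ++ cWords.getD j [])
        (wordC (qword m)) &&
      (Nat.beq m (qSel.getD (bTab.img j l) 0) || Nat.beq m (qSel.getD (bTab.img j l) 0 + 64))) = true := by
  decide +kernel

/-- The element of block `l`. -/
noncomputable def qb (l : Fin bTab.N) : K := qel (qSel.getD l.1 0)

theorem sel_lt (l : Fin bTab.N) : qSel.getD l.1 0 < 64 := by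
  have hl : l.1 < qSel.length := sel_check.2.1 ▸ l.2
  rw [List.getD_eq_getElem _ _ hl]
  exact sel_check.2.2.1 _ (List.getElem_mem _)

theorem zK_mul_qel {m : ℕ} (hm : m < 64) : zK * qel m = qel (m + 64) := by
  rw [← qg_top, (qg_mul (by omega) (by norm_num)).1, sel_check.2.2.2 m hm]

theorem equivariant (k : K) : ∀ l, k * qb l * k⁻¹ = qb (φ k l) ∨ k * qb l * k⁻¹ = zK * qb (φ k l) := by
  have hgen : ∀ j, j < 8 → ∀ l, kg j * qb l * (kg j)⁻¹ = qb (φ (kg j) l) ∨
      kg j * qb l * (kg j)⁻¹ = zK * qb (φ (kg j) l) := by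
    intro j hj l
    have h := List.all_eq_true.1 (List.all_eq_true.1 img_check j (List.mem_range.2 hj)) l.1
      (List.mem_range.2 l.2)
    simp only [force_eq, Bool.and_eq_true, Bool.or_eq_true, Nat.beq_eq, Nat.blt_eq] at h
    obtain ⟨⟨hm, hs⟩, hc⟩ := h
    have e : kg j * qb l * (kg j)⁻¹ = qel ((qImg.getD j []).getD l.1 0) := Subtype.ext (by
      rw [qel_val hm, ← eq_of_same hs, wval_conj, Subgroup.coe_mul, Subgroup.coe_mul, Subgroup.coe_inv,
        kg_val hj, qb, qel_val (by have := sel_lt l; omega)]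
      rfl)
    rw [← φ_spec j hj l] at hc
    rcases hc with hc | hc
    · exact Or.inl (by rw [e, hc, qb])
    · exact Or.inr (by rw [e, hc, qb, zK_mul_qel (sel_lt _)])
  have hz2 : zK * zK = 1 := Subtype.ext (by
    rw [Subgroup.coe_mul, zK_val]
    exact (genFun_mul_self gens_all gens_ok 0))
  obtain ⟨k, hk⟩ := k
  induction hk using Subgroup.closure_induction with
  | mem x hx =>
    obtain ⟨j, hj, rfl⟩ := hx
    intro l
    have := hgen j hj l
    rw [show kg j = ⟨xgen j, Subgroup.subset_closure ⟨j, hj, rfl⟩⟩ from dif_pos hj] at this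
    exact this
  | one => intro l; exact Or.inl (by rw [show (⟨1, _⟩ : K) = 1 from rfl, map_one]; simp)
  | mul x y hx hy ihx ihy =>
    intro l
    rw [show (⟨x * y, _⟩ : K) = ⟨x, hx⟩ * ⟨y, hy⟩ from rfl, map_mul, Equiv.Perm.mul_apply]
    set a : K := ⟨x, hx⟩
    set b : K := ⟨y, hy⟩
    have e : a * b * qb l * (a * b)⁻¹ = a * (b * qb l * b⁻¹) * a⁻¹ := by group
    rw [e]
    rcases ihy l with h | h <;> rw [h]
    · exact ihx _
    · rw [← mul_assoc a zK, ← zK_comm a, mul_assoc zK a, mul_assoc zK]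
      rcases ihx (φ b l) with h' | h' <;> rw [h']
      · exact Or.inr rfl
      · exact Or.inl (by rw [← mul_assoc, hz2, one_mul])
  | inv x hx ih =>
    intro l
    rw [show (⟨x⁻¹, _⟩ : K) = (⟨x, hx⟩ : K)⁻¹ from rfl, map_inv]
    set a : K := ⟨x, hx⟩
    rcases ih ((φ a)⁻¹ l) with h | h <;> rw [Equiv.Perm.coe_inv, Equiv.apply_symm_apply] at h
    · left
      rw [Equiv.Perm.coe_inv, ← h]
      group
    · right
      have h' : qb l = zK * (a * qb ((φ a).symm l) * a⁻¹) := by rw [h, ← mul_assoc, hz2, one_mul]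
      rw [Equiv.Perm.coe_inv, h']
      have hc := zK_comm a⁻¹
      calc a⁻¹ * (zK * (a * qb ((φ a).symm l) * a⁻¹)) * a⁻¹⁻¹
          = (a⁻¹ * zK) * a * qb ((φ a).symm l) := by group
        _ = zK * qb ((φ a).symm l) := by rw [← hc]; group

theorem centralizer_Qs_le : Subgroup.centralizer (Qs : Set K) ≤ Qs := by
  intro k hk
  rw [← counts.2.1, MonoidHom.mem_ker]
  refine Equiv.ext fun l => ?_
  have hmem : qb l ∈ Qs := qword_mem (by have := sel_lt l; omega)
  have hq : k * qb l * k⁻¹ = qb l := by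
    rw [← Subgroup.mem_centralizer_iff.1 hk _ hmem, mul_inv_cancel_right]
  have hl := sel_lt l
  have hl' := sel_lt (φ k l)
  have key : qSel.getD l.1 0 = qSel.getD (φ k l).1 0 := by
    rcases equivariant k l with h | h
    · rw [hq] at h
      exact qel_inj (lt_of_lt_of_le hl (by norm_num)) (lt_of_lt_of_le hl' (by norm_num)) h
    · rw [hq, qb, qb, zK_mul_qel hl'] at h
      have := qel_inj (lt_of_lt_of_le hl (by norm_num)) (Nat.add_lt_add_right hl' 64) h
      omega
  have h1 : l.1 < qSel.length := sel_check.2.1 ▸ l.2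
  have h2 : (φ k l).1 < qSel.length := sel_check.2.1 ▸ (φ k l).2
  rw [List.getD_eq_getElem _ _ h1, List.getD_eq_getElem _ _ h2] at key
  have hnd : qSel.Nodup := by simpa using sel_check.1
  exact Fin.ext ((List.Nodup.getElem_inj_iff hnd).1 key).symm

theorem center_Qs_card : Nat.card (Subgroup.center Qs) = 2 := by
  have hz : zK ∈ Qs := qword_mem (by norm_num)
  have e : Subgroup.center Qs = Subgroup.zpowers (⟨zK, hz⟩ : Qs) := by
    refine le_antisymm (fun x hx => ?_) ((Subgroup.zpowers_le).2 (Subgroup.mem_center_iff.2 fun y =>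
      Subtype.ext (zK_comm y).symm))
    obtain ⟨m, hm⟩ := mem_Qs x.2
    by_cases h0 : m.1 = 0
    · rw [show x = 1 from Subtype.ext (by rw [← hm, h0, qel_zero]; rfl)]; exact one_mem _
    by_cases h64 : m.1 = 64
    · rw [show x = ⟨zK, hz⟩ from Subtype.ext (by rw [← hm, h64]; rfl)]; exact Subgroup.mem_zpowers _
    obtain ⟨j, hj, hne⟩ := qel_noncomm m.2 h0 h64
    refine absurd ?_ hne
    have := congrArg Subtype.val (Subgroup.mem_center_iff.1 hx ⟨qg j, Subgroup.subset_closure ⟨j, hj, rfl⟩⟩)
    rw [hm]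
    exact this
  rw [e, Nat.card_zpowers]
  rw [← Subgroup.orderOf_coe, show ((⟨zK, hz⟩ : Qs) : K) = zK from rfl, ← Subgroup.orderOf_coe, zK_val,
    orderOf_zinv]

theorem extraspecial_Qs : IsExtraspecial 2 Qs := by
  haveI := Fact.mk Nat.prime_two
  haveI : Finite Suz := SuzOrder.finite_suz
  have hz : zK ∈ Qs := qword_mem (by norm_num)
  have hzc : (⟨zK, hz⟩ : Qs) ∈ Subgroup.center Qs :=
    Subgroup.mem_center_iff.2 fun y => Subtype.ext (zK_comm y).symm
  have hsq : ∀ a : Qs, a ^ 2 ∈ Subgroup.center Qs := fun a => by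
    obtain ⟨m, hm⟩ := mem_Qs a.2
    rcases qel_sq m.2 with h | h <;> rw [hm] at h
    · rw [show a ^ 2 = 1 from Subtype.ext (by rw [pow_two]; exact h)]; exact one_mem _
    · rw [show a ^ 2 = ⟨zK, hz⟩ from Subtype.ext (by rw [pow_two]; exact h)]; exact hzc
  refine PGroup.isExtraspecial_of (IsPGroup.of_card (n := 7) card_Qs) center_Qs_card (fun h => ?_)
    (fun a b => ?_) hsq
  · have := center_Qs_card
    rw [h, Subgroup.card_top, card_Qs] at this
    norm_num at this
  · have e : ⁅a, b⁆ = (a * b) ^ 2 * (b⁻¹ * (a ^ 2)⁻¹ * b⁻¹) := by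
      rw [commutatorElement_def, pow_two, pow_two]; group
    rw [e]
    refine mul_mem (hsq _) ?_
    rw [show b⁻¹ * (a ^ 2)⁻¹ * b⁻¹ = (a ^ 2)⁻¹ * (b ^ 2)⁻¹ by
      rw [Subgroup.mem_center_iff.1 (inv_mem (hsq a)) b⁻¹, pow_two b, mul_inv_rev, mul_assoc]]
    exact mul_mem (inv_mem (hsq a)) (inv_mem (hsq b))

/-! ### The orthogonal group -/

/-- The entries of a matrix from column masks. -/
def maskMat (c : List ℕ) : Matrix I6 I6 (ZMod 2) :=
  Matrix.of fun x y => if (c.getD (enc y) 0).testBit (enc x) then 1 else 0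

theorem mat_check : ∀ j : Fin 8,
    maskMat (colT.getD j []) * maskMat (colInvT.getD j []) = 1 ∧
    maskMat (colInvT.getD j []) * maskMat (colT.getD j []) = 1 ∧
    (∀ v, Q6 (Matrix.mulVec (maskMat (colT.getD j [])) v) = Q6 v) ∧
    (∀ l : Fin 27, ∃ h : bTab.img j l < 27,
      Matrix.mulVec (maskMat (colT.getD j [])) (sv l) = sv ⟨bTab.img j l, h⟩) := by
  decide +kernel

theorem exists_sv_image (u : isometryGroup (ZMod 2) Q6) (l : Fin 27) :
    ∃ m, sv m = Matrix.mulVec ((u.1 : GL I6 (ZMod 2)) : Matrix I6 I6 (ZMod 2)) (sv l) := by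
  refine Transpos.O6.sv_surj _ ((u.2 (sv l) (sv l)).trans (Transpos.O6.sv_singular l)) fun h => ?_
  refine Transpos.O6.sv_ne_zero l ?_
  have := congrArg (Matrix.mulVec (((u.1)⁻¹ : GL I6 (ZMod 2)) : Matrix I6 I6 (ZMod 2))) h
  rwa [Matrix.mulVec_mulVec, ← Units.val_mul, inv_mul_cancel, Units.val_one, Matrix.one_mulVec,
    Matrix.mulVec_zero] at this

/-- The permutation of the singular vectors. -/
noncomputable def svImg (u : isometryGroup (ZMod 2) Q6) (l : Fin 27) : Fin 27 := (exists_sv_image u l).choose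

theorem sv_svImg (u : isometryGroup (ZMod 2) Q6) (l : Fin 27) :
    sv (svImg u l) = Matrix.mulVec ((u.1 : GL I6 (ZMod 2)) : Matrix I6 I6 (ZMod 2)) (sv l) :=
  (exists_sv_image u l).choose_spec

theorem svImg_mul (u v : isometryGroup (ZMod 2) Q6) (l : Fin 27) :
    svImg (u * v) l = svImg u (svImg v l) := by
  refine Transpos.O6.sv_inj _ _ ?_
  rw [sv_svImg, sv_svImg, sv_svImg, Matrix.mulVec_mulVec]
  rfl

theorem svImg_one (l : Fin 27) : svImg 1 l = l := by
  refine Transpos.O6.sv_inj _ _ ?_
  rw [sv_svImg]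
  exact Matrix.one_mulVec _

/-- The action on the singular vectors. -/
noncomputable def psi : isometryGroup (ZMod 2) Q6 →* Equiv.Perm (Fin bTab.N) where
  toFun u := ⟨svImg u, svImg u⁻¹,
    fun l => (svImg_mul u⁻¹ u l).symm.trans (by rw [inv_mul_cancel]; exact svImg_one l),
    fun l => (svImg_mul u u⁻¹ l).symm.trans (by rw [mul_inv_cancel]; exact svImg_one l)⟩
  map_one' := Equiv.ext fun l => svImg_one l
  map_mul' u v := Equiv.ext fun l => svImg_mul u v l

theorem psi_injective : Function.Injective psi := by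
  intro u v h
  refine Subtype.ext (Units.ext (Transpos.O6.ext_sv fun l => ?_))
  rw [← sv_svImg, ← sv_svImg]
  exact congrArg sv (Equiv.congr_fun h l)

theorem range_le : φ.range ≤ psi.range := by
  rintro _ ⟨k, rfl⟩
  obtain ⟨k, hk⟩ := k
  induction hk using Subgroup.closure_induction with
  | mem x hx =>
    obtain ⟨j, hj, rfl⟩ := hx
    obtain ⟨h1, h2, h3, h4⟩ := mat_check ⟨j, hj⟩
    refine ⟨⟨⟨_, _, h1, h2⟩, fun v _ => h3 v⟩, Equiv.ext fun l => ?_⟩
    obtain ⟨h, e⟩ := h4 l
    have hkg : kg j = ⟨xgen j, Subgroup.subset_closure ⟨j, hj, rfl⟩⟩ := dif_pos hj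
    refine Eq.trans ?_ (congrArg (fun q : K => φ q l) hkg)
    refine Eq.trans ?_ (Fin.ext (φ_spec j hj l).symm : (⟨bTab.img j l, h⟩ : Fin bTab.N) = _)
    refine Transpos.O6.sv_inj _ _ ?_
    exact (sv_svImg _ l).trans e
  | one => exact one_mem (psi.range.comap φ)
  | mul x y hx hy ihx ihy => exact mul_mem (s := psi.range.comap φ) ihx ihy
  | inv x hx ih => exact inv_mem (s := psi.range.comap φ) ih

theorem range_iso : Nonempty (φ.range ≃* Omega (ZMod 2) Q6) := by
  classical
  set O := φ.range.comap psi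
  have hmap : O.map psi = φ.range := Subgroup.map_comap_eq_self range_le
  have eO : O ≃* φ.range := (O.equivMapOfInjective psi psi_injective).trans (MulEquiv.subgroupCongr hmap)
  have hO : Nat.card O = 25920 := (Nat.card_congr eO.toEquiv).trans counts.2.2
  have hI : Nat.card ↥(isometryGroup (ZMod 2) Q6) = 51840 := by
    rw [Forms.card_isometryGroup _ Forms.quadMinus_apply, Forms.card_isomQ_quadMinus 2 S5379.hab, ZMod.card]
    norm_num [Finset.prod_range_succ]
  have hidx : O.index = 2 := by
    have := O.card_mul_index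
    rw [hO, hI] at this
    omega
  have hle : Omega (ZMod 2) Q6 ≤ O := by
    rw [Omega, commutator_def, Subgroup.commutator_le]
    intro a _ b _
    rw [commutatorElement_def]
    simp only [Subgroup.mul_mem_iff_of_index_two hidx, inv_mem_iff]
    tauto
  have heq : Omega (ZMod 2) Q6 = O :=
    Subgroup.eq_of_le_of_card_ge hle (by rw [hO, S5379.card_omega])
  exact ⟨eO.symm.trans (MulEquiv.subgroupCongr heq.symm)⟩

/-! ### The main result -/

theorem pCore_eq : pCore 2 K = Qs := by
  haveI := Fact.mk Nat.prime_two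
  haveI : Finite Suz := SuzOrder.finite_suz
  have hn : Qs.Normal := counts.2.1 ▸ φ.normal_ker
  refine le_antisymm ?_ (le_sSup ⟨hn, IsPGroup.of_card (n := 7) card_Qs⟩)
  set N := (pCore 2 K).map φ.rangeRestrict
  have hNn : N.Normal := (Components.pCore_normal' 2).map _ φ.rangeRestrict_surjective
  have hNp : IsPGroup 2 N := (Components.isPGroup_pCore' 2).map _
  haveI := range_transitive
  obtain ⟨x, hx⟩ := hNp.nonempty_fixed_point_of_prime_not_dvd_card (Fin bTab.N)
    (by rw [Nat.card_fin]; decide +kernel)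
  have hbot : N = ⊥ := by
    refine (Subgroup.eq_bot_iff_forall _).2 fun n hnN => Subtype.ext (Equiv.ext fun y => ?_)
    obtain ⟨g, rfl⟩ := MulAction.exists_smul_eq φ.range x y
    have h1 := hx ⟨g⁻¹ * n * g, by simpa using hNn.conj_mem n hnN g⁻¹⟩
    change ((g⁻¹ * n * g : φ.range)) • x = x at h1
    rw [mul_smul, mul_smul, inv_smul_eq_iff] at h1
    exact h1
  rw [← counts.2.1, ← φ.ker_rangeRestrict]
  exact (Subgroup.map_eq_bot_iff _).1 hbot

theorem move_check : (moveWord.all fun g => Nat.blt g 7) = true ∧ moveImg < 128 ∧ moveImg ≠ 64 ∧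
    same (moveWord.reverse ++ [0] ++ moveWord) (wordC (qword moveImg)) = true := by decide +kernel

theorem large_extraspecial_suz : ∃ z : Suz, orderOf z = 2 ∧
    ∃ (Q : Subgroup (Subgroup.centralizer ({z} : Set Suz))) (_ : Q.Normal),
      generalizedFittingSubgroup (Subgroup.centralizer ({z} : Set Suz)) = Q ∧
      IsExtraspecial 2 Q ∧ Nat.card Q = 2 ^ 7 ∧
      Nonempty ((Subgroup.centralizer ({z} : Set Suz)) ⧸ Q ≃*
        Omega (ZMod 2) (quadFormMinus 2 (ZMod 2) 1 1)) ∧
      ∃ g : Suz, (∃ hq : g * z * g⁻¹ ∈ Subgroup.centralizer ({z} : Set Suz),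
        (⟨g * z * g⁻¹, hq⟩ : Subgroup.centralizer ({z} : Set Suz)) ∈ Q) ∧ g * z * g⁻¹ ≠ z := by
  haveI := Fact.mk Nat.prime_two
  haveI : Finite Suz := SuzOrder.finite_suz
  have hCK : Subgroup.centralizer ({zinv} : Set Suz) = K := le_antisymm counts.1 K_le
  refine ⟨zinv, orderOf_zinv, ?_⟩
  rw [hCK]
  obtain ⟨eΩ⟩ := range_iso
  have hn : Qs.Normal := counts.2.1 ▸ φ.normal_ker
  refine ⟨Qs, hn, ?_, extraspecial_Qs, card_Qs.trans (by norm_num),
    ⟨((QuotientGroup.quotientMulEquivOfEq counts.2.1.symm).trans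
      (QuotientGroup.quotientKerEquivRange φ)).trans eΩ⟩, wval gen moveWord, ?_⟩
  · rw [← pCore_eq]
    exact Balance.generalizedFitting_eq_pCore (by rw [pCore_eq]; exact centralizer_Qs_le)
  obtain ⟨-, hlt, hne, hs⟩ := move_check
  have e : wval gen moveWord * zinv * (wval gen moveWord)⁻¹ = ((qel moveImg : K) : Suz) := by
    rw [qel_val hlt, ← eq_of_same hs, wval_conj, wval_zero]
  refine ⟨⟨e ▸ (qel moveImg).2, ?_⟩, fun h => hne ?_⟩
  · have : (⟨_, e ▸ (qel moveImg).2⟩ : K) = qel moveImg := Subtype.ext e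
    rw [this]
    exact qword_mem hlt
  · rw [h, ← zK_val] at e
    exact congrArg Fin.val (qel_injective (a₁ := ⟨_, hlt⟩) (a₂ := ⟨64, by norm_num⟩) (Subtype.ext e).symm)

end Cfsg.Agent.Presented.SuzCent
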