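import Cfsg.Agent.Lib.G2Four.Field
import Cfsg.Agent.Lib.ClassicalSimple.UnitaryMatrix
import Cfsg.Agent.Lib.Forms.HermCenter
import Cfsg.Agent.Lib.Presented.Coset
import Cfsg.Agent.Lib.Presented.Data.FiU6Data

/-!
# Eight transvections generating `SU₆(2)`

The transvections at eight explicit isotropic vectors of `GF(4)⁶` satisfy, modulo scalars, the relators
of `FiU6Data.rels`, and generate: every isotropic point is an image of the first one.
-/

set_option autoImplicit false
set_option maxRecDepth 20000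

namespace Cfsg.Agent.Presented.FiU6

open Matrix Cfsg.Agent.Presented

/-- The field with four elements. -/
abbrev K : Type := G2Four.K4

theorem hK : Fintype.card K = 2 ^ 2 := G2Four.card_K4

/-- The group `SU₆(2)`. -/
abbrev SU6 : Type := Cfsg.SU 6 K 2

/-- The matrix of an element of `SU₆(2)`. -/
def toM : SU6 →* Matrix (Fin 6) (Fin 6) K where
  toFun A := A.1.1
  map_one' := rfl
  map_mul' _ _ := rfl

theorem toM_injective : Function.Injective toM := fun _ _ h => Subtype.ext (Subtype.ext h)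

/-- The transvection at a vector. -/
def tm (v : Fin 6 → K) : Matrix (Fin 6) (Fin 6) K := Cfsg.unitaryTransvection 6 2 v 1

theorem add_self (a : K) : a + a = 0 := by revert a; decide +kernel

theorem tm_mulVec (v x : Fin 6 → K) : tm v *ᵥ x = x + Forms.hermB hK 6 v x • v := by
  rw [tm, ClassicalSimple.unitaryTransvection_mulVec hK, one_mul]

theorem tm_sq {v : Fin 6 → K} (h0 : Forms.hermB hK 6 v v = 0) : tm v * tm v = 1 := by
  refine Matrix.toLin'.injective (LinearMap.ext fun x => ?_)
  simp only [Matrix.toLin'_apply, ← Matrix.mulVec_mulVec, tm_mulVec, map_add, map_smul, h0,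
    Matrix.one_mulVec, smul_eq_mul, mul_zero, add_zero]
  rw [add_assoc, ← add_smul, add_self, zero_smul, add_zero]

theorem det_tm {v : Fin 6 → K} (h0 : Forms.hermB hK 6 v v = 0) : (tm v).det = 1 := by
  have h : (tm v).det * (tm v).det = 1 := by rw [← Matrix.det_mul, tm_sq h0, Matrix.det_one]
  have key : ∀ a : K, a * a = 1 → a = 1 := by decide +kernel
  exact key _ h

/-- The element of `SU₆(2)` of a transvection. -/
noncomputable def mkT (v : Fin 6 → K) (hv : v ≠ 0) (h0 : Forms.hermB hK 6 v v = 0) : SU6 :=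
  ⟨⟨tm v, det_tm h0⟩, (ClassicalSimple.mem_SU_iff hK _).2
    ((ClassicalSimple.unitaryTransvection_isometry_iff hK hv h0 1).2
      (by rw [one_pow]; exact add_self 1))⟩

theorem conj_tm (A : SU6) (v : Fin 6 → K) :
    toM A * tm v * toM A⁻¹ = tm (toM A *ᵥ v) := by
  refine Matrix.toLin'.injective (LinearMap.ext fun x => ?_)
  have hx : toM A *ᵥ (toM A⁻¹ *ᵥ x) = x := by
    rw [Matrix.mulVec_mulVec, ← map_mul, mul_inv_cancel, map_one, Matrix.one_mulVec]
  have key : Forms.hermB hK 6 (toM A *ᵥ v) x = Forms.hermB hK 6 v (toM A⁻¹ *ᵥ x) := by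
    conv_lhs => rw [← hx]
    exact (ClassicalSimple.mem_SU_iff hK A.1).1 A.2 _ _
  simp only [Matrix.toLin'_apply, ← Matrix.mulVec_mulVec, tm_mulVec, Matrix.mulVec_add,
    Matrix.mulVec_smul, hx, key]

theorem tm_smul {c : K} (hc : c ≠ 0) (v : Fin 6 → K) : tm (c • v) = tm v := by
  have key : ∀ a : K, a ≠ 0 → a * a ^ 2 = 1 := by decide +kernel
  ext i j
  simp only [tm, Cfsg.unitaryTransvection, Matrix.add_apply, Matrix.smul_apply, Matrix.vecMulVec_apply,
    Pi.smul_apply, smul_eq_mul, mul_pow, one_mul]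
  rw [mul_mul_mul_comm, key c hc, one_mul]

/-! ## Vectors and matrices from codes -/

/-- The element with the given code. -/
def el (c : ℕ) : K := ⟨Fin.ofNat 4 c⟩

/-- The vector with the given code. -/
def vec (c : ℕ) : Fin 6 → K := fun j => el (c >>> (2 * (j : ℕ)))

/-- The code of a vector. -/
def code (v : Fin 6 → K) : ℕ :=
  (v 0).v + 4 * ((v 1).v + 4 * ((v 2).v + 4 * ((v 3).v + 4 * ((v 4).v + 4 * (v 5).v))))

theorem vec_code (v : Fin 6 → K) : vec (code v) = v ∧ code v < 4096 := by
  have hb : ∀ i, ((v i).v : ℕ) < 4 := fun i => (v i).v.2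
  have h0 := hb 0; have h1 := hb 1; have h2 := hb 2; have h3 := hb 3; have h4 := hb 4; have h5 := hb 5
  refine ⟨?_, by simp only [code]; omega⟩
  funext i
  show (⟨Fin.ofNat 4 (code v >>> (2 * (i : ℕ)))⟩ : K) = v i
  have : Fin.ofNat 4 (code v >>> (2 * (i : ℕ))) = (v i).v := by
    apply Fin.ext
    rw [Fin.val_ofNat, Nat.shiftRight_eq_div_pow]
    fin_cases i <;> simp only [code, Fin.reduceFinMk] <;> norm_num <;> omega
  rw [this]

/-- The matrix with the given code. -/
def mat (c : ℕ) : Matrix (Fin 6) (Fin 6) K :=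
  Matrix.of fun i j => el (c >>> (2 * (6 * (i : ℕ) + (j : ℕ))))

/-- The eight vectors. -/
def v8 (g : ℕ) : Fin 6 → K := vec (FiU6Data.vecCodes.getD g 0)

theorem v8_ok : ∀ g : Fin 8, Cfsg.hermForm 6 K 2 (v8 g) (v8 g) = 0 ∧ v8 g ≠ 0 ∧
    tm (v8 g) = mat (FiU6Data.matCodes.getD g 0) := by
  decide +kernel

theorem hermB_of {v : Fin 6 → K} (h : Cfsg.hermForm 6 K 2 v v = 0) : Forms.hermB hK 6 v v = 0 := by
  rw [Forms.hermB_apply]; exact h

/-- The eight elements. -/
noncomputable def uS (g : ℕ) : SU6 :=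
  if h : g < 8 then mkT (v8 g) (v8_ok ⟨g, h⟩).2.1 (hermB_of (v8_ok ⟨g, h⟩).1) else 1

theorem toM_uS {g : ℕ} (h : g < 8) : toM (uS g) = mat (FiU6Data.matCodes.getD g 0) := by
  rw [uS, dif_pos h]; exact (v8_ok ⟨g, h⟩).2.2

theorem uS_mulVec {g : ℕ} (h : g < 8) (x : Fin 6 → K) : toM (uS g) *ᵥ x =
    mat (FiU6Data.matCodes.getD g 0) *ᵥ x := by
  rw [toM_uS h]

/-! ## Scalar words -/

/-- A checked chain of partial products. -/
def chainOK : ℕ → List ℕ → List ℕ → Bool
  | _, [], [] => true
  | cur, g :: w, n :: ns =>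
      decide (mat cur * mat (FiU6Data.matCodes.getD g 0) = mat n) && chainOK n w ns
  | _, _, _ => false

/-- The code of the identity. -/
def oneCode : ℕ := (List.range 6).foldl (fun a i => a + 2 ^ (14 * i)) 0

theorem mat_one : mat oneCode = 1 := by decide +kernel

theorem chain_prod : ∀ (w : List ℕ) (cur : ℕ) (ns : List ℕ), chainOK cur w ns = true →
    (∀ g ∈ w, g < 8) → mat cur * toM (w.map uS).prod = mat (ns.getLastD cur) := by
  intro w
  induction w with
  | nil =>
    intro cur ns h _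
    cases ns with
    | nil => simp
    | cons n ns => simp [chainOK] at h
  | cons g w ih =>
    intro cur ns h hlt
    cases ns with
    | nil => simp [chainOK] at h
    | cons n ns =>
      simp only [chainOK, Bool.and_eq_true, decide_eq_true_eq] at h
      rw [List.map_cons, List.prod_cons, map_mul, toM_uS (hlt g List.mem_cons_self), ← mul_assoc, h.1,
        ih n ns h.2 fun g' hg' => hlt g' (List.mem_cons_of_mem _ hg'), List.getLastD_cons]

theorem scalarWords_ok : (FiU6Data.scalarWords.all fun p =>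
    chainOK oneCode p.1 p.2.1 && (p.1.all fun g => Nat.blt g 8) &&
      decide (mat (p.2.1.getLastD oneCode) = el p.2.2 • (1 : Matrix (Fin 6) (Fin 6) K))) = true := by
  decide +kernel

theorem scalarWords_fst :
    (FiU6Data.rels ++ [FiU6Data.aWord]).map List.reverse = FiU6Data.scalarWords.map Prod.fst := by
  decide +kernel

theorem word_mem_center {w : List ℕ} (hw : w ∈ FiU6Data.rels ++ [FiU6Data.aWord]) :
    wval uS w ∈ Subgroup.center SU6 := by
  have : w.reverse ∈ FiU6Data.scalarWords.map Prod.fst := scalarWords_fst ▸ List.mem_map_of_mem hw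
  obtain ⟨p, hp, e⟩ := List.mem_map.1 this
  rw [wval_eq_prod, ← List.map_reverse, ← e]
  have h := List.all_eq_true.1 scalarWords_ok p hp
  simp only [Bool.and_eq_true, List.all_eq_true, Nat.blt_eq, decide_eq_true_eq] at h
  obtain ⟨⟨h1, h2⟩, h3⟩ := h
  have e2 := chain_prod _ _ _ h1 h2
  rw [mat_one, one_mul, h3] at e2
  refine Subgroup.mem_center_iff.2 fun A => toM_injective ?_
  rw [map_mul, map_mul, e2, Matrix.mul_smul, Matrix.smul_mul, mul_one, one_mul]

/-! ## Generation -/

/-- Point number `k`. -/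
def pt (k : ℕ) : ℕ × ℕ × ℕ × ℕ := FiU6Data.points.getD k (0, 0, 0, 0)

theorem points_ok : ∀ k : Fin 693,
    el (pt k).2.2.2 ≠ 0 ∧ (pt k).2.2.1 < 8 ∧
    if (k : ℕ) = 0 then vec (pt k).1 = el (pt k).2.2.2 • v8 0
    else (pt k).2.1 < (k : ℕ) ∧ vec (pt k).1 = el (pt k).2.2.2 •
      (mat (FiU6Data.matCodes.getD (pt k).2.2.1 0) *ᵥ vec (pt (pt k).2.1).1) := by
  decide +kernel

/-- What the entry `x` of the index says about the vector with code `c`. -/
abbrev idxProp (c x : ℕ) : Prop :=
  Cfsg.hermForm 6 K 2 (vec c) (vec c) = 0 →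
    vec c = 0 ∨
    ((x - 1) / 4 < 693 ∧ el ((x - 1) % 4) ≠ 0 ∧ vec c = el ((x - 1) % 4) • vec (pt ((x - 1) / 4)).1)

/-- The check of the index. -/
def idxOK : ℕ → List ℕ → Bool
  | _, [] => true
  | c, x :: xs => decide (idxProp c x) && idxOK (c + 1) xs

theorem idxOK_spec : ∀ (l : List ℕ) (c : ℕ), idxOK c l = true → ∀ j < l.length,
    idxProp (c + j) (l.getD j 0) := by
  intro l
  induction l with
  | nil => intro c _ j hj; simp at hj
  | cons x xs ih =>
    intro c h j hj
    simp only [idxOK, Bool.and_eq_true, decide_eq_true_eq] at h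
    cases j with
    | zero => exact h.1
    | succ j =>
      rw [show c + (j + 1) = c + 1 + j by omega, List.getD_cons_succ]
      exact ih _ h.2 j (by simp only [List.length_cons] at hj; omega)

theorem idx_ok0 : idxOK 0 (FiU6Data.index.take 2048) = true := by decide +kernel

theorem idx_ok1 : idxOK 2048 (FiU6Data.index.drop 2048) = true := by decide +kernel

theorem index_spec (c : ℕ) (hc : c < 4096) : idxProp c (FiU6Data.index.getD c 0) := by
  have hlen : FiU6Data.index.length = 4096 := by decide +kernel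
  by_cases h : c < 2048
  · have := idxOK_spec _ _ idx_ok0 c (by rw [List.length_take, hlen]; omega)
    rw [Nat.zero_add, List.getD_eq_getElem?_getD, List.getElem?_take_of_lt h] at this
    rwa [List.getD_eq_getElem?_getD]
  · have := idxOK_spec _ _ idx_ok1 (c - 2048) (by rw [List.length_drop, hlen]; omega)
    rw [List.getD_eq_getElem?_getD, List.getElem?_drop, show 2048 + (c - 2048) = c by omega] at this
    rwa [List.getD_eq_getElem?_getD]

/-- The subgroup generated by the eight elements. -/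
noncomputable def gen8 : Subgroup SU6 := Subgroup.closure (uS '' {g | g < 8})

theorem mem_gen8_of_point : ∀ k, k < 693 → ∃ A ∈ gen8, toM A = tm (vec (pt k).1) := by
  intro k
  induction k using Nat.strong_induction_on with
  | _ k ih =>
    intro hk
    obtain ⟨hl, hg, h⟩ := points_ok ⟨k, hk⟩
    by_cases h0 : k = 0
    · rw [if_pos h0] at h
      refine ⟨uS 0, Subgroup.subset_closure ⟨0, (by norm_num : (0 : ℕ) < 8), rfl⟩, ?_⟩
      rw [h, tm_smul hl, uS, dif_pos (by norm_num : (0 : ℕ) < 8)]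
      rfl
    · rw [if_neg h0] at h
      obtain ⟨A, hA, e⟩ := ih _ h.1 (lt_trans h.1 hk)
      refine ⟨uS (pt k).2.2.1 * A * (uS (pt k).2.2.1)⁻¹, ?_, ?_⟩
      · have hu : uS (pt k).2.2.1 ∈ gen8 := Subgroup.subset_closure ⟨_, hg, rfl⟩
        exact gen8.mul_mem (gen8.mul_mem hu hA) (gen8.inv_mem hu)
      · rw [map_mul, map_mul, e, conj_tm, uS_mulVec hg, h.2, tm_smul hl]

theorem gen8_eq_top : gen8 = ⊤ := by
  rw [eq_top_iff, ← ClassicalSimple.closure_unitaryTransvectionSet hK (n := 6) (by norm_num) (by simp),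
    gen8, Subgroup.closure_le]
  rintro A ⟨v, c, hv, hA⟩
  by_cases h1 : c = 0 ∨ v = 0
  · rw [show A = 1 from toM_injective (by
      change A.1.1 = 1
      rw [hA, Cfsg.unitaryTransvection]
      rcases h1 with h1 | h1 <;> simp [h1])]
    exact Subgroup.one_mem _
  push Not at h1
  have hc := (ClassicalSimple.unitaryTransvection_isometry_iff hK h1.2 (hermB_of hv) c).1
    fun x y => by rw [← hA]; exact (ClassicalSimple.mem_SU_iff hK A.1).1 A.2 x y
  have key : ∀ a : K, a + a ^ 2 = 0 → a = 0 ∨ a = 1 := by decide +kernel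
  obtain rfl : c = 1 := (key c hc).resolve_left h1.1
  obtain ⟨hvc, hlt⟩ := vec_code v
  have hx := index_spec (code v) hlt
  simp only [idxProp, hvc] at hx
  obtain ⟨hk, hne, e⟩ := (hx hv).resolve_left h1.2
  obtain ⟨B, hB, eB⟩ := mem_gen8_of_point _ hk
  rw [show A = B from toM_injective (by
    rw [eB]; change A.1.1 = _
    rw [hA, ← tm_smul hne (vec _), ← e]; rfl)]
  exact hB

end Cfsg.Agent.Presented.FiU6
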