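import Cfsg.Agent.Lib.Presented.FiOrder
import Cfsg.Agent.Lib.Presented.FiU6
import Cfsg.Agent.Lib.Presented.Data.FiU720
import Cfsg.Agent.Lib.Presented.Data.FiU72
import Cfsg.Agent.Lib.Presented.Data.FiU28
import Cfsg.Agent.Lib.Presented.Data.FiU12672Checks
import Cfsg.Prelude.Def_SporadicB

/-!
# The subgroup of index 3510 of the presented Fischer group is `2.U₆(2)`

The eight transpositions generating it and the eight transvections both satisfy `FiU6Data.rels`, and
these relators bound the order of the group they generate by the order of the subgroup.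
-/

set_option autoImplicit false
set_option maxRecDepth 20000

namespace Cfsg.Agent.Presented.FiU6Iso

open Cfsg.Spor Cfsg.Agent.Presented FiIndex

/-! ## The order of a group generated by images of the relators -/

section Bound

variable {P : Type*} [Group P] {s : ℕ → P}

theorem step8 (hs : ∀ g, s g * s g = 1) (hrel : ∀ w ∈ FiU6Data.rels, wval s w = 1)
    {D : CosetCert} (he : D.edgesOK = true) (hn : D.nodesOK = true) (π π' : List ℕ)
    (hm : D.m = π.length)
    (hR : ((D.words.take D.nR).all fun w => FiU6Data.rels.contains (w.map fun g => π.getD g 0)) = true)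
    (hK : (D.words.drop D.nR).map (List.map fun g => π.getD g 0) = π'.map fun g => [g]) {n : ℕ}
    (hprev : OrderLE (Subgroup.closure (s '' {g | g ∈ π'})) n) :
    OrderLE (Subgroup.closure (s '' {g | g ∈ π})) (D.N * n) := by
  simp only [List.all_eq_true, List.contains_eq_mem, decide_eq_true_eq] at hR
  refine (closure_card_le (s := fun i => s (π.getD i 0)) he hn (fun g _ => hs _) ?_ _ ?_ hprev).mono ?_
  · intro w hw
    rw [wval_comp]
    exact hrel _ (hR w hw)
  · intro w hw
    have := List.mem_map_of_mem (f := List.map fun g => π.getD g 0) hw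
    rw [hK, List.mem_map] at this
    obtain ⟨g, hg, e⟩ := this
    rw [wval_comp, ← e]
    exact Subgroup.subset_closure ⟨g, hg, by simp [wval]⟩
  · refine Subgroup.closure_mono ?_
    rintro _ ⟨g, hg, rfl⟩
    obtain ⟨i, hi, rfl⟩ := List.mem_iff_getElem.mp hg
    exact ⟨i, by rw [Set.mem_ofPred_eq, hm]; exact hi, by simp [hi]⟩

theorem bound8 (hs : ∀ g, s g * s g = 1) (hrel : ∀ w ∈ FiU6Data.rels, wval s w = 1) :
    OrderLE (Subgroup.closure (s '' {g | g ∈ List.range 8})) 18393661440 := by
  have h0 : OrderLE (Subgroup.closure (s '' {g | g ∈ ([] : List ℕ)})) 1 := by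
    simpa using (orderLE_bot (G := P))
  have h1 := step8 hs hrel FiU720.cert_edgesOK FiU720.cert_nodesOK [3, 2, 1, 5, 6] [] rfl
    (by decide +kernel) (by decide +kernel) h0
  have h2 := step8 hs hrel FiU72.cert_edgesOK FiU72.cert_nodesOK [0, 1, 2, 3, 5, 6] [3, 2, 1, 5, 6] rfl
    (by decide +kernel) (by decide +kernel) h1
  have h3 := step8 hs hrel FiU28.cert_edgesOK FiU28.cert_nodesOK (List.range 7) [0, 1, 2, 3, 5, 6] rfl
    (by decide +kernel) (by decide +kernel) h2
  exact step8 hs hrel FiU12672.cert_edgesOK FiU12672.cert_nodesOK (List.range 8) (List.range 7) rfl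
    (by decide +kernel) (by decide +kernel) h3

end Bound

/-! ## The eight transpositions -/

/-- The word of transposition number `i`. -/
def uWord (i : ℕ) : List ℕ := FiU6Data.uWords.getD i []

/-- Transposition number `i`. -/
def fu (i : ℕ) : Fi22 := wval gen (uWord i)

theorem wval_fu (w : List ℕ) : wval fu w = wval gen (w.map uWord).flatten := by
  induction w with
  | nil => rfl
  | cons i w ih => rw [List.map_cons, List.flatten_cons, wval_append, ← ih]; rfl

/-- Two words agree on the base of the chain. -/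
noncomputable def same (u v : List ℕ) : Bool :=
  sameOK FiC3510.cert (FiChain.chain.map Level.pt) u v

theorem eq_of_same {u v : List ℕ} (h : same u v = true) : wval gen u = wval gen v := by
  obtain ⟨e, -, he⟩ := exists_table
  haveI := FiOrder.card_le.1
  simp only [same, sameOK, Bool.and_eq_true, List.all_eq_true, Nat.blt_eq] at h
  obtain ⟨⟨hu, hv⟩, hpath⟩ := h
  refine eq_of_paths FiC3510.cert_edgesOK FiC3510.cert_nodesOK e he (by decide +kernel) FiChain.chain_ok
    (by rw [FiOrder.chain_prod, FiOrder.card_fi22]) _ _ fun p hpm hp => ?_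
  rw [CosetCert.smul_path FiC3510.cert_edgesOK FiC3510.cert_nodesOK e he _ hu ⟨p, hp⟩,
    CosetCert.smul_path FiC3510.cert_edgesOK FiC3510.cert_nodesOK e he _ hv ⟨p, hp⟩]
  exact congrArg e (Fin.ext (Nat.beq_eq.mp (hpath p hpm)))

theorem rels_flat : (FiU6Data.rels.all fun w =>
    same (w.map uWord).flatten []) = true := by
  decide +kernel

theorem fu_rels {w : List ℕ} (hw : w ∈ FiU6Data.rels) : wval fu w = 1 := by
  rw [wval_fu, eq_of_same (List.all_eq_true.1 rels_flat w hw)]
  rfl

theorem fu_aWord : wval fu FiU6Data.aWord = gen 0 := by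
  rw [wval_fu, eq_of_same (v := [0]) (by decide +kernel)]
  simp [wval]

theorem fu_zWord :
    wval fu FiU6Data.zWord = wval gen (List.replicate 5 [7, 4, 3, 2, 1, 0]).flatten := by
  rw [wval_fu]
  exact eq_of_same (by decide +kernel)

theorem gen0_comm {i : ℕ} (hi : i < 8) : gen 0 * fu i = fu i * gen 0 := by
  have key : ∀ j : Fin 8, same ([0] ++ uWord j) (uWord j ++ [0]) = true := by
    decide +kernel
  have := eq_of_same (key ⟨i, hi⟩)
  simpa [wval_append, wval, fu] using this.symm

theorem gen0_ne_one : gen 0 ≠ 1 := by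
  intro h
  obtain ⟨e, he0, he⟩ := exists_table
  have key : ∃ i : Fin FiC3510.cert.N, FiC3510.cert.actOf i 0 ≠ (i : ℕ) := ⟨⟨1, by decide +kernel⟩,
    by decide +kernel⟩
  obtain ⟨i, hi⟩ := key
  have h1 := he 0 (by decide +kernel) i
  rw [h, one_smul] at h1
  exact hi (congrArg Fin.val (e.injective h1)).symm

theorem fu_closure : Subgroup.closure (fu '' {g | g ∈ List.range 8}) = hSub := by
  refine le_antisymm ?_ ?_
  · rw [Subgroup.closure_le]
    rintro _ ⟨i, hi, rfl⟩
    have hi' : i < 8 := List.mem_range.1 hi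
    rw [hSub_eq_closure]
    set C := Subgroup.closure {x | ∃ k ∈ ([[0], [2], [3], [4], [5], [6], [7], [8],
      [7, 4, 3, 2, 1, 0, 7, 4, 3, 2, 1, 0, 7, 4, 3, 2, 1, 0, 7, 4, 3, 2, 1, 0, 7, 4, 3, 2, 1, 0]] :
        List (List ℕ)), x = wval gen k}
    have h1 : ∀ g ∈ [0, 2, 3, 4, 5, 6, 7, 8], wval gen [g] ∈ C := fun g hg =>
      Subgroup.subset_closure ⟨[g], by
        simp only [List.mem_cons, List.not_mem_nil, or_false] at hg
        rcases hg with rfl | rfl | rfl | rfl | rfl | rfl | rfl | rfl <;> simp, rfl⟩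
    have hletters : ∀ w : List ℕ, (∀ g ∈ w, g ∈ [0, 2, 3, 4, 5, 6, 7, 8]) → wval gen w ∈ C := by
      intro w
      induction w with
      | nil => intro _; exact C.one_mem
      | cons g w ih =>
        intro hw
        refine C.mul_mem (ih fun x hx => hw x (List.mem_cons_of_mem _ hx)) ?_
        simpa [wval] using h1 g (hw g List.mem_cons_self)
    have split : ∀ j : Fin 8, (∀ g ∈ uWord j, g ∈ [0, 2, 3, 4, 5, 6, 7, 8]) ∨
        (uWord j = [7, 4, 3, 2, 1, 0, 7, 4, 3, 2, 1, 0, 7, 4, 3, 2, 1, 0, 7, 4, 3, 2, 1, 0, 7, 4, 3, 2, 1, 0]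
            ++ (uWord j).drop 30 ∧
          ∀ g ∈ (uWord j).drop 30, g ∈ [0, 2, 3, 4, 5, 6, 7, 8]) := by
      decide +kernel
    show wval gen (uWord i) ∈ C
    rcases split ⟨i, hi'⟩ with h | ⟨h, h'⟩
    · exact hletters _ h
    · rw [h, wval_append]
      exact C.mul_mem (hletters _ h') (Subgroup.subset_closure ⟨_, by simp, rfl⟩)
  · rw [hSub_eq_closure, Subgroup.closure_le]
    have hw : ∀ w : List ℕ, (∀ g ∈ w, g < 8) →
        wval fu w ∈ Subgroup.closure (fu '' {g | g ∈ List.range 8}) := by
      intro w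
      induction w with
      | nil => intro _; exact Subgroup.one_mem _
      | cons g w ih =>
        intro h
        exact Subgroup.mul_mem _ (ih fun x hx => h x (List.mem_cons_of_mem _ hx))
          (Subgroup.subset_closure ⟨g, List.mem_range.2 (h g List.mem_cons_self), rfl⟩)
    rintro x ⟨k, hk, rfl⟩
    have hlast : k = [0] ∨ k = (List.replicate 5 [7, 4, 3, 2, 1, 0]).flatten ∨
        ∃ i : Fin 7, k = uWord i := by
      revert k
      decide +kernel
    rcases hlast with rfl | rfl | ⟨i, rfl⟩
    · rw [show wval gen [0] = wval fu FiU6Data.aWord by rw [fu_aWord]; simp [wval]]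
      exact hw _ (by decide +kernel)
    · rw [← fu_zWord]
      exact hw _ (by decide +kernel)
    · have hi : (i : ℕ) < 8 := by omega
      exact Subgroup.subset_closure ⟨i, List.mem_range.2 hi, rfl⟩

/-! ## The double cover -/

/-- The group `PSU₆(2)`. -/
abbrev PU : Type := Cfsg.PSU 6 FiU6.K 2

theorem card_PU : Nat.card PU = 9196830720 := by
  have h := Forms.card_PSU_mul FiU6.hK (n := 6) (by norm_num)
  rw [Forms.card_GU FiU6.hK] at h
  norm_num [Finset.prod_range_succ, Nat.even_iff] at h
  have h9 : 3 * (3 * Nat.card PU) = 82771476480 := h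
  omega

theorem pu_simple : IsSimpleGroup PU :=
  ClassicalSimple.PSU_isSimpleGroup FiU6.hK (by norm_num) (by simp)

theorem center_PU : Subgroup.center PU = ⊥ := by
  haveI := pu_simple
  rcases IsSimpleGroup.eq_bot_or_eq_top_of_normal (Subgroup.center PU) inferInstance with h | h
  · exact h
  exfalso
  letI : CommGroup PU :=
    { (inferInstance : Group PU) with
      mul_comm := fun a b => (Subgroup.mem_center_iff.1 (by rw [h]; trivial : b ∈ Subgroup.center PU) a) }
  haveI : Finite PU := Nat.finite_of_card_ne_zero (by rw [card_PU]; norm_num)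
  have hp := IsSimpleGroup.prime_card (α := PU)
  rw [card_PU] at hp
  norm_num at hp

/-- The image of transposition number `i`. -/
noncomputable def pu (i : ℕ) : PU := QuotientGroup.mk' _ (FiU6.uS i)

theorem pu_word {w : List ℕ} (hw : w ∈ FiU6Data.rels ++ [FiU6Data.aWord]) : wval pu w = 1 := by
  rw [show pu = fun i => QuotientGroup.mk' (Subgroup.center FiU6.SU6) (FiU6.uS i) from rfl, ← wval_map]
  exact (QuotientGroup.eq_one_iff _).2 (FiU6.word_mem_center hw)

/-- The pairs. -/
noncomputable def sPair (i : ℕ) : Fi22 × PU := (fu i, pu i)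

theorem pu_high {i : ℕ} (hi : ¬ i < 8) : pu i = 1 := by
  simp [pu, FiU6.uS, hi]

theorem fu_high {i : ℕ} (hi : ¬ i < 8) : fu i = 1 := by
  have hlen : FiU6Data.uWords.length = 8 := by decide +kernel
  rw [fu, uWord, List.getD_eq_default _ _ (by omega)]
  rfl

theorem sPair_rels (w : List ℕ) (hw : w ∈ FiU6Data.rels) : wval sPair w = 1 := by
  refine Prod.ext ?_ ?_
  · exact (wval_map (MonoidHom.fst Fi22 PU) w).trans (fu_rels hw)
  · exact (wval_map (MonoidHom.snd Fi22 PU) w).trans (pu_word (List.mem_append_left _ hw))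

theorem sPair_sq (g : ℕ) : sPair g * sPair g = 1 := by
  by_cases hg : g < 8
  · have key : ∀ i < 8, [i, i] ∈ FiU6Data.rels := by decide +kernel
    simpa [wval] using sPair_rels _ (key g hg)
  · simp [sPair, fu_high hg, pu_high hg]

theorem exists_hom : ∃ φ : hSub →* PU, Function.Surjective φ ∧
    ∀ w : List ℕ, (∀ g ∈ w, g < 8) → ∀ h : wval fu w ∈ hSub, φ ⟨_, h⟩ = wval pu w := by
  set S := Subgroup.closure (sPair '' {g | g ∈ List.range 8}) with hS
  obtain ⟨hfin, hle⟩ := bound8 sPair_sq sPair_rels
  have h1 : S.map (MonoidHom.fst Fi22 PU) = hSub := by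
    rw [hS, MonoidHom.map_closure, Set.image_image, ← fu_closure]
    rfl
  have h2 : S.map (MonoidHom.snd Fi22 PU) = ⊤ := by
    rw [hS, MonoidHom.map_closure, Set.image_image]
    change Subgroup.closure ((fun g => QuotientGroup.mk' _ (FiU6.uS g)) '' {g | g ∈ List.range 8}) = ⊤
    rw [← Set.image_image, ← MonoidHom.map_closure,
      show {g | g ∈ List.range 8} = {g : ℕ | g < 8} from Set.ext fun g => List.mem_range]
    change Subgroup.map _ FiU6.gen8 = ⊤
    rw [FiU6.gen8_eq_top, Subgroup.map_top_of_surjective _ (QuotientGroup.mk'_surjective _)]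
  haveI : Finite Fi22 := FiOrder.card_le.1
  have i1 : Function.Injective ((MonoidHom.fst Fi22 PU).subgroupMap S) :=
    ((Nat.bijective_iff_surjective_and_card _).2 ⟨MonoidHom.subgroupMap_surjective _ _, le_antisymm
      (hle.trans (le_of_eq (by rw [h1, FiOrder.card_hSub])))
      (Nat.card_le_card_of_surjective _ (MonoidHom.subgroupMap_surjective _ _))⟩).1
  let E : S ≃* hSub := (MulEquiv.ofBijective _ ⟨i1, MonoidHom.subgroupMap_surjective _ _⟩).trans
    (MulEquiv.subgroupCongr h1)
  refine ⟨(MonoidHom.snd Fi22 PU).comp (S.subtype.comp E.symm.toMonoidHom), ?_, ?_⟩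
  · intro y
    obtain ⟨x, hx, rfl⟩ := Subgroup.mem_map.1 (h2 ▸ Subgroup.mem_top y)
    exact ⟨E ⟨x, hx⟩, by simp⟩
  · intro w hw h
    have hm : wval sPair w ∈ S := by
      clear h
      induction w with
      | nil => exact S.one_mem
      | cons g w ih =>
        exact S.mul_mem (ih fun x hx => hw x (List.mem_cons_of_mem _ hx))
          (Subgroup.subset_closure ⟨g, List.mem_range.2 (hw g List.mem_cons_self), rfl⟩)
    have hE : E ⟨_, hm⟩ = ⟨_, h⟩ := Subtype.ext (wval_map (MonoidHom.fst Fi22 PU) w)
    rw [← hE]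
    simp only [MonoidHom.comp_apply, MulEquiv.coe_toMonoidHom, MulEquiv.symm_apply_apply]
    exact wval_map (MonoidHom.snd Fi22 PU) w

theorem fu_mem (i : ℕ) : fu i ∈ hSub := by
  by_cases hi : i < 8
  · rw [← fu_closure]
    exact Subgroup.subset_closure ⟨i, List.mem_range.2 hi, rfl⟩
  · rw [fu_high hi]; exact hSub.one_mem

/-- Transposition number `i` in the subgroup. -/
def hu (i : ℕ) : hSub := ⟨fu i, fu_mem i⟩

theorem coe_wval_hu (w : List ℕ) : ((wval hu w : hSub) : Fi22) = wval fu w :=
  wval_map hSub.subtype w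

theorem isNonsplitDoubleCover : Cfsg.IsNonsplitDoubleCover hSub PU := by
  obtain ⟨φ, hφ, hφw⟩ := exists_hom
  haveI : Finite Fi22 := FiOrder.card_le.1
  have ha : gen 0 ∈ hSub := by
    rw [← fu_aWord, ← coe_wval_hu]
    exact (wval hu _).2
  set a : hSub := ⟨gen 0, ha⟩ with hadef
  have ha' : a = wval hu FiU6Data.aWord := Subtype.ext (by rw [coe_wval_hu, fu_aWord])
  have ha1 : a ≠ 1 := fun h => gen0_ne_one (congrArg Subtype.val h)
  have hcent : a ∈ Subgroup.center hSub := by
    refine Subgroup.mem_center_iff.2 fun x => Subtype.ext ?_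
    have hx : (x : Fi22) ∈ Subgroup.closure (fu '' {g | g ∈ List.range 8}) := by
      rw [fu_closure]; exact x.2
    change (x : Fi22) * gen 0 = gen 0 * x
    generalize (x : Fi22) = y at hx ⊢
    induction hx using Subgroup.closure_induction with
    | mem y hy =>
      obtain ⟨g, hg, rfl⟩ := hy
      exact (gen0_comm (List.mem_range.1 hg)).symm
    | one => simp
    | mul y z _ _ hy hz => exact Commute.mul_left hy hz
    | inv y _ hy => exact Commute.inv_left hy
  have hker : Nat.card φ.ker = 2 := by
    have h := φ.ker.index_mul_card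
    rw [Subgroup.index_ker, MonoidHom.range_eq_top.2 hφ, Subgroup.card_top, card_PU,
      FiOrder.card_hSub] at h
    omega
  have haker : a ∈ φ.ker := by
    rw [MonoidHom.mem_ker, ha']
    have h : wval fu FiU6Data.aWord ∈ hSub := coe_wval_hu _ ▸ (wval hu _).2
    rw [show wval hu FiU6Data.aWord = ⟨_, h⟩ from Subtype.ext (coe_wval_hu _),
      hφw _ (by decide +kernel) h]
    exact pu_word (by simp)
  have hcenter : Subgroup.center hSub = φ.ker := by
    refine le_antisymm (fun x hx => ?_) ?_
    · rw [MonoidHom.mem_ker, ← Subgroup.mem_bot, ← center_PU, Subgroup.mem_center_iff]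
      intro y
      obtain ⟨y, rfl⟩ := hφ y
      rw [← map_mul, ← map_mul, Subgroup.mem_center_iff.1 hx y]
    · have hz : Subgroup.zpowers a = φ.ker := by
        refine Subgroup.eq_of_le_of_card_ge (Subgroup.zpowers_le.2 haker) ?_
        rw [hker]
        have h1 : Nat.card (Subgroup.zpowers a) ≠ 1 := fun h =>
          ha1 (Subgroup.zpowers_eq_bot.1 (Subgroup.card_eq_one.1 h))
        have h2 : 0 < Nat.card (Subgroup.zpowers a) := Nat.card_pos
        omega
      rw [← hz, Subgroup.zpowers_le]
      exact hcent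
  refine ⟨by rw [hcenter]; exact hker, ⟨(QuotientGroup.quotientMulEquivOfEq hcenter).trans
    (QuotientGroup.quotientKerEquivOfSurjective φ hφ)⟩, fun L hL => ?_⟩
  have hidx : L.index = 2 := by
    rw [hL.index_eq_card, hcenter, hker]
  have haL : a ∉ L := fun h => ha1 (Subgroup.mem_bot.1 (hL.disjoint.le_bot ⟨hcent, h⟩))
  have hmul : ∀ x y : hSub, x * y ∈ L ↔ (x ∈ L ↔ y ∈ L) := fun x y =>
    Subgroup.mul_mem_iff_of_index_two hidx
  have hedge : ∀ i j, [j, i, j, i, j, i] ∈ FiU6Data.rels → (hu i ∈ L ↔ hu j ∈ L) := by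
    intro i j hw
    have h : wval hu [j, i, j, i, j, i] ∈ L := by
      rw [show wval hu [j, i, j, i, j, i] = 1 from Subtype.ext (by rw [coe_wval_hu, fu_rels hw]; rfl)]
      exact L.one_mem
    simp only [wval, hmul, L.one_mem] at h
    tauto
  have hall : ∀ i < 8, (hu i ∈ L ↔ hu 0 ∈ L) := by
    have e01 := hedge 0 1 (by decide +kernel)
    have e12 := hedge 1 2 (by decide +kernel)
    have e23 := hedge 2 3 (by decide +kernel)
    have e34 := hedge 3 4 (by decide +kernel)
    have e15 := hedge 1 5 (by decide +kernel)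
    have e56 := hedge 5 6 (by decide +kernel)
    have e67 := hedge 6 7 (by decide +kernel)
    intro i hi
    interval_cases i
    exacts [Iff.rfl, e01.symm, e12.symm.trans e01.symm, e23.symm.trans (e12.symm.trans e01.symm),
      e34.symm.trans (e23.symm.trans (e12.symm.trans e01.symm)), e15.symm.trans e01.symm,
      e56.symm.trans (e15.symm.trans e01.symm), e67.symm.trans (e56.symm.trans (e15.symm.trans e01.symm))]
  have hword : ∀ w : List ℕ, (∀ g ∈ w, g < 8) →
      (wval hu w ∈ L ↔ (hu 0 ∈ L ∨ w.length % 2 = 0)) := by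
    intro w
    induction w with
    | nil => intro _; simp [wval, L.one_mem]
    | cons g w ih =>
      intro h
      rw [wval, hmul, ih fun x hx => h x (List.mem_cons_of_mem _ hx), hall g (h g List.mem_cons_self),
        List.length_cons]
      by_cases h0 : hu 0 ∈ L
      · simp [h0]
      · simp only [h0, false_or, iff_false]
        omega
  exact haL (ha' ▸ (hword _ (by decide +kernel)).2 (Or.inr (by decide +kernel)))

end Cfsg.Agent.Presented.FiU6Iso
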