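import Cfsg.Agent.Lib.Presented.BitNet
import Cfsg.Agent.Lib.Presented.Coset

/-!
# Coset bounds by closure on bit masks

Permutations of `[0, S)` are delta swap networks.  A state keeps the set `R` of points that have been given
a coset and, for every generator `g`, the set of points at which the coset of the image under `g` is known
to be the image of the coset.  Two kinds of steps enlarge them for all points at once:

* `defn g` gives a coset to every new point next to `R` under `g`;
* `rel r p` reads the relator `r` from position `p`: where all edges but the first are known, the first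
  becomes known.

`Good.step` shows that the meaning is preserved; `Good.final` turns a full state into the coset space.
-/

set_option autoImplicit false

namespace Cfsg.Agent.Presented.BitClosure

open BitNet (pos stageOK perms)

/-- A delta swap. -/
noncomputable def stage1 (d m x : ℕ) : ℕ :=
  Nat.xor x (Nat.xor (Nat.land (Nat.xor (Nat.shiftRight x d) x) m)
    (Nat.shiftLeft (Nat.land (Nat.xor (Nat.shiftRight x d) x) m) d))

/-- Pull a set back along a network. -/
noncomputable def apply1 (net : List (ℕ × ℕ)) : ℕ → ℕ :=
  List.rec (motive := fun _ => ℕ → ℕ) (fun x => x) (fun st _ ih x => force (stage1 st.1 st.2 x) ih) net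

theorem apply1_eq : ∀ (net : List (ℕ × ℕ)) (x : ℕ), apply1 net x = BitNet.apply 1 net x := by
  intro net
  induction net with
  | nil => intro x; rfl
  | cons st l ih =>
    intro x
    show force (stage1 st.1 st.2 x) (apply1 l) =
      force (Nat.mul st.2 1) fun M => force (BitNet.stage st.1 M x) (BitNet.apply 1 l)
    rw [force_eq, force_eq, force_eq, ih, show Nat.mul st.2 1 = st.2 from Nat.mul_one _]
    congr 1
    rw [stage1, BitNet.stage, force_eq]

theorem testBit_apply1 {S : ℕ} {net : List (ℕ × ℕ)} (h : net.all (stageOK S) = true) (x : ℕ) {i : ℕ}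
    (hi : i < S) : (apply1 net x).testBit i = x.testBit (pos net i) := by
  rw [apply1_eq]
  have := BitNet.testBit_apply (R := 1) (S := S) (w := 1) (by simp [BitNet.rep]) h x 0 i Nat.one_pos hi
  simpa using this

/-- A state: the points with a coset, and the known edges of each generator. -/
structure St where
  R : ℕ
  K : List ℕ

/-- A step. -/
inductive Op
  | defn (g : ℕ)
  | rel (r p : ℕ)

/-- Points from which the whole word is known. -/
noncomputable def known (nets : List (List (ℕ × ℕ))) (st : St) (v : List ℕ) : ℕ :=
  List.rec (motive := fun _ => ℕ) st.R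
    (fun h _ ih => force ih fun T => force (apply1 (nets.getD h []) T) fun U => Nat.land (st.K.getD h 0) U) v

/-- Add a set of edges and their reverses. -/
noncomputable def addEdges {α : Type} (nets : List (List (ℕ × ℕ))) (st : St) (g R T : ℕ) (k : St → α) : α :=
  force (apply1 (nets.getD g []) T) fun U =>
    force (Nat.lor (st.K.getD g 0) (Nat.lor T U)) fun V => k ⟨R, st.K.set g V⟩

/-- Perform a step and continue. -/
noncomputable def step {α : Type} (nets : List (List (ℕ × ℕ))) (rw_ : List (List ℕ)) (op : Op) (st : St)
    (k : St → α) : α :=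
  match op with
  | .defn g =>
    force (apply1 (nets.getD g []) st.R) fun P =>
    force (Nat.xor st.R (Nat.land st.R P)) fun M =>
    force (apply1 (nets.getD g []) M) fun M' =>
    force (Nat.lor st.R M') fun R' => addEdges nets st g R' M k
  | .rel r p =>
    match (rw_.getD r []).drop p ++ (rw_.getD r []).take p with
    | [] => k st
    | g :: v => force (known nets st v) fun T => addEdges nets st g st.R T k

/-- Perform a list of steps. -/
noncomputable def run (nets : List (List (ℕ × ℕ))) (rw_ : List (List ℕ)) (ops : List Op) : St → St :=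
  List.rec (motive := fun _ => St → St) (fun st => st) (fun op _ ih st => step nets rw_ op st ih) ops

/-- Equality of masks, list against list. -/
noncomputable def eqList : List ℕ → List ℕ → Bool :=
  List.rec (motive := fun _ => List ℕ → Bool)
    (fun b => List.rec (motive := fun _ => Bool) true (fun _ _ _ => false) b)
    (fun x _ ih b => List.rec (motive := fun _ => Bool) false (fun y t _ => Nat.beq x y && ih t) b)

/-- Equality of states. -/
noncomputable def eqSt (a b : St) : Bool := Nat.beq a.R b.R && eqList a.K b.K

theorem eq_of_eqList : ∀ a b : List ℕ, eqList a b = true → a = b := by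
  intro a
  induction a with
  | nil =>
    intro b h
    cases b with
    | nil => rfl
    | cons y t => exact Bool.noConfusion h
  | cons x s ih =>
    intro b h
    cases b with
    | nil => exact Bool.noConfusion h
    | cons y t =>
      change (Nat.beq x y && eqList s t) = true at h
      rw [Bool.and_eq_true] at h
      rw [Nat.eq_of_beq_eq_true h.1, ih t h.2]

theorem eq_of_eqSt {a b : St} (h : eqSt a b = true) : a = b := by
  obtain ⟨R, K⟩ := a
  obtain ⟨R', K'⟩ := b
  rw [eqSt, Bool.and_eq_true] at h
  obtain rfl := Nat.eq_of_beq_eq_true h.1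
  obtain rfl := eq_of_eqList _ _ h.2
  rfl

theorem getD_set {α : Type*} (l : List α) (g h : ℕ) (v d : α) :
    (l.set g v).getD h d = if g = h ∧ g < l.length then v else l.getD h d := by
  simp only [List.getD_eq_getElem?_getD, List.getElem?_set]
  by_cases hgh : g = h
  · subst hgh
    by_cases hlt : g < l.length
    · simp [hlt]
    · simp [hlt, List.getElem?_eq_none (not_lt.mp hlt)]
  · simp [hgh]

section Sound

variable {G : Type*} [Group G] {S : ℕ}

/-- The coset space with an action on the points. -/
structure Setup (G : Type*) [Group G] (S : ℕ) where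
  m : ℕ
  nets : List (List (ℕ × ℕ))
  nets_ok : nets.all (fun n => n.all (stageOK S)) = true
  s : ℕ → G
  H : Subgroup G
  φ : G →* Equiv.Perm (Fin S)
  hφ : ∀ g, g < m → φ (s g) = perms nets g
  hs : ∀ g, g < m → s g * s g = 1
  z : Fin S
  fix : ∀ h ∈ H, φ h z = z

variable (C : Setup G S)

/-- The point of a coset. -/
noncomputable def Setup.point (q : G ⧸ C.H) : Fin S :=
  Quotient.liftOn' q (fun a => C.φ a C.z) fun a b hab => by
    rw [QuotientGroup.leftRel_apply] at hab
    have := congrArg (C.φ a) (C.fix _ hab)
    rwa [← Equiv.Perm.mul_apply, ← map_mul, mul_inv_cancel_left, eq_comm] at this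

@[simp] theorem Setup.point_mk (a : G) : C.point (QuotientGroup.mk a) = C.φ a C.z := rfl

theorem Setup.point_smul (a : G) (q : G ⧸ C.H) : C.point (a • q) = C.φ a (C.point q) := by
  induction q using QuotientGroup.induction_on with
  | H b => rw [MulAction.Quotient.smul_mk, point_mk, point_mk, smul_eq_mul, map_mul]; rfl

/-- Meaning of a state. -/
def Good (st : St) : Prop :=
  st.K.length = C.m ∧ st.R.testBit C.z = true ∧ ∃ c : Fin S → G ⧸ C.H, c C.z = QuotientGroup.mk 1 ∧
    (∀ i : Fin S, st.R.testBit i = true → C.point (c i) = i) ∧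
    ∀ g, g < C.m → ∀ i : Fin S, (st.K.getD g 0).testBit i = true →
      st.R.testBit i = true ∧ st.R.testBit (C.φ (C.s g) i : Fin S) = true ∧
        C.s g • c i = c (C.φ (C.s g) i)

variable {C}

theorem Setup.testBit_pull {g : ℕ} (hg : g < C.m) (x : ℕ) (i : Fin S) :
    (apply1 (C.nets.getD g []) x).testBit i = x.testBit (C.φ (C.s g) i : Fin S) := by
  have hok : (C.nets.getD g []).all (stageOK S) = true := by
    by_cases hlt : g < C.nets.length
    · rw [List.getD_eq_getElem _ _ hlt]
      exact List.all_eq_true.mp C.nets_ok _ (List.getElem_mem hlt)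
    · rw [List.getD_eq_default _ _ (by omega)]; rfl
  rw [testBit_apply1 hok x i.2, C.hφ g hg, BitNet.perms_apply C.nets_ok]

theorem Setup.invol {g : ℕ} (hg : g < C.m) (i : Fin S) : C.φ (C.s g) (C.φ (C.s g) i) = i := by
  rw [← Equiv.Perm.mul_apply, ← map_mul, C.hs g hg, map_one]; rfl

theorem known_spec {st : St} {c : Fin S → G ⧸ C.H}
    (hK : ∀ g, g < C.m → ∀ i : Fin S, (st.K.getD g 0).testBit i = true →
      st.R.testBit i = true ∧ st.R.testBit (C.φ (C.s g) i : Fin S) = true ∧
        C.s g • c i = c (C.φ (C.s g) i)) :
    ∀ v : List ℕ, (∀ h ∈ v, h < C.m) → ∀ i : Fin S, (known C.nets st v).testBit i = true →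
      st.R.testBit i = true ∧ st.R.testBit (C.φ (wval C.s v) i : Fin S) = true ∧
        wval C.s v • c i = c (C.φ (wval C.s v) i) := by
  intro v
  induction v with
  | nil => intro _ i hi; simpa [wval, known] using hi
  | cons h v ih =>
    intro hv i hi
    have hh := hv h List.mem_cons_self
    change (force (known C.nets st v) fun T => force (apply1 (C.nets.getD h []) T) fun U =>
      Nat.land (st.K.getD h 0) U).testBit i = true at hi
    simp only [force_eq] at hi
    change (st.K.getD h 0 &&& apply1 (C.nets.getD h []) (known C.nets st v)).testBit i = true at hi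
    rw [Nat.testBit_and, Bool.and_eq_true, Setup.testBit_pull hh] at hi
    obtain ⟨hR, -, he⟩ := hK h hh i hi.1
    obtain ⟨-, hR', he'⟩ := ih (fun x hx => hv x (List.mem_cons_of_mem _ hx)) _ hi.2
    rw [wval, map_mul, Equiv.Perm.mul_apply, mul_smul, he]
    exact ⟨hR, hR', he'⟩

theorem good_addEdges {st : St} {g R T : ℕ} (hg : g < C.m) (c : Fin S → G ⧸ C.H)
    (hzR : R.testBit C.z = true) (hc : c C.z = QuotientGroup.mk 1) (hlen : st.K.length = C.m)
    (hp : ∀ i : Fin S, R.testBit i = true → C.point (c i) = i)
    (hK : ∀ h, h < C.m → ∀ i : Fin S, (st.K.getD h 0).testBit i = true →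
      R.testBit i = true ∧ R.testBit (C.φ (C.s h) i : Fin S) = true ∧
        C.s h • c i = c (C.φ (C.s h) i))
    (hT : ∀ i : Fin S, T.testBit i = true →
      R.testBit i = true ∧ R.testBit (C.φ (C.s g) i : Fin S) = true ∧
        C.s g • c i = c (C.φ (C.s g) i)) :
    addEdges C.nets st g R T (Good C) := by
  simp only [addEdges, force_eq]
  refine ⟨by simpa using hlen, hzR, c, hc, hp, fun h hh i hi => ?_⟩
  rw [getD_set] at hi
  by_cases hgh : g = h ∧ g < st.K.length
  · obtain ⟨rfl, -⟩ := hgh
    rw [if_pos ⟨rfl, by omega⟩] at hi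
    change (st.K.getD g 0 ||| (T ||| apply1 (C.nets.getD g []) T)).testBit i = true at hi
    rw [Nat.testBit_or, Nat.testBit_or, Bool.or_eq_true, Bool.or_eq_true, Setup.testBit_pull hg] at hi
    rcases hi with hi | hi | hi
    · exact hK g hg i hi
    · exact hT i hi
    · obtain ⟨h1, h2, h3⟩ := hT _ hi
      rw [Setup.invol hg] at h2 h3
      exact ⟨h2, h1, by rw [← h3, ← mul_smul, C.hs g hg, one_smul]⟩
  · rw [if_neg hgh] at hi
    exact hK h hh i hi

theorem step_eq {α : Type} (nets : List (List (ℕ × ℕ))) (rw_ : List (List ℕ)) (op : Op) (st : St)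
    (k : St → α) : step nets rw_ op st k = k (step nets rw_ op st id) := by
  cases op with
  | defn g => simp [step, addEdges, force_eq]
  | rel r p =>
    simp only [step]
    cases (rw_.getD r []).drop p ++ (rw_.getD r []).take p with
    | nil => rfl
    | cons g v => simp [addEdges, force_eq]

/-- One step keeps the meaning. -/
theorem Good.step {rw_ : List (List ℕ)} (hrw : ∀ w ∈ rw_, (∀ h ∈ w, h < C.m) ∧ wval C.s w = 1)
    {st : St} (hgood : Good C st) (op : Op) (hop : ∀ g, op = .defn g → g < C.m) :
    Good C (BitClosure.step C.nets rw_ op st id) := by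
  obtain ⟨hlen, hzR, c, hc, hp, hK⟩ := hgood
  cases op with
  | defn g =>
    have hg := hop g rfl
    simp only [BitClosure.step, force_eq, addEdges, id_eq]
    set M := Nat.xor st.R (Nat.land st.R (apply1 (C.nets.getD g []) st.R)) with hMdef
    set R' := Nat.lor st.R (apply1 (C.nets.getD g []) M) with hR'def
    have hM : ∀ i : Fin S, M.testBit i = true ↔
        st.R.testBit i = true ∧ st.R.testBit (C.φ (C.s g) i : Fin S) = false := by
      intro i
      change (st.R ^^^ (st.R &&& apply1 (C.nets.getD g []) st.R)).testBit i = true ↔ _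
      rw [Nat.testBit_xor, Nat.testBit_and, Setup.testBit_pull hg]
      cases st.R.testBit i <;> cases st.R.testBit (C.φ (C.s g) i : Fin S) <;> simp
    have hR' : ∀ i : Fin S, R'.testBit i = true ↔
        st.R.testBit i = true ∨ M.testBit (C.φ (C.s g) i : Fin S) = true := by
      intro i
      change (st.R ||| apply1 (C.nets.getD g []) M).testBit i = true ↔ _
      rw [Nat.testBit_or, Bool.or_eq_true, Setup.testBit_pull hg]
    let c' : Fin S → G ⧸ C.H := fun i =>
      if st.R.testBit i = true ∨ M.testBit (C.φ (C.s g) i : Fin S) = false then c i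
      else C.s g • c (C.φ (C.s g) i)
    have hold : ∀ i : Fin S, st.R.testBit i = true → c' i = c i := fun i hi => if_pos (Or.inl hi)
    have hnew : ∀ i : Fin S, st.R.testBit i = false → M.testBit (C.φ (C.s g) i : Fin S) = true →
        c' i = C.s g • c (C.φ (C.s g) i) := fun i h1 h2 => if_neg (by simp [h1, h2])
    have hzR' : R'.testBit C.z = true := (hR' _).mpr (Or.inl hzR)
    have := good_addEdges (T := M) hg c' hzR' ((hold _ hzR).trans hc) hlen (fun i hi => ?_) (fun h hh i hi => ?_)
      (fun i hi => ?_)
    · simpa only [addEdges, force_eq] using this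
    · by_cases hiR : st.R.testBit i = true
      · rw [hold i hiR]; exact hp i hiR
      · rw [Bool.not_eq_true] at hiR
        have h2 := ((hR' i).mp hi).resolve_left (by simp [hiR])
        rw [hnew i hiR h2, Setup.point_smul, hp _ ((hM _).mp h2).1, Setup.invol hg]
    · obtain ⟨h1, h2, h3⟩ := hK h hh i hi
      rw [hold i h1, hold _ h2]
      exact ⟨(hR' i).mpr (Or.inl h1), (hR' _).mpr (Or.inl h2), h3⟩
    · obtain ⟨h1, h2⟩ := (hM i).mp hi
      refine ⟨(hR' i).mpr (Or.inl h1), (hR' _).mpr (Or.inr (by rw [Setup.invol hg]; exact hi)), ?_⟩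
      rw [hold i h1, hnew _ h2 (by rw [Setup.invol hg]; exact hi), Setup.invol hg]
  | rel r p =>
    simp only [BitClosure.step]
    cases hu : (rw_.getD r []).drop p ++ (rw_.getD r []).take p with
    | nil => exact ⟨hlen, hzR, c, hc, hp, hK⟩
    | cons g v =>
      have hr : rw_.getD r [] ∈ rw_ := by
        by_cases hlt : r < rw_.length
        · rw [List.getD_eq_getElem _ _ hlt]; exact List.getElem_mem hlt
        · rw [List.getD_eq_default _ _ (by omega)] at hu; simp at hu
      obtain ⟨hwm, hw⟩ := hrw _ hr
      have hmem : ∀ h ∈ g :: v, h < C.m := by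
        intro h hh
        rw [← hu, List.mem_append] at hh
        exact hwm h (hh.elim List.mem_of_mem_drop List.mem_of_mem_take)
      have hone : wval C.s v * C.s g = 1 := by
        show wval C.s (g :: v) = 1
        rw [← hu, wval_append, mul_eq_one_comm, ← wval_append, List.take_append_drop]
        exact hw
      have hg := hmem g List.mem_cons_self
      simp only [force_eq, addEdges, id_eq]
      have := good_addEdges (T := known C.nets st v) hg c hzR hc hlen hp hK fun i hi => ?_
      · simpa only [addEdges, force_eq] using this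
      obtain ⟨h1, h2, h3⟩ := known_spec hK v (fun h hh => hmem h (List.mem_cons_of_mem _ hh)) i hi
      have hv : wval C.s v = C.s g := by
        rw [eq_inv_of_mul_eq_one_left hone, inv_eq_of_mul_eq_one_right (C.hs g hg)]
      rw [hv] at h2 h3
      exact ⟨h1, h2, h3⟩

/-- All defining steps use a generator in range. -/
def opsOK (m : ℕ) (ops : List Op) : Bool :=
  ops.all fun op => match op with
    | .defn g => decide (g < m)
    | .rel _ _ => true

/-- A list of steps keeps the meaning. -/
theorem Good.run {rw_ : List (List ℕ)} (hrw : ∀ w ∈ rw_, (∀ h ∈ w, h < C.m) ∧ wval C.s w = 1) :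
    ∀ (ops : List Op) {st st' : St}, opsOK C.m ops = true → Good C st →
      eqSt (BitClosure.run C.nets rw_ ops st) st' = true → Good C st' := by
  suffices ∀ (ops : List Op) (st : St), opsOK C.m ops = true → Good C st →
      Good C (BitClosure.run C.nets rw_ ops st) by
    intro ops st st' hops hg h
    exact eq_of_eqSt h ▸ this ops st hops hg
  intro ops
  induction ops with
  | nil => intro st _ hg; exact hg
  | cons op ops ih =>
    intro st hops hg
    rw [opsOK, List.all_cons, Bool.and_eq_true] at hops
    show Good C (BitClosure.step C.nets rw_ op st (BitClosure.run C.nets rw_ ops))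
    rw [step_eq]
    refine ih _ hops.2 (hg.step hrw op fun g e => ?_)
    subst e
    simpa using hops.1

/-- The starting state: the base point, fixed by the generators with a flag. -/
def init (z : ℕ) (flags : List Bool) : St :=
  ⟨2 ^ z, flags.map fun b => if b then 2 ^ z else 0⟩

theorem Good.init (flags : List Bool) (hlen : flags.length = C.m)
    (hflags : ∀ g, g < C.m → flags.getD g false = true → C.s g ∈ C.H) :
    Good C (BitClosure.init (C.z : ℕ) flags) := by
  have hone : ∀ i : Fin S, (2 ^ (C.z : ℕ)).testBit i = true → i = C.z := fun i hi => by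
    rw [Nat.testBit_two_pow, decide_eq_true_eq] at hi
    exact Fin.ext hi.symm
  refine ⟨by simpa [BitClosure.init] using hlen, Nat.testBit_two_pow_self, fun _ => QuotientGroup.mk 1, rfl,
    fun i hi => ?_, fun g hg i hi => ?_⟩
  · rw [Setup.point_mk, map_one, hone i hi]; rfl
  · have hlt : g < flags.length := by omega
    simp only [BitClosure.init, List.getD_eq_getElem?_getD, List.getElem?_map, List.getElem?_eq_getElem hlt,
      Option.map_some, Option.getD_some] at hi
    by_cases hb : flags[g] = true
    · rw [if_pos hb] at hi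
      obtain rfl := hone i hi
      have hmem : C.s g ∈ C.H := hflags g hg (by rw [List.getD_eq_getElem _ _ hlt]; exact hb)
      refine ⟨Nat.testBit_two_pow_self, by rw [C.fix _ hmem]; exact Nat.testBit_two_pow_self, ?_⟩
      rw [MulAction.Quotient.smul_mk, smul_eq_mul, mul_one, QuotientGroup.eq, mul_one]
      exact inv_mem hmem
    · rw [if_neg hb] at hi
      simp at hi

/-- A full state lists all cosets. -/
theorem Good.final {st : St} (hgood : Good C st) {n : ℕ} (hn : n ≤ S) (hR : st.R = 2 ^ n - 1)
    (hK : ∀ g, g < C.m → st.K.getD g 0 = 2 ^ n - 1)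
    (hgen : Subgroup.closure (C.s '' {g | g < C.m}) = ⊤) :
    ∃ e : Fin n ≃ G ⧸ C.H, (∀ i, C.point (e i) = Fin.castLE hn i) ∧
      ∀ g, g < C.m → ∀ i j : Fin n, C.φ (C.s g) (Fin.castLE hn i) = Fin.castLE hn j → C.s g • e i = e j := by
  obtain ⟨-, hz, c, hc, hp, hE⟩ := hgood
  have hbit : ∀ i : Fin S, (2 ^ n - 1).testBit i = true ↔ (i : ℕ) < n := fun i => by
    rw [Nat.testBit_two_pow_sub_one, decide_eq_true_eq]
  have inv : ∀ (a : G) (i : Fin S), (i : ℕ) < n → ∃ j : Fin S, (j : ℕ) < n ∧ a • c i = c j := by
    intro a
    have ha : a ∈ Subgroup.closure (C.s '' {g | g < C.m}) := hgen ▸ Subgroup.mem_top a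
    induction ha using Subgroup.closure_induction'' with
    | one => exact fun i hi => ⟨i, hi, one_smul _ _⟩
    | mem x hx =>
      obtain ⟨g, hg, rfl⟩ := hx
      intro i hi
      obtain ⟨-, h2, h3⟩ := hE g hg i (by rw [hK g hg]; exact (hbit i).mpr hi)
      exact ⟨_, (hbit _).mp (by rw [← hR]; exact h2), h3⟩
    | inv_mem x hx =>
      obtain ⟨g, hg, rfl⟩ := hx
      intro i hi
      obtain ⟨-, h2, h3⟩ := hE g hg i (by rw [hK g hg]; exact (hbit i).mpr hi)
      refine ⟨_, (hbit _).mp (by rw [← hR]; exact h2), ?_⟩
      rw [inv_eq_of_mul_eq_one_right (C.hs g hg)]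
      exact h3
    | mul x y _ _ ihx ihy =>
      intro i hi
      obtain ⟨j, hj, e1⟩ := ihy i hi
      obtain ⟨k, hk, e2⟩ := ihx j hj
      exact ⟨k, hk, by rw [mul_smul, e1, e2]⟩
  have hz' : (C.z : ℕ) < n := (hbit _).mp (by rw [← hR]; exact hz)
  have hpt : ∀ i : Fin n, C.point (c (Fin.castLE hn i)) = Fin.castLE hn i := fun i =>
    hp _ (by rw [hR]; exact (hbit _).mpr i.2)
  refine ⟨Equiv.ofBijective (fun i : Fin n => c (Fin.castLE hn i)) ⟨fun i j hij => ?_, fun q => ?_⟩, hpt,
    fun g hg i j hij => ?_⟩
  · have := congrArg C.point hij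
    rw [hpt, hpt] at this
    exact Fin.castLE_injective hn this
  · obtain ⟨a, rfl⟩ := QuotientGroup.mk_surjective q
    obtain ⟨j, hj, e⟩ := inv a C.z hz'
    rw [hc, MulAction.Quotient.smul_mk, smul_eq_mul, mul_one] at e
    exact ⟨⟨j, hj⟩, e.symm⟩
  · show C.s g • c (Fin.castLE hn i) = c (Fin.castLE hn j)
    rw [(hE g hg _ (by rw [hK g hg]; exact (hbit _).mpr i.2)).2.2, hij]

end Sound

end Cfsg.Agent.Presented.BitClosure
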