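import Mathlib

/-!
# Bit-packed square matrices over the field of two elements

A matrix is the list of its rows, a row is a natural number whose bit `j` is the entry in column `j`.
-/

set_option autoImplicit false

namespace Cfsg.Agent.Presented.BitMatrix

/-- A bit as an element of the field of two elements. -/
def bz (b : Bool) : ZMod 2 := if b then 1 else 0

theorem bz_xor : ∀ a b : Bool, bz (a ^^ b) = bz a + bz b := by decide +kernel

/-- The sum of the rows of `B` selected by the bits of `r`. -/
noncomputable def comb (B : List ℕ) : ℕ → ℕ :=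
  List.rec (motive := fun _ => ℕ → ℕ) (fun _ => 0)
    (fun b _ ih r => Nat.xor (bif Nat.beq (r % 2) 1 then b else 0) (ih (r / 2))) B

@[simp] theorem comb_nil (r : ℕ) : comb [] r = 0 := rfl

theorem comb_cons (b : ℕ) (B : List ℕ) (r : ℕ) :
    comb (b :: B) r = (bif Nat.beq (r % 2) 1 then b else 0) ^^^ comb B (r / 2) := rfl

theorem bz_comb : ∀ (B : List ℕ) (r j : ℕ), bz ((comb B r).testBit j) =
    ∑ k : Fin B.length, bz (r.testBit k) * bz ((B.getD k 0).testBit j) := by
  intro B
  induction B with
  | nil => intro r j; simp [bz]
  | cons b B ih =>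
    intro r j
    rw [comb_cons, Nat.testBit_xor, bz_xor, ih, List.length_cons, Fin.sum_univ_succ]
    congr 1
    · have h0 : Nat.beq (r % 2) 1 = r.testBit 0 := by
        rw [Nat.testBit_zero]
        rcases Nat.mod_two_eq_zero_or_one r with h | h <;> rw [h] <;> rfl
      rw [h0]
      simp only [Fin.val_zero, List.getD_cons_zero]
      cases r.testBit 0 <;> simp [bz]
    · refine Finset.sum_congr rfl fun k _ => ?_
      simp only [Fin.val_succ, List.getD_cons_succ, Nat.testBit_succ]

/-- The product of packed matrices. -/
noncomputable def mulP (A B : List ℕ) : List ℕ := A.map (comb B)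

theorem mulP_length (A B : List ℕ) : (mulP A B).length = A.length := List.length_map _

/-- The identity. -/
def oneP (n : ℕ) : List ℕ := (List.range n).map fun i => 2 ^ i

/-- The matrix of a list of rows. -/
def dec (n : ℕ) (A : List ℕ) : Matrix (Fin n) (Fin n) (ZMod 2) := fun i j => bz ((A.getD i 0).testBit j)

theorem dec_mulP {n : ℕ} {A B : List ℕ} (hB : B.length = n) (hA : A.length = n) :
    dec n (mulP A B) = dec n A * dec n B := by
  subst hB
  funext i j
  rw [Matrix.mul_apply]
  simp only [dec]
  rw [mulP, List.getD_eq_getElem _ _ (by rw [List.length_map, hA]; exact i.2), List.getElem_map,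
    bz_comb, List.getD_eq_getElem A _ (by rw [hA]; exact i.2)]

theorem dec_oneP (n : ℕ) : dec n (oneP n) = 1 := by
  funext i j
  rw [Matrix.one_apply, dec, oneP, List.getD_eq_getElem _ _ (by simp), List.getElem_map,
    List.getElem_range, Nat.testBit_two_pow]
  by_cases h : i = j
  · simp [h, bz]
  · rw [if_neg h, bz, if_neg (by simpa using fun he => h (Fin.ext he))]

/-- Equality of lists of numbers, for evaluation by the kernel. -/
noncomputable def eqP (A : List ℕ) : List ℕ → Bool :=
  List.rec (motive := fun _ => List ℕ → Bool) (fun B => B.isEmpty)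
    (fun a _ ih B => List.rec (motive := fun _ => Bool) false (fun b B _ => Nat.beq a b && ih B) B) A

theorem eq_of_eqP : ∀ {A B : List ℕ}, eqP A B = true → A = B := by
  intro A
  induction A with
  | nil => intro B h; cases B with
    | nil => rfl
    | cons b B => simp [eqP] at h
  | cons a A ih =>
    intro B h
    cases B with
    | nil => simp [eqP] at h
    | cons b B =>
      have h' : Nat.beq a b = true ∧ eqP A B = true := by simpa [eqP] using h
      rw [Nat.beq_eq.mp h'.1, ih h'.2]

/-- The rows are short enough to be recovered from the matrix. -/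
noncomputable def fitsP (n : ℕ) (A : List ℕ) : Bool :=
  Nat.beq A.length n && A.all fun r => Nat.blt r (2 ^ n)

theorem dec_inj {n : ℕ} {A B : List ℕ} (hA : fitsP n A = true) (hB : fitsP n B = true)
    (h : dec n A = dec n B) : A = B := by
  simp only [fitsP, Bool.and_eq_true, Nat.beq_eq, List.all_eq_true, Nat.blt_eq] at hA hB
  refine List.ext_getElem (hA.1.trans hB.1.symm) fun i h1 h2 => ?_
  refine Nat.eq_of_testBit_eq fun j => ?_
  by_cases hj : j < n
  · have he := congrFun (congrFun h ⟨i, hA.1 ▸ h1⟩) ⟨j, hj⟩
    simp only [dec, List.getD_eq_getElem _ _ h1, List.getD_eq_getElem _ _ h2] at he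
    revert he
    cases (A[i]).testBit j <;> cases (B[i]).testBit j <;> decide
  · rw [Nat.testBit_lt_two_pow ((hA.2 _ (List.getElem_mem h1)).trans_le
        (Nat.pow_le_pow_right (by norm_num) (not_lt.mp hj))),
      Nat.testBit_lt_two_pow ((hB.2 _ (List.getElem_mem h2)).trans_le
        (Nat.pow_le_pow_right (by norm_num) (not_lt.mp hj)))]

end Cfsg.Agent.Presented.BitMatrix
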