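import Cfsg.Agent.Lib.Presented.Index
import Cfsg.Agent.Lib.Presented.BitClosure

/-!
# Checking relations of permutation networks one plane at a time

A word in networks is the identity on `2 ^ k` points when it fixes each of the `k` planes of the identity
vector.  `famHom` turns checked relators into a homomorphism from a presented group.
-/

set_option autoImplicit false

namespace Cfsg.Agent.Presented.BitPerm

open Cfsg.Spor
open BitNet (stageOK perms idPlane evalW)

/-- Plane `j` of the identity vector on `2 ^ k` points, each value computed once. -/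
noncomputable def idP (j : ℕ) : ℕ → ℕ :=
  Nat.rec (motive := fun _ => ℕ) 0 fun k ih =>
    force (Nat.pow 2 (Nat.pow 2 k)) fun B =>
      Bool.rec (force ih fun p => Nat.add (Nat.mul B p) p) (Nat.mul B (Nat.sub B 1)) (Nat.beq j k)

theorem idP_eq (j : ℕ) : ∀ k, idP j k = idPlane k j := by
  intro k
  induction k with
  | zero => rfl
  | succ k ih =>
    show (force (Nat.pow 2 (Nat.pow 2 k)) fun B => Bool.rec (motive := fun _ => ℕ)
      (force (idP j k) fun p => Nat.add (Nat.mul B p) p) (Nat.mul B (Nat.sub B 1)) (Nat.beq j k)) = _
    rw [force_eq, BitNet.idPlane]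
    by_cases h : j = k
    · rw [if_pos h, show Nat.beq j k = true from Nat.beq_eq.mpr h]
      rfl
    · rw [if_neg h, show Nat.beq j k = false by simpa [Bool.eq_false_iff, Nat.beq_eq] using h]
      show (force (idP j k) fun p => Nat.add (Nat.mul _ p) p) = _
      rw [force_eq, ih]
      rfl

/-- Pull a set back along a word in networks; the first letter of the word acts first. -/
noncomputable def applyW1 (nets : List (List (ℕ × ℕ))) (word : List ℕ) (x : ℕ) : ℕ :=
  List.rec (motive := fun _ => ℕ) x
    (fun g _ ih => force ih fun y => BitClosure.apply1 (nets.getD g []) y) word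

/-- The words fix plane `j` of the identity vector on `2 ^ k` points. -/
noncomputable def planeOK (k : ℕ) (nets : List (List (ℕ × ℕ))) (ws : List (List ℕ)) (j : ℕ) : Bool :=
  force (idP j k) fun P => List.rec (motive := fun _ => Bool) true
    (fun w _ ih => Bool.rec false ih (Nat.beq (applyW1 nets w P) P)) ws

theorem applyW1_eq (nets : List (List (ℕ × ℕ))) (word : List ℕ) (x : ℕ) :
    applyW1 nets word x = BitNet.applyW 1 nets word x := by
  induction word with
  | nil => rfl
  | cons g w ih =>
    show (force (applyW1 nets w x) fun y => BitClosure.apply1 (nets.getD g []) y) = _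
    rw [force_eq, BitNet.applyW_cons, ih, BitClosure.apply1_eq]

theorem planeOK_spec {k : ℕ} {nets : List (List (ℕ × ℕ))} {ws : List (List ℕ)} {j : ℕ}
    (h : planeOK k nets ws j = true) : ∀ w ∈ ws, applyW1 nets w (idPlane k j) = idPlane k j := by
  rw [planeOK, force_eq, idP_eq] at h
  induction ws with
  | nil => intro w hw; simp at hw
  | cons u ws ih =>
    change Bool.rec (motive := fun _ => Bool) false (List.rec (motive := fun _ => Bool) true (fun w _ ih => Bool.rec (motive := fun _ => Bool) false ih
      (Nat.beq (applyW1 nets w (idPlane k j)) (idPlane k j))) ws)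
      (Nat.beq (applyW1 nets u (idPlane k j)) (idPlane k j)) = true at h
    cases hb : Nat.beq (applyW1 nets u (idPlane k j)) (idPlane k j) with
    | false => rw [hb] at h; exact Bool.noConfusion h
    | true =>
      rw [hb] at h
      intro w hw
      rcases List.mem_cons.mp hw with rfl | hw
      · exact Nat.beq_eq.mp hb
      · exact ih h w hw

theorem wval_eq_evalW {α : Type*} (P : ℕ → Equiv.Perm α) : ∀ w : List ℕ, wval P w = evalW P w
  | [] => rfl
  | g :: w => by rw [wval, evalW, wval_eq_evalW P w]

/-- Words fixing all planes are the identity. -/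
theorem wval_eq_one {k : ℕ} {nets : List (List (ℕ × ℕ))}
    (hnets : nets.all (fun n => n.all (stageOK (2 ^ k))) = true) {w : List ℕ}
    (h : ∀ j, j < k → applyW1 nets w (idPlane k j) = idPlane k j) :
    wval (perms (S := 2 ^ k) nets) w = 1 := by
  rw [wval_eq_evalW]
  refine Equiv.ext fun i => Fin.ext (Nat.eq_of_testBit_eq fun j => ?_)
  rw [Equiv.Perm.one_apply]
  by_cases hj : j < k
  · have h1 := congrArg (fun n => n.testBit i) (h j hj)
    have h2 := BitNet.testBit_applyW (R := 1) (w := 1) (by simp [BitNet.rep]) hnets w (idPlane k j) 0 i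
      Nat.one_pos
    simp only [applyW1_eq] at h1
    simp only [Nat.zero_mul, Nat.zero_add] at h2
    rw [h2, BitNet.testBit_idPlane _ _ _ hj (Fin.is_lt _),
      BitNet.testBit_idPlane _ _ _ hj (Fin.is_lt _)] at h1
    exact h1
  · have hk : ∀ q : Fin (2 ^ k), (q : ℕ).testBit j = false := fun q =>
      Nat.testBit_lt_two_pow (lt_of_lt_of_le q.2 (Nat.pow_le_pow_right (by norm_num) (not_lt.mp hj)))
    rw [hk, hk]

variable {α : Type*} [DecidableEq α] {gens : List α} {edges : List (α × ℕ × α)}
  {extra : List (FreeGroup α)}

/-- Every relator is empty, a square, or one of the words `R` up to reversal. -/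
def coverOK (gens : List α) (edges : List (α × ℕ × α)) (extra : List (FreeGroup α)) (R : List (List ℕ)) : Bool :=
  ((relList gens edges extra).map (letters gens)).all fun w => w.isEmpty || R.contains w ||
    R.contains w.reverse || (w.length == 2 && w.getD 0 0 == w.getD 1 0)

/-- Involutions satisfying the listed relators satisfy all relators. -/
theorem famRels {Γ : Type*} [Group Γ] (P : ℕ → Γ) (hall : ∀ x, x ∈ gens)
    (hP : ∀ g, g < gens.length → P g * P g = 1) {R : List (List ℕ)}
    (hR : coverOK gens edges extra R = true) (hwv : ∀ w ∈ R, wval P w = 1) :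
    ∀ r ∈ coxRelators edges ∪ {r | r ∈ extra}, FreeGroup.lift (fun x => P (gens.idxOf x)) r = 1 := by
  intro r hr
  have hlt : ∀ x, gens.idxOf x < gens.length := fun x => List.idxOf_lt_length_of_mem (hall x)
  rw [lift_eq_wval (fun x => P (gens.idxOf x)) (fun x => hP _ (hlt x)) hall _ (fun _ => rfl)]
  simp only [coverOK, Bool.and_eq_true, List.all_eq_true, List.contains_eq_mem, decide_eq_true_eq,
    Bool.or_eq_true] at hR
  have hmem : ∀ g ∈ letters gens r, g < gens.length := by
    intro g hg
    simp only [letters, List.mem_reverse, List.mem_map] at hg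
    obtain ⟨p, -, rfl⟩ := hg
    exact hlt _
  rcases hR _ (List.mem_map.mpr ⟨r, mem_relList hall hr, rfl⟩) with ((h | h) | h) | h
  · rw [List.isEmpty_iff] at h; rw [h]; rfl
  · exact hwv _ h
  · have h1 := hwv _ h
    rw [wval_eq_prod, List.map_reverse, List.reverse_reverse] at h1
    rw [wval_eq_prod]
    have hinv : ((letters gens r).map P).reverse.prod = ((letters gens r).map P).prod⁻¹ := by
      rw [List.prod_inv_reverse, List.map_map]
      refine congrArg List.prod (congrArg List.reverse (List.map_congr_left fun g hg => ?_))
      exact eq_inv_of_mul_eq_one_left (hP g (hmem g hg))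
    rw [hinv, h1, inv_one]
  · simp only [beq_iff_eq] at h
    generalize letters gens r = w at *
    match w, h with
    | [a, b], h =>
      obtain rfl : a = b := by simpa using h.2
      simp [wval, hP a (hmem a List.mem_cons_self)]

/-- The homomorphism given by involutions satisfying the listed relators. -/
theorem exists_famHom {Γ : Type*} [Group Γ] (P : ℕ → Γ) (hall : ∀ x, x ∈ gens) (hnodup : gens.Nodup)
    (hP : ∀ g, g < gens.length → P g * P g = 1) {R : List (List ℕ)}
    (hR : coverOK gens edges extra R = true) (hwv : ∀ w ∈ R, wval P w = 1) :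
    ∃ φ : CoxPresented α edges extra →* Γ, ∀ g, g < gens.length → φ (genFun gens edges extra g) = P g := by
  refine ⟨PresentedGroup.toGroup (famRels P hall hP hR hwv), fun g hg => ?_⟩
  rw [genFun, dif_pos hg, PresentedGroup.toGroup.of, hnodup.idxOf_getElem g hg]

end Cfsg.Agent.Presented.BitPerm
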