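import Cfsg.Agent.Lib.Presented.Tower
import Cfsg.Agent.Lib.Presented.Data.O7Tower
import Cfsg.Agent.Lib.Presented.Data.E7T56

/-!
# Groups generated by seven elements with braid relations of type E7

If seven elements have one common central square and satisfy the braid relations of the diagram E7, the
derived subgroup of the group they generate has order at most 1451520.
-/

set_option autoImplicit false

namespace Cfsg.Agent.Presented.E7

open Cfsg.Spor Cfsg.Agent.Presented
open scoped commutatorElement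

/-- The diagram. -/
def edges7 : List (Fin 7 × ℕ × Fin 7) :=
  [(0, 3, 1), (1, 3, 2), (2, 3, 3), (2, 3, 6), (3, 3, 4), (4, 3, 5)]

/-- The Coxeter group. -/
abbrev W7 : Type := CoxPresented (Fin 7) edges7 []

/-- The generators in table order. -/
def gens7 : List (Fin 7) := [0, 1, 2, 3, 4, 5, 6]

theorem gens7_all (x : Fin 7) : x ∈ gens7 := by fin_cases x <;> decide

theorem gens7_ok : gensOK gens7 edges7 = true := by decide +kernel

/-- The generators by number. -/
abbrev g7 : ℕ → W7 := genFun gens7 edges7 []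

theorem g7_eq (x : Fin 7) : (PresentedGroup.of x : W7) = g7 x.1 := by
  rw [← genFun_idxOf gens7_all x]
  fin_cases x <;> rfl

theorem bound120 : OrderLE (wordSub g7 [[2], [3], [4], [6]]) 120 := by
  have hR : stepRelsOK gens7 edges7 [] [2, 3, 4, 6] []
      (O7T120.cert.words.take O7T120.cert.nR) = true := by decide +kernel
  have h1 : (O7T120.cert.words.drop O7T120.cert.nR) = [] := by decide +kernel
  exact step_le gens7_all gens7_ok (π := [2, 3, 4, 6]) (ex := []) (by simp) O7T120.cert_edgesOK
    O7T120.cert_nodesOK rfl hR 0 (Kprev := []) (by simp) (orderLE_nil g7) (by rw [h1]; simp)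

theorem bound1920 : OrderLE (wordSub g7 [[1], [2], [3], [4], [6]]) (16 * 120) := by
  have hR : stepRelsOK gens7 edges7 [] [1, 2, 3, 4, 6] []
      (O7T16.cert.words.take O7T16.cert.nR) = true := by decide +kernel
  have hK : ((O7T16.cert.words.drop O7T16.cert.nR).take 4).map
      (List.map fun g => [1, 2, 3, 4, 6].getD g 0) = [[2], [3], [4], [6]] := by decide +kernel
  have h1 : (O7T16.cert.words.drop O7T16.cert.nR).drop 4 = [] := by decide +kernel
  exact step_le gens7_all gens7_ok (π := [1, 2, 3, 4, 6]) (ex := []) (by simp) O7T16.cert_edgesOK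
    O7T16.cert_nodesOK rfl hR 4 (Kprev := [[2], [3], [4], [6]]) (by rw [hK]; simp) bound120
    (by rw [h1]; simp)

theorem bound51840 : OrderLE (wordSub g7 [[0], [1], [2], [3], [4], [6]]) (27 * (16 * 120)) := by
  have hR : stepRelsOK gens7 edges7 [] [0, 1, 2, 3, 4, 6] []
      (O7T27.cert.words.take O7T27.cert.nR) = true := by decide +kernel
  have hK : ((O7T27.cert.words.drop O7T27.cert.nR).take 5).map
      (List.map fun g => [0, 1, 2, 3, 4, 6].getD g 0) = [[1], [2], [3], [4], [6]] := by decide +kernel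
  have h1 : (O7T27.cert.words.drop O7T27.cert.nR).drop 5 = [] := by decide +kernel
  exact step_le gens7_all gens7_ok (π := [0, 1, 2, 3, 4, 6]) (ex := []) (by simp) O7T27.cert_edgesOK
    O7T27.cert_nodesOK rfl hR 5 (Kprev := [[1], [2], [3], [4], [6]]) (by rw [hK]; simp) bound1920
    (by rw [h1]; simp)

theorem boundW : OrderLE (wordSub g7 [[0], [1], [2], [3], [4], [5], [6]]) (56 * (27 * (16 * 120))) := by
  have hR : stepRelsOK gens7 edges7 [] [0, 1, 2, 3, 4, 5, 6] []
      (E7T56.cert.words.take E7T56.cert.nR) = true := by decide +kernel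
  have hK : ((E7T56.cert.words.drop E7T56.cert.nR).take 6).map
      (List.map fun g => [0, 1, 2, 3, 4, 5, 6].getD g 0) = [[0], [1], [2], [3], [4], [6]] := by
    decide +kernel
  have h1 : (E7T56.cert.words.drop E7T56.cert.nR).drop 6 = [] := by decide +kernel
  exact step_le gens7_all gens7_ok (π := [0, 1, 2, 3, 4, 5, 6]) (ex := []) (by simp) E7T56.cert_edgesOK
    E7T56.cert_nodesOK rfl hR 6 (Kprev := [[0], [1], [2], [3], [4], [6]]) (by rw [hK]; simp) bound51840
    (by rw [h1]; simp)

theorem card_W7 : Finite W7 ∧ Nat.card W7 ≤ 2903040 := by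
  have htop : wordSub g7 [[0], [1], [2], [3], [4], [5], [6]] = ⊤ := by
    rw [eq_top_iff, ← PresentedGroup.closure_range_of, Subgroup.closure_le]
    rintro _ ⟨x, rfl⟩
    rw [g7_eq]
    exact Subgroup.subset_closure ⟨[x.1], by fin_cases x <;> simp, by simp [wval]⟩
  have h := boundW
  rw [htop] at h
  haveI := h.1
  refine ⟨Finite.of_equiv _ (Subgroup.topEquiv (G := W7)).toEquiv, ?_⟩
  rw [← Subgroup.card_top (G := W7)]
  exact h.2.trans (by norm_num)

/-- Involutions satisfying the relations of the diagram. -/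
theorem exists_hom {P : Type*} [Group P] (s : Fin 7 → P)
    (h : ∀ i j : Fin 7, (s i * s j) ^ coxLabel edges7 i j = 1) :
    ∃ φ : W7 →* P, ∀ i, φ (PresentedGroup.of i) = s i := by
  refine ⟨PresentedGroup.toGroup (f := s) ?_, fun i => PresentedGroup.toGroup.of _⟩
  intro r hr
  rcases hr with ⟨x, -, y, -, rfl⟩ | hr
  · rw [map_pow, map_mul, FreeGroup.lift_apply_of, FreeGroup.lift_apply_of]
    exact h x y
  · exact absurd hr (List.not_mem_nil (a := r))

theorem card_commutator_W7 : Nat.card (commutator W7) ≤ 1451520 := by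
  haveI := card_W7.1
  have hsq : ∀ i j : Fin 7, ((Multiplicative.ofAdd (1 : ZMod 2)) * Multiplicative.ofAdd (1 : ZMod 2)) ^
      coxLabel edges7 i j = 1 := fun i j => by
    rw [show Multiplicative.ofAdd (1 : ZMod 2) * Multiplicative.ofAdd (1 : ZMod 2) = 1 from rfl, one_pow]
  obtain ⟨sgn, hsgn⟩ := exists_hom (fun _ => Multiplicative.ofAdd (1 : ZMod 2)) hsq
  have hker : commutator W7 ≤ sgn.ker := Abelianization.commutator_subset_ker sgn
  have hsur : Function.Surjective sgn := by
    intro y
    rcases show y = 1 ∨ y = Multiplicative.ofAdd (1 : ZMod 2) by revert y; decide with rfl | rfl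
    · exact ⟨1, map_one _⟩
    · exact ⟨_, hsgn 0⟩
  have hidx : sgn.ker.index = 2 := by
    rw [Subgroup.index_ker, MonoidHom.range_eq_top.2 hsur, Subgroup.card_top, Nat.card_eq_fintype_card]
    rfl
  have h := sgn.ker.card_mul_index
  rw [hidx] at h
  have h2 := card_W7.2
  have h3 : Nat.card (commutator W7) ≤ Nat.card sgn.ker :=
    Nat.card_le_card_of_injective (Subgroup.inclusion hker) (Subgroup.inclusion_injective hker)
  omega

/-- The derived subgroup of seven generators with a common central square and braid relations of type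
E7 has order at most 1451520. -/
theorem commutator_bound {T : Type*} [Group T] (x : Fin 7 → T) (c : T) (hc : c ∈ Subgroup.center T)
    (hsq : ∀ i, x i * x i = c)
    (hbr : ∀ i j, coxLabel edges7 i j = 3 → x j * x i * x j = x i * x j * x i)
    (hcm : ∀ i j, coxLabel edges7 i j = 2 → x i * x j = x j * x i) :
    Finite ↥(⁅Subgroup.closure (Set.range x), Subgroup.closure (Set.range x)⁆ : Subgroup T) ∧
      Nat.card ↥(⁅Subgroup.closure (Set.range x), Subgroup.closure (Set.range x)⁆ : Subgroup T) ≤
        1451520 := by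
  set u : Multiplicative ℤ := Multiplicative.ofAdd 1
  let z : T × Multiplicative ℤ := (c, u⁻¹ * u⁻¹)
  have hz : ∀ p : T × Multiplicative ℤ, z * p = p * z := fun p =>
    Prod.ext (Subgroup.mem_center_iff.mp hc p.1).symm (mul_comm _ _)
  haveI hnorm : (Subgroup.zpowers z).Normal := by
    constructor
    intro n hn g
    have : g * n * g⁻¹ = n := by
      obtain ⟨k, rfl⟩ := Subgroup.mem_zpowers_iff.mp hn
      rw [← ((show Commute z g from hz g).zpow_left k).eq, mul_inv_cancel_right]
    rwa [this]
  let P := (T × Multiplicative ℤ) ⧸ Subgroup.zpowers z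
  let π : T × Multiplicative ℤ →* P := QuotientGroup.mk' _
  let ι : T →* P := π.comp (MonoidHom.inl T (Multiplicative ℤ))
  have hι : Function.Injective ι := by
    rw [← MonoidHom.ker_eq_bot_iff, eq_bot_iff]
    intro t ht
    have ht' : ((t, 1) : T × Multiplicative ℤ) ∈ Subgroup.zpowers z := (QuotientGroup.eq_one_iff _).mp ht
    obtain ⟨k, hk⟩ := Subgroup.mem_zpowers_iff.mp ht'
    have h2 : (u⁻¹ * u⁻¹) ^ k = 1 := congrArg Prod.snd hk
    have h3 : k * (-1 + -1) = 0 := by
      have := congrArg Multiplicative.toAdd h2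
      simpa [u] using this
    have hk0 : k = 0 := by omega
    subst hk0
    rw [zpow_zero] at hk
    exact Subgroup.mem_bot.mpr (congrArg Prod.fst hk).symm
  let s : Fin 7 → P := fun i => π (x i, u⁻¹)
  have hs2 : ∀ i, s i * s i = 1 := fun i => by
    rw [← map_mul]
    refine (QuotientGroup.eq_one_iff _).mpr ?_
    show (x i * x i, u⁻¹ * u⁻¹) ∈ Subgroup.zpowers z
    rw [hsq]
    exact Subgroup.mem_zpowers z
  have hlab : ∀ i j : Fin 7, i = j ∧ coxLabel edges7 i j = 1 ∨
      coxLabel edges7 i j = 2 ∨ coxLabel edges7 i j = 3 := by decide +kernel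
  have hrel : ∀ i j : Fin 7, (s i * s j) ^ coxLabel edges7 i j = 1 := by
    intro i j
    rcases hlab i j with ⟨rfl, h⟩ | h | h
    · rw [h, pow_one, hs2]
    · have hcom : s j * s i = s i * s j := by
        rw [← map_mul, ← map_mul]
        exact congrArg π (Prod.ext (hcm i j h).symm rfl)
      rw [h, pow_two, mul_assoc (s i), ← mul_assoc (s j), hcom, mul_assoc (s i) (s j) (s j), hs2,
        mul_one, hs2]
    · have hb : s j * s i * s j = s i * s j * s i := by
        rw [← map_mul, ← map_mul, ← map_mul, ← map_mul]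
        exact congrArg π (Prod.ext (hbr i j h) rfl)
      rw [h, pow_succ, pow_two]
      calc s i * s j * (s i * s j) * (s i * s j)
          = s i * (s j * s i * s j) * (s i * s j) := by simp only [mul_assoc]
        _ = (s i * s i) * s j * (s i * s i) * s j := by rw [hb]; simp only [mul_assoc]
        _ = 1 := by rw [hs2, one_mul, mul_one, hs2]
  obtain ⟨φ, hφ⟩ := exists_hom s hrel
  haveI := card_W7.1
  set X := Subgroup.closure (Set.range x)
  let Zc : Subgroup P := Subgroup.center P
  have hsplit : ∀ a ∈ X, ∃ q ∈ Zc, ι a * q ∈ φ.range := by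
    intro a ha
    have hu : ∀ v : Multiplicative ℤ, π ((1 : T), v) ∈ Zc := fun v => Subgroup.mem_center_iff.mpr fun y => by
      obtain ⟨p, rfl⟩ := QuotientGroup.mk'_surjective _ y
      rw [← map_mul, ← map_mul]
      exact congrArg π (Prod.ext (by simp) (mul_comm _ _))
    induction ha using Subgroup.closure_induction with
    | mem y hy =>
      obtain ⟨i, rfl⟩ := hy
      refine ⟨_, hu u⁻¹, ⟨PresentedGroup.of i, ?_⟩⟩
      rw [hφ]
      show π (x i, u⁻¹) = π (x i, 1) * π (1, u⁻¹)
      rw [← map_mul]; simp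
    | one => exact ⟨1, one_mem _, by simp [one_mem]⟩
    | mul a b _ _ iha ihb =>
      obtain ⟨q, hq, hq'⟩ := iha
      obtain ⟨q', hr, hr'⟩ := ihb
      refine ⟨q * q', mul_mem hq hr, ?_⟩
      have : ι (a * b) * (q * q') = (ι a * q) * (ι b * q') := by
        rw [map_mul, mul_assoc, mul_assoc, ← mul_assoc (ι b) q q', Subgroup.mem_center_iff.mp hq (ι b),
          mul_assoc q]
      rw [this]
      exact mul_mem hq' hr'
    | inv a _ iha =>
      obtain ⟨q, hq, hq'⟩ := iha
      refine ⟨q⁻¹, inv_mem hq, ?_⟩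
      rw [map_inv, ← mul_inv_rev, ← Subgroup.mem_center_iff.mp hq (ι a)]
      exact inv_mem hq'
  have hle : (⁅X, X⁆ : Subgroup T).map ι ≤ (commutator W7).map φ := by
    rw [commutator_def, Subgroup.map_commutator, Subgroup.map_commutator, ← MonoidHom.range_eq_map,
      Subgroup.commutator_le]
    rintro _ ⟨a, ha, rfl⟩ _ ⟨b, hb, rfl⟩
    obtain ⟨q, hq, hq'⟩ := hsplit a ha
    obtain ⟨q', hr, hr'⟩ := hsplit b hb
    have hcq : ∀ y, y * q = q * y := fun y => Subgroup.mem_center_iff.mp hq y
    have hcr : ∀ y, y * q' = q' * y := fun y => Subgroup.mem_center_iff.mp hr y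
    have : ⁅ι a * q, ι b * q'⁆ = ⁅ι a, ι b⁆ := by
      rw [commutatorElement_def, commutatorElement_def, mul_inv_rev, mul_inv_rev]
      calc ι a * q * (ι b * q') * (q⁻¹ * (ι a)⁻¹) * (q'⁻¹ * (ι b)⁻¹)
          = ι a * (q * (ι b * q') * q⁻¹) * ((ι a)⁻¹ * q'⁻¹) * (ι b)⁻¹ := by simp only [mul_assoc]
        _ = ι a * (ι b * q') * ((ι a)⁻¹ * q'⁻¹) * (ι b)⁻¹ := by rw [← hcq, mul_inv_cancel_right]
        _ = ι a * ι b * (q' * (ι a)⁻¹ * q'⁻¹) * (ι b)⁻¹ := by simp only [mul_assoc]
        _ = _ := by rw [← hcr, mul_inv_cancel_right]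
    rw [← this]
    exact Subgroup.commutator_mem_commutator hq' hr'
  haveI : Finite ((commutator W7).map φ) :=
    Finite.of_surjective (φ.subgroupMap (commutator W7)) (φ.subgroupMap_surjective _)
  haveI : Finite ((⁅X, X⁆ : Subgroup T).map ι) :=
    Finite.of_injective _ (Subgroup.inclusion_injective hle)
  refine ⟨Finite.of_equiv _ ((⁅X, X⁆ : Subgroup T).equivMapOfInjective ι hι).symm.toEquiv, ?_⟩
  rw [← Subgroup.card_map_of_injective hι]
  refine (Nat.card_le_card_of_injective _ (Subgroup.inclusion_injective hle)).trans ?_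
  exact (Nat.le_of_dvd Nat.card_pos (Subgroup.card_map_dvd _ φ)).trans card_commutator_W7

end Cfsg.Agent.Presented.E7
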