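import Cfsg.Agent.Lib.Presented.Sp6Model

/-!
# Word identities in groups generated by seven involutions with relations of type E7

The Coxeter group of type E7 maps onto `Sp₆(2) × 2` and has at most as many elements, so two words that act
alike on the 64 vectors and have lengths of the same parity have the same value in every group generated by
seven such involutions.
-/

set_option autoImplicit false

namespace Cfsg.Agent.Presented.E7Word

open Cfsg.Spor
open scoped commutatorElement

/-- The sign of a word. -/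
def sgnWord (w : List ℕ) : Multiplicative (ZMod 2) := Multiplicative.ofAdd (w.length : ZMod 2)

/-- The pair formed by a transvection and the sign. -/
def pair (k : ℕ) : Sp6.G × Multiplicative (ZMod 2) := (Sp6.t k, Multiplicative.ofAdd 1)

theorem wval_pair (w : List ℕ) : wval pair w = (wval Sp6.t w, sgnWord w) := by
  induction w with
  | nil => rfl
  | cons g w ih =>
    rw [wval, ih, wval]
    refine Prod.ext rfl ?_
    show sgnWord w * Multiplicative.ofAdd 1 = sgnWord (g :: w)
    rw [sgnWord, sgnWord, List.length_cons, Nat.cast_succ, ofAdd_add]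

theorem pair_rel (i j : Fin 7) : (pair i.1 * pair j.1) ^ coxLabel E7.edges7 i j = 1 := by
  have h2 : (Multiplicative.ofAdd (1 : ZMod 2)) * Multiplicative.ofAdd (1 : ZMod 2) = 1 := rfl
  rw [pair, pair, Prod.mk_mul_mk, Prod.pow_mk, h2, one_pow]
  refine Prod.ext ?_ rfl
  have h : ∀ i j : Fin 7,
      Sp6.sameOK (List.replicate (coxLabel E7.edges7 i j) [j.1, i.1]).flatten [] = true := by
    decide +kernel
  have e := Sp6.eq_of_same (h i j)
  show (Sp6.t i.1 * Sp6.t j.1) ^ coxLabel E7.edges7 i j = 1
  rw [← show wval Sp6.t (List.replicate (coxLabel E7.edges7 i j) [j.1, i.1]).flatten =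
      (Sp6.t i.1 * Sp6.t j.1) ^ coxLabel E7.edges7 i j from ?_, e]
  · rfl
  · induction coxLabel E7.edges7 i j with
    | zero => rfl
    | succ n ih =>
      rw [List.replicate_succ, List.flatten_cons, wval_append, ih, pow_succ]
      simp [wval]

/-- The Coxeter group of type E7 is `Sp₆(2) × 2`. -/
theorem exists_model : ∃ φ : E7.W7 →* Sp6.G × Multiplicative (ZMod 2),
    (∀ i, φ (PresentedGroup.of i) = pair i.1) ∧ Function.Injective φ := by
  obtain ⟨φ, hφ⟩ := E7.exists_hom (fun i => pair i.1) pair_rel
  refine ⟨φ, hφ, ?_⟩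
  have hsur : Function.Surjective φ := by
    rw [← MonoidHom.range_eq_top, eq_top_iff]
    have hp : ∀ k : Fin 7, pair k.1 ∈ φ.range := fun k => ⟨_, hφ k⟩
    -- the transvections are conjugate, so products of two of them give the first factor
    have h1 : ∀ g : Sp6.G, ∃ s, (g, s) ∈ φ.range := by
      intro g
      have hg : g ∈ φ.range.map (MonoidHom.fst Sp6.G (Multiplicative (ZMod 2))) := by
        have : (⊤ : Subgroup Sp6.G) ≤ φ.range.map (MonoidHom.fst _ _) := by
          rw [← Sp6.closure_t, Subgroup.closure_le]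
          rintro _ ⟨k, rfl⟩
          exact ⟨_, hp k, rfl⟩
        exact this trivial
      obtain ⟨⟨g', s⟩, hm, rfl⟩ := hg
      exact ⟨s, hm⟩
    have hcomm : ∀ g ∈ commutator Sp6.G, (g, (1 : Multiplicative (ZMod 2))) ∈ φ.range := by
      rw [commutator_def]
      intro g hg
      have : Subgroup.map (MonoidHom.inl Sp6.G (Multiplicative (ZMod 2))) ⁅(⊤ : Subgroup Sp6.G), ⊤⁆ ≤
          φ.range := by
        rw [Subgroup.map_commutator, Subgroup.commutator_le]
        rintro _ ⟨a, -, rfl⟩ _ ⟨b, -, rfl⟩
        obtain ⟨s, hs⟩ := h1 a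
        obtain ⟨t, ht⟩ := h1 b
        have := mul_mem (mul_mem (mul_mem hs ht) (inv_mem hs)) (inv_mem ht)
        rwa [show ⁅MonoidHom.inl Sp6.G (Multiplicative (ZMod 2)) a, MonoidHom.inl _ _ b⁆ =
          (a, s) * (b, t) * (a, s)⁻¹ * (b, t)⁻¹ from Prod.ext
            (by simp [commutatorElement_def]) (by simp [commutatorElement_def])]
      exact this ⟨g, hg, rfl⟩
    rw [Sp6.commutator_top] at hcomm
    rintro ⟨g, s⟩ -
    have h0 := hp 0
    rcases show s = 1 ∨ s = Multiplicative.ofAdd 1 by revert s; decide with rfl | rfl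
    · exact hcomm g trivial
    · have := mul_mem (hcomm (g * (Sp6.t 0)⁻¹) trivial) h0
      simpa [pair] using this
  have := E7.card_W7.1
  have hc : Nat.card (Sp6.G × Multiplicative (ZMod 2)) = 2903040 := by
    rw [Nat.card_prod, Sp6.card_G, Nat.card_eq_fintype_card]; rfl
  exact ((Nat.bijective_iff_surjective_and_card φ).2
    ⟨hsur, le_antisymm (hc ▸ E7.card_W7.2) (Nat.card_le_card_of_surjective φ hsur)⟩).1

/-- Two words agree in every group with seven such involutions. -/
theorem eq_of_same {P : Type*} [Group P] {s : ℕ → P}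
    (hrel : ∀ i j : Fin 7, (s i.1 * s j.1) ^ coxLabel E7.edges7 i j = 1) {u v : List ℕ}
    (h : Sp6.sameOK u v = true) (hlen : (u.length % 2 == v.length % 2) = true) :
    wval s u = wval s v := by
  obtain ⟨φ, hφ, hinj⟩ := exists_model
  obtain ⟨ψ, hψ⟩ := E7.exists_hom (fun i => s i.1) hrel
  have key : ∀ w : List ℕ, (∀ g ∈ w, g < 7) →
      φ (wval E7.g7 w) = wval pair w ∧ ψ (wval E7.g7 w) = wval s w := by
    intro w
    induction w with
    | nil => exact fun _ => ⟨map_one φ, map_one ψ⟩
    | cons g w ih =>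
      intro hw
      have hg := hw g List.mem_cons_self
      obtain ⟨h1, h2⟩ := ih fun x hx => hw x (List.mem_cons_of_mem _ hx)
      have e := (E7.g7_eq ⟨g, hg⟩).symm
      simp only [wval, map_mul, h1, h2, e, hφ, hψ, and_self]
  have h' := h
  simp only [Sp6.sameOK, Bool.and_eq_true, List.all_eq_true, Nat.blt_eq] at h'
  obtain ⟨h1, h2⟩ := key u h'.1.1
  obtain ⟨h3, h4⟩ := key v h'.1.2
  rw [← h2, ← h4]
  refine congrArg ψ (hinj ?_)
  rw [h1, h3, wval_pair, wval_pair, Sp6.eq_of_same h, sgnWord, sgnWord,
    (ZMod.natCast_eq_natCast_iff' _ _ _).2 (beq_iff_eq.1 hlen)]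

end Cfsg.Agent.Presented.E7Word
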