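import Cfsg.Agent.Lib.Presented.Fi22Pts
import Cfsg.Agent.Lib.Presented.Data.Fi22Config

/-!
# Two kinds of configurations of transpositions of Fi22

`Config.exists_ext`: seven transpositions commuting with an eighth `p` and forming a diagram of type E7,
whose Coxeter element has ninth power `p`, have six members with a common commuting transposition
commuting with neither `p` nor the seventh.
`Config.chain_commute`: in a chain of seven commuting with `p`, a transposition commuting with all but
the second and seventh members and with neither `p` nor the seventh commutes with the second.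

Both are checked on representatives, which are reached by conjugations with transpositions.
-/

set_option autoImplicit false
set_option maxRecDepth 20000

namespace Cfsg.Agent.Presented.Fi22Config

open Cfsg.Spor FiIndex Fi22Pts Fi22ConfigData

/-- The transposition of coset `y` fixes coset `l`. -/
noncomputable def fixes (y l : ℕ) : Bool := Nat.beq (tpt y l) l

/-- The transpositions of the cosets are distinct and commute. -/
noncomputable def com (i j : ℕ) : Bool := !(Nat.beq i j) && fixes i j

/-- The transpositions of the cosets do not commute. -/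
noncomputable def adj (i j : ℕ) : Bool := !(fixes i j)

/-- The relations of a coset to earlier ones; `true` stands for not commuting. -/
noncomputable def cand (P : List (Bool × ℕ)) (x : ℕ) : Bool :=
  P.all fun q => bif q.1 then adj q.2 x else com q.2 x

/-- The same relations among transpositions. -/
def Sat : List Bool → List Fi22 → Fi22 → Prop
  | [], [], _ => True
  | r :: b, l :: v, x => (bif r then ¬ Commute l x else l ≠ x ∧ Commute l x) ∧ Sat b v x
  | _, _, _ => False

theorem adj_spec {i j : ℕ} (hi : i < 3510) (hj : j < 3510) :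
    adj i j = true ↔ ¬ Commute (tau i) (tau j) := by
  rw [commute_iff hi hj, adj, fixes, Bool.not_eq_true', Bool.not_eq_true]

theorem com_spec {i j : ℕ} (hi : i < 3510) (hj : j < 3510) :
    com i j = true ↔ tau i ≠ tau j ∧ Commute (tau i) (tau j) := by
  rw [commute_iff hi hj, com, fixes, Bool.and_eq_true, Bool.not_eq_true']
  refine and_congr ⟨fun h e => ?_, fun h => ?_⟩ Iff.rfl
  · rw [tau_inj hi hj e] at h
    simp at h
  · by_contra hb
    rw [Bool.not_eq_false, Nat.beq_eq] at hb
    exact h (by rw [hb])

theorem sat_iff : ∀ {b : List Bool} {L : List ℕ} {x : ℕ}, b.length = L.length → (∀ l ∈ L, l < 3510) →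
    x < 3510 → (Sat b (L.map tau) (tau x) ↔ cand (b.zip L) x = true)
  | [], [], _, _, _, _ => by simp [Sat, cand]
  | r :: b, l :: L, x, h, hL, hx => by
    have ih := sat_iff (b := b) (L := L) (x := x) (by simpa using h)
      (fun k hk => hL k (List.mem_cons_of_mem _ hk)) hx
    have hl := hL l List.mem_cons_self
    simp only [List.map_cons, Sat, List.zip_cons_cons, cand, List.all_cons, Bool.and_eq_true] at ih ⊢
    refine and_congr ?_ ih
    cases r
    · exact (com_spec hl hx).symm
    · exact (adj_spec hl hx).symm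
  | [], _ :: _, _, h, _, _ => by simp at h
  | _ :: _, [], _, h, _, _ => by simp at h

theorem sat_conj (k : Fi22) : ∀ {b : List Bool} {v : List Fi22} {x : Fi22},
    Sat b v x → Sat b (v.map fun i => k * i * k⁻¹) (k * x * k⁻¹)
  | [], [], _, _ => trivial
  | r :: b, l :: v, x, h => by
    refine ⟨?_, sat_conj k h.2⟩
    have h1 := h.1
    cases r
    · exact ⟨fun e => h1.1 (mul_left_cancel (mul_right_cancel e)),
        by simpa using h1.2.map (MulAut.conj k).toMonoidHom⟩
    · refine fun e => h1 ?_
      have := e.map (MulAut.conj k⁻¹).toMonoidHom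
      simpa [mul_assoc] using this
  | [], _ :: _, _, h => h.elim
  | _ :: _, [], _, h => h.elim

/-- The steps transport points to earlier ones by transpositions fixing `L`. -/
noncomputable def stepsOK (L : List ℕ) : List (ℕ × ℕ × ℕ) → List ℕ → Bool :=
  List.rec (motive := fun _ => List ℕ → Bool) (fun _ => true)
    fun st _ ih known => Nat.blt st.2.1 3510 && known.contains st.2.2 &&
      (L.all fun l => fixes st.2.1 l) && Nat.beq (tpt st.2.1 st.2.2) st.1 && ih (st.1 :: known)

/-- A level: the candidates at `L` are carried to the roots. -/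
noncomputable def levelOK (b : List Bool) (L R : List ℕ) (steps : List (ℕ × ℕ × ℕ)) : Bool :=
  Nat.beq b.length L.length && (L.all fun l => Nat.blt l 3510) && (R.all fun r => Nat.blt r 3510) &&
    stepsOK L steps R &&
      checkFast (fun i => !(cand (b.zip L) i) || (R ++ steps.map Prod.fst).contains i) 12 3510

theorem reached_spec {L R : List ℕ} (hL : ∀ l ∈ L, l < 3510) : ∀ (steps : List (ℕ × ℕ × ℕ)) (known : List ℕ),
    stepsOK L steps known = true →
    (∀ w ∈ known, w < 3510 ∧ ∃ k : Fi22, (∀ l ∈ L, k * tau l * k⁻¹ = tau l) ∧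
      ∃ r ∈ R, k * tau w * k⁻¹ = tau r) →
    ∀ w, w ∈ known ∨ w ∈ steps.map Prod.fst → ∃ k : Fi22, (∀ l ∈ L, k * tau l * k⁻¹ = tau l) ∧
      ∃ r ∈ R, k * tau w * k⁻¹ = tau r
  | [], _, _, hk, w, hw => (hk w (hw.resolve_right (by simp))).2
  | st :: rest, known, h, hk, w, hw => by
    change (Nat.blt st.2.1 3510 && known.contains st.2.2 && (L.all fun l => fixes st.2.1 l) &&
      Nat.beq (tpt st.2.1 st.2.2) st.1 && stepsOK L rest (st.1 :: known)) = true at h
    simp only [Bool.and_eq_true, List.all_eq_true, Nat.blt_eq, Nat.beq_eq,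
      List.contains_eq_mem, decide_eq_true_eq] at h
    obtain ⟨⟨⟨⟨hy, hz⟩, hfix⟩, hst⟩, hrest⟩ := h
    refine reached_spec hL rest _ hrest (fun u hu => ?_) w ?_
    · rcases List.mem_cons.1 hu with rfl | hu
      · obtain ⟨hz', k, hkL, r, hr, hkr⟩ := hk _ hz
        refine ⟨hst ▸ tpt_lt hy hz', k * tau st.2.1, fun l hl => ?_, r, hr, ?_⟩
        · have e : tau st.2.1 * tau l * tau st.2.1 = tau l :=
            (tau_conj hy (hL l hl)).trans (by rw [Nat.beq_eq.mp (hfix l hl)])
          rw [mul_inv_rev, tau_inv, show k * tau st.2.1 * tau l * (tau st.2.1 * k⁻¹) =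
            k * (tau st.2.1 * tau l * tau st.2.1) * k⁻¹ by group, e, hkL l hl]
        · rw [← hst, ← tau_conj hy hz', mul_inv_rev, tau_inv,
            show k * tau st.2.1 * (tau st.2.1 * tau st.2.2 * tau st.2.1) * (tau st.2.1 * k⁻¹) =
              k * (tau st.2.1 * tau st.2.1) * tau st.2.2 * (tau st.2.1 * tau st.2.1) * k⁻¹ by group,
            tau_sq, mul_one, mul_one, hkr]
      · exact hk u hu
    · rw [List.map_cons, List.mem_cons] at hw
      rw [List.mem_cons]
      tauto

/-- A configuration is conjugate to one of representatives. -/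
def Conj (v : List Fi22) (L : List ℕ) : Prop :=
  ∃ k : Fi22, (v.map fun i => k * i * k⁻¹) = L.map tau

/-- One more member of a configuration. -/
theorem Conj.extend {v : List Fi22} {L : List ℕ} (hv : Conj v L) {b : List Bool} {R : List ℕ}
    {steps : List (ℕ × ℕ × ℕ)} (h : levelOK b L R steps = true) {x : Fi22}
    (hx : x ∈ conjugatesOf (gen 0)) (hsat : Sat b v x) : ∃ r ∈ R, Conj (v ++ [x]) (L ++ [r]) := by
  simp only [levelOK, Bool.and_eq_true, List.all_eq_true, Nat.blt_eq, Nat.beq_eq] at h
  obtain ⟨⟨⟨⟨hlen, hL⟩, hR⟩, hsteps⟩, hcov⟩ := h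
  obtain ⟨k, hk⟩ := hv
  have hx' : k * x * k⁻¹ ∈ conjugatesOf (gen 0) := by
    obtain ⟨c, hc⟩ := isConj_iff.mp hx
    exact isConj_iff.mpr ⟨k * c, by rw [← hc]; group⟩
  obtain ⟨i, hi, hix⟩ := exists_tau hx'
  have hs := sat_conj k hsat
  rw [hk, hix, sat_iff hlen hL hi] at hs
  have hc := checkBelow_spec ((checkBelow_fast _ 12 3510).trans hcov) i hi
  simp only [hs, Bool.not_true, Bool.false_or, List.contains_eq_mem, decide_eq_true_eq] at hc
  obtain ⟨k', hk', r, hr, hkr⟩ := reached_spec hL steps R hsteps
    (fun w hw => ⟨hR w hw, 1, fun l _ => by group, w, hw, by group⟩) i (List.mem_append.1 hc)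
  refine ⟨r, hr, k' * k, ?_⟩
  rw [List.map_append, List.map_append, List.map_cons, List.map_nil, List.map_cons, List.map_nil]
  congr 1
  · have : (v.map fun i => k' * k * i * (k' * k)⁻¹) =
        (v.map fun i => k * i * k⁻¹).map fun i => k' * i * k'⁻¹ := by
      rw [List.map_map]; exact List.map_congr_left fun i _ => by simp [mul_assoc]
    rw [this, hk, List.map_map]
    exact List.map_congr_left fun l hl => hk' l hl
  · rw [show k' * k * x * (k' * k)⁻¹ = k' * (k * x * k⁻¹) * k'⁻¹ by group, hix, hkr]

theorem base {p : Fi22} (hp : p ∈ conjugatesOf (gen 0)) : Conj [p] [0] := by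
  obtain ⟨g, rfl⟩ := isConj_iff.mp hp
  exact ⟨g⁻¹, by simp [tau_zero, mul_assoc]⟩

theorem A0 : levelOK [false] [0] [6] stepsA0 = true := by decide +kernel

theorem A1 : levelOK [false, true] [0, 6] [10] stepsA1 = true := by decide +kernel

theorem A2 : levelOK [false, false, true] [0, 6, 10] [40] stepsA2 = true := by decide +kernel

theorem A3 : levelOK [false, false, false, true] [0, 6, 10, 40] [81] stepsA3 = true := by decide +kernel

theorem A4 : levelOK [false, false, true, false, false] [0, 6, 10, 40, 81] [43, 217, 274] stepsA4 = true := by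
  decide +kernel

theorem A5 : levelOK [false, false, false, false, false, true] [0, 6, 10, 40, 81, 43] [86] stepsA5 = true := by
  decide +kernel

theorem A6 : levelOK [false, false, false, false, false, true] [0, 6, 10, 40, 81, 217] [637] stepsA6 = true := by
  decide +kernel

theorem A7 : levelOK [false, false, false, false, false, true] [0, 6, 10, 40, 81, 274] [86] stepsA7 = true := by
  decide +kernel

theorem A8 : levelOK [false, false, false, false, true, false, false] [0, 6, 10, 40, 81, 43, 86] [154] [] = true ∧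
    levelOK [false, false, false, false, true, false, false] [0, 6, 10, 40, 81, 217, 637] [154] [] = true ∧
    levelOK [false, false, false, false, true, false, false] [0, 6, 10, 40, 81, 274, 86] [154] [] = true := by
  decide +kernel

theorem I4 : levelOK [false, false, false, false, true] [0, 6, 10, 40, 81] [59, 97, 154, 155] stepsI4 = true := by
  decide +kernel

theorem I5 : levelOK [false, false, false, false, false, true] [0, 6, 10, 40, 81, 59] [86] stepsI5 = true ∧
    levelOK [false, false, false, false, false, true] [0, 6, 10, 40, 81, 97] [86] stepsI6 = true ∧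
    levelOK [false, false, false, false, false, true] [0, 6, 10, 40, 81, 154] [] [] = true ∧
    levelOK [false, false, false, false, false, true] [0, 6, 10, 40, 81, 155] [86] stepsI8 = true := by
  decide +kernel

theorem I6 : levelOK [false, false, false, false, false, false, true] [0, 6, 10, 40, 81, 59, 86] [637] [] = true ∧
    levelOK [false, false, false, false, false, false, true] [0, 6, 10, 40, 81, 97, 86] [2179] [] = true ∧
    levelOK [false, false, false, false, false, false, true] [0, 6, 10, 40, 81, 155, 86] [637] [] = true := by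
  decide +kernel

/-- The Coxeter word of the seven members, by their places in `[p, c, d, e, f, h, i, g]`. -/
def zWord : List ℕ := (List.replicate 9 [6, 5, 2, 3, 4, 7, 1]).flatten

/-- The word of the seven members of a representative. -/
noncomputable def zFlat (L : List ℕ) : List ℕ := (zWord.map fun k => tword (L.getD k 0)).flatten

/-- The ninth power differs from the first member at coset `1`. -/
noncomputable def zBad (L : List ℕ) : Bool :=
  (L.all fun l => Nat.blt l 3510) && !(Nat.beq (D.path (zFlat L) 1) (D.path (tword (L.getD 0 0)) 1))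

theorem z_bad : zBad [0, 6, 10, 40, 81, 43, 86, 154] = true ∧
    zBad [0, 6, 10, 40, 81, 217, 637, 154] = true := by
  decide +kernel

theorem ext_ok : cand ([true, false, false, false, false, false, false, true].zip
    [0, 6, 10, 40, 81, 274, 86, 154]) 22 = true := by
  decide +kernel

/-- The checked property of a representative chain. -/
noncomputable def chainOK (L : List ℕ) : Bool :=
  checkFast (fun y => !(cand ([true, false, false, false, false, false, true].zip
    [L.getD 0 0, L.getD 1 0, L.getD 3 0, L.getD 4 0, L.getD 5 0, L.getD 6 0, L.getD 7 0]) y) ||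
      fixes (L.getD 2 0) y) 12 3510

theorem chain_ok : chainOK [0, 6, 10, 40, 81, 59, 86, 637] = true ∧
    chainOK [0, 6, 10, 40, 81, 97, 86, 2179] = true ∧ chainOK [0, 6, 10, 40, 81, 155, 86, 637] = true := by
  decide +kernel

theorem conj_wval_list (k : Fi22) (s : ℕ → Fi22) :
    ∀ w : List ℕ, k * wval s w * k⁻¹ = wval (fun j => k * s j * k⁻¹) w
  | [] => by simp [wval]
  | g :: w => by
    rw [wval, wval, ← conj_wval_list k s w]; group

theorem zBad_spec {L : List ℕ} (hlen : L.length = 8) (h : zBad L = true) :
    wval (fun j => (L.map tau).getD j 1) zWord ≠ tau (L.getD 0 0) := by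
  simp only [zBad, Bool.and_eq_true, List.all_eq_true, Nat.blt_eq, Bool.not_eq_true'] at h
  obtain ⟨hL, hne⟩ := h
  have hz : ∀ g ∈ zWord, g < L.length := by rw [hlen]; decide
  have hget : ∀ g ∈ zWord, (L.map tau).getD g 1 = tau (L.getD g 0) := fun g hg => by
    simp [List.getD_eq_getElem?_getD, hz g hg]
  have hcongr : ∀ w : List ℕ, (∀ g ∈ w, g ∈ zWord) →
      wval (fun j => (L.map tau).getD j 1) w = wval tau (w.map fun g => L.getD g 0) := by
    intro w
    induction w with
    | nil => intro _; rfl
    | cons g w ih =>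
      intro hw
      rw [List.map_cons, wval, wval, ih fun x hx => hw x (List.mem_cons_of_mem _ hx),
        hget g (hw g List.mem_cons_self)]
  rw [hcongr zWord (fun g hg => hg), wval_flatten, List.map_map]
  have hlt : ∀ g, g < L.length → L.getD g 0 < 3510 := fun g hg => by
    rw [List.getD_eq_getElem _ _ hg]; exact hL _ (List.getElem_mem hg)
  refine wval_ne (fun g hg => ?_) (tword_lt (hlt 0 (by omega))) (p := 1) (by norm_num) fun e => ?_
  · simp only [List.mem_flatten, List.mem_map] at hg
    obtain ⟨_, ⟨a, ha, rfl⟩, hg⟩ := hg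
    exact tword_lt (hlt a (hz a ha)) g hg
  · have : (Nat.beq (D.path (zFlat L) 1) (D.path (tword (L.getD 0 0)) 1)) = true := Nat.beq_eq.mpr e
    rw [this] at hne; exact Bool.noConfusion hne

/-- A common commuting transposition for six members of a configuration of type E7. -/
theorem exists_ext {p c d e f h i g : Fi22} (hp : p ∈ conjugatesOf (gen 0))
    (hc : c ∈ conjugatesOf (gen 0)) (hd : d ∈ conjugatesOf (gen 0)) (he : e ∈ conjugatesOf (gen 0))
    (hf : f ∈ conjugatesOf (gen 0)) (hh : h ∈ conjugatesOf (gen 0)) (hi : i ∈ conjugatesOf (gen 0))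
    (hg : g ∈ conjugatesOf (gen 0))
    (sc : Sat [false] [p] c) (sd : Sat [false, true] [p, c] d) (se : Sat [false, false, true] [p, c, d] e)
    (sf : Sat [false, false, false, true] [p, c, d, e] f)
    (sh : Sat [false, false, true, false, false] [p, c, d, e, f] h)
    (si : Sat [false, false, false, false, false, true] [p, c, d, e, f, h] i)
    (sg : Sat [false, false, false, false, true, false, false] [p, c, d, e, f, h, i] g)
    (hz : wval (fun j => [p, c, d, e, f, h, i, g].getD j 1) zWord = p) :
    ∃ y ∈ conjugatesOf (gen 0), ¬ Commute p y ∧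
      (∀ x ∈ [c, d, e, f, h, i], x ≠ y ∧ Commute x y) ∧ ¬ Commute g y := by
  obtain ⟨r1, hr1, C1⟩ := (base hp).extend A0 hc sc
  obtain rfl : r1 = 6 := by simpa using hr1
  obtain ⟨r2, hr2, C2⟩ := C1.extend A1 hd sd
  obtain rfl : r2 = 10 := by simpa using hr2
  obtain ⟨r3, hr3, C3⟩ := C2.extend A2 he se
  obtain rfl : r3 = 40 := by simpa using hr3
  obtain ⟨r4, hr4, C4⟩ := C3.extend A3 hf sf
  obtain rfl : r4 = 81 := by simpa using hr4
  obtain ⟨r5, hr5, C5⟩ := C4.extend A4 hh sh
  have fin : ∀ {L : List ℕ}, zBad L = true → L.length = 8 → L.getD 0 0 = 0 →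
      Conj [p, c, d, e, f, h, i, g] L → False := by
    intro L hb hlen h0 hC
    obtain ⟨k, hk⟩ := hC
    refine zBad_spec hlen hb ?_
    have h1 : (fun j => (L.map tau).getD j 1) = fun j => k * [p, c, d, e, f, h, i, g].getD j 1 * k⁻¹ := by
      funext j
      rw [← hk, List.getD_eq_getElem?_getD, List.getD_eq_getElem?_getD, List.getElem?_map]
      cases [p, c, d, e, f, h, i, g][j]? <;> simp
    rw [h1, ← conj_wval_list, hz]
    have h2 := congrArg (fun l : List Fi22 => l.getD 0 1) hk
    match L, hlen, h2 with
    | l :: _, _, h2 => simpa using h2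
  simp only [List.mem_cons, List.not_mem_nil, or_false] at hr5
  rcases hr5 with rfl | rfl | rfl
  · obtain ⟨r6, hr6, C6⟩ := C5.extend A5 hi si
    obtain rfl : r6 = 86 := by simpa using hr6
    obtain ⟨r7, hr7, C7⟩ := C6.extend A8.1 hg sg
    obtain rfl : r7 = 154 := by simpa using hr7
    exact (fin z_bad.1 rfl rfl C7).elim
  · obtain ⟨r6, hr6, C6⟩ := C5.extend A6 hi si
    obtain rfl : r6 = 637 := by simpa using hr6
    obtain ⟨r7, hr7, C7⟩ := C6.extend A8.2.1 hg sg
    obtain rfl : r7 = 154 := by simpa using hr7
    exact (fin z_bad.2 rfl rfl C7).elim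
  · obtain ⟨r6, hr6, C6⟩ := C5.extend A7 hi si
    obtain rfl : r6 = 86 := by simpa using hr6
    obtain ⟨r7, hr7, C7⟩ := C6.extend A8.2.2 hg sg
    obtain rfl : r7 = 154 := by simpa using hr7
    obtain ⟨k, hk⟩ := C7
    have hs := (sat_iff (b := [true, false, false, false, false, false, false, true])
      (L := [0, 6, 10, 40, 81, 274, 86, 154]) rfl (by decide) (x := 22) (by norm_num)).2 ext_ok
    have hs' := sat_conj k⁻¹ hs
    refine ⟨k⁻¹ * tau 22 * k, ?_, ?_⟩
    · obtain ⟨q, hq⟩ := isConj_iff.mp (tau_mem 22)
      exact isConj_iff.mpr ⟨k⁻¹ * q, by rw [← hq]; group⟩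
    · rw [show ([0, 6, 10, 40, 81, 274, 86, 154] : List ℕ).map tau =
        ([p, c, d, e, f, h, i, g].map fun i => k * i * k⁻¹) from hk.symm] at hs'
      simp only [List.map_cons, List.map_nil, Sat, inv_inv,
        cond_true, cond_false, and_true, mul_assoc, inv_mul_cancel_left, inv_mul_cancel,
        mul_one] at hs'
      obtain ⟨k1, k2, k3, k4, k5, k6, k7, k8⟩ := hs'
      simp only [List.mem_cons, List.not_mem_nil, or_false, forall_eq_or_imp, forall_eq, mul_assoc]
      exact ⟨k1, ⟨k2, k3, k4, k5, k6, k7⟩, k8⟩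

/-- In a chain the transposition commutes with the second member. -/
theorem chain_commute {p a b c d e f g y : Fi22} (hp : p ∈ conjugatesOf (gen 0))
    (ha : a ∈ conjugatesOf (gen 0)) (hb : b ∈ conjugatesOf (gen 0)) (hc : c ∈ conjugatesOf (gen 0))
    (hd : d ∈ conjugatesOf (gen 0)) (he : e ∈ conjugatesOf (gen 0)) (hf : f ∈ conjugatesOf (gen 0))
    (hg : g ∈ conjugatesOf (gen 0)) (hy : y ∈ conjugatesOf (gen 0))
    (sa : Sat [false] [p] a) (sb : Sat [false, true] [p, a] b) (sc : Sat [false, false, true] [p, a, b] c)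
    (sd : Sat [false, false, false, true] [p, a, b, c] d)
    (se : Sat [false, false, false, false, true] [p, a, b, c, d] e)
    (sf : Sat [false, false, false, false, false, true] [p, a, b, c, d, e] f)
    (sg : Sat [false, false, false, false, false, false, true] [p, a, b, c, d, e, f] g)
    (sy : Sat [true, false, false, false, false, false, true] [p, a, c, d, e, f, g] y) :
    Commute b y := by
  obtain ⟨r1, hr1, C1⟩ := (base hp).extend A0 ha sa
  obtain rfl : r1 = 6 := by simpa using hr1
  obtain ⟨r2, hr2, C2⟩ := C1.extend A1 hb sb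
  obtain rfl : r2 = 10 := by simpa using hr2
  obtain ⟨r3, hr3, C3⟩ := C2.extend A2 hc sc
  obtain rfl : r3 = 40 := by simpa using hr3
  obtain ⟨r4, hr4, C4⟩ := C3.extend A3 hd sd
  obtain rfl : r4 = 81 := by simpa using hr4
  obtain ⟨r5, hr5, C5⟩ := C4.extend I4 he se
  have fin : ∀ {a0 a1 a2 a3 a4 a5 a6 a7 : ℕ}, chainOK [a0, a1, a2, a3, a4, a5, a6, a7] = true →
      (∀ l ∈ [a0, a1, a2, a3, a4, a5, a6, a7], l < 3510) →
      Conj [p, a, b, c, d, e, f, g] [a0, a1, a2, a3, a4, a5, a6, a7] → Commute b y := by
    intro a0 a1 a2 a3 a4 a5 a6 a7 hok hlt hC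
    obtain ⟨k, hk⟩ := hC
    simp only [List.map_cons, List.map_nil, List.cons.injEq, and_true] at hk
    obtain ⟨e0, e1, e2, e3, e4, e5, e6, e7⟩ := hk
    have hy' : k * y * k⁻¹ ∈ conjugatesOf (gen 0) := by
      obtain ⟨q, hq⟩ := isConj_iff.mp hy
      exact isConj_iff.mpr ⟨k * q, by rw [← hq]; group⟩
    obtain ⟨j, hj, hjy⟩ := exists_tau hy'
    have hs := sat_conj k sy
    simp only [List.map_cons, List.map_nil, e0, e1, e3, e4, e5, e6, e7, hjy] at hs
    rw [show [tau a0, tau a1, tau a3, tau a4, tau a5, tau a6, tau a7] =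
      [a0, a1, a3, a4, a5, a6, a7].map tau from rfl, sat_iff rfl
      (fun l hl => hlt l (by simp at hl ⊢; tauto)) hj] at hs
    have h := checkBelow_spec ((checkBelow_fast _ 12 3510).trans hok) j hj
    simp only [List.getD_cons_zero, List.getD_cons_succ, hs, Bool.not_true, Bool.false_or] at h
    have h2 := (commute_iff (hlt a2 (by simp)) hj).2 h
    rw [← e2, ← hjy] at h2
    simpa [mul_assoc] using h2.map (MulAut.conj k⁻¹).toMonoidHom
  simp only [List.mem_cons, List.not_mem_nil, or_false] at hr5
  rcases hr5 with rfl | rfl | rfl | rfl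
  · obtain ⟨r6, hr6, C6⟩ := C5.extend I5.1 hf sf
    obtain rfl : r6 = 86 := by simpa using hr6
    obtain ⟨r7, hr7, C7⟩ := C6.extend I6.1 hg sg
    obtain rfl : r7 = 637 := by simpa using hr7
    exact fin chain_ok.1 (by decide) C7
  · obtain ⟨r6, hr6, C6⟩ := C5.extend I5.2.1 hf sf
    obtain rfl : r6 = 86 := by simpa using hr6
    obtain ⟨r7, hr7, C7⟩ := C6.extend I6.2.1 hg sg
    obtain rfl : r7 = 2179 := by simpa using hr7
    exact fin chain_ok.2.1 (by decide) C7
  · obtain ⟨r6, hr6, -⟩ := C5.extend I5.2.2.1 hf sf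
    simp at hr6
  · obtain ⟨r6, hr6, C6⟩ := C5.extend I5.2.2.2 hf sf
    obtain rfl : r6 = 86 := by simpa using hr6
    obtain ⟨r7, hr7, C7⟩ := C6.extend I6.2.2 hg sg
    obtain rfl : r7 = 637 := by simpa using hr7
    exact fin chain_ok.2.2 (by decide) C7

end Cfsg.Agent.Presented.Fi22Config
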