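import Cfsg.Agent.Lib.Presented.Fi23Mult
import Cfsg.Agent.Lib.Presented.FiOrder

/-!
# The Schur multiplier of the presented group Fi22 has order dividing 6

In a stem extension the generators have lifts which are involutions, satisfy the Coxeter relations and
the first relation of degree nine.  Seven commuting transpositions with trivial product, and an eighth
commuting with all of them, show that lifts of commuting transpositions commute.  The second relation
of degree nine then has value of order at most two, and the spider element has order at most three,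
its cube lying in a Weyl group of type E₆.
-/

set_option autoImplicit false
set_option maxRecDepth 20000

namespace Cfsg.Agent.Presented.Fi22Mult

open Cfsg.Spor Cfsg.Agent.Presented FiIndex BraidLift
open scoped commutatorElement

/-- Two words agree on the base of the chain. -/
noncomputable def same (u v : List ℕ) : Bool :=
  sameOK FiC3510.cert (FiChain.chain.map Level.pt) u v

/-- Words with the same walks from all base points are equal in `Fi22`. -/
theorem eq_of_same {u v : List ℕ} (h : same u v = true) : wval gen u = wval gen v := by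
  obtain ⟨e, -, he⟩ := exists_table
  haveI := FiOrder.card_le.1
  simp only [same, sameOK, Bool.and_eq_true, List.all_eq_true, Nat.blt_eq] at h
  obtain ⟨⟨hu, hv⟩, hpath⟩ := h
  refine eq_of_paths FiC3510.cert_edgesOK FiC3510.cert_nodesOK e he (by decide +kernel) FiChain.chain_ok
    (by rw [FiOrder.chain_prod, FiOrder.card_fi22]) _ _ fun p hpm hp => ?_
  rw [CosetCert.smul_path FiC3510.cert_edgesOK FiC3510.cert_nodesOK e he _ hu ⟨p, hp⟩,
    CosetCert.smul_path FiC3510.cert_edgesOK FiC3510.cert_nodesOK e he _ hv ⟨p, hp⟩]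
  exact congrArg e (Fin.ext (Nat.beq_eq.mp (hpath p hpm)))

/-- The edges of the graph, parents first. -/
def tree : List (ℕ × ℕ) := [(0, 1), (1, 2), (2, 3), (3, 4), (3, 7), (4, 5), (5, 6), (7, 8)]

/-- The order of a product of two generators. -/
def label (x y : ℕ) : ℕ :=
  if Nat.beq x y then 1 else if tree.contains (x, y) || tree.contains (y, x) then 3 else 2

/-- The Coxeter words. -/
def coxWords : List (List ℕ) :=
  (List.range 9).flatMap fun x => (List.range 9).map fun y => (List.replicate (label x y) [x, y]).flatten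

/-- The first word of degree nine. -/
def w9 : List ℕ := (List.replicate 9 [0, 1, 2, 3, 4, 5, 7]).flatten

/-- The second word of degree nine. -/
def v9 : List ℕ := (List.replicate 9 [1, 2, 3, 4, 5, 6, 7]).flatten

/-- The spider word. -/
def spider : List ℕ := (List.replicate 10 [8, 7, 3, 5, 4, 3, 1, 2, 3]).flatten

/-- Words saying that the spider element is central. -/
def centralWords : List (List ℕ) := (List.range 9).map fun c => spider ++ [c] ++ spider.reverse ++ [c]

/-- Pairs at distance at least two. -/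
def pairs : List (ℕ × ℕ) :=
  (List.range 9).flatMap fun x => ((List.range 9).filter fun y => Nat.beq (label x y) 2).map fun y => (x, y)

/-- Words carrying the pair `(0, 2)` to the eighth transposition and one of seven. -/
def conjs : List (List ℕ) :=
  [[1, 2, 3, 4, 5, 6],
   [1, 0, 2, 3, 2, 1, 0, 4, 3, 2, 1, 5, 4, 3, 2, 6, 7, 3, 2, 1, 0, 4],
   [1, 2, 3, 2, 1, 4, 3, 2, 5, 6],
   [1, 0, 2, 3, 2, 1, 0, 4, 3, 2, 1, 5, 4, 3, 6, 5, 7, 3, 2, 1, 0, 4],
   [1, 2, 3, 2, 1, 4, 3, 2, 5, 4, 3, 6, 5, 4],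
   [3, 4, 5, 6, 7, 3, 4, 5, 8, 7, 3, 2, 1, 4, 3, 2, 7, 3, 4, 5, 6, 8],
   [1, 0, 2, 3, 2, 1, 4, 3, 2, 5, 4, 3, 6, 5, 7, 3, 2, 1, 0, 4, 3, 2]]

/-- A generator, moved by a word. -/
def moved (v : List ℕ) (x : ℕ) : List ℕ := v.reverse ++ [x] ++ v

/-- The word of the `i`-th of the seven transpositions. -/
def seven (i : ℕ) : List ℕ := moved (conjs.getD i []) 2

/-- Words carrying the pair `(0, 2)` to the pairs at distance at least two. -/
def pairConjs : List ((ℕ × ℕ) × List ℕ) :=
  [((0, 2), []),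
   ((0, 3), [3, 2]),
   ((0, 4), [3, 2, 4, 3]),
   ((0, 5), [3, 2, 4, 3, 5, 4]),
   ((0, 6), [3, 2, 4, 3, 5, 4, 6, 5]),
   ((0, 7), [3, 2, 7, 3]),
   ((0, 8), [3, 2, 7, 3, 8, 7]),
   ((1, 3), [3, 2, 1, 0]),
   ((1, 4), [3, 2, 1, 0, 4, 3]),
   ((1, 5), [3, 2, 1, 0, 4, 3, 5, 4]),
   ((1, 6), [3, 2, 1, 0, 4, 3, 5, 4, 6, 5]),
   ((1, 7), [3, 2, 1, 0, 7, 3]),
   ((1, 8), [3, 2, 1, 0, 7, 3, 8, 7]),
   ((2, 0), [1, 0, 2, 1]),
   ((2, 4), [3, 2, 1, 0, 4, 3, 2, 1]),
   ((2, 5), [3, 2, 1, 0, 4, 3, 2, 1, 5, 4]),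
   ((2, 6), [3, 2, 1, 0, 4, 3, 2, 1, 5, 4, 6, 5]),
   ((2, 7), [3, 2, 1, 0, 7, 3, 2, 1]),
   ((2, 8), [3, 2, 1, 0, 7, 3, 2, 1, 8, 7]),
   ((3, 0), [1, 0, 2, 1, 3, 2]),
   ((3, 1), [1, 0, 2, 1, 3, 2, 1, 0]),
   ((3, 5), [3, 2, 1, 0, 4, 3, 2, 1, 5, 4, 3, 2]),
   ((3, 6), [3, 2, 1, 0, 4, 3, 2, 1, 5, 4, 3, 2, 6, 5]),
   ((3, 8), [3, 2, 1, 0, 7, 3, 2, 1, 8, 7, 3, 2]),
   ((4, 0), [1, 0, 2, 1, 3, 2, 4, 3]),
   ((4, 1), [1, 0, 2, 1, 3, 2, 1, 0, 4, 3]),
   ((4, 2), [1, 0, 2, 1, 3, 2, 1, 0, 4, 3, 2, 1]),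
   ((4, 6), [3, 2, 1, 0, 4, 3, 2, 1, 5, 4, 3, 2, 6, 5, 4, 3]),
   ((4, 7), [3, 2, 1, 0, 7, 3, 2, 1, 8, 7, 3, 2, 4, 3, 7, 8]),
   ((4, 8), [3, 2, 1, 0, 7, 3, 2, 1, 8, 7, 3, 2, 4, 3]),
   ((5, 0), [1, 0, 2, 1, 3, 2, 4, 3, 5, 4]),
   ((5, 1), [1, 0, 2, 1, 3, 2, 1, 0, 4, 3, 5, 4]),
   ((5, 2), [1, 0, 2, 1, 3, 2, 1, 0, 4, 3, 2, 1, 5, 4]),
   ((5, 3), [1, 0, 2, 1, 3, 2, 1, 0, 4, 3, 2, 1, 5, 4, 3, 2]),
   ((5, 7), [1, 0, 2, 1, 3, 2, 1, 0, 4, 3, 2, 1, 5, 4, 3, 2, 7, 3]),
   ((5, 8), [3, 2, 1, 0, 7, 3, 2, 1, 8, 7, 3, 2, 4, 3, 5, 4]),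
   ((6, 0), [1, 0, 2, 1, 3, 2, 4, 3, 5, 4, 6, 5]),
   ((6, 1), [1, 0, 2, 1, 3, 2, 1, 0, 4, 3, 5, 4, 6, 5]),
   ((6, 2), [1, 0, 2, 1, 3, 2, 1, 0, 4, 3, 2, 1, 5, 4, 6, 5]),
   ((6, 3), [1, 0, 2, 1, 3, 2, 1, 0, 4, 3, 2, 1, 5, 4, 3, 2, 6, 5]),
   ((6, 4), [1, 0, 2, 1, 3, 2, 1, 0, 4, 3, 2, 1, 5, 4, 3, 2, 6, 5, 4, 3]),
   ((6, 7), [1, 0, 2, 1, 3, 2, 1, 0, 4, 3, 2, 1, 5, 4, 3, 2, 6, 5, 7, 3]),
   ((6, 8), [3, 2, 1, 0, 7, 3, 2, 1, 8, 7, 3, 2, 4, 3, 5, 4, 6, 5]),
   ((7, 0), [1, 0, 2, 1, 3, 2, 7, 3]),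
   ((7, 1), [1, 0, 2, 1, 3, 2, 1, 0, 7, 3]),
   ((7, 2), [1, 0, 2, 1, 3, 2, 1, 0, 7, 3, 2, 1]),
   ((7, 4), [3, 2, 1, 0, 4, 3, 2, 1, 5, 4, 3, 2, 7, 3, 4, 5]),
   ((7, 5), [3, 2, 1, 0, 4, 3, 2, 1, 5, 4, 3, 2, 7, 3]),
   ((7, 6), [3, 2, 1, 0, 4, 3, 2, 1, 5, 4, 3, 2, 6, 5, 7, 3]),
   ((8, 0), [1, 0, 2, 1, 3, 2, 7, 3, 8, 7]),
   ((8, 1), [1, 0, 2, 1, 3, 2, 1, 0, 7, 3, 8, 7]),
   ((8, 2), [1, 0, 2, 1, 3, 2, 1, 0, 7, 3, 2, 1, 8, 7]),
   ((8, 3), [1, 0, 2, 1, 3, 2, 1, 0, 7, 3, 2, 1, 8, 7, 3, 2]),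
   ((8, 4), [1, 0, 2, 1, 3, 2, 1, 0, 7, 3, 2, 1, 8, 7, 3, 2, 4, 3]),
   ((8, 5), [3, 2, 1, 0, 4, 3, 2, 1, 5, 4, 3, 2, 7, 3, 8, 7]),
   ((8, 6), [3, 2, 1, 0, 4, 3, 2, 1, 5, 4, 3, 2, 6, 5, 7, 3, 8, 7])]

/-- The pair has a checked conjugating word. -/
noncomputable def sevenPair (p : ℕ × ℕ) : Bool :=
  pairConjs.any fun q => Nat.beq q.1.1 p.1 && Nat.beq q.1.2 p.2 &&
    same (moved q.2 0) [p.1] && same (moved q.2 2) [p.2]

theorem sevenPair_spec {p : ℕ × ℕ} (h : sevenPair p = true) :
    ∃ v, wval gen (moved v 0) = gen p.1 ∧ wval gen (moved v 2) = gen p.2 := by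
  simp only [sevenPair, List.any_eq_true, Bool.and_eq_true] at h
  obtain ⟨q, -, ⟨-, h1⟩, h2⟩ := h
  exact ⟨q.2, by simpa [wval] using eq_of_same h1, by simpa [wval] using eq_of_same h2⟩

theorem label_cases (x y : ℕ) (hx : x < 9) (hy : y < 9) :
    label x y = 1 ∧ x = y ∨ label x y = 3 ∧ ((x, y) ∈ tree ∨ (y, x) ∈ tree) ∨
      label x y = 2 ∧ (x, y) ∈ pairs := by
  have h : ((List.range 9).all fun x => (List.range 9).all fun y =>
      (Nat.beq (label x y) 1 && Nat.beq x y) ||
        (Nat.beq (label x y) 3 && (tree.contains (x, y) || tree.contains (y, x))) ||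
          (Nat.beq (label x y) 2 && pairs.contains (x, y))) = true := by decide +kernel
  have h1 := List.all_eq_true.mp (List.all_eq_true.mp h x (List.mem_range.mpr hx)) y (List.mem_range.mpr hy)
  simpa only [Bool.and_eq_true, Bool.or_eq_true, Nat.beq_eq, List.contains_eq_mem, decide_eq_true_eq,
    or_assoc] using h1

/-- Moves reversing the first Coxeter word. -/
def turns1 : List (Option ℕ) := [none, none, none, none, none, some 0, none, some 0, none, some 0, none, some 0, none, some 0, none, some 1, some 0, some 2, some 1, some 0, none, some 2, some 1, some 0, none, some 2, some 1, some 0, none, some 3, some 2, some 1, some 0, none, some 3, some 2, some 1, some 0, none, some 4, some 3, some 2, some 1, some 0, none]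

/-- Moves reversing the second Coxeter word. -/
def turns2 : List (Option ℕ) := [none, none, none, none, none, some 0, none, some 0, none, some 0, none, some 0, none, some 0, none, some 1, some 0, none, some 1, some 0, none, some 1, some 0, none, some 1, some 0, none, some 2, some 1, some 0, some 3, some 2, some 1, some 0, none, some 3, some 2, some 1, some 0, none, some 4, some 3, some 2, some 1, some 0, none]

section

variable {Γ G : Type*} [Group Γ] [Group G] {σ : Γ →* G}

/-- Lifts of a conjugate pair have the same commutator constant. -/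
theorem comm_of_conj (hc : σ.ker ≤ Subgroup.center Γ) {A B U J K k : Γ} (hk : ∀ x, Commute k x)
    (h : A * B = k * (B * A)) (hJ : σ J = σ (U * A * U⁻¹)) (hK : σ K = σ (U * B * U⁻¹)) :
    J * K = k * (K * J) := by
  obtain ⟨c, hc1, rfl⟩ : ∃ c, σ c = 1 ∧ J = c * (U * A * U⁻¹) :=
    ⟨J * (U * A * U⁻¹)⁻¹, by rw [map_mul, map_inv, hJ, mul_inv_cancel], by rw [inv_mul_cancel_right]⟩
  obtain ⟨d, hd1, rfl⟩ : ∃ d, σ d = 1 ∧ K = d * (U * B * U⁻¹) :=
    ⟨K * (U * B * U⁻¹)⁻¹, by rw [map_mul, map_inv, hK, mul_inv_cancel], by rw [inv_mul_cancel_right]⟩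
  have zc := comm_of_ker hc hc1
  have zd := comm_of_ker hc hd1
  have e : U * A * U⁻¹ * (U * B * U⁻¹) = k * (U * B * U⁻¹ * (U * A * U⁻¹)) := by
    calc U * A * U⁻¹ * (U * B * U⁻¹) = U * (A * B) * U⁻¹ := by group
      _ = U * k * ((B * A) * U⁻¹) := by rw [h]; group
      _ = k * U * ((B * A) * U⁻¹) := by rw [(hk U).eq]
      _ = _ := by group
  generalize U * A * U⁻¹ = P, U * B * U⁻¹ = Q at e
  calc c * P * (d * Q) = c * (P * d) * Q := by simp only [mul_assoc]
    _ = c * d * (P * Q) := by rw [← (zd P).eq]; simp only [mul_assoc]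
    _ = c * d * k * (Q * P) := by rw [e]; simp only [mul_assoc]
    _ = k * (d * c) * (Q * P) := by rw [(hk (d * c)).eq, (zc d).eq]
    _ = k * (d * (c * Q) * P) := by simp only [mul_assoc]
    _ = k * (d * Q * (c * P)) := by rw [(zc Q).eq]; simp only [mul_assoc]

end

section

variable {Γ : Type} [Group Γ] (σ : Γ →* Fi22)

theorem map_word {X : ℕ → Γ} (hX : ∀ g, σ (X g) = gen g) (w : List ℕ) :
    σ (wval X w) = wval gen w := by
  rw [Fi23Cover.map_wval]
  simp only [hX]

theorem gen_sq (g : ℕ) : gen g * gen g = 1 := genFun_mul_self gens_all gens_ok g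

theorem eval_moved (v : List ℕ) (x : ℕ) :
    wval gen (moved v x) = wval gen v * gen x * (wval gen v)⁻¹ := by
  rw [moved, wval_append, wval_append, wval_reverse gen_sq]
  simp [wval, mul_assoc]

theorem exists_lifts (hσ : Function.Surjective σ) (hc : σ.ker ≤ Subgroup.center Γ) :
    ∃ s : ℕ → Γ, (∀ g, σ (s g) = gen g) ∧ (∀ g, s g * s g = 1) ∧ (∀ b ∈ coxWords, wval s b = 1) ∧
      wval s w9 = 1 ∧ wval s v9 * wval s v9 = 1 := by
  have hbraidG : ∀ p ∈ tree, gen p.1 * gen p.2 * gen p.1 = gen p.2 * gen p.1 * gen p.2 := by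
    have hall : (tree.all fun p => same [p.1, p.2, p.1] [p.2, p.1, p.2]) = true := by decide +kernel
    intro p hp
    have h := eq_of_same (List.all_eq_true.mp hall p hp)
    simpa [wval, mul_assoc] using h
  have hcommG : ∀ p ∈ pairs, gen p.1 * gen p.2 = gen p.2 * gen p.1 := by
    have hall : (pairs.all fun p => same [p.2, p.1] [p.1, p.2]) = true := by decide +kernel
    intro p hp
    have h := eq_of_same (List.all_eq_true.mp hall p hp)
    simpa [wval] using h
  have next' : ∀ (a b : ℕ) (A : Γ), σ A = gen a → (a, b) ∈ tree →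
      ∃ B, σ B = gen b ∧ A * B * A = B * A * B := fun a b A hA hp =>
    exists_braid hσ hc A (by rw [hA]; exact hbraidG (a, b) hp)
  obtain ⟨X0, h0⟩ := hσ (gen 0)
  obtain ⟨X1, h1, b1⟩ := next' 0 1 X0 h0 (by decide)
  obtain ⟨X2, h2, b2⟩ := next' 1 2 X1 h1 (by decide)
  obtain ⟨X3, h3, b3⟩ := next' 2 3 X2 h2 (by decide)
  obtain ⟨X4, h4, b4⟩ := next' 3 4 X3 h3 (by decide)
  obtain ⟨X7, h7, b7⟩ := next' 3 7 X3 h3 (by decide)
  obtain ⟨X5, h5, b5⟩ := next' 4 5 X4 h4 (by decide)
  obtain ⟨X6, h6, b6⟩ := next' 5 6 X5 h5 (by decide)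
  obtain ⟨X8, h8, b8⟩ := next' 7 8 X7 h7 (by decide)
  let X : ℕ → Γ := fun i => [X0, X1, X2, X3, X4, X5, X6, X7, X8].getD i 1
  have hlt9 : ∀ i, i < 9 → σ (X i) = gen i := by
    intro i hi
    interval_cases i <;> assumption
  have hX : ∀ i, σ (X i) = gen i := by
    intro i
    by_cases hi : i < 9
    · exact hlt9 i hi
    · have hlen : ¬ i < gens.length := hi
      rw [show X i = 1 from List.getD_eq_default _ _ (by simpa using hi), map_one,
        gen, genFun, dif_neg hlen]
  have hbraid : ∀ p ∈ tree, X p.1 * X p.2 * X p.1 = X p.2 * X p.1 * X p.2 := by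
    intro p hp
    simp only [tree, List.mem_cons, List.not_mem_nil, or_false] at hp
    rcases hp with rfl | rfl | rfl | rfl | rfl | rfl | rfl | rfl <;> assumption
  have hbraid' : ∀ a b, (a, b) ∈ tree ∨ (b, a) ∈ tree → X a * X b * X a = X b * X a * X b :=
    fun a b h => h.elim (fun h => hbraid (a, b) h) (fun h => (hbraid (b, a) h).symm)
  set z := X0 * X0 with hz
  have hzσ : σ z = 1 := by rw [hz, map_mul, h0]; exact gen_sq 0
  have hzc : ∀ x, Commute z x := fun x => comm_of_ker hc hzσ x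
  have hsqX : ∀ a b, (a, b) ∈ tree → X b * X b = X a * X a := fun a b hp =>
    sq_eq_of_braid hc (hbraid (a, b) hp) (by rw [hX a]; exact gen_sq a)
  have hz' : ∀ i, i < 9 → X i * X i = z := by
    have e1 := hsqX 0 1 (by decide)
    have e2 := (hsqX 1 2 (by decide)).trans e1
    have e3 := (hsqX 2 3 (by decide)).trans e2
    have e4 := (hsqX 3 4 (by decide)).trans e3
    have e7 := (hsqX 3 7 (by decide)).trans e3
    have e5 := (hsqX 4 5 (by decide)).trans e4
    have e6 := (hsqX 5 6 (by decide)).trans e5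
    have e8 := (hsqX 7 8 (by decide)).trans e7
    intro i hi
    interval_cases i
    · rfl
    all_goals assumption
  -- the commutator constant vanishes
  set k := X 0 * X 2 * (X 2 * X 0)⁻¹ with hkdef
  have hk : σ k = 1 := by
    rw [hkdef, map_mul, map_inv, map_mul, map_mul, hX 0, hX 2, hcommG (0, 2) (by decide), mul_inv_cancel]
  have hkc : ∀ x, Commute k x := fun x => comm_of_ker hc hk x
  have k0 : X 0 * X 2 = k * (X 2 * X 0) := by rw [hkdef, inv_mul_cancel_right]
  have hk2 : k ^ 2 = 1 := by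
    have h1 : X 0 * (X 0 * X 2) = k ^ 2 * (X 2 * (X 0 * X 0)) := by
      rw [k0, ← mul_assoc (X 0) k, ← (hkc (X 0)).eq, mul_assoc k, ← mul_assoc (X 0) (X 2), k0, pow_two]
      simp only [mul_assoc]
    rw [← mul_assoc, hz' 0 (by omega), ← (hzc (X 2)).eq] at h1
    exact mul_eq_right.mp h1.symm
  set J := wval X (moved (conjs.getD 0 []) 0) with hJdef
  let R : ℕ → Γ := fun i => wval X (seven i)
  have hJR : ∀ i ∈ List.range 7, J * R i = k * (R i * J) := by
    have hall : ((List.range 7).all fun i =>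
        same (moved (conjs.getD i []) 0) (moved (conjs.getD 0 []) 0)) = true := by decide +kernel
    intro i hi
    refine comm_of_conj hc (U := wval X (conjs.getD i [])) hkc k0 ?_ ?_
    · rw [hJdef, map_word σ hX, ← eq_of_same (List.all_eq_true.mp hall i hi), eval_moved]
      simp only [map_mul, map_inv, map_word σ hX, hX]
    · rw [show σ (R i) = _ from map_word σ hX (seven i), seven, eval_moved]
      simp only [map_mul, map_inv, map_word σ hX, hX]
  have hk7 : k ^ 7 = 1 := by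
    have h := comm_word hkc (List.range 7) hJR
    have hprod : σ (wval R (List.range 7)) = 1 := by
      rw [Fi23Cover.map_wval]
      have e : (fun i => σ (R i)) = fun i => wval gen (seven i) := funext fun i => map_word σ hX _
      rw [e, show wval (fun i => wval gen (seven i)) (List.range 7) =
        wval gen ((List.range 7).map seven).flatten by
          induction (List.range 7) with
          | nil => rfl
          | cons i l ih => rw [List.map_cons, List.flatten_cons, wval_append, ← ih]; rfl]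
      exact eq_of_same (v := []) (by decide +kernel)
    rw [← (comm_of_ker hc hprod J).eq, List.length_range] at h
    exact mul_eq_right.mp h.symm
  have hk1 : k = 1 := by
    have h : k ^ (2 * 3 + 1) = 1 := hk7
    rwa [pow_succ, pow_mul, hk2, one_pow, one_mul] at h
  have hcomm : ∀ p ∈ pairs, Commute (X p.1) (X p.2) := by
    have hall : (pairs.all fun p => sevenPair p) = true := by decide +kernel
    intro p hp
    obtain ⟨v, h1, h2⟩ := sevenPair_spec (List.all_eq_true.mp hall p hp)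
    have h := comm_of_conj hc (J := X p.1) (K := X p.2) (U := wval X v) hkc k0
      (by simp only [map_mul, map_inv, map_word σ hX, hX]; rw [← eval_moved, h1])
      (by simp only [map_mul, map_inv, map_word σ hX, hX]; rw [← eval_moved, h2])
    rw [hk1, one_mul] at h
    exact h
  -- squares of the lifted words of degree nine
  have hconjsq : ∀ (u : List ℕ) (ms : List (Option ℕ)), movesOK pairs ms u = true →
      ms.foldl (fun v m => move m v) u = u.reverse → (∀ g ∈ u, g < 9) →
      σ (wval X (List.replicate 9 u).flatten) = 1 →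
      wval X (List.replicate 9 u).flatten * wval X (List.replicate 9 u).flatten = z ^ (9 * u.length) := by
    intro u ms hms hfold hu hσu
    have hconj := isConj_moves (X := X) hcomm ms u hms
    rw [hfold] at hconj
    obtain ⟨c, hcu⟩ := isConj_iff.mp hconj
    have hzu := wval_mul_reverse hzc (List.replicate 9 u).flatten (fun g hg => hz' g (hu g (by
      simp only [List.mem_flatten, List.mem_replicate] at hg
      obtain ⟨l, ⟨-, rfl⟩, hg⟩ := hg
      exact hg)))
    have hrev : (List.replicate 9 u).flatten.reverse = (List.replicate 9 u.reverse).flatten := by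
      simp
    rw [hrev, wval_replicate (u := u.reverse), ← hcu, conj_pow, ← wval_replicate,
      ← ((comm_of_ker hc hσu c).eq), mul_inv_cancel_right] at hzu
    rw [hzu]
    congr 1
    simp
    ring
  have hσw : σ (wval X w9) = 1 := by
    rw [map_word σ hX]; exact eq_of_same (v := []) (by decide +kernel)
  have hσv : σ (wval X v9) = 1 := by
    rw [map_word σ hX]; exact eq_of_same (v := []) (by decide +kernel)
  have hW2 : wval X w9 * wval X w9 = z ^ 63 :=
    hconjsq [0, 1, 2, 3, 4, 5, 7] turns1 (by decide +kernel) (by decide +kernel) (by decide +kernel) hσw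
  have hV2 : wval X v9 * wval X v9 = z ^ 63 :=
    hconjsq [1, 2, 3, 4, 5, 6, 7] turns2 (by decide +kernel) (by decide +kernel) (by decide +kernel) hσv
  set W := wval X w9 with hW
  have hWc : ∀ x, Commute W x := fun x => comm_of_ker hc hσw x
  -- rescale
  set ζ := W⁻¹ * z ^ 31 with hζdef
  have hζσ : σ ζ = 1 := by
    rw [hζdef, map_mul, map_inv, hσw, map_pow, hzσ, one_pow, inv_one, one_mul]
  have hζ : ∀ x, Commute ζ x := fun x => comm_of_ker hc hζσ x
  have hζ2 : ζ ^ 2 * z = 1 := by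
    rw [hζdef, ((hWc (z ^ 31)).inv_left).mul_pow, inv_pow, pow_two W, hW2, ← pow_mul, mul_assoc,
      ← pow_succ, inv_mul_cancel]
  have hζ63 : ζ ^ 63 * W = 1 := by
    calc ζ ^ 63 * W = (ζ ^ 2) ^ 31 * (ζ * W) := by
          rw [show 63 = 2 * 31 + 1 from rfl, pow_succ, pow_mul, mul_assoc]
      _ = (ζ ^ 2) ^ 31 * z ^ 31 := by
          rw [hζdef, mul_assoc, ← (hWc (z ^ 31)).eq, inv_mul_cancel_left]
      _ = (ζ ^ 2 * z) ^ 31 := by rw [((hζ z).pow_left 2).mul_pow]
      _ = 1 := by rw [hζ2, one_pow]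
  let s : ℕ → Γ := fun i => if i < 9 then ζ * X i else 1
  have hs : ∀ i, i < 9 → s i = ζ * X i := fun i hi => if_pos hi
  have hsc : ∀ w : List ℕ, (∀ g ∈ w, g < 9) → wval s w = ζ ^ w.length * wval X w := by
    intro w hw
    rw [← wval_scale hζ]
    induction w with
    | nil => rfl
    | cons a l ih =>
      rw [wval, wval, ih fun g hg => hw g (List.mem_cons_of_mem _ hg), hs a (hw a List.mem_cons_self)]
  have hsq : ∀ g, s g * s g = 1 := by
    intro g
    by_cases hg : g < 9
    · rw [hs g hg, mul_assoc, ← mul_assoc (X g), ← (hζ (X g)).eq, mul_assoc ζ, ← mul_assoc ζ ζ, hz' g hg,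
        ← pow_two, hζ2]
    · simp only [s, if_neg hg, mul_one]
  refine ⟨s, fun g => ?_, hsq, fun b hb => ?_, ?_, ?_⟩
  · by_cases hg : g < 9
    · rw [hs g hg, map_mul, hζσ, one_mul, hX g]
    · have hlen : ¬ g < gens.length := hg
      simp only [s, if_neg hg, map_one, gen, genFun, dif_neg hlen]
  · simp only [coxWords, List.mem_flatMap, List.mem_map, List.mem_range] at hb
    obtain ⟨x, hx, y, hy, rfl⟩ := hb
    rw [wval_replicate]
    rcases label_cases x y hx hy with ⟨hl, rfl⟩ | ⟨hl, hp⟩ | ⟨hl, hp⟩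
    · rw [hl, pow_one]; simp only [wval, one_mul]; exact hsq x
    · rw [hl]
      have hb' : s x * s y * s x = s y * s x * s y := by
        have h1 := hsc [x, y, x] (by simp [hx, hy])
        have h2 := hsc [y, x, y] (by simp [hx, hy])
        simp only [wval, one_mul, List.length_cons, List.length_nil] at h1 h2
        rw [h1, h2, hbraid' x y hp]
      simp only [wval, one_mul]
      calc (s y * s x) ^ 3 = (s y * s x * s y) * (s x * s y * s x) := by
            rw [show 3 = 1 + 1 + 1 from rfl, pow_succ, pow_succ, pow_one]; simp only [mul_assoc]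
        _ = (s y * s x * s y) * (s y * s x * s y) := by rw [hb']
        _ = 1 := by
            calc _ = s y * s x * (s y * s y) * s x * s y := by group
              _ = s y * (s x * s x) * s y := by rw [hsq y]; group
              _ = 1 := by rw [hsq x, mul_one, hsq y]
    · rw [hl, pow_two]
      simp only [wval, one_mul]
      have hxy : Commute (s x) (s y) := by
        rw [hs x hx, hs y hy]
        exact (hζ (ζ * X y)).mul_left ((hζ _).symm.mul_right (hcomm _ hp))
      calc s y * s x * (s y * s x) = s y * (s x * s y) * s x := by group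
        _ = s y * (s y * s x) * s x := by rw [hxy.eq]
        _ = 1 := by rw [← mul_assoc (s y), hsq, one_mul, hsq]
  · rw [hsc w9 (by decide +kernel), show w9.length = 63 by decide +kernel, ← hW, hζ63]
  · rw [hsc v9 (by decide +kernel), show v9.length = 63 by decide +kernel]
    calc ζ ^ 63 * wval X v9 * (ζ ^ 63 * wval X v9) = ζ ^ 63 * (wval X v9 * ζ ^ 63) * wval X v9 := by group
      _ = ζ ^ 63 * ζ ^ 63 * (wval X v9 * wval X v9) := by
          rw [← ((hζ (wval X v9)).pow_left 63).eq]; simp only [mul_assoc]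
      _ = (ζ ^ 2 * z) ^ 63 := by rw [hV2, ((hζ z).pow_left 2).mul_pow, ← pow_add, ← pow_mul]
      _ = 1 := by rw [hζ2, one_pow]

end

section


variable {Γ : Type} [Group Γ] [Finite Γ] (σ : Γ →* Fi22) {s : ℕ → Γ} (hs : ∀ g, σ (s g) = gen g)
  (hsq : ∀ g, s g * s g = 1) (hcox : ∀ b ∈ coxWords, wval s b = 1)
include hs hsq hcox

omit hsq hcox [Finite Γ] in
theorem map_wordSub (K : List (List ℕ)) : (wordSub s K).map σ = wordSub gen K := by
  rw [wordSub, wordSub, MonoidHom.map_closure]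
  congr 1
  ext x
  constructor
  · rintro ⟨_, ⟨k, hk, rfl⟩, rfl⟩; exact ⟨k, hk, map_word σ hs k⟩
  · rintro ⟨k, hk, rfl⟩; exact ⟨_, ⟨k, hk, rfl⟩, map_word σ hs k⟩

theorem spider_cube (hc : σ.ker ≤ Subgroup.center Γ) :
    σ (wval s spider) = 1 ∧ wval s spider ^ 3 = 1 := by
  set T := wval s spider with hT
  have hσT : σ T = 1 := by
    rw [hT, map_word σ hs]
    exact eq_of_same (v := []) (by decide +kernel)
  refine ⟨hσT, ?_⟩
  have hcen : ∀ x : Γ, Commute T x := fun x => comm_of_ker hc hσT x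
  have hbase : ∀ b ∈ coxWords ++ centralWords, wval s b = 1 := by
    intro b hb
    rcases List.mem_append.mp hb with hb | hb
    · exact hcox b hb
    · obtain ⟨c, -, rfl⟩ := List.mem_map.mp hb
      rw [wval_append, wval_append, wval_append, wval_reverse hsq, ← hT]
      simp only [wval, one_mul]
      calc s c * (T⁻¹ * (s c * T)) = s c * (T⁻¹ * (T * s c)) := by rw [(hcen (s c)).eq]
        _ = 1 := by rw [inv_mul_cancel_left, hsq]
  have b4 : OrderLE (wordSub s [[2], [3], [4], [5]]) (FiT120.cert.N * 1) :=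
    Fi23Mult.step hsq hcox FiT120.cert_edgesOK FiT120.cert_nodesOK (π := [2, 3, 4, 5]) rfl (K := [])
      (by decide +kernel) (by decide +kernel) (orderLE_nil s)
  have b5 : OrderLE (wordSub s [[2], [3], [4], [5], [7]]) (FiT16.cert.N * (FiT120.cert.N * 1)) :=
    Fi23Mult.step hsq hcox FiT16.cert_edgesOK FiT16.cert_nodesOK (π := [2, 3, 4, 5, 7]) rfl
      (by decide +kernel) (by decide +kernel) b4
  have b6 : OrderLE (wordSub s [[1], [2], [3], [4], [5], [7]])
      (FiT27.cert.N * (FiT16.cert.N * (FiT120.cert.N * 1))) :=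
    Fi23Mult.step hsq hcox FiT27.cert_edgesOK FiT27.cert_nodesOK (π := [1, 2, 3, 4, 5, 7]) rfl
      (by decide +kernel) (by decide +kernel) b5
  have h3 : wval s (List.replicate 3 spider).flatten ∈ wordSub s [[1], [2], [3], [4], [5], [7]] :=
    Fi23Mult.derive hsq hbase Fi23MultY222.deriv_factsOK Fi23MultY222.deriv_loopsOK
      (π := [1, 2, 3, 4, 5, 7, 8]) (by decide +kernel) (by decide +kernel) (by decide +kernel)
  rw [wval_replicate, ← hT] at h3
  -- the order of the group bounds the parabolic subgroup from below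
  haveI := FiOrder.card_le.1
  have hK6 : 51840 ≤ Nat.card (wordSub gen [[1], [2], [3], [4], [5], [7]]) := by
    have h0 : OrderLE (wordSub gen [[1], [2], [3], [4], [5], [7]])
        (Nat.card (wordSub gen [[1], [2], [3], [4], [5], [7]])) := ⟨inferInstance, le_rfl⟩
    have h1 := step_le gens_all gens_ok (π := [1, 2, 3, 4, 5, 6, 7]) (ex := []) (by simp) FiT28.cert_edgesOK
      FiT28.cert_nodesOK rfl FiOrder.bound_FiT28_rels 6 (Kprev := [[1], [2], [3], [4], [5], [7]])
      (by rw [FiOrder.bound_FiT28_sub]; simp) h0 FiOrder.bound_FiT28_more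
    have h2 := step_le gens_all gens_ok (π := [1, 2, 3, 4, 5, 6, 7, 8]) (ex := []) (by simp)
      FiT3159.cert_edgesOK FiT3159.cert_nodesOK rfl FiOrder.bound_FiT3159_rels 7
      (Kprev := [[1], [2], [3], [4], [5], [6], [7]])
      (by rw [FiOrder.bound_FiT3159_sub]; simp) h1 FiOrder.bound_FiT3159_more
    have h3 := step_le gens_all gens_ok (π := [0, 1, 2, 3, 4, 5, 6, 7, 8]) (ex := []) (by simp)
      FiT14080.cert_edgesOK FiT14080.cert_nodesOK rfl FiOrder.bound_FiT14080_rels 8
      (Kprev := [[1], [2], [3], [4], [5], [6], [7], [8]])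
      (by rw [FiOrder.bound_FiT14080_sub]; simp) h2 FiOrder.bound_FiT14080_more
    have hN : FiT14080.cert.N = 14080 ∧ FiT3159.cert.N = 3159 ∧ FiT28.cert.N = 28 := by decide +kernel
    have h4 := h3.2
    rw [show ([0, 1, 2, 3, 4, 5, 6, 7, 8].map fun g => [g]) =
      [[0], [1], [2], [3], [4], [5], [6], [7], [8]] from rfl, FiOrder.wordSub_top, Subgroup.card_top,
      FiOrder.card_fi22, hN.1, hN.2.1, hN.2.2] at h4
    omega
  have o3 := Fi23Mult.orderOf_le_of_image σ b6 (map_wordSub σ hs _) hK6 h3 (by rw [map_pow, hσT, one_pow])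
  rw [show FiT27.cert.N * (FiT16.cert.N * (FiT120.cert.N * 1)) = 51840 by decide +kernel] at o3
  rw [← orderOf_eq_one_iff]
  have := orderOf_pos (T ^ 3)
  omega

theorem ker_le (hsurj : Function.Surjective σ) (hc : σ.ker ≤ Subgroup.center Γ) (hperf : commutator Γ = ⊤)
    (h9 : wval s w9 = 1) : σ.ker ≤ Subgroup.closure {wval s v9, wval s spider} := by
  set N := Subgroup.closure {wval s v9, wval s spider} with hN
  have hσv : σ (wval s v9) = 1 := by
    rw [map_word σ hs]; exact eq_of_same (v := []) (by decide +kernel)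
  have hNker : N ≤ σ.ker := by
    rw [hN, Subgroup.closure_le, Set.insert_subset_iff, Set.singleton_subset_iff]
    exact ⟨hσv, (spider_cube σ hs hsq hcox hc).1⟩
  have hNz : N ≤ Subgroup.center Γ := hNker.trans hc
  haveI : N.Normal := ⟨fun a ha x => by
    rw [Subgroup.mem_center_iff.mp (hNz ha) x, mul_inv_cancel_right]; exact ha⟩
  let q : ℕ → Γ ⧸ N := fun g => QuotientGroup.mk' N (s g)
  have hq : ∀ g, q g * q g = 1 := fun g => by rw [← map_mul, hsq, map_one]
  have hbase : ∀ b ∈ coxWords ++ [w9, v9, spider], wval q b = 1 := by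
    intro b hb
    rw [show wval q b = QuotientGroup.mk' N (wval s b) from (Fi23Cover.map_wval _ _ _).symm]
    simp only [List.mem_append, List.mem_cons, List.not_mem_nil, or_false] at hb
    rcases hb with hb | rfl | rfl | rfl
    · rw [hcox b hb, map_one]
    · rw [h9, map_one]
    · exact (QuotientGroup.eq_one_iff _).mpr (Subgroup.subset_closure (Set.mem_insert _ _))
    · exact (QuotientGroup.eq_one_iff _).mpr (Subgroup.subset_closure (Set.mem_insert_of_mem _ rfl))
  have hrel : ∀ r ∈ coxRelators Fi22.edges ∪ {r | r ∈ Fi22.extra},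
      FreeGroup.lift (fun x => q (gens.idxOf x)) r = 1 := by
    intro r hr
    rw [lift_eq_wval _ (fun x => hq _) gens_all q (fun _ => rfl)]
    refine Fi23Mult.wval_fromBase hq hbase ?_
    have hall : (((relList gens Fi22.edges Fi22.extra).map (letters gens)).all fun w =>
        Fi23Mult.fromBase (coxWords ++ [w9, v9, spider]) w) = true := by decide +kernel
    exact List.all_eq_true.mp hall _ (List.mem_map.mpr ⟨r, mem_relList gens_all hr, rfl⟩)
  let φ : Fi22 →* Γ ⧸ N := PresentedGroup.toGroup hrel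
  let τ : Γ ⧸ N →* Fi22 := QuotientGroup.lift N σ hNker
  have hid : τ.comp φ = MonoidHom.id Fi22 := by
    refine PresentedGroup.ext fun x => ?_
    rw [MonoidHom.comp_apply, PresentedGroup.toGroup.of]
    show σ (s (gens.idxOf x)) = _
    rw [hs]
    exact genFun_idxOf gens_all x
  have hsec : ∀ y, τ (φ y) = y := fun y => DFunLike.congr_fun hid y
  have hz : ∀ a : Γ ⧸ N, τ a = 1 → ∀ x, Commute a x := by
    intro a ha x
    obtain ⟨a, rfl⟩ := QuotientGroup.mk_surjective a
    obtain ⟨x, rfl⟩ := QuotientGroup.mk_surjective x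
    exact (congrArg (QuotientGroup.mk' N) ((comm_of_ker hc (show σ a = 1 from ha) x).eq) :)
  have htop : φ.range = ⊤ := by
    have hperfQ : commutator (Γ ⧸ N) = ⊤ := by
      rw [commutator_def, ← Subgroup.map_top_of_surjective (QuotientGroup.mk' N)
        (QuotientGroup.mk'_surjective N), ← Subgroup.map_commutator, ← commutator_def, hperf]
    rw [eq_top_iff, ← hperfQ, commutator_def, Subgroup.commutator_le]
    intro a _ b _
    have hz' : ∀ a : Γ ⧸ N, ∀ x, Commute (a * (φ (τ a))⁻¹) x := fun a =>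
      hz _ (by rw [map_mul, map_inv, hsec, mul_inv_cancel])
    refine ⟨⁅τ a, τ b⁆, ?_⟩
    rw [map_commutatorElement]
    have ha : a = a * (φ (τ a))⁻¹ * φ (τ a) := by rw [inv_mul_cancel_right]
    have hb : b = b * (φ (τ b))⁻¹ * φ (τ b) := by rw [inv_mul_cancel_right]
    conv_rhs => rw [ha, hb]
    generalize hA : a * (φ (τ a))⁻¹ = p
    generalize hB : b * (φ (τ b))⁻¹ = r
    have hp : ∀ x, Commute p x := fun x => hA ▸ hz' a x
    have hr : ∀ x, Commute r x := fun x => hB ▸ hz' b x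
    generalize φ (τ a) = u
    generalize φ (τ b) = v
    simp only [commutatorElement_def, mul_inv_rev]
    symm
    calc p * u * (r * v) * (u⁻¹ * p⁻¹) * (v⁻¹ * r⁻¹)
        = p * (u * r) * (v * u⁻¹ * p⁻¹) * (v⁻¹ * r⁻¹) := by group
      _ = p * (r * (u * v * u⁻¹)) * p⁻¹ * (v⁻¹ * r⁻¹) := by rw [← (hr u).eq]; group
      _ = r * (u * v * u⁻¹) * (v⁻¹ * r⁻¹) := by rw [(hp _).eq, mul_inv_cancel_right]
      _ = r * (u * v * u⁻¹ * v⁻¹) * r⁻¹ := by group
      _ = u * v * u⁻¹ * v⁻¹ := by rw [(hr _).eq, mul_inv_cancel_right]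
  intro x hx
  obtain ⟨y, hy⟩ := MonoidHom.range_eq_top.mp htop (QuotientGroup.mk' N x)
  have : y = 1 := by
    rw [← hsec y, hy]; exact hx
  rw [this, map_one] at hy
  exact (QuotientGroup.eq_one_iff x).mp hy.symm

end

theorem perfect_fi22 : commutator Fi22 = ⊤ := by
  haveI := FiOrder.simple_fi22
  rcases (inferInstance : (commutator Fi22).Normal).eq_bot_or_eq_top with h | h
  · exfalso
    haveI := FiOrder.card_le.1
    letI : CommGroup Fi22 := { (inferInstance : Group Fi22) with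
      mul_comm := fun a b => by
        have hab : ⁅a, b⁆ = (1 : Fi22) := by
          rw [← Subgroup.mem_bot, ← h, commutator_def]
          exact Subgroup.commutator_mem_commutator (Subgroup.mem_top a) (Subgroup.mem_top b)
        exact commutatorElement_eq_one_iff_mul_comm.mp hab }
    have hp : (Nat.card Fi22).Prime := IsSimpleGroup.prime_card
    rw [FiOrder.card_fi22] at hp
    rcases hp.eq_one_or_self_of_dvd 2 (by norm_num) with h2 | h2 <;> omega
  · exact h

/-- The kernel of a stem extension is a quotient of the cyclic group of order six. -/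
theorem kernel_bound {Γ : Type} [Group Γ] [Finite Γ] (σ : Γ →* Fi22) (hσ : Cfsg.IsStemExtension σ) :
    ∃ π : Multiplicative (ZMod 6) →* σ.ker, Function.Surjective π := by
  obtain ⟨hsurj, hc, hcomm⟩ := hσ
  obtain ⟨s, hs, hsq, hcox, h9, hv⟩ := exists_lifts σ hsurj hc
  have hperf : commutator Γ = ⊤ := by
    rw [eq_top_iff]
    intro x _
    have hx : σ x ∈ (commutator Γ).map σ := by
      rw [commutator_def, Subgroup.map_commutator, Subgroup.map_top_of_surjective σ hsurj, ← commutator_def,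
        perfect_fi22]
      trivial
    obtain ⟨y, hy, hyx⟩ := hx
    have h1 : y⁻¹ * x ∈ σ.ker := by rw [MonoidHom.mem_ker, map_mul, map_inv, hyx, inv_mul_cancel]
    simpa using mul_mem hy (hcomm h1)
  obtain ⟨hσT, hT⟩ := spider_cube σ hs hsq hcox hc
  have hle := ker_le σ hs hsq hcox hsurj hc hperf h9
  set V := wval s v9
  set T := wval s spider
  have hσV : σ V = 1 := by
    rw [map_word σ hs]; exact eq_of_same (v := []) (by decide +kernel)
  have hVT : Commute V T := comm_of_ker hc hσV T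
  set u : σ.ker := ⟨V * T, by rw [MonoidHom.mem_ker, map_mul, hσV, hσT, one_mul]⟩ with hu
  have hv2 : V ^ 2 = 1 := by rw [pow_two]; exact hv
  have hu6 : (V * T) ^ 6 = 1 := by
    rw [hVT.mul_pow, show 6 = 2 * 3 from rfl, pow_mul, hv2, one_pow, one_mul, mul_comm 2 3, pow_mul, hT,
      one_pow]
  let f : ℤ →+ Additive σ.ker := zmultiplesHom _ (Additive.ofMul u)
  have hf : f ((6 : ℕ) : ℤ) = 0 := by
    show ((6 : ℕ) : ℤ) • Additive.ofMul u = 0
    rw [natCast_zsmul, ← ofMul_pow, ← ofMul_one]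
    congr 1
    exact Subtype.ext hu6
  let g : ZMod 6 →+ Additive σ.ker := ZMod.lift 6 ⟨f, hf⟩
  refine ⟨AddMonoidHom.toMultiplicativeLeft g, ?_⟩
  intro x
  have hsub : Subgroup.closure {V, T} ≤ Subgroup.zpowers (V * T) := by
    rw [Subgroup.closure_le, Set.insert_subset_iff, Set.singleton_subset_iff]
    constructor
    · refine ⟨((3 : ℕ) : ℤ), ?_⟩
      show (V * T) ^ ((3 : ℕ) : ℤ) = V
      rw [zpow_natCast, hVT.mul_pow, hT, mul_one, pow_succ, hv2, one_mul]
    · refine ⟨((4 : ℕ) : ℤ), ?_⟩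
      show (V * T) ^ ((4 : ℕ) : ℤ) = T
      rw [zpow_natCast, hVT.mul_pow, show V ^ 4 = (V ^ 2) ^ 2 from pow_mul V 2 2, hv2, one_pow, one_mul,
        pow_succ, hT, one_mul]
  obtain ⟨n, hn⟩ := hsub (hle x.2)
  refine ⟨Multiplicative.ofAdd (n : ZMod 6), ?_⟩
  show Additive.toMul (g (n : ZMod 6)) = x
  rw [ZMod.lift_coe]
  show Additive.toMul (n • Additive.ofMul u) = x
  rw [← ofMul_zpow, toMul_ofMul]
  exact Subtype.ext hn

end Cfsg.Agent.Presented.Fi22Mult
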