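import Cfsg.Agent.Lib.Presented.BitMatrix
import Cfsg.Agent.Lib.Presented.Fi22MultBound
import Cfsg.Agent.Lib.Presented.Data.Fi22TripleData

/-!
# A triple cover of the presented group Fi22

Nine involutory matrices of degree 27 over the field of four elements satisfy the relations up to
scalars, the spider word being a scalar of order three.  They are written over the field of two elements.
-/

set_option autoImplicit false
set_option maxRecDepth 20000

namespace Cfsg.Agent.Presented.Fi22Triple

open Cfsg.Spor Cfsg.Agent.Presented FiIndex BitMatrix Fi22Mult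
open scoped commutatorElement

/-- Matrices of degree 54 over the field of two elements. -/
abbrev Mat : Type := Matrix (Fin 54) (Fin 54) (ZMod 2)

/-- The rows of matrix number `g`. -/
def X (g : ℕ) : List ℕ := Fi22TripleData.mats.getD g (oneP 54)

theorem X_length (g : ℕ) : (X g).length = 54 := by
  by_cases hg : g < 9
  · interval_cases g <;> decide +kernel
  · have h : Fi22TripleData.mats.length = 9 := by decide +kernel
    rw [X, List.getD_eq_default _ _ (by omega)]
    simp [oneP]

theorem dec_X_sq (g : ℕ) : dec 54 (X g) * dec 54 (X g) = 1 := by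
  by_cases hg : g < 9
  · have hall : ((List.range 9).all fun g => eqP (mulP (X g) (X g)) (oneP 54)) = true := by decide +kernel
    rw [← dec_mulP (X_length g) (X_length g),
      eq_of_eqP (List.all_eq_true.mp hall g (List.mem_range.mpr hg)), dec_oneP]
  · have h : Fi22TripleData.mats.length = 9 := by decide +kernel
    rw [X, List.getD_eq_default _ _ (by omega), dec_oneP, one_mul]

/-- Generator number `g` of the cover. -/
def u (g : ℕ) : Matˣ := ⟨dec 54 (X g), dec 54 (X g), dec_X_sq g, dec_X_sq g⟩

theorem u_sq (g : ℕ) : u g * u g = 1 := Units.ext (dec_X_sq g)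

/-- A word evaluated on the packed matrices. -/
noncomputable def evalP (w : List ℕ) : List ℕ :=
  List.rec (motive := fun _ => List ℕ) (oneP 54) (fun g _ ih => mulP ih (X g)) w

theorem evalP_length : ∀ w, (evalP w).length = 54 := by
  intro w
  induction w with
  | nil => simp [evalP, oneP]
  | cons g w ih => exact (mulP_length _ _).trans ih

theorem val_wval : ∀ w, ((wval u w : Matˣ) : Mat) = dec 54 (evalP w) := by
  intro w
  induction w with
  | nil => exact (dec_oneP 54).symm
  | cons g w ih =>
    rw [wval, Units.val_mul, ih]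
    exact (dec_mulP (X_length g) (evalP_length w)).symm

theorem wval_eq_of_eqP {v w : List ℕ} (h : eqP (evalP v) (evalP w) = true) : wval u v = wval u w := by
  apply Units.ext
  rw [val_wval, val_wval, eq_of_eqP h]

/-- The cover: the group generated by the nine matrices. -/
def Cov : Subgroup Matˣ := Subgroup.closure (u '' {g | g < 9})

theorem u_mem (g : ℕ) : u g ∈ Cov := by
  by_cases hg : g < 9
  · exact Subgroup.subset_closure ⟨g, hg, rfl⟩
  · have h : u g = 1 := by
      apply Units.ext
      have hl : Fi22TripleData.mats.length = 9 := by decide +kernel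
      show dec 54 (X g) = 1
      rw [X, List.getD_eq_default _ _ (by omega), dec_oneP]
    rw [h]; exact one_mem _

/-- Generator number `g`, in the cover. -/
def uC (g : ℕ) : Cov := ⟨u g, u_mem g⟩

theorem uC_sq (g : ℕ) : uC g * uC g = 1 := Subtype.ext (u_sq g)

theorem coe_wval_uC (w : List ℕ) : ((wval uC w : Cov) : Matˣ) = wval u w :=
  Fi23Cover.map_wval Cov.subtype uC w

theorem closure_uC : Subgroup.closure (uC '' {g | g < 9}) = ⊤ := by
  apply Subgroup.map_injective Cov.subtype_injective
  rw [MonoidHom.map_closure, ← MonoidHom.range_eq_map, Subgroup.range_subtype, Set.image_image]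
  rfl

set_option maxHeartbeats 0 in
theorem spider_check : eqP (evalP spider) Fi22TripleData.scalar = true := by decide +kernel

theorem scalar_checks : (fitsP 54 Fi22TripleData.scalar &&
    eqP (mulP (mulP Fi22TripleData.scalar Fi22TripleData.scalar) Fi22TripleData.scalar) (oneP 54) &&
      ((List.range 9).all fun g => eqP (mulP Fi22TripleData.scalar (X g)) (mulP (X g) Fi22TripleData.scalar)) &&
        !(eqP Fi22TripleData.scalar (oneP 54))) = true := by
  decide +kernel

set_option maxHeartbeats 0 in
theorem cox_check : (coxWords.all fun b => eqP (evalP b) (evalP [])) = true := by decide +kernel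

set_option maxHeartbeats 0 in
theorem w9_check : eqP (evalP w9) (evalP []) = true := by decide +kernel

set_option maxHeartbeats 0 in
theorem v9_check : eqP (evalP v9) (evalP []) = true := by decide +kernel

theorem ne_of_rows {x : Matˣ} {A : List ℕ} (hA : fitsP 54 A = true) (hne : eqP A (oneP 54) = false)
    (hx : (x : Mat) = dec 54 A) : x ≠ 1 := by
  intro h
  rw [h, Units.val_one, ← dec_oneP] at hx
  have hone : fitsP 54 (oneP 54) = true := by decide +kernel
  have he := dec_inj hone hA hx
  rw [← he] at hne
  have htrue : eqP (oneP 54) (oneP 54) = true := by decide +kernel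
  rw [htrue] at hne
  exact Bool.noConfusion hne

/-- The scalar of order three. -/
def omega : Cov := wval uC spider

theorem eq_of_eqP' {v w : List ℕ} (h : eqP (evalP v) (evalP w) = true) : wval uC v = wval uC w :=
  Subtype.ext (by rw [coe_wval_uC, coe_wval_uC]; exact wval_eq_of_eqP h)

theorem coe_omega : (((omega : Cov) : Matˣ) : Mat) = dec 54 Fi22TripleData.scalar := by
  rw [omega, coe_wval_uC, val_wval, eq_of_eqP spider_check]

theorem scalar_length : Fi22TripleData.scalar.length = 54 := by decide +kernel

theorem omega_eq : wval uC spider = omega := rfl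

attribute [local irreducible] omega

theorem coe_u (g : ℕ) : ((u g : Matˣ) : Mat) = dec 54 (X g) := rfl

theorem coe_uC (g : ℕ) : ((uC g : Cov) : Matˣ) = u g := rfl

theorem omega_pow_three : omega ^ 3 = 1 := by
  have h := scalar_checks
  simp only [Bool.and_eq_true] at h
  apply Subtype.ext
  apply Units.ext
  rw [Subgroup.coe_pow, Units.val_pow_eq_pow_val, coe_omega, pow_succ, pow_two,
    ← dec_mulP scalar_length scalar_length,
    ← dec_mulP scalar_length ((mulP_length _ _).trans scalar_length), eq_of_eqP h.1.1.2, dec_oneP]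
  rfl

theorem omega_ne : omega ≠ 1 := by
  have h := scalar_checks
  simp only [Bool.and_eq_true, Bool.not_eq_true'] at h
  intro he
  exact ne_of_rows h.1.1.1 h.2 coe_omega (congrArg Subtype.val he)

theorem omega_comm (x : Cov) : Commute omega x := by
  have hx : x ∈ Subgroup.closure (uC '' {g | g < 9}) := by rw [closure_uC]; trivial
  induction hx using Subgroup.closure_induction with
  | mem y hy =>
    obtain ⟨g, hg, rfl⟩ := hy
    have h := scalar_checks
    simp only [Bool.and_eq_true, List.all_eq_true] at h
    apply Subtype.ext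
    apply Units.ext
    rw [Subgroup.coe_mul, Subgroup.coe_mul, Units.val_mul, Units.val_mul, coe_uC, coe_u]
    rw [coe_omega, ← dec_mulP (X_length g) scalar_length, ← dec_mulP scalar_length (X_length g),
      eq_of_eqP (h.1.2 g (List.mem_range.mpr hg))]
  | one => exact Commute.one_right _
  | mul a b _ _ ha hb => exact ha.mul_right hb
  | inv a _ ha => exact Commute.inv_right ha

theorem zpowers_le_center : Subgroup.zpowers omega ≤ Subgroup.center Cov := by
  rw [Subgroup.zpowers_le, Subgroup.mem_center_iff]
  exact fun x => (omega_comm x).symm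

theorem card_zpowers : Nat.card (Subgroup.zpowers omega) = 3 := by
  rw [Nat.card_zpowers]
  exact orderOf_eq_prime omega_pow_three omega_ne

theorem zpowers_normal : (Subgroup.zpowers omega).Normal :=
  ⟨fun a ha x => by rw [Subgroup.mem_center_iff.mp (zpowers_le_center ha) x, mul_inv_cancel_right]; exact ha⟩

attribute [local instance] zpowers_normal

/-- The generators modulo scalars. -/
def q (g : ℕ) : Cov ⧸ Subgroup.zpowers omega := QuotientGroup.mk' _ (uC g)

theorem q_sq (g : ℕ) : q g * q g = 1 := by rw [q, ← map_mul, uC_sq, map_one]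

theorem q_rels : ∀ r ∈ coxRelators Fi22.edges ∪ {r | r ∈ Fi22.extra},
    FreeGroup.lift (fun x => q (gens.idxOf x)) r = 1 := by
  intro r hr
  rw [lift_eq_wval _ (fun x => q_sq _) gens_all q (fun _ => rfl)]
  have hwq : ∀ w, wval q w = QuotientGroup.mk' _ (wval uC w) :=
    fun w => (Fi23Cover.map_wval _ _ _).symm
  have hbase : ∀ b ∈ coxWords ++ [w9, v9, spider], wval q b = 1 := by
    intro b hb
    rw [hwq, QuotientGroup.mk'_apply, QuotientGroup.eq_one_iff]
    simp only [List.mem_append, List.mem_cons, List.not_mem_nil, or_false] at hb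
    rcases hb with hb | rfl | rfl | rfl
    · rw [eq_of_eqP' (List.all_eq_true.mp cox_check b hb)]; exact one_mem _
    · rw [eq_of_eqP' w9_check]; exact one_mem _
    · rw [eq_of_eqP' v9_check]; exact one_mem _
    · rw [omega_eq]; exact Subgroup.mem_zpowers omega
  refine Fi23Mult.wval_fromBase q_sq hbase ?_
  have hall : (((relList gens Fi22.edges Fi22.extra).map (letters gens)).all fun w =>
      Fi23Mult.fromBase (coxWords ++ [w9, v9, spider]) w) = true := by decide +kernel
  exact List.all_eq_true.mp hall _ (List.mem_map.mpr ⟨r, mem_relList gens_all hr, rfl⟩)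

/-- The map from `Fi22` onto the cover modulo scalars. -/
def psi : Fi22 →* Cov ⧸ Subgroup.zpowers omega := PresentedGroup.toGroup q_rels

theorem psi_gen {g : ℕ} (hg : g < 9) : psi (gen g) = q g := by
  have hlt : g < gens.length := hg
  rw [gen, genFun, dif_pos hlt, psi, PresentedGroup.toGroup.of, gens_nodup.idxOf_getElem _ hlt]

theorem psi_surjective : Function.Surjective psi := by
  intro y
  obtain ⟨a, rfl⟩ := QuotientGroup.mk_surjective y
  have ha : a ∈ Subgroup.closure (uC '' {g | g < 9}) := by rw [closure_uC]; trivial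
  induction ha using Subgroup.closure_induction with
  | mem b hb =>
    obtain ⟨g, hg, rfl⟩ := hb
    exact ⟨gen g, psi_gen hg⟩
  | one => exact ⟨1, map_one _⟩
  | mul a b _ _ ha hb =>
    obtain ⟨x, hx⟩ := ha
    obtain ⟨y, hy⟩ := hb
    exact ⟨x * y, by rw [map_mul, hx, hy]; rfl⟩
  | inv a _ ha =>
    obtain ⟨x, hx⟩ := ha
    exact ⟨x⁻¹, by rw [map_inv, hx]; rfl⟩

theorem psi_bijective : Function.Bijective psi := by
  refine ⟨?_, psi_surjective⟩
  rw [← MonoidHom.ker_eq_bot_iff]
  haveI := FiOrder.simple_fi22
  refine (inferInstance : psi.ker.Normal).eq_bot_or_eq_top.resolve_right fun h => ?_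
  have h1 : q 0 = 1 := by
    rw [← psi_gen (by norm_num)]
    exact (MonoidHom.mem_ker).mp (h ▸ Subgroup.mem_top _)
  rw [q, QuotientGroup.mk'_apply, QuotientGroup.eq_one_iff, Subgroup.mem_zpowers_iff] at h1
  obtain ⟨n, hn⟩ := h1
  have h3 : uC 0 ^ 3 = 1 := by
    rw [← hn, ← zpow_natCast, ← zpow_mul, mul_comm, zpow_mul, zpow_natCast, omega_pow_three, one_zpow]
  have h4 : uC 0 = 1 := by rwa [pow_succ, pow_two, uC_sq, one_mul] at h3
  exact ne_of_rows (x := u 0) (A := X 0) (by decide +kernel) (by decide +kernel) rfl
    (congrArg Subtype.val h4)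

/-- The covering map. -/
noncomputable def cover : Cov →* Fi22 :=
  (MulEquiv.ofBijective psi psi_bijective).symm.toMonoidHom.comp (QuotientGroup.mk' _)

theorem cover_ker : cover.ker = Subgroup.zpowers omega := by
  ext x
  rw [MonoidHom.mem_ker]
  constructor
  · intro h
    have h2 : (MulEquiv.ofBijective psi psi_bijective).symm (QuotientGroup.mk' _ x) = 1 := h
    rw [MulEquiv.map_eq_one_iff] at h2
    exact (QuotientGroup.eq_one_iff x).mp h2
  · intro h
    show (MulEquiv.ofBijective psi psi_bijective).symm (QuotientGroup.mk' _ x) = 1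
    rw [QuotientGroup.mk'_apply, (QuotientGroup.eq_one_iff x).mpr h, map_one]

theorem cover_surjective : Function.Surjective cover :=
  (MulEquiv.ofBijective psi psi_bijective).symm.surjective.comp (QuotientGroup.mk'_surjective _)

theorem perfect : commutator Cov = ⊤ := by
  rw [eq_top_iff, ← closure_uC, Subgroup.closure_le]
  rintro _ ⟨g, -, rfl⟩
  have hx : cover (uC g) ∈ (commutator Cov).map cover := by
    rw [commutator_def, Subgroup.map_commutator, Subgroup.map_top_of_surjective cover cover_surjective,
      ← commutator_def, Fi22Mult.perfect_fi22]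
    trivial
  obtain ⟨c, hc, hce⟩ := hx
  have h1 : c⁻¹ * uC g ∈ Subgroup.zpowers omega := by
    rw [← cover_ker, MonoidHom.mem_ker, map_mul, map_inv, hce, inv_mul_cancel]
  obtain ⟨n, hn⟩ := Subgroup.mem_zpowers_iff.mp h1
  let π := QuotientGroup.mk' (commutator Cov)
  have hcomm : ∀ a b : Cov ⧸ commutator Cov, a * b = b * a := fun a b => by
    obtain ⟨a, rfl⟩ := QuotientGroup.mk_surjective a
    obtain ⟨b, rfl⟩ := QuotientGroup.mk_surjective b
    rw [← QuotientGroup.mk_mul, ← QuotientGroup.mk_mul, QuotientGroup.eq]
    rw [show (a * b)⁻¹ * (b * a) = ⁅b⁻¹, a⁻¹⁆ by rw [commutatorElement_def]; group, commutator_def]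
    exact Subgroup.commutator_mem_commutator (Subgroup.mem_top _) (Subgroup.mem_top _)
  have hu : π (uC g) = π omega ^ n := by
    rw [← map_zpow, hn, map_mul, map_inv, show π c = 1 from (QuotientGroup.eq_one_iff c).mpr hc, inv_one,
      one_mul]
  have h3 : π (uC g) ^ 3 = 1 := by
    rw [hu, ← zpow_natCast, ← zpow_mul, mul_comm, zpow_mul, zpow_natCast, ← map_pow, omega_pow_three,
      map_one, one_zpow]
  rw [pow_succ, pow_two, ← map_mul, uC_sq, map_one, one_mul] at h3
  exact (QuotientGroup.eq_one_iff _).mp h3

theorem isStemExtension : Cfsg.IsStemExtension cover :=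
  ⟨cover_surjective, by rw [cover_ker]; exact zpowers_le_center, by rw [perfect]; exact le_top⟩

end Cfsg.Agent.Presented.Fi22Triple
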