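import Cfsg.Prelude.Def_Spor_Fi23
import Cfsg.Agent.Lib.Presented.Index
import Cfsg.Agent.Lib.Presented.Orbit
import Cfsg.Agent.Lib.Presented.Data.Fi23C31671Checks
import Cfsg.Agent.Lib.Presented.Data.Fi23C31671N
import Cfsg.Agent.Lib.Presented.Data.Fi23C31671D
import Cfsg.Agent.Lib.Presented.Data.Fi23C31671O0
import Cfsg.Agent.Lib.Presented.Data.Fi23C31671O1

/-!
# A subgroup of index 31671 of the presented group Fi23
-/

set_option autoImplicit false

namespace Cfsg.Agent.Presented.Fi23Index

open Cfsg.Spor Cfsg.Agent.Presented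

/-- The generators in table order. -/
def gens : List Fi23.Gen := [.a, .b, .c, .d, .e, .f, .g, .j, .h, .i]

theorem gens_all (x : Fi23.Gen) : x ∈ gens := by cases x <;> decide

theorem gens_nodup : gens.Nodup := by decide

theorem gens_ok : gensOK gens Fi23.edges = true := by decide +kernel

/-- The generating words of the subgroup. -/
def hGens : List (FreeGroup Fi23.Gen) :=
  [Fi23.a, Fi23.b, Fi23.c, Fi23.d, Fi23.e, Fi23.f, Fi23.g, Fi23.h, Fi23.i]

/-- The subgroup generated by the words `hGens`. -/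
def hSub : Subgroup Fi23 :=
  (Subgroup.closure {x | x ∈ hGens}).map
    (PresentedGroup.mk (coxRelators Fi23.edges ∪ {r | r ∈ Fi23.extra}))

/-- The generators of `Fi23` by number. -/
abbrev gen : ℕ → Fi23 := genFun gens Fi23.edges Fi23.extra

theorem exists_table : ∃ e : Fin Fi23C31671.cert.N ≃ Fi23 ⧸ hSub,
    (∀ i : Fin Fi23C31671.cert.N, (i : ℕ) = 0 → e i = QuotientGroup.mk 1) ∧
    ∀ g (hgm : g < Fi23C31671.cert.m) (i : Fin Fi23C31671.cert.N),
      gen g • e i = e ⟨Fi23C31671.cert.actOf i g,
        CosetCert.actOf_lt Fi23C31671.cert_edgesOK Fi23C31671.cert_nodesOK i.2 hgm⟩ := by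
  have h1 : (Fi23C31671.cert.words.drop Fi23C31671.cert.nR).take hGens.length =
      hGens.map (letters gens) := by decide +kernel
  have h2 : relsOK gens Fi23.edges Fi23.extra (Fi23C31671.cert.words.take Fi23C31671.cert.nR) = true := by
    decide +kernel
  exact indexCert gens_all gens_ok rfl Fi23C31671.cert_edgesOK Fi23C31671.cert_nodesOK
    Fi23C31671.cert_wordsOK Fi23C31671.cert_subOK h2 gens_nodup hGens hSub rfl h1
    (deriv_more gens_all gens_ok Fi23C31671.deriv_factsOK Fi23C31671.deriv_loopsOK hGens hSub rfl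
      (by decide +kernel) (by decide +kernel) (by decide +kernel))

theorem hSub_index : hSub.index = 31671 := by
  obtain ⟨e, -, -⟩ := exists_table
  rw [card_quotient_of_equiv e]; rfl

theorem hSub_eq_closure :
    hSub = Subgroup.closure {x | ∃ k ∈ ([[0], [1], [2], [3], [4], [5], [6], [8], [9]] : List (List ℕ)),
      x = wval gen k} := by
  rw [hSub, map_closure_eq_wval gens_all gens_ok,
    show hGens.map (letters gens) = [[0], [1], [2], [3], [4], [5], [6], [8], [9]] by decide +kernel]

theorem suborbits : ∃ q₁ q₂ : Fi23 ⧸ hSub,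
    (MulAction.orbit hSub q₁).ncard = 3510 ∧
    (MulAction.orbit hSub q₂).ncard = 28160 := by
  obtain ⟨e, -, he⟩ := exists_table
  refine ⟨e ⟨52, by decide +kernel⟩, e ⟨1, by decide +kernel⟩, ?_, ?_⟩
  · rw [CosetCert.orbit_ncard Fi23C31671.cert_edgesOK Fi23C31671.cert_nodesOK e he hSub_eq_closure
      _ Fi23C31671.orbit1_ok (by decide +kernel)]
    exact Fi23C31671.orbit1_count
  · rw [CosetCert.orbit_ncard Fi23C31671.cert_edgesOK Fi23C31671.cert_nodesOK e he hSub_eq_closure
      _ Fi23C31671.orbit0_ok (by decide +kernel)]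
    exact Fi23C31671.orbit0_count

end Cfsg.Agent.Presented.Fi23Index
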