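import Cfsg.Agent.Lib.Presented.Order
import Cfsg.Agent.Lib.Presented.Count
import Cfsg.Agent.Lib.Presented.Data.Fi23Chain
import Cfsg.Agent.Lib.Presented.Data.Fi23MaxData

/-!
# Checks on the data for a solvable maximal subgroup of the presented Fischer group Fi23

The 324 points are handled by their indices in `d0`, and elements permuting them by packed permutations.
-/

set_option autoImplicit false
set_option maxRecDepth 100000

namespace Cfsg.Agent.Presented.Fi23Max

/-- The table. -/
noncomputable abbrev tbl : CosetCert := Fi23C31671.cert

/-- The base points of the stabiliser chain. -/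
noncomputable abbrev bpts : List ℕ := Fi23Chain.chain.map Level.pt

/-- Image of index `i` under the packed permutation `P`. -/
def fld (P i : ℕ) : ℕ := Nat.mod (Nat.shiftRight P (Nat.mul 9 i)) 512

/-- Point with index `p`. -/
def pnt (p : ℕ) : ℕ := d0.getD p 0

/-- Image of index `p` under the listed permutations, the first acting first. -/
def runs (ids : List ℕ) (p : ℕ) : ℕ := ids.foldl (fun q j => fld (sPerms.getD j 0) q) p

/-- The ids name permutations. -/
def idsOK (ids : List ℕ) : Bool := ids.all fun j => Nat.blt j 18

/-- A word of generators. -/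
noncomputable def wordOK (w : List ℕ) : Bool := w.all fun g => Nat.blt g tbl.m

/-- The word of the transposition at the point reached by `w`. -/
def trW (w : List ℕ) : List ℕ := w.reverse ++ Fi23Chain.zWord ++ w

/-- Index of member `j`. -/
def mIdx (j : ℕ) : ℕ := (members.getD j (0, [], [], 0)).1

/-- A word to member `j`. -/
def mWord (j : ℕ) : List ℕ := (members.getD j (0, [], [], 0)).2.1

/-- Ids moving member `0` to member `j`. -/
def mIds (j : ℕ) : List ℕ := (members.getD j (0, [], [], 0)).2.2.1

/-- The permutation of the transposition of member `j`. -/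
def mPerm (j : ℕ) : ℕ := (members.getD j (0, [], [], 0)).2.2.2

theorem d0_ok : (d0.length == 324 && decide d0.Nodup && d0.all fun p => Nat.blt p tbl.N) = true := by
  decide +kernel

theorem words_ok : (wordOK Fi23Chain.zWord && wordOK gamma && hGens.all wordOK &&
    hGens.length == 9 && sPerms.length == 18 && Nat.beq tbl.m 10) = true := by
  decide +kernel

/-- Generator `j` induces its permutation. -/
noncomputable def genOK (j : ℕ) : Bool := (List.range 324).all fun p =>
  Nat.blt (fld (sPerms.getD j 0) p) 324 &&
    Nat.beq (tbl.path (hGens.getD j []) (pnt p)) (pnt (fld (sPerms.getD j 0) p))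

theorem gen_check_a : ([0, 1, 2, 3, 4, 5, 6].all genOK) = true := by decide +kernel
theorem gen_check_b : ([7].all genOK) = true := by decide +kernel
theorem gen_check_c : ([8].all genOK) = true := by decide +kernel

theorem inv_check : ((List.range 9).all fun j => (List.range 324).all fun p =>
    Nat.blt (fld (sPerms.getD (j + 9) 0) p) 324 &&
      Nat.beq (fld (sPerms.getD j 0) (fld (sPerms.getD (j + 9) 0) p)) p) = true := by
  decide +kernel

theorem first_check : (hGens.getD 0 [] == [0] && sameOK tbl bpts (trW (mWord 0)) [0]) = true := by
  decide +kernel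

/-- The permutation of member `j` is the conjugate of the first one. -/
noncomputable def memOK (j : ℕ) : Bool :=
  Nat.blt (mIdx j) 324 && wordOK (mWord j) && idsOK (mIds j) &&
  Nat.beq (tbl.path (mWord j) 0) (pnt (mIdx j)) && Nat.beq (runs (mIds j) (mIdx 0)) (mIdx j) &&
  (List.range 324).all fun p =>
    force (runs ((mIds j).reverse.map fun i => (i + 9) % 18) p) fun q =>
      Nat.blt q 324 && Nat.beq (runs (mIds j) q) p &&
        Nat.beq (fld (mPerm j) p) (runs (mIds j) (fld (sPerms.getD 0 0) q))

theorem mem_check : ((List.range 7).all memOK) = true := by decide +kernel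

theorem gamma_check : ((List.range 4).all fun i =>
    Nat.beq (tbl.path gamma ([0, 8005, 2524, 52].getD i 0)) (pnt (mIdx i))) = true := by
  decide +kernel

/-- The index is fixed by the first `i` members and is none of them. -/
def cand (i f : ℕ) : Bool :=
  (List.range i).all fun j => !(Nat.beq f (mIdx j)) && Nat.beq (fld (mPerm j) f) f

/-- Node `t` of level `i`. -/
def nodeAt (i t : ℕ) : ℕ × ℕ × ℕ := (levNodes.getD i []).getD t (0, 0, 0)

/-- The orbit of member `i` under the stabiliser of the earlier ones is as listed. -/
def levOK (i len : ℕ) : Bool :=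
  ((levWords.getD i []).all fun w => idsOK w &&
    (List.range i).all fun j => Nat.beq (runs w (mIdx j)) (mIdx j)) &&
  Nat.beq (levNodes.getD i []).length len && Nat.beq ((List.range 324).filter (cand i)).length len &&
  decide ((levNodes.getD i []).map Prod.fst).Nodup && cand i (mIdx i) &&
  (List.range len).all fun t =>
    if t = 0 then Nat.beq (nodeAt i t).1 (mIdx i) else
      Nat.blt (nodeAt i t).2.1 t && Nat.blt (nodeAt i t).2.2 (levWords.getD i []).length &&
        Nat.beq (runs ((levWords.getD i []).getD (nodeAt i t).2.2 []) (nodeAt i (nodeAt i t).2.1).1)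
          (nodeAt i t).1

theorem lev0_check : levOK 0 324 = true := by decide +kernel
theorem lev1_check : levOK 1 27 = true := by decide +kernel
theorem lev2_check : levOK 2 18 = true := by decide +kernel
theorem lev3_check : levOK 3 9 = true := by decide +kernel

/-- The parent data are valid at `i`. -/
noncomputable def treeStep (i : ℕ) : Bool := force (tree.get 32 i) fun v =>
  bif Nat.beq (v % 2) 1 then d0.contains i || (roots.map Prod.fst).contains i else
    force (v / 2 / 256) fun e => force (e / 16) fun p => force (e % 16) fun j =>
      Nat.blt p tbl.N && Nat.blt j hGens.length &&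
        Nat.blt (tree.get 32 p / 2 % 256) (v / 2 % 256) &&
        Nat.beq (tbl.path (hGens.getD j []) p) i

theorem tree_check : checkFast treeStep tbl.depth tbl.N = true := by decide +kernel

/-- The conjugating word of a certificate. -/
def certW (w ch : List ℕ) : List ℕ := (ch.map fun j => (hGens ++ [trW w]).getD j []).flatten

/-- The generation certificate of one representative. -/
noncomputable def rootOK (R : ℕ × List ℕ × List (ℕ × List ℕ)) : Bool :=
  wordOK R.2.1 && Nat.beq (tbl.path R.2.1 0) R.1 &&
  ((List.range 10).all fun k => hGens.contains [k] || (R.2.2.map Prod.fst).contains k) &&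
  R.2.2.all fun c =>
    sameOK tbl bpts ((certW R.2.1 c.2).reverse ++ trW R.2.1 ++ certW R.2.1 c.2) [c.1]

theorem roots_check : (roots.all rootOK) = true := by decide +kernel

/-- The permutation of node `t`, the generators coming first. -/
def nodePerm (t : ℕ) : ℕ :=
  if t < 9 then sPerms.getD t 0 else (derNodes.getD (t - 9) (0, 0, 0, 0, 0)).2.2.2.2

/-- The term of the derived series of node `t`. -/
def nodeLev (t : ℕ) : ℕ := if t < 9 then 0 else (derNodes.getD (t - 9) (0, 0, 0, 0, 0)).1

/-- Node `9 + t` is justified by earlier ones. -/
noncomputable def derStep (t : ℕ) : Bool :=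
  force (derNodes.getD t (0, 0, 0, 0, 0)).2.2.1 fun x =>
  force (derNodes.getD t (0, 0, 0, 0, 0)).2.2.2.1 fun y =>
  Nat.blt x (9 + t) && Nat.blt y (9 + t) &&
  if (derNodes.getD t (0, 0, 0, 0, 0)).2.1 = 0 then
    Nat.beq (nodeLev x + 1) (nodeLev (9 + t)) && Nat.beq (nodeLev y + 1) (nodeLev (9 + t)) &&
      (List.range 324).all fun p =>
        Nat.beq (fld (nodePerm (9 + t)) (fld (nodePerm x) (fld (nodePerm y) p)))
          (fld (nodePerm y) (fld (nodePerm x) p))
  else
    Nat.beq (nodeLev x) (nodeLev (9 + t)) && Nat.blt y 9 &&
      (List.range 324).all fun p =>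
        Nat.beq (fld (nodePerm (9 + t)) (fld (nodePerm y) p)) (fld (nodePerm y) (fld (nodePerm x) p))

theorem der_check : ((List.range derNodes.length).all derStep) = true := by decide +kernel

/-- The listed nodes have the product of two member transpositions as permutation. -/
def lastOK (ids : List ℕ) (c : ℕ) : Bool :=
  (ids.all fun t => Nat.blt t (9 + derNodes.length) && Nat.beq (nodeLev t) 8) &&
  (List.range 324).all fun p =>
    Nat.beq (ids.foldl (fun q t => fld (nodePerm t) q) p) (fld (mPerm c) (fld (mPerm 4) p))

theorem last_check : (lastOK lastA 5 && lastOK lastB 6) = true := by decide +kernel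

/-- A word for a commutator. -/
def cmW (x y : List ℕ) : List ℕ := y.reverse ++ x.reverse ++ y ++ x

/-- A word for a non-trivial element of the ninth derived subgroup. -/
def zW : List ℕ :=
  cmW (cmW (trW (mWord 4) ++ trW (mWord 5)) (trW (mWord 4)))
    (cmW (trW (mWord 4) ++ trW (mWord 6)) (trW (mWord 4)))

theorem z_check : (wordOK zW &&
    bpts.any fun p => Nat.blt p tbl.N && !(Nat.beq (tbl.path zW p) p)) = true := by
  decide +kernel

theorem noncomm_check : (bpts.any fun p => Nat.blt p tbl.N &&
    !(Nat.beq (tbl.path [0, 1] p) (tbl.path [1, 0] p))) = true := by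
  decide +kernel

end Cfsg.Agent.Presented.Fi23Max
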