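import Cfsg.Agent.Lib.Presented.Fi23Order
import Cfsg.Agent.Lib.Presented.Fi23MaxChecks
import Cfsg.Agent.Lib.CharInt.Burnside

/-!
# A solvable maximal subgroup of derived length at least ten in the presented Fischer group Fi23

The subgroup is the stabiliser of a set `S` of 324 cosets, the transpositions centralising an element of
order three.  It is transitive on `S`; stabilisers of commuting members give the order, every orbit outside
`S` contains a representative generating the group with it, and its ninth derived subgroup is non-trivial.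
-/

set_option autoImplicit false
set_option linter.constructorNameAsVariable false

namespace Cfsg.Agent.Presented.Fi23Max

open Cfsg.Spor Cfsg.Agent.Presented Fi23Index Fi23Order
open scoped Pointwise commutatorElement

/-! ### The table -/

theorem finite_fi23 : Finite Fi23 := card_le.1

/-- The equivalence given by the coset table. -/
noncomputable def table : Fin tbl.N ≃ Fi23 ⧸ hSub := exists_table.choose

theorem table_spec : ∀ g (hgm : g < tbl.m) (i : Fin tbl.N),
    gen g • table i = table ⟨tbl.actOf i g,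
      CosetCert.actOf_lt Fi23C31671.cert_edgesOK Fi23C31671.cert_nodesOK i.2 hgm⟩ :=
  exists_table.choose_spec.2

theorem table_zero (i : Fin tbl.N) (h : (i : ℕ) = 0) : table i = QuotientGroup.mk 1 :=
  exists_table.choose_spec.1 i h

theorem tbl_pos : 0 < tbl.N := by decide +kernel

/-- Coset with number `i`. -/
noncomputable def Q (i : ℕ) : Fi23 ⧸ hSub :=
  if h : i < tbl.N then table ⟨i, h⟩ else table ⟨0, tbl_pos⟩

theorem Q_zero : Q 0 = QuotientGroup.mk 1 := by
  rw [Q, dif_pos tbl_pos]; exact table_zero _ rfl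

theorem Q_inj {i j : ℕ} (hi : i < tbl.N) (hj : j < tbl.N) (h : Q i = Q j) : i = j := by
  rw [Q, Q, dif_pos hi, dif_pos hj] at h
  exact congrArg Fin.val (table.injective h)

theorem Q_surj (x : Fi23 ⧸ hSub) : ∃ i < tbl.N, Q i = x := by
  obtain ⟨i, rfl⟩ := table.surjective x
  exact ⟨i, i.2, by rw [Q, dif_pos i.2]⟩

theorem smul_Q {w : List ℕ} (hw : ∀ a ∈ w, a < tbl.m) {i j : ℕ} (hi : i < tbl.N)
    (h : tbl.path w i = j) : wval gen w • Q i = Q j := by
  have hj : j < tbl.N := h ▸ CosetCert.path_lt Fi23C31671.cert_edgesOK Fi23C31671.cert_nodesOK w hw hi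
  rw [Q, Q, dif_pos hi, dif_pos hj,
    CosetCert.smul_path Fi23C31671.cert_edgesOK Fi23C31671.cert_nodesOK table table_spec w hw ⟨i, hi⟩]
  exact congrArg table (Fin.ext h)

theorem wordOK_spec {w : List ℕ} (h : wordOK w = true) : ∀ a ∈ w, a < tbl.m := by
  simpa only [wordOK, List.all_eq_true, Nat.blt_eq] using h

theorem words_facts : (∀ a ∈ Fi23Chain.zWord, a < tbl.m) ∧ (∀ a ∈ gamma, a < tbl.m) ∧
    (∀ k ∈ hGens, ∀ a ∈ k, a < tbl.m) ∧ hGens.length = 9 ∧ sPerms.length = 18 ∧ tbl.m = 10 := by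
  have h := words_ok
  simp only [Bool.and_eq_true, beq_iff_eq, List.all_eq_true, Nat.beq_eq] at h
  obtain ⟨⟨⟨⟨⟨h1, h2⟩, h3⟩, h4⟩, h5⟩, h6⟩ := h
  exact ⟨wordOK_spec h1, wordOK_spec h2, fun k hk => wordOK_spec (h3 k hk), h4, h5, h6⟩

theorem hGens_lt (j : ℕ) : ∀ a ∈ hGens.getD j [], a < tbl.m := by
  rcases lt_or_ge j hGens.length with h | h
  · rw [List.getD_eq_getElem _ _ h]
    exact words_facts.2.2.1 _ (List.getElem_mem h)
  · rw [List.getD_eq_default _ _ h]
    simp

theorem word_eq {u v : List ℕ} (h : sameOK tbl bpts u v = true) : wval gen u = wval gen v := by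
  haveI := finite_fi23
  simp only [sameOK, Bool.and_eq_true, List.all_eq_true, Nat.blt_eq, Nat.beq_eq] at h
  obtain ⟨⟨hu, hv⟩, hpath⟩ := h
  refine faith table table_spec (by rw [chain_prod, card_fi23]) _ _ fun p hpm hp => ?_
  rw [CosetCert.smul_path Fi23C31671.cert_edgesOK Fi23C31671.cert_nodesOK table table_spec u hu ⟨p, hp⟩,
    CosetCert.smul_path Fi23C31671.cert_edgesOK Fi23C31671.cert_nodesOK table table_spec v hv ⟨p, hp⟩]
  exact congrArg table (Fin.ext (hpath p hpm))

theorem wval_rev (w : List ℕ) : wval gen w.reverse = (wval gen w)⁻¹ := by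
  induction w with
  | nil => simp [wval]
  | cons g w ih =>
    rw [List.reverse_cons, wval_append, ih]
    simp only [wval, one_mul, mul_inv_rev]
    rw [← eq_inv_of_mul_eq_one_left (genFun_mul_self gens_all gens_ok g)]

/-! ### Transpositions -/

/-- The transposition centralised by the point stabiliser. -/
def τ0 : Fi23 := wval gen Fi23Chain.zWord

theorem comm_check : (([[0], [1], [2], [3], [4], [5], [6], [8], [9]] : List (List ℕ)).all fun k =>
    sameOK tbl bpts (Fi23Chain.zWord ++ k) (k ++ Fi23Chain.zWord)) = true := by decide +kernel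

theorem τ0_comm {x : Fi23} (hx : x ∈ hSub) : Commute x τ0 := by
  rw [hSub_eq_closure] at hx
  induction hx using Subgroup.closure_induction with
  | mem y hy =>
    obtain ⟨k, hk, rfl⟩ := hy
    have h := word_eq (List.all_eq_true.mp comm_check k hk)
    rw [wval_append, wval_append] at h
    exact h
  | one => exact Commute.one_left _
  | mul a b _ _ ha hb => exact ha.mul_left hb
  | inv a _ ha => exact ha.inv_left

/-- The transposition attached to a coset. -/
noncomputable def tau (x : Fi23 ⧸ hSub) : Fi23 := x.out * τ0 * x.out⁻¹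

theorem tau_mk (g : Fi23) : tau (QuotientGroup.mk g) = g * τ0 * g⁻¹ := by
  obtain ⟨k, hk⟩ := QuotientGroup.mk_out_eq_mul hSub g
  rw [tau, hk, mul_inv_rev, mul_assoc g (k : Fi23) τ0, (τ0_comm k.2).eq]
  group

theorem tau_smul (g : Fi23) (x : Fi23 ⧸ hSub) : tau (g • x) = g * tau x * g⁻¹ := by
  induction x using QuotientGroup.induction_on with
  | H a =>
    rw [MulAction.Quotient.smul_mk, smul_eq_mul, tau_mk, tau_mk]
    group

theorem tau_word {w : List ℕ} {i : ℕ} (hw : ∀ a ∈ w, a < tbl.m) (h : tbl.path w 0 = i) :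
    tau (Q i) = wval gen (trW w) := by
  rw [← smul_Q hw tbl_pos h, tau_smul, Q_zero, tau_mk, trW, wval_append, wval_append, wval_rev, τ0]
  group

/-! ### The set and its stabiliser -/

theorem d0_facts : d0.length = 324 ∧ d0.Nodup ∧ ∀ p ∈ d0, p < tbl.N := by
  have h := d0_ok
  simp only [Bool.and_eq_true, beq_iff_eq, List.all_eq_true, Nat.blt_eq, decide_eq_true_eq] at h
  exact ⟨h.1.1, h.1.2, h.2⟩

theorem pnt_lt (p : ℕ) : pnt p < tbl.N := by
  rcases lt_or_ge p d0.length with h | h
  · rw [pnt, List.getD_eq_getElem _ _ h]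
    exact d0_facts.2.2 _ (List.getElem_mem h)
  · rw [pnt, List.getD_eq_default _ _ h]
    exact tbl_pos

/-- Coset with index `p`. -/
noncomputable def R (p : ℕ) : Fi23 ⧸ hSub := Q (pnt p)

theorem R_inj {p q : ℕ} (hp : p < 324) (hq : q < 324) (h : R p = R q) : p = q := by
  have h' := Q_inj (pnt_lt p) (pnt_lt q) h
  rw [← d0_facts.1] at hp hq
  rw [pnt, pnt, List.getD_eq_getElem _ _ hp, List.getD_eq_getElem _ _ hq] at h'
  exact d0_facts.2.1.getElem_inj_iff.mp h'

/-- The set of 324 cosets. -/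
noncomputable def S : Set (Fi23 ⧸ hSub) := R '' {p | p < 324}

/-- The stabiliser of the set. -/
noncomputable def H : Subgroup Fi23 := MulAction.stabilizer Fi23 S

theorem S_finite : S.Finite := (Set.finite_lt_nat 324).image _

theorem smul_mem_S {g : Fi23} (hg : g ∈ H) {x : Fi23 ⧸ hSub} (hx : x ∈ S) : g • x ∈ S := by
  rw [← MulAction.mem_stabilizer_iff.mp hg]
  exact Set.smul_mem_smul_set hx

theorem exists_index {g : Fi23} (hg : g ∈ H) {p : ℕ} (hp : p < 324) : ∃ q < 324, g • R p = R q := by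
  obtain ⟨q, hq, h⟩ := smul_mem_S hg ⟨p, hp, rfl⟩
  exact ⟨q, hq, h.symm⟩

theorem mem_H_of_maps {g : Fi23} (h : ∀ p < 324, g • R p ∈ S) : g ∈ H := by
  rw [H, MulAction.mem_stabilizer_iff]
  refine Set.eq_of_subset_of_ncard_le ?_ (le_of_eq ?_) S_finite
  · rintro _ ⟨_, ⟨p, hp, rfl⟩, rfl⟩
    exact h p hp
  · exact (Set.ncard_image_of_injective S (MulAction.injective g)).symm

/-- `g` permutes the indices as the packed permutation says. -/
def Rep (g : Fi23) (P : ℕ) : Prop := ∀ p < 324, fld P p < 324 ∧ g • R p = R (fld P p)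

theorem Rep.mem {g : Fi23} {P : ℕ} (h : Rep g P) : g ∈ H :=
  mem_H_of_maps fun p hp => ⟨_, (h p hp).1, (h p hp).2.symm⟩

/-- The listed elements and their inverses. -/
noncomputable def sGen (j : ℕ) : Fi23 :=
  if j < 9 then wval gen (hGens.getD j []) else (wval gen (hGens.getD (j - 9) []))⁻¹

theorem sGen_rep {j : ℕ} (hj : j < 18) : Rep (sGen j) (sPerms.getD j 0) := by
  have key : ∀ i < 9, Rep (wval gen (hGens.getD i [])) (sPerms.getD i 0) := by
    intro i hi p hp
    have hok : genOK i = true := by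
      rcases (by omega : i < 7 ∨ i = 7 ∨ i = 8) with h | rfl | rfl
      · exact List.all_eq_true.mp gen_check_a i (by simp; omega)
      · exact List.all_eq_true.mp gen_check_b 7 (by simp)
      · exact List.all_eq_true.mp gen_check_c 8 (by simp)
    have h := List.all_eq_true.mp hok p (List.mem_range.mpr hp)
    simp only [Bool.and_eq_true, Nat.blt_eq, Nat.beq_eq] at h
    exact ⟨h.1, smul_Q (hGens_lt i) (pnt_lt p) h.2⟩
  unfold sGen
  split
  · exact key j (by omega)
  · intro p hp
    have h := List.all_eq_true.mp (List.all_eq_true.mp inv_check (j - 9) (List.mem_range.mpr (by omega)))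
      p (List.mem_range.mpr hp)
    rw [show j - 9 + 9 = j by omega] at h
    simp only [Bool.and_eq_true, Nat.blt_eq, Nat.beq_eq] at h
    refine ⟨h.1, ?_⟩
    rw [inv_smul_eq_iff, (key (j - 9) (by omega) _ h.1).2, h.2]

/-- Product of listed elements, the first acting first. -/
noncomputable def el : List ℕ → Fi23
  | [] => 1
  | j :: ids => el ids * sGen j

theorem el_smul : ∀ ids, idsOK ids = true → ∀ p < 324,
    runs ids p < 324 ∧ el ids • R p = R (runs ids p) := by
  intro ids
  induction ids with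
  | nil => intro _ p hp; exact ⟨hp, one_smul _ _⟩
  | cons j ids ih =>
    intro h p hp
    simp only [idsOK, List.all_cons, Bool.and_eq_true, Nat.blt_eq] at h
    obtain ⟨h1, h2⟩ := sGen_rep h.1 p hp
    obtain ⟨h3, h4⟩ := ih h.2 _ h1
    refine ⟨h3, ?_⟩
    rw [el, mul_smul, h2, h4]
    rfl

theorem el_mem {ids : List ℕ} (h : idsOK ids = true) : el ids ∈ H :=
  mem_H_of_maps fun p hp => ⟨_, (el_smul ids h p hp).1, (el_smul ids h p hp).2.symm⟩

theorem mem_facts {j : ℕ} (hj : j < 7) : mIdx j < 324 ∧ (∀ a ∈ mWord j, a < tbl.m) ∧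
    idsOK (mIds j) = true ∧ tbl.path (mWord j) 0 = pnt (mIdx j) ∧ runs (mIds j) (mIdx 0) = mIdx j ∧
    ∀ p < 324, ∃ q < 324, runs (mIds j) q = p ∧
      fld (mPerm j) p = runs (mIds j) (fld (sPerms.getD 0 0) q) := by
  have h := List.all_eq_true.mp mem_check j (List.mem_range.mpr hj)
  simp only [memOK, Bool.and_eq_true, Nat.blt_eq, Nat.beq_eq, List.all_eq_true, List.mem_range,
    force_eq] at h
  obtain ⟨⟨⟨⟨⟨h1, h2⟩, h3⟩, h4⟩, h5⟩, h6⟩ := h
  exact ⟨h1, wordOK_spec h2, h3, h4, h5, fun p hp => ⟨_, (h6 p hp).1.1, (h6 p hp).1.2, (h6 p hp).2⟩⟩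

theorem tau_first : tau (R (mIdx 0)) = sGen 0 ∧ sGen 0 = gen 0 := by
  have h := first_check
  simp only [Bool.and_eq_true, beq_iff_eq] at h
  obtain ⟨h0, hs⟩ := h
  have hs0 : sGen 0 = wval gen [0] := by
    rw [sGen, if_pos (by norm_num), h0]
  obtain ⟨-, hw, -, hp, -⟩ := mem_facts (j := 0) (by norm_num)
  refine ⟨?_, ?_⟩
  · rw [R, tau_word hw hp, word_eq hs, hs0]
  · rw [hs0]; exact one_mul _

theorem mem_rep {j : ℕ} (hj : j < 7) : Rep (tau (R (mIdx j))) (mPerm j) := by
  intro p hp
  obtain ⟨-, -, hids, -, h0, hall⟩ := mem_facts hj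
  obtain ⟨q, hq, rfl, hP⟩ := hall p hp
  obtain ⟨hlt, hsm⟩ := sGen_rep (j := 0) (by norm_num) q hq
  obtain ⟨hlt', hsm'⟩ := el_smul _ hids _ hlt
  refine ⟨hP ▸ hlt', ?_⟩
  conv_lhs => rw [← h0, ← (el_smul _ hids _ (mem_facts (j := 0) (by norm_num)).1).2, tau_smul,
    tau_first.1, mul_smul, mul_smul, ← (el_smul _ hids q hq).2, inv_smul_smul, hsm, hsm']
  rw [hP]

theorem tau_mem {j : ℕ} (hj : j < 7) : tau (R (mIdx j)) ∈ H := (mem_rep hj).mem

/-! ### The order -/

/-- The stabilisers in `H` of the first members. -/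
noncomputable def Hs : ℕ → Subgroup Fi23
  | 0 => H
  | i + 1 => Hs i ⊓ MulAction.stabilizer Fi23 (R (mIdx i))

theorem mem_Hs {g : Fi23} : ∀ {i : ℕ}, g ∈ Hs i ↔ g ∈ H ∧ ∀ j < i, g • R (mIdx j) = R (mIdx j) := by
  intro i
  induction i with
  | zero => simp [Hs]
  | succ i ih =>
    rw [Hs, Subgroup.mem_inf, ih, MulAction.mem_stabilizer_iff]
    refine ⟨fun h => ⟨h.1.1, fun j hj => ?_⟩, fun h => ⟨⟨h.1, fun j hj => h.2 j (by omega)⟩,
      h.2 i (Nat.lt_succ_self i)⟩⟩
    rcases Nat.lt_succ_iff_lt_or_eq.mp hj with hj | rfl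
    exacts [h.1.2 j hj, h.2]

/-- What a checked level says. -/
theorem lev_facts {i len : ℕ} (h : levOK i len = true) :
    (∀ w ∈ levWords.getD i [], idsOK w = true ∧ ∀ j < i, runs w (mIdx j) = mIdx j) ∧
    (levNodes.getD i []).length = len ∧ ((List.range 324).filter (cand i)).length = len ∧
    ((levNodes.getD i []).map Prod.fst).Nodup ∧ cand i (mIdx i) = true ∧
    ∀ t < len, if t = 0 then (nodeAt i t).1 = mIdx i else
      (nodeAt i t).2.1 < t ∧ (nodeAt i t).2.2 < (levWords.getD i []).length ∧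
        runs ((levWords.getD i []).getD (nodeAt i t).2.2 []) (nodeAt i (nodeAt i t).2.1).1 =
          (nodeAt i t).1 := by
  simp only [levOK, Bool.and_eq_true, List.all_eq_true, List.mem_range, Nat.beq_eq,
    decide_eq_true_eq] at h
  obtain ⟨⟨⟨⟨⟨h1, h2⟩, h3⟩, h4⟩, h5⟩, h6⟩ := h
  refine ⟨fun w hw => ⟨(h1 w hw).1, fun j hj => (h1 w hw).2 j hj⟩, h2, h3, h4, h5, fun t ht => ?_⟩
  have h7 := h6 t ht
  split at h7
  · rw [if_pos (by assumption)]; exact Nat.beq_eq.mp h7
  · rw [if_neg (by assumption)]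
    simp only [Bool.and_eq_true, Nat.blt_eq, Nat.beq_eq] at h7
    exact ⟨h7.1.1, h7.1.2, h7.2⟩

theorem node_orbit {i len : ℕ} (hi : i < 4) (h : levOK i len = true) : ∀ t < len,
    (nodeAt i t).1 < 324 ∧ ∃ g ∈ Hs i, g • R (mIdx i) = R (nodeAt i t).1 := by
  obtain ⟨hw, -, -, -, -, hn⟩ := lev_facts h
  intro t
  induction t using Nat.strong_induction_on with
  | _ t ih =>
    intro ht
    have h1 := hn t ht
    split at h1
    · rw [h1]
      exact ⟨(mem_facts (by omega)).1, 1, one_mem _, one_smul _ _⟩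
    · obtain ⟨hu, hj, hr⟩ := h1
      obtain ⟨hlt, g, hg, hgp⟩ := ih _ hu (by omega)
      generalize hwdef : (levWords.getD i []).getD (nodeAt i t).2.2 [] = w at hr
      have hwm : w ∈ levWords.getD i [] := by
        rw [← hwdef, List.getD_eq_getElem _ _ hj]; exact List.getElem_mem hj
      obtain ⟨hids, hfix⟩ := hw w hwm
      obtain ⟨h2, h3⟩ := el_smul w hids _ hlt
      rw [hr] at h2 h3
      refine ⟨h2, el w * g, mul_mem (mem_Hs.mpr ⟨el_mem hids, fun j hj' => ?_⟩) hg, ?_⟩
      · rw [(el_smul w hids _ (mem_facts (by omega)).1).2, hfix j hj']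
      · rw [mul_smul, hgp, h3]

theorem orbit_card {i len : ℕ} (hi : i < 4) (h : levOK i len = true) :
    (MulAction.orbit (Hs i) (R (mIdx i))).ncard = len := by
  haveI := finite_fi23
  obtain ⟨-, hlen, hfl, hnd, hci, -⟩ := lev_facts h
  have hx := (mem_facts (j := i) (by omega)).1
  set L := (List.range 324).filter (cand i) with hL
  set M := (levNodes.getD i []).map Prod.fst with hM
  refine le_antisymm ?_ ?_
  · calc (MulAction.orbit (Hs i) (R (mIdx i))).ncard
        ≤ (R '' (L.toFinset : Set ℕ)).ncard := by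
          refine Set.ncard_le_ncard ?_ ((Finset.finite_toSet _).image _)
          rintro _ ⟨⟨g, hg⟩, rfl⟩
          show g • R (mIdx i) ∈ _
          obtain ⟨hgH, hfix⟩ := mem_Hs.mp hg
          obtain ⟨p, hp, hgp⟩ := exists_index hgH hx
          refine ⟨p, ?_, hgp.symm⟩
          simp only [Finset.mem_coe, List.mem_toFinset, hL, List.mem_filter, List.mem_range, cand,
            List.all_eq_true, Bool.and_eq_true, Bool.not_eq_true', Nat.beq_eq]
          simp only [cand, List.all_eq_true, List.mem_range, Bool.and_eq_true, Bool.not_eq_true',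
            Nat.beq_eq] at hci
          refine ⟨hp, fun j hj => ⟨?_, ?_⟩⟩
          · rw [← Bool.not_eq_true, Nat.beq_eq]
            rintro rfl
            have : R (mIdx i) = R (mIdx j) := smul_left_cancel g (by rw [hgp, hfix j hj])
            have h' := (hci j hj).1
            rw [R_inj hx hp this] at h'
            simp at h'
          · obtain ⟨hlt, hsm⟩ := mem_rep (j := j) (by omega) p hp
            refine R_inj hlt hp ?_
            have hP := (mem_rep (j := j) (by omega) _ hx).2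
            rw [(hci j hj).2] at hP
            rw [← hsm, ← hgp]
            conv_lhs => rw [← hfix j hj, tau_smul, mul_smul, mul_smul, inv_smul_smul, hP]
      _ ≤ (L.toFinset : Set ℕ).ncard := Set.ncard_image_le (Finset.finite_toSet _)
      _ ≤ len := by
          rw [Set.ncard_coe_finset]
          exact (List.toFinset_card_le L).trans hfl.le
  · have hMlt : ∀ p ∈ M, p < 324 ∧ R p ∈ MulAction.orbit (Hs i) (R (mIdx i)) := by
      intro p hp
      obtain ⟨t, ht, rfl⟩ := List.getElem_of_mem hp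
      simp only [hM, List.length_map, hlen] at ht
      obtain ⟨h1, g, hg, hgp⟩ := node_orbit hi h t ht
      have he : M[t]'(by simp only [hM, List.length_map, hlen]; exact ht) = (nodeAt i t).1 := by
        simp only [hM, List.getElem_map, nodeAt]
        exact congrArg Prod.fst (List.getD_eq_getElem (levNodes.getD i []) _ _).symm
      rw [he]
      exact ⟨h1, ⟨g, hg⟩, hgp⟩
    calc len = (M.toFinset : Set ℕ).ncard := by
          rw [Set.ncard_coe_finset, List.toFinset_card_of_nodup hnd, hM, List.length_map, hlen]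
      _ = (R '' (M.toFinset : Set ℕ)).ncard := by
          refine (Set.InjOn.ncard_image fun p hp q hq hpq => ?_).symm
          simp only [Finset.mem_coe, List.mem_toFinset] at hp hq
          exact R_inj (hMlt p hp).1 (hMlt q hq).1 hpq
      _ ≤ _ := by
          refine Set.ncard_le_ncard ?_ (Set.toFinite _)
          rintro _ ⟨p, hp, rfl⟩
          simp only [Finset.mem_coe, List.mem_toFinset] at hp
          exact (hMlt p hp).2

theorem card_Hs {i len : ℕ} (hi : i < 4) (h : levOK i len = true) :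
    Nat.card (Hs i) = len * Nat.card (Hs (i + 1)) := by
  have e : MulAction.stabilizer (Hs i) (R (mIdx i)) ≃ Hs (i + 1) :=
    { toFun := fun g => ⟨g.1.1, Subgroup.mem_inf.mpr ⟨g.1.2,
        MulAction.mem_stabilizer_iff.mpr (MulAction.mem_stabilizer_iff.mp g.2 :)⟩⟩
      invFun := fun g => ⟨⟨g.1, (Subgroup.mem_inf.mp g.2).1⟩,
        MulAction.mem_stabilizer_iff.mpr
          (MulAction.mem_stabilizer_iff.mp (Subgroup.mem_inf.mp g.2).2 :)⟩
      left_inv := fun g => rfl
      right_inv := fun g => rfl }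
  rw [← Nat.card_congr e, ← orbit_card hi h, ← Nat.card_coe_set_eq, ← Nat.card_prod]
  exact Nat.card_congr (MulAction.orbitProdStabilizerEquivGroup (Hs i) (R (mIdx i))).symm

theorem card_fixer4 :
    Nat.card (fixer table [52, 2524, 8005, 0] : Subgroup Fi23) = 294912 := by
  haveI := finite_fi23
  have hup := reachChain_card_le Fi23C31671.cert_edgesOK Fi23C31671.cert_nodesOK table table_spec
    (by decide +kernel)
    [Fi23Chain.lev0, Fi23Chain.lev1, Fi23Chain.lev2, Fi23Chain.lev3] []
    (reachChainOK_cons Fi23Chain.lev0_ok (reachChainOK_cons Fi23Chain.lev1_ok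
      (reachChainOK_cons Fi23Chain.lev2_ok (reachChainOK_cons Fi23Chain.lev3_ok
      (reachChainOK_nil _)))))
  have hlow := reachChain_card_le Fi23C31671.cert_edgesOK Fi23C31671.cert_nodesOK table table_spec
    (by decide +kernel)
    [Fi23Chain.lev4, Fi23Chain.lev5, Fi23Chain.lev6, Fi23Chain.lev7, Fi23Chain.lev8, Fi23Chain.lev9,
      Fi23Chain.lev10] [52, 2524, 8005, 0]
    (reachChainOK_cons Fi23Chain.lev4_ok (reachChainOK_cons Fi23Chain.lev5_ok
      (reachChainOK_cons Fi23Chain.lev6_ok (reachChainOK_cons Fi23Chain.lev7_ok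
      (reachChainOK_cons Fi23Chain.lev8_ok (reachChainOK_cons Fi23Chain.lev9_ok
      (reachChainOK_cons Fi23Chain.lev10_ok (reachChainOK_nil _))))))))
  have hpts : ([Fi23Chain.lev0, Fi23Chain.lev1, Fi23Chain.lev2, Fi23Chain.lev3].map Level.pt).reverse =
      [52, 2524, 8005, 0] := by decide +kernel
  have h1 : ([Fi23Chain.lev0, Fi23Chain.lev1, Fi23Chain.lev2, Fi23Chain.lev3].map Level.size).prod *
      294912 = 4089470473293004800 := by decide +kernel
  have h2 : ([Fi23Chain.lev4, Fi23Chain.lev5, Fi23Chain.lev6, Fi23Chain.lev7, Fi23Chain.lev8,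
      Fi23Chain.lev9, Fi23Chain.lev10].map Level.size).prod = 294912 := by decide +kernel
  rw [List.append_nil, hpts] at hup
  have htop : Nat.card (fixer table ([] : List ℕ) : Subgroup Fi23) = Nat.card Fi23 := by
    rw [show (fixer table ([] : List ℕ) : Subgroup Fi23) = ⊤ from rfl]; exact Subgroup.card_top
  rw [htop, card_fi23, ← h1] at hup
  rw [h2] at hlow
  refine le_antisymm (Nat.le_of_mul_le_mul_left hup ?_) ?_
  · by_contra h0
    rw [Nat.not_lt, Nat.le_zero] at h0
    rw [h0, zero_mul] at h1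
    exact absurd h1 (by norm_num)
  · exact le_trans (Nat.le_mul_of_pos_right _ Nat.card_pos) hlow

theorem card_Hs4_dvd : Nat.card (Hs 4) ∣ 294912 := by
  haveI := finite_fi23
  rw [← card_fixer4]
  obtain ⟨γ, hγ⟩ : ∃ x, x = wval gen gamma := ⟨_, rfl⟩
  let f : Hs 4 →* Fi23 := (MulAut.conj γ⁻¹).toMonoidHom.comp (Hs 4).subtype
  have hf : Function.Injective f := fun x y hxy => Subtype.ext ((MulAut.conj γ⁻¹).injective hxy)
  rw [Nat.card_congr (MonoidHom.ofInjective hf).toEquiv]
  refine Subgroup.card_dvd_of_le ?_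
  rintro _ ⟨⟨g, hg⟩, rfl⟩
  refine mem_fixer fun p hp hpN => ?_
  have hmap : ∀ i < 4, γ • Q ([0, 8005, 2524, 52].getD i 0) = R (mIdx i) := by
    intro i hi
    have hlt : [0, 8005, 2524, 52].getD i 0 < tbl.N := by
      have : ((List.range 4).all fun i => Nat.blt ([0, 8005, 2524, 52].getD i 0) tbl.N) = true := by
        decide +kernel
      exact Nat.blt_eq.mp (List.all_eq_true.mp this i (List.mem_range.mpr hi))
    rw [hγ]
    exact smul_Q words_facts.2.1 hlt
      (Nat.beq_eq.mp (List.all_eq_true.mp gamma_check i (List.mem_range.mpr hi)))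
  have hi : ∃ i < 4, [0, 8005, 2524, 52].getD i 0 = p := by
    simp only [List.mem_cons, List.not_mem_nil, or_false] at hp
    rcases hp with rfl | rfl | rfl | rfl
    exacts [⟨3, by norm_num, rfl⟩, ⟨2, by norm_num, rfl⟩, ⟨1, by norm_num, rfl⟩, ⟨0, by norm_num, rfl⟩]
  obtain ⟨i, hi4, rfl⟩ := hi
  have hQ : table ⟨[0, 8005, 2524, 52].getD i 0, hpN⟩ = Q ([0, 8005, 2524, 52].getD i 0) := by
    rw [Q, dif_pos hpN]
  rw [hQ]
  simp only [f, MonoidHom.coe_comp, Function.comp_apply, MulEquiv.coe_toMonoidHom, Subgroup.coe_subtype,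
    MulAut.conj_apply]
  rw [inv_inv, mul_smul, mul_smul, hmap i hi4, (mem_Hs.mp hg).2 i hi4, ← hmap i hi4, inv_smul_smul]

theorem card_H_dvd : Nat.card H ∣ 2 ^ 18 * 3 ^ 13 := by
  have h := card_Hs4_dvd
  have e : Nat.card H = 324 * (27 * (18 * (9 * Nat.card (Hs 4)))) := by
    rw [← card_Hs (i := 3) (by norm_num) lev3_check, ← card_Hs (i := 2) (by norm_num) lev2_check,
      ← card_Hs (i := 1) (by norm_num) lev1_check, ← card_Hs (i := 0) (by norm_num) lev0_check]
    rfl
  rw [e, show (2 : ℕ) ^ 18 * 3 ^ 13 = 324 * (27 * (18 * (9 * 294912))) by norm_num]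
  exact Nat.mul_dvd_mul_left _ (Nat.mul_dvd_mul_left _ (Nat.mul_dvd_mul_left _ (Nat.mul_dvd_mul_left _ h)))

theorem solvable_H : Group.IsSolvable H := by
  haveI := finite_fi23
  obtain ⟨y, z, hy, hz, hyz⟩ := Nat.dvd_mul.mp card_H_dvd
  obtain ⟨a, -, rfl⟩ := (Nat.dvd_prime_pow Nat.prime_two).mp hy
  obtain ⟨b, -, rfl⟩ := (Nat.dvd_prime_pow Nat.prime_three).mp hz
  exact CharInt.isSolvable_of_card_eq Nat.prime_two Nat.prime_three hyz.symm

theorem H_ne_top : H ≠ ⊤ := by
  intro h
  have h1 := card_H_dvd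
  rw [h, Subgroup.card_top, card_fi23] at h1
  exact absurd h1 (by decide +kernel)

/-! ### Maximality -/

theorem S_orbit {p : ℕ} (hp : p < 324) : ∃ g ∈ H, g • R (mIdx 0) = R p := by
  haveI := finite_fi23
  have hcard := orbit_card (i := 0) (by norm_num) lev0_check
  have hsub : MulAction.orbit (Hs 0) (R (mIdx 0)) ⊆ S := by
    rintro _ ⟨⟨g, hg⟩, rfl⟩
    exact smul_mem_S hg ⟨_, (mem_facts (by norm_num)).1, rfl⟩
  have hS : S.ncard ≤ 324 := by
    refine le_trans (Set.ncard_image_le (Set.finite_lt_nat 324)) (le_of_eq ?_)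
    rw [← Nat.card_coe_set_eq]
    simp
  have heq := Set.eq_of_subset_of_ncard_le hsub (hS.trans hcard.ge) S_finite
  have : R p ∈ MulAction.orbit (Hs 0) (R (mIdx 0)) := heq ▸ ⟨p, hp, rfl⟩
  obtain ⟨⟨g, hg⟩, h⟩ := this
  exact ⟨g, hg, h⟩

theorem tree_reach : ∀ i < tbl.N, Q i ∈ S ∨
    ∃ k ∈ H, ∃ c ∈ roots, Q i = k • Q c.1 := by
  have hall : ∀ i < tbl.N, treeStep i = true := by
    have h := tree_check
    rw [← checkBelow_fast] at h
    exact checkBelow_spec h
  have key : ∀ d, ∀ i < tbl.N, tree.get 32 i / 2 % 256 < d →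
      Q i ∈ S ∨ ∃ k ∈ H, ∃ c ∈ roots, Q i = k • Q c.1 := by
    intro d
    induction d with
    | zero => intros; omega
    | succ d ih =>
      intro i hi hd
      have h := hall i hi
      rw [treeStep, force_eq] at h
      cases hv : Nat.beq (tree.get 32 i % 2) 1
      · simp only [hv, cond_false, force_eq, Bool.and_eq_true, Nat.blt_eq, Nat.beq_eq] at h
        obtain ⟨⟨⟨hp, hj⟩, hdep⟩, hpath⟩ := h
        generalize tree.get 32 i / 2 / 256 / 16 = p at *
        generalize tree.get 32 i / 2 / 256 % 16 = j at *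
        rw [words_facts.2.2.2.1] at hj
        have hk : wval gen (hGens.getD j []) ∈ H := by
          have := (sGen_rep (j := j) (by omega)).mem
          rwa [sGen, if_pos hj] at this
        rw [← smul_Q (hGens_lt j) hp hpath]
        rcases ih p hp (by omega) with hS | ⟨k, hk', c, hc, he⟩
        · exact Or.inl (smul_mem_S hk hS)
        · exact Or.inr ⟨_, mul_mem hk hk', c, hc, by rw [he, mul_smul]⟩
      · simp only [hv, cond_true, Bool.or_eq_true, List.contains_eq_mem, decide_eq_true_eq,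
          List.mem_map] at h
        rcases h with h | ⟨c, hc, rfl⟩
        · obtain ⟨p, hp, rfl⟩ := List.getElem_of_mem h
          refine Or.inl ⟨p, d0_facts.1 ▸ hp, ?_⟩
          rw [R, pnt, List.getD_eq_getElem _ _ hp]
        · exact Or.inr ⟨1, one_mem _, c, hc, (one_smul _ _).symm⟩
  exact fun i hi => key _ i hi (Nat.lt_succ_self _)

theorem root_gen {c : ℕ × List ℕ × List (ℕ × List ℕ)} (hc : c ∈ roots) (M : Subgroup Fi23)
    (hM : H ≤ M) (hT : tau (Q c.1) ∈ M) : M = ⊤ := by
  have h := List.all_eq_true.mp roots_check c hc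
  simp only [rootOK, Bool.and_eq_true, List.all_eq_true, Nat.beq_eq, List.mem_range] at h
  obtain ⟨⟨⟨hw, hp⟩, hk⟩, hcert⟩ := h
  have hTw : wval gen (trW c.2.1) ∈ M := by rw [← tau_word (wordOK_spec hw) hp]; exact hT
  have hgen : ∀ j < 9, wval gen (hGens.getD j []) ∈ M := fun j hj => by
    have := hM (sGen_rep (j := j) (by omega)).mem
    rwa [sGen, if_pos hj] at this
  have hflat : ∀ ch : List ℕ, wval gen (certW c.2.1 ch) ∈ M := by
    intro ch
    induction ch with
    | nil => exact one_mem _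
    | cons j ch ih =>
      rw [certW, List.map_cons, List.flatten_cons, wval_append]
      refine mul_mem ih ?_
      rcases lt_trichotomy j 9 with hj | rfl | hj
      · rw [List.getD_append _ _ _ _ (by rw [words_facts.2.2.2.1]; exact hj)]
        exact hgen j hj
      · rw [List.getD_append_right _ _ _ _ (by rw [words_facts.2.2.2.1]), words_facts.2.2.2.1]
        exact hTw
      · rw [List.getD_eq_default _ _ (by simp [words_facts.2.2.2.1]; omega)]
        exact one_mem _
  have hall : ∀ k < 10, gen k ∈ M := by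
    intro k hk10
    have h1 := hk k hk10
    simp only [Bool.or_eq_true, List.contains_eq_mem, decide_eq_true_eq, List.mem_map] at h1
    rcases h1 with h1 | ⟨e, he, rfl⟩
    · obtain ⟨j, hj, hje⟩ := List.getElem_of_mem h1
      have := hgen j (words_facts.2.2.2.1 ▸ hj)
      rw [List.getD_eq_getElem _ _ hj, hje] at this
      simpa [wval] using this
    · have h2 := word_eq (hcert e he)
      have h3 : wval gen [e.1] ∈ M := by
        rw [← h2, wval_append, wval_append, wval_rev]
        exact mul_mem (hflat _) (mul_mem hTw (inv_mem (hflat _)))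
      simpa [wval] using h3
  rw [eq_top_iff, ← closure_gens, Subgroup.closure_le]
  rintro _ ⟨k, hk, rfl⟩
  exact hall k hk

theorem isCoatom_H : IsCoatom H := by
  refine ⟨H_ne_top, fun M hlt => ?_⟩
  obtain ⟨g, hgM, hgH⟩ := SetLike.exists_of_lt hlt
  have : ∃ p < 324, g • R p ∉ S := by
    by_contra hne
    refine hgH (mem_H_of_maps fun p hp => ?_)
    by_contra hout
    exact hne ⟨p, hp, hout⟩
  obtain ⟨p, hp, hout⟩ := this
  obtain ⟨k, hk, hkp⟩ := S_orbit hp
  obtain ⟨i, hi, hQ⟩ := Q_surj (g • R p)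
  rcases tree_reach i hi with hS | ⟨l, hl, c, hc, he⟩
  · exact absurd (hQ ▸ hS) hout
  refine root_gen hc M hlt.le ?_
  have hy : (l⁻¹ * g * k) • R (mIdx 0) = Q c.1 := by
    rw [mul_smul, mul_smul, hkp, ← hQ, he, inv_smul_smul]
  rw [← hy, tau_smul]
  have hyM : l⁻¹ * g * k ∈ M := mul_mem (mul_mem (inv_mem (hlt.le hl)) hgM) (hlt.le hk)
  exact mul_mem (mul_mem hyM (hlt.le (tau_mem (by norm_num)))) (inv_mem hyM)

/-! ### The derived series -/

/-- An element permuting the indices as `B` after the inverse of `A`. -/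
theorem rep_of_comp {g a : Fi23} {W : ℕ} {A B : ℕ → ℕ} (ha : a ∈ H)
    (hA : ∀ q < 324, A q < 324 ∧ a • R q = R (A q))
    (hB : ∀ q < 324, B q < 324 ∧ (g * a) • R q = R (B q))
    (hW : ∀ q < 324, fld W (A q) = B q) : Rep g W := by
  intro p hp
  obtain ⟨q, hq, he⟩ := exists_index (inv_mem ha) hp
  have hAq : A q = p := R_inj (hA q hq).1 hp (by rw [← (hA q hq).2, ← he, smul_inv_smul])
  subst hAq
  rw [hW q hq]
  refine ⟨(hB q hq).1, ?_⟩
  rw [← (hA q hq).2, ← mul_smul]
  exact (hB q hq).2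

theorem node_mem : ∀ t < 9 + derNodes.length,
    ∃ g : H, g ∈ derivedSeries H (nodeLev t) ∧ Rep (g : Fi23) (nodePerm t) := by
  intro t
  induction t using Nat.strong_induction_on with
  | _ t ih =>
    intro ht
    rcases lt_or_ge t 9 with h9 | h9
    · refine ⟨⟨_, (sGen_rep (j := t) (by omega)).mem⟩, ?_, ?_⟩
      · rw [nodeLev, if_pos h9, derivedSeries_zero]; exact Subgroup.mem_top _
      · rw [nodePerm, if_pos h9]; exact sGen_rep (by omega)
    obtain ⟨s, rfl⟩ := Nat.exists_eq_add_of_le h9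
    have h := List.all_eq_true.mp der_check s (List.mem_range.mpr (by omega))
    simp only [derStep, force_eq, Bool.and_eq_true, Nat.blt_eq] at h
    obtain ⟨⟨hx, hy⟩, h⟩ := h
    generalize (derNodes.getD s (0, 0, 0, 0, 0)).2.2.1 = x at *
    generalize (derNodes.getD s (0, 0, 0, 0, 0)).2.2.2.1 = y at *
    obtain ⟨gx, hgx, hPx⟩ := ih x hx (by omega)
    obtain ⟨gy, hgy, hPy⟩ := ih y hy (by omega)
    split at h
    · simp only [Bool.and_eq_true, Nat.beq_eq, List.all_eq_true, List.mem_range] at h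
      obtain ⟨⟨hdx, hdy⟩, hp⟩ := h
      refine ⟨⁅gy, gx⁆, ?_, ?_⟩
      · rw [← hdx, derivedSeries_succ]
        refine Subgroup.commutator_mem_commutator ?_ hgx
        rw [show nodeLev x = nodeLev y by omega]
        exact hgy
      · refine rep_of_comp (a := (gx : Fi23) * gy) (A := fun q => fld (nodePerm x) (fld (nodePerm y) q))
          (B := fun q => fld (nodePerm y) (fld (nodePerm x) q)) (mul_mem gx.2 gy.2)
          (fun q hq => ⟨(hPx _ (hPy q hq).1).1, ?_⟩) (fun q hq => ⟨(hPy _ (hPx q hq).1).1, ?_⟩) hp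
        · rw [mul_smul, (hPy q hq).2, (hPx _ (hPy q hq).1).2]
        · rw [show ((⁅gy, gx⁆ : H) : Fi23) * ((gx : Fi23) * gy) = (gy : Fi23) * gx by
            simp [commutatorElement_def, mul_assoc]]
          rw [mul_smul, (hPx q hq).2, (hPy _ (hPx q hq).1).2]
    · simp only [Bool.and_eq_true, Nat.beq_eq, Nat.blt_eq, List.all_eq_true, List.mem_range] at h
      obtain ⟨⟨hdx, hy9⟩, hp⟩ := h
      refine ⟨gy * gx * gy⁻¹, ?_, ?_⟩
      · rw [← hdx]
        exact (derivedSeries_normal H _).conj_mem _ hgx gy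
      · refine rep_of_comp (a := (gy : Fi23)) (A := fun q => fld (nodePerm y) q)
          (B := fun q => fld (nodePerm y) (fld (nodePerm x) q)) gy.2
          (fun q hq => hPy q hq) (fun q hq => ⟨(hPy _ (hPx q hq).1).1, ?_⟩) hp
        rw [show ((gy * gx * gy⁻¹ : H) : Fi23) * (gy : Fi23) = (gy : Fi23) * gx by simp]
        rw [mul_smul, (hPx q hq).2, (hPy _ (hPx q hq).1).2]

theorem list_mem : ∀ ids : List ℕ, (∀ t ∈ ids, t < 9 + derNodes.length ∧ nodeLev t = 8) →
    ∃ g : H, g ∈ derivedSeries H 8 ∧ ∀ p < 324,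
      ids.foldl (fun q t => fld (nodePerm t) q) p < 324 ∧
        (g : Fi23) • R p = R (ids.foldl (fun q t => fld (nodePerm t) q) p) := by
  intro ids
  induction ids with
  | nil => exact fun _ => ⟨1, one_mem _, fun p hp => ⟨hp, one_smul _ _⟩⟩
  | cons t ids ih =>
    intro h
    obtain ⟨a, ha, hP⟩ := node_mem t (h t List.mem_cons_self).1
    rw [(h t List.mem_cons_self).2] at ha
    obtain ⟨b, hb, hQ⟩ := ih fun u hu => h u (List.mem_cons_of_mem _ hu)
    refine ⟨b * a, mul_mem hb ha, fun p hp => ⟨(hQ _ (hP p hp).1).1, ?_⟩⟩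
    rw [Subgroup.coe_mul, mul_smul, (hP p hp).2, (hQ _ (hP p hp).1).2]
    rfl

/-- Member transpositions as elements of `H`. -/
noncomputable def mT {j : ℕ} (hj : j < 7) : H := ⟨tau (R (mIdx j)), tau_mem hj⟩

theorem comm_mem_D8 {ids : List ℕ} {c : ℕ} (hc : c < 7) (h : lastOK ids c = true) :
    ⁅mT hc * mT (show 4 < 7 by norm_num), mT (show 4 < 7 by norm_num)⁆ ∈ derivedSeries H 8 := by
  simp only [lastOK, Bool.and_eq_true, List.all_eq_true, Nat.blt_eq, Nat.beq_eq, List.mem_range] at h
  obtain ⟨g, hg, hR⟩ := list_mem ids h.1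
  set T : H := mT (show 4 < 7 by norm_num) with hT
  set A : H := mT hc * T with hA
  have hfix : ∀ p < 324, ((A⁻¹ * g : H) : Fi23) • R p = R p := by
    intro p hp
    obtain ⟨-, hgp⟩ := hR p hp
    obtain ⟨h1, h2⟩ := mem_rep (j := 4) (by norm_num) p hp
    rw [h.2 p hp, ← (mem_rep hc _ h1).2, ← h2] at hgp
    rw [Subgroup.coe_mul, mul_smul, hgp, Subgroup.coe_inv, inv_smul_eq_iff, hA, Subgroup.coe_mul,
      mul_smul]
    rfl
  have hk : Commute ((A⁻¹ * g : H) : Fi23) (T : Fi23) := by
    have h1 := congrArg tau (hfix _ (mem_facts (j := 4) (by norm_num)).1)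
    rw [tau_smul, mul_inv_eq_iff_eq_mul] at h1
    exact h1
  have hk' : Commute (A⁻¹ * g) T := Subtype.ext hk
  have heq : ⁅A, T⁆ = g * (T * g⁻¹ * T⁻¹) := by
    calc ⁅A, T⁆ = A * ((A⁻¹ * g) * T * (A⁻¹ * g)⁻¹) * A⁻¹ * T⁻¹ := by
          rw [hk'.eq, mul_inv_cancel_right, commutatorElement_def]
      _ = g * (T * g⁻¹ * T⁻¹) := by group
  rw [heq]
  exact mul_mem hg ((derivedSeries_normal H 8).conj_mem _ (inv_mem hg) T)

theorem derived_ne : derivedSeries H 10 ≠ derivedSeries H 9 := by
  intro heq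
  obtain ⟨n, hn⟩ := (Group.isSolvable_def H).mp solvable_H
  have hstat : ∀ k, derivedSeries H (9 + k) = derivedSeries H 9 := by
    intro k
    induction k with
    | zero => rfl
    | succ k ih =>
      rw [show 9 + (k + 1) = (9 + k) + 1 from rfl, derivedSeries_succ, ih, ← derivedSeries_succ, heq]
  have hbot : derivedSeries H 9 = ⊥ := by
    rw [← hstat n, eq_bot_iff, ← hn]
    exact derivedSeries_antitone H (Nat.le_add_left n 9)
  have hl := last_check
  rw [Bool.and_eq_true] at hl
  have hA := comm_mem_D8 (c := 5) (by norm_num) hl.1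
  have hB := comm_mem_D8 (c := 6) (by norm_num) hl.2
  have hz := Subgroup.commutator_mem_commutator hA hB
  rw [← derivedSeries_succ, hbot, Subgroup.mem_bot] at hz
  have hz' := congrArg (fun x : H => (x : Fi23)) hz
  have hT : ∀ j (hj : j < 7), ((mT hj : H) : Fi23) = wval gen (trW (mWord j)) := fun j hj =>
    tau_word (mem_facts hj).2.1 (mem_facts hj).2.2.2.1
  have hzw : wval gen zW = 1 := by
    rw [← OneMemClass.coe_one H, ← hz']
    simp only [zW, cmW, wval_append, wval_rev, commutatorElement_def, Subgroup.coe_mul, Subgroup.coe_inv,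
      hT, mul_assoc]
  have hc := z_check
  simp only [Bool.and_eq_true, List.any_eq_true, Bool.not_eq_true', Nat.blt_eq] at hc
  obtain ⟨hw, p, -, hp, hne⟩ := hc
  have h1 := smul_Q (wordOK_spec hw) hp rfl
  rw [hzw, one_smul] at h1
  have h2 := Q_inj hp (CosetCert.path_lt Fi23C31671.cert_edgesOK Fi23C31671.cert_nodesOK _
    (wordOK_spec hw) hp) h1
  rw [← h2] at hne
  simp at hne

/-! ### The ambient group -/

theorem not_comm : ¬ ∀ a b : Fi23, a * b = b * a := by
  intro hc
  have h := noncomm_check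
  simp only [List.any_eq_true, Bool.and_eq_true, Bool.not_eq_true', Nat.blt_eq] at h
  obtain ⟨p, -, hp, hne⟩ := h
  have hlt : ∀ w ∈ ([[0, 1], [1, 0]] : List (List ℕ)), ∀ a ∈ w, a < tbl.m := by
    rw [words_facts.2.2.2.2.2]; decide
  have h1 := smul_Q (hlt [0, 1] List.mem_cons_self) hp rfl
  have h2 := smul_Q (hlt [1, 0] (List.mem_cons_of_mem _ List.mem_cons_self)) hp rfl
  have he : wval gen [0, 1] = wval gen [1, 0] := by
    simp only [wval, one_mul]; exact hc _ _
  rw [he, h2] at h1
  have h3 := Q_inj (CosetCert.path_lt Fi23C31671.cert_edgesOK Fi23C31671.cert_nodesOK _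
      (hlt [1, 0] (List.mem_cons_of_mem _ List.mem_cons_self)) hp)
    (CosetCert.path_lt Fi23C31671.cert_edgesOK Fi23C31671.cert_nodesOK _
      (hlt [0, 1] List.mem_cons_self) hp) h1
  rw [h3] at hne
  simp at hne

theorem center_eq_bot : Subgroup.center Fi23 = ⊥ := by
  haveI := simple_fi23
  rcases Subgroup.Normal.eq_bot_or_eq_top (inferInstance : (Subgroup.center Fi23).Normal) with h | h
  · exact h
  · exact absurd (fun a b => (Subgroup.mem_center_iff.mp (h ▸ Subgroup.mem_top b) a)) not_comm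

theorem exists_example :
    ∃ (G : Type) (_ : Group G) (_ : Finite G) (N K : Subgroup G), N.Normal ∧ IsSimpleGroup N ∧
      ¬ IsMulCommutative N ∧ Subgroup.centralizer (N : Set G) = ⊥ ∧ IsCoatom K ∧
      derivedSeries K 10 ≠ derivedSeries K 9 := by
  haveI := simple_fi23
  refine ⟨Fi23, inferInstance, finite_fi23, ⊤, H, inferInstance, ?_, ?_, ?_, isCoatom_H, derived_ne⟩
  · exact Subgroup.topEquiv.isSimpleGroup
  · intro hc
    exact not_comm fun a b =>
      congrArg Subtype.val (hc.is_comm.comm (⟨a, Subgroup.mem_top a⟩ : (⊤ : Subgroup Fi23)) ⟨b, Subgroup.mem_top b⟩)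
  · rw [Subgroup.coe_top, Subgroup.centralizer_univ, center_eq_bot]

end Cfsg.Agent.Presented.Fi23Max
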