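import Cfsg.Prelude.Def_SporCoxeter
import Cfsg.Agent.Lib.Presented.Coset

/-!
# From Coxeter-type presentations to walks in a coset table

A `CoxPresented` group all of whose generators are nodes of its graph is generated by involutions, so a
relator may be read as a word in the generators.  `indexCert` turns a checked `CosetCert` into a
bijection between `Fin N` and the cosets of the subgroup generated by a list of words.
-/

set_option autoImplicit false

namespace Cfsg.Agent.Presented

open Cfsg.Spor

variable {α : Type*} [DecidableEq α] (gens : List α) (edges : List (α × ℕ × α))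
  (extra : List (FreeGroup α))

/-- All relators of the presentation, as a list. -/
def relList : List (FreeGroup α) :=
  (gens.flatMap fun x => gens.map fun y => (FreeGroup.of x * FreeGroup.of y) ^ coxLabel edges x y) ++ extra

/-- The letters of a word in walk order (first letter acts first), as indices into `gens`. -/
def letters (r : FreeGroup α) : List ℕ := (r.toWord.map fun p => gens.idxOf p.1).reverse

/-- Every generator is listed, and is a node of the graph. -/
def gensOK : Bool := gens.all fun x => decide (x ∈ coxNodes edges)

/-- The word list `R` consists of relators, and covers every relator up to reversal and squares. -/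
def relsOK (R : List (List ℕ)) : Bool :=
  let L := (relList gens edges extra).map (letters gens)
  R.all (fun w => L.contains w) &&
    L.all (fun w => w.isEmpty || R.contains w || R.contains w.reverse ||
      (w.length == 2 && w.getD 0 0 == w.getD 1 0))

/-- The `i`-th generator in the presented group (`1` if out of range). -/
def genFun (i : ℕ) : CoxPresented α edges extra :=
  if h : i < gens.length then PresentedGroup.of gens[i] else 1

variable {gens edges extra}

theorem lift_eq_prod {G : Type*} [Group G] (f : α → G) (hf : ∀ x, f x * f x = 1) (r : FreeGroup α) :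
    FreeGroup.lift f r = (r.toWord.map fun p => f p.1).prod := by
  conv_lhs => rw [← FreeGroup.mk_toWord (x := r)]
  rw [FreeGroup.lift_mk]
  congr 1
  apply List.map_congr_left
  intro p _
  cases p.2
  · exact (eq_inv_of_mul_eq_one_left (hf p.1)).symm
  · rfl

theorem lift_eq_wval {G : Type*} [Group G] (f : α → G) (hf : ∀ x, f x * f x = 1)
    (hall : ∀ x, x ∈ gens) (s : ℕ → G) (hs : ∀ x, s (gens.idxOf x) = f x) (r : FreeGroup α) :
    FreeGroup.lift f r = wval s (letters gens r) := by
  rw [lift_eq_prod f hf, wval_eq_prod, letters, List.map_reverse, List.reverse_reverse, List.map_map]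
  congr 1
  apply List.map_congr_left
  intro p _
  exact (hs p.1).symm

theorem node_of_gensOK (hall : ∀ x, x ∈ gens) (hg : gensOK gens edges = true) (x : α) :
    x ∈ coxNodes edges := by
  simp only [gensOK, List.all_eq_true, decide_eq_true_eq] at hg
  exact hg x (hall x)

theorem of_mul_self (hall : ∀ x, x ∈ gens) (hg : gensOK gens edges = true) (x : α) :
    (PresentedGroup.of x * PresentedGroup.of x : CoxPresented α edges extra) = 1 := by
  have hx := node_of_gensOK hall hg x
  have := PresentedGroup.one_of_mem (rels := coxRelators edges ∪ {r | r ∈ extra})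
    (x := (FreeGroup.of x * FreeGroup.of x) ^ coxLabel edges x x) (Or.inl ⟨x, hx, x, hx, rfl⟩)
  rw [show coxLabel edges x x = 1 by simp [coxLabel], pow_one, map_mul] at this
  exact this

theorem genFun_idxOf (hall : ∀ x, x ∈ gens) (x : α) :
    genFun gens edges extra (gens.idxOf x) = PresentedGroup.of x := by
  rw [genFun, dif_pos (List.idxOf_lt_length_of_mem (hall x)), List.getElem_idxOf]

theorem genFun_mul_self (hall : ∀ x, x ∈ gens) (hg : gensOK gens edges = true) (i : ℕ) :
    genFun gens edges extra i * genFun gens edges extra i = 1 := by
  unfold genFun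
  split
  · exact of_mul_self hall hg _
  · rw [mul_one]

theorem mk_eq_wval (hall : ∀ x, x ∈ gens) (hg : gensOK gens edges = true) (r : FreeGroup α) :
    (PresentedGroup.mk (coxRelators edges ∪ {r | r ∈ extra}) r : CoxPresented α edges extra) =
      wval (genFun gens edges extra) (letters gens r) := by
  rw [← lift_eq_wval (fun x => (PresentedGroup.of x : CoxPresented α edges extra))
    (of_mul_self hall hg) hall _ (genFun_idxOf hall)]
  have : PresentedGroup.mk (coxRelators edges ∪ {r | r ∈ extra}) =
      FreeGroup.lift (fun x => (PresentedGroup.of x : CoxPresented α edges extra)) := by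
    ext x
    rw [FreeGroup.lift_apply_of]; rfl
  rw [this]

theorem mem_relList (hall : ∀ x, x ∈ gens) {r : FreeGroup α}
    (hr : r ∈ coxRelators edges ∪ {r | r ∈ extra}) : r ∈ relList gens edges extra := by
  rw [relList, List.mem_append]
  rcases hr with ⟨x, -, y, -, rfl⟩ | hr
  · left
    rw [List.mem_flatMap]
    exact ⟨x, hall x, List.mem_map.mpr ⟨y, hall y, rfl⟩⟩
  · exact Or.inr hr

theorem rels_of_mem_relList (hall : ∀ x, x ∈ gens) (hg : gensOK gens edges = true) {r : FreeGroup α}
    (hr : r ∈ relList gens edges extra) : r ∈ coxRelators edges ∪ {r | r ∈ extra} := by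
  rw [relList, List.mem_append] at hr
  rcases hr with hr | hr
  · rw [List.mem_flatMap] at hr
    obtain ⟨x, -, hr⟩ := hr
    obtain ⟨y, -, rfl⟩ := List.mem_map.mp hr
    exact Or.inl ⟨x, node_of_gensOK hall hg x, y, node_of_gensOK hall hg y, rfl⟩
  · exact Or.inr hr

theorem wval_rels (hall : ∀ x, x ∈ gens) (hg : gensOK gens edges = true) {R : List (List ℕ)}
    (hrels : relsOK gens edges extra R = true) :
    ∀ w ∈ R, wval (genFun gens edges extra) w = 1 := by
  intro w hw
  simp only [relsOK, Bool.and_eq_true, List.all_eq_true, List.contains_eq_mem, decide_eq_true_eq] at hrels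
  obtain ⟨r, hr, rfl⟩ := List.mem_map.mp (hrels.1 w hw)
  rw [← mk_eq_wval hall hg]
  exact PresentedGroup.one_of_mem (rels_of_mem_relList hall hg hr)

/-- The permutation of `Fin N` given by a generator in a checked table (identity if out of range). -/
noncomputable def tablePerm {D : CosetCert} (he : D.edgesOK = true) (hn : D.nodesOK = true) (g : ℕ) :
    Equiv.Perm (Fin D.N) :=
  if hg : g < D.m then
    Function.Involutive.toPerm (fun i => ⟨D.actOf i g, CosetCert.actOf_lt he hn i.2 hg⟩)
      fun i => Fin.ext (CosetCert.actOf_actOf he hn i.2 hg)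
  else 1

theorem tablePerm_apply {D : CosetCert} (he : D.edgesOK = true) (hn : D.nodesOK = true) {g : ℕ}
    (hg : g < D.m) (i : Fin D.N) : ((tablePerm he hn g) i : ℕ) = D.actOf i g := by
  rw [tablePerm, dif_pos hg]; rfl

theorem tablePerm_wval {D : CosetCert} (he : D.edgesOK = true) (hn : D.nodesOK = true) :
    ∀ (w : List ℕ), (∀ g ∈ w, g < D.m) → ∀ i : Fin D.N,
      ((wval (tablePerm he hn) w) i : ℕ) = D.path w i := by
  intro w
  induction w with
  | nil => intro _ i; simp [wval]
  | cons g w ih =>
    intro hw i
    have hg := hw g List.mem_cons_self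
    rw [wval, Equiv.Perm.mul_apply, ih (fun x hx => hw x (List.mem_cons_of_mem _ hx)),
      tablePerm_apply he hn hg]
    simp

variable {D : CosetCert} (hall : ∀ x, x ∈ gens) (hg : gensOK gens edges = true)
  (hm : D.m = gens.length) (he : D.edgesOK = true) (hn : D.nodesOK = true) (hw : D.wordsOK = true)
  (hsub : D.subOK = true) (hrels : relsOK gens edges extra (D.words.take D.nR) = true)

include hall hg hm he hn hw hrels in
theorem tableRels : ∀ r ∈ coxRelators edges ∪ {r | r ∈ extra},
    FreeGroup.lift (fun x => tablePerm he hn (gens.idxOf x)) r = 1 := by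
  intro r hr
  have hf : ∀ g, tablePerm he hn g * tablePerm he hn g = 1 := by
    intro g
    unfold tablePerm
    split
    · refine Equiv.ext fun i => ?_
      exact Function.Involutive.toPerm_involutive _ i
    · rw [mul_one]
  rw [lift_eq_wval (fun x => tablePerm he hn (gens.idxOf x)) (fun x => hf _) hall _ (fun _ => rfl)]
  have hlt : ∀ g ∈ letters gens r, g < D.m := by
    intro g hgm
    simp only [letters, List.mem_reverse, List.mem_map] at hgm
    obtain ⟨p, -, rfl⟩ := hgm
    rw [hm]; exact List.idxOf_lt_length_of_mem (hall _)
  simp only [relsOK, Bool.and_eq_true, List.all_eq_true, List.contains_eq_mem, decide_eq_true_eq,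
    Bool.or_eq_true] at hrels
  simp only [CosetCert.wordsOK] at hw
  have key : ∀ w, (∀ g ∈ w, g < D.m) → w ∈ D.words.take D.nR → wval (tablePerm he hn) w = 1 := by
    intro w hwlt hwR
    ext i
    rw [tablePerm_wval he hn w hwlt, Equiv.Perm.one_apply]
    have h := checkBelow_spec hw i.1 i.2
    rw [CosetCert.checkWords, allList_eq, List.all_eq_true] at h
    exact Nat.beq_eq.mp (h w hwR)
  rcases hrels.2 _ (List.mem_map.mpr ⟨r, mem_relList hall hr, rfl⟩) with ((h | h) | h) | h
  · rw [List.isEmpty_iff] at h; rw [h]; rfl
  · exact key _ hlt h
  · have h1 := key _ (fun g hg => hlt g (List.mem_reverse.mp hg)) h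
    rw [wval_eq_prod, List.map_reverse, List.reverse_reverse] at h1
    rw [wval_eq_prod]
    have hinv : ((letters gens r).map (tablePerm he hn)).reverse.prod =
        ((letters gens r).map (tablePerm he hn)).prod⁻¹ := by
      rw [List.prod_inv_reverse, List.map_map]
      refine congrArg List.prod (congrArg List.reverse (List.map_congr_left fun g _ => ?_))
      exact eq_inv_of_mul_eq_one_left (hf g)
    rw [hinv, h1, inv_one]
  · simp only [Nat.beq_eq, beq_iff_eq] at h
    generalize letters gens r = w at *
    match w, h with
    | [a, b], h =>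
      obtain rfl : a = b := by simpa using h.2
      simp [wval, hf a]

/-- The permutation representation on a checked coset table. -/
noncomputable def tableHom : CoxPresented α edges extra →* Equiv.Perm (Fin D.N) :=
  PresentedGroup.toGroup (tableRels hall hg hm he hn hw hrels)

theorem tableHom_genFun {g : ℕ} (hlt : g < D.m) (hnodup : gens.Nodup) :
    tableHom hall hg hm he hn hw hrels (genFun gens edges extra g) = tablePerm he hn g := by
  rw [genFun, dif_pos (hm ▸ hlt), tableHom, PresentedGroup.toGroup.of, hnodup.idxOf_getElem g (hm ▸ hlt)]

include hall hg hm he hn hw hsub hrels in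
/-- A checked certificate gives an equivariant bijection with the cosets of the subgroup `H` generated by
the images of `Hgens`, the first subgroup words of the certificate. -/
theorem indexCert (hnodup : gens.Nodup) (Hgens : List (FreeGroup α))
    (H : Subgroup (CoxPresented α edges extra))
    (hH : H = (Subgroup.closure {x | x ∈ Hgens}).map
      (PresentedGroup.mk (coxRelators edges ∪ {r | r ∈ extra})))
    (hwords : (D.words.drop D.nR).take Hgens.length = Hgens.map (letters gens))
    (hmore : ∀ w ∈ (D.words.drop D.nR).drop Hgens.length, wval (genFun gens edges extra) w ∈ H) :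
    ∃ e : Fin D.N ≃ CoxPresented α edges extra ⧸ H,
      (∀ i : Fin D.N, (i : ℕ) = 0 → e i = QuotientGroup.mk 1) ∧
      ∀ g (hgm : g < D.m) (i : Fin D.N),
        genFun gens edges extra g • e i = e ⟨D.actOf i g, CosetCert.actOf_lt he hn i.2 hgm⟩ := by
  have hgens : ∀ x ∈ Hgens, wval (genFun gens edges extra) (letters gens x) ∈ H := fun x hx => by
    rw [← mk_eq_wval hall hg, hH]
    exact Subgroup.mem_map_of_mem _ (Subgroup.subset_closure hx)
  refine CosetCert.exists_equiv he hn H (fun g _ => genFun_mul_self hall hg g)
    (wval_rels hall hg hrels) ?_ hw hsub ?_ (tableHom hall hg hm he hn hw hrels) ?_ ?_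
  · intro w hwK
    rw [← List.take_append_drop Hgens.length (D.words.drop D.nR), List.mem_append, hwords] at hwK
    rcases hwK with h | h
    · obtain ⟨x, hx, rfl⟩ := List.mem_map.mp h
      exact hgens x hx
    · exact hmore w h
  · rw [eq_top_iff, ← PresentedGroup.closure_range_of, Subgroup.closure_le]
    rintro _ ⟨x, rfl⟩
    exact Subgroup.subset_closure
      ⟨gens.idxOf x, by rw [Set.mem_ofPred_eq, hm]; exact List.idxOf_lt_length_of_mem (hall x),
        genFun_idxOf hall x⟩
  · intro g hlt i
    rw [tableHom_genFun hall hg hm he hn hw hrels hlt hnodup, tablePerm_apply he hn hlt]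
  · intro h hh
    rw [hH] at hh
    obtain ⟨u, hu, rfl⟩ := Subgroup.mem_map.mp hh
    clear hh
    induction hu using Subgroup.closure_induction with
    | mem x hx =>
      intro i hi
      have hlt : ∀ g ∈ letters gens x, g < D.m := by
        intro g hgm
        simp only [letters, List.mem_reverse, List.mem_map] at hgm
        obtain ⟨p, -, rfl⟩ := hgm
        rw [hm]; exact List.idxOf_lt_length_of_mem (hall _)
      have hmem : letters gens x ∈ D.words.drop D.nR := by
        apply List.mem_of_mem_take (i := Hgens.length)
        rw [hwords]; exact List.mem_map.mpr ⟨x, hx, rfl⟩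
      have hfix := List.all_eq_true.mp hsub _ hmem
      have : tableHom hall hg hm he hn hw hrels (PresentedGroup.mk _ x) =
          wval (tablePerm he hn) (letters gens x) := by
        rw [show tableHom hall hg hm he hn hw hrels (PresentedGroup.mk _ x) =
          FreeGroup.lift (fun y => tablePerm he hn (gens.idxOf y)) x from rfl]
        refine lift_eq_wval _ (fun y => ?_) hall _ (fun _ => rfl) x
        have := congrArg (tableHom hall hg hm he hn hw hrels) (of_mul_self (extra := extra) hall hg y)
        rwa [map_mul, map_one, tableHom, PresentedGroup.toGroup.of] at this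
      apply Fin.ext
      rw [this, tablePerm_wval he hn _ hlt, hi]
      exact Nat.beq_eq.mp hfix
    | one => intro i _; simp
    | mul a b _ _ iha ihb =>
      intro i hi
      rw [map_mul, map_mul, Equiv.Perm.mul_apply, ihb i hi, iha i hi]
    | inv a _ iha =>
      intro i hi
      rw [map_inv, map_inv, Equiv.Perm.inv_eq_iff_eq, iha i hi]

end Cfsg.Agent.Presented
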