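import Cfsg.Agent.Lib.Presented.Order
import Cfsg.Agent.Lib.Presented.Words
import Cfsg.Agent.Lib.Mathieu.Rigid

/-!
# Outer automorphisms from a coset table

A chain of transversals whose sizes multiply to the order of the group lists every element once.  A
pruned search along it finds all `g` with `g * u = v * g`.  As in `Mathieu.Rigid`, every outer class has
a representative fixing `y` with `x ↦ x ^ a`; the image of `t` is then one of the found elements, and
relations exclude all but the allowed ones.
-/

set_option autoImplicit false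

namespace Cfsg.Agent.Presented

variable {G : Type*} [Group G] {s : ℕ → G} {D : CosetCert} {X : Type*} [MulAction G X] {pt : ℕ → X}

/-- The walks of a table describe the action on the numbered points. -/
structure Model (D : CosetCert) (s : ℕ → G) (pt : ℕ → X) : Prop where
  inj : ∀ i j, i < D.N → j < D.N → pt i = pt j → i = j
  step : ∀ w : List ℕ, (∀ g ∈ w, g < D.m) → ∀ i, i < D.N →
    D.path w i < D.N ∧ wval s w • pt i = pt (D.path w i)
  sq : ∀ g, s g * s g = 1

theorem model_of_equiv {H : Subgroup G} (he : D.edgesOK = true) (hn : D.nodesOK = true)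
    (e : Fin D.N ≃ G ⧸ H)
    (hequiv : ∀ g (hg : g < D.m) (i : Fin D.N),
      s g • e i = e ⟨D.actOf i g, CosetCert.actOf_lt he hn i.2 hg⟩)
    (hs : ∀ g, s g * s g = 1) :
    Model D s (fun i => if h : i < D.N then e ⟨i, h⟩ else (QuotientGroup.mk 1 : G ⧸ H)) := by
  refine ⟨fun i j hi hj h => ?_, fun w hw i hi => ?_, hs⟩
  · simp only [dif_pos hi, dif_pos hj] at h
    exact congrArg Fin.val (e.injective h)
  · refine ⟨CosetCert.path_lt he hn w hw hi, ?_⟩
    simp only [dif_pos hi, dif_pos (CosetCert.path_lt he hn w hw hi)]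
    exact CosetCert.smul_path he hn e hequiv w hw ⟨i, hi⟩

theorem wval_reverse (hs : ∀ g, s g * s g = 1) (u : List ℕ) : wval s u.reverse = (wval s u)⁻¹ := by
  rw [wval_eq_prod, wval_eq_prod, List.map_reverse, List.reverse_reverse, List.prod_inv_reverse,
    List.map_reverse, List.reverse_reverse, List.map_map]
  exact congrArg List.prod (List.map_congr_left fun g _ => eq_inv_of_mul_eq_one_left (hs g))

/-- Replace letters by words. -/
def subst (ws : List (List ℕ)) (w : List ℕ) : List ℕ := w.flatMap fun i => ws.getD i []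

theorem wval_subst (ws : List (List ℕ)) (w : List ℕ) :
    wval s (subst ws w) = wval (fun i => wval s (ws.getD i [])) w := by
  induction w with
  | nil => rfl
  | cons i w ih => rw [subst, List.flatMap_cons, wval_append, ← subst, ih]; rfl

theorem subst_mem_lt {n : ℕ} {ws : List (List ℕ)} (h : ∀ w ∈ ws, ∀ g ∈ w, g < n) (w : List ℕ) :
    ∀ g ∈ subst ws w, g < n := by
  intro g hg
  obtain ⟨i, -, hi⟩ := List.mem_flatMap.1 hg
  by_cases hl : i < ws.length
  · rw [List.getD_eq_getElem _ _ hl] at hi
    exact h _ (List.getElem_mem hl) g hi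
  · rw [List.getD_eq_default _ _ (by omega)] at hi
    simp at hi

/-- `k` copies of a word. -/
def rep (k : ℕ) (w : List ℕ) : List ℕ := (List.replicate k w).flatten

theorem wval_rep (w : List ℕ) (k : ℕ) : wval s (rep k w) = wval s w ^ k := wval_replicate w k

/-- All letters are generator numbers. -/
def lettersOK (D : CosetCert) (w : List ℕ) : Bool := w.all fun g => Nat.blt g D.m

theorem lettersOK_spec {w : List ℕ} (h : lettersOK D w = true) : ∀ g ∈ w, g < D.m := by
  simpa [lettersOK] using h

/-! ## Chains of transversals -/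

/-- A base point and its representatives: image and word, by increasing image. -/
abbrev RLevel : Type := ℕ × List (ℕ × List ℕ)

/-- Strictly increasing lists. -/
def incr : List ℕ → Bool
  | [] => true
  | [_] => true
  | a :: b :: rest => Nat.blt a b && incr (b :: rest)

theorem incr_spec : ∀ {l : List ℕ}, incr l = true → l.Pairwise (· < ·)
  | [], _ => List.Pairwise.nil
  | [a], _ => List.pairwise_singleton _ a
  | a :: b :: rest, h => by
    rw [incr, Bool.and_eq_true, Nat.blt_eq] at h
    have ih := incr_spec h.2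
    refine List.pairwise_cons.2 ⟨fun c hc => ?_, ih⟩
    rcases List.mem_cons.1 hc with rfl | hc
    · exact h.1
    · exact lt_trans h.1 ((List.pairwise_cons.1 ih).1 c hc)

/-- The check of one level over the points `ps`. -/
noncomputable def rlevelOK (D : CosetCert) (ps : List ℕ) (l : RLevel) : Bool :=
  Nat.blt l.1 D.N && incr (l.2.map Prod.fst) &&
    l.2.all fun t => lettersOK D t.2 && Nat.beq (D.path t.2 l.1) t.1 &&
      ps.all fun p => Nat.blt p D.N && Nat.beq (D.path t.2 p) p

/-- The check of a chain over the points `ps`. -/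
noncomputable def rchainOK (D : CosetCert) : List RLevel → List ℕ → Bool
  | [], _ => true
  | l :: ls, ps => rlevelOK D ps l && rchainOK D ls (l.1 :: ps)

theorem rchainOK_cons {l : RLevel} {ls : List RLevel} {ps : List ℕ} (h1 : rlevelOK D ps l = true)
    (h2 : rchainOK D ls (l.1 :: ps) = true) : rchainOK D (l :: ls) ps = true := by
  rw [rchainOK, h1, h2]; rfl

/-- A word packed as a hexadecimal numeral of known length. -/
def unpackW : ℕ → ℕ → List ℕ
  | 0, _ => []
  | k + 1, n => Nat.land n 15 :: unpackW k (Nat.shiftRight n 4)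

/-- The sizes of the levels. -/
def rsize (ls : List RLevel) : ℕ := (ls.map fun l => l.2.length).prod

/-- The base points. -/
def rbase (ls : List RLevel) : List ℕ := ls.map Prod.fst

open Classical in
/-- The elements listed by a chain. -/
noncomputable def rvals (s : ℕ → G) : List RLevel → Finset G
  | [] => {1}
  | l :: ls => Finset.image₂ (fun (t : ℕ × List ℕ) r => wval s t.2 * r) l.2.toFinset (rvals s ls)

theorem rvals_fix (M : Model D s pt) :
    ∀ (ls : List RLevel) (ps : List ℕ), rchainOK D ls ps = true → ∀ g ∈ rvals s ls, ∀ p ∈ ps,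
      g • pt p = pt p := by
  intro ls
  induction ls with
  | nil => intro ps _ g hg p _; rw [rvals, Finset.mem_singleton] at hg; rw [hg, one_smul]
  | cons l ls ih =>
    intro ps h g hg p hp
    classical
    simp only [rchainOK, rlevelOK, Bool.and_eq_true, List.all_eq_true, Nat.blt_eq, Nat.beq_eq] at h
    rw [rvals, Finset.mem_image₂] at hg
    obtain ⟨t, ht, r, hr, rfl⟩ := hg
    obtain ⟨⟨hw, -⟩, hfix⟩ := h.1.2 t (List.mem_toFinset.1 ht)
    obtain ⟨hpN, hpfix⟩ := hfix p hp
    rw [mul_smul, ih _ h.2 r hr p (List.mem_cons_of_mem _ hp),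
      (M.step _ (lettersOK_spec hw) p hpN).2, hpfix]

theorem rvals_eq_of_base (M : Model D s pt) :
    ∀ (ls : List RLevel) (ps : List ℕ), rchainOK D ls ps = true → ∀ g ∈ rvals s ls, ∀ g' ∈ rvals s ls,
      (∀ p ∈ rbase ls, g • pt p = g' • pt p) → g = g' := by
  intro ls
  induction ls with
  | nil =>
    intro ps _ g hg g' hg' _
    rw [rvals, Finset.mem_singleton] at hg hg'
    rw [hg, hg']
  | cons l ls ih =>
    intro ps h g hg g' hg' hbase
    classical
    simp only [rchainOK, rlevelOK, Bool.and_eq_true, List.all_eq_true, Nat.blt_eq, Nat.beq_eq] at h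
    obtain ⟨⟨⟨hb, hincr⟩, hts⟩, hrest⟩ := h
    rw [rvals, Finset.mem_image₂] at hg hg'
    obtain ⟨t, ht, r, hr, rfl⟩ := hg
    obtain ⟨t', ht', r', hr', rfl⟩ := hg'
    rw [List.mem_toFinset] at ht ht'
    have himg : ∀ u ∈ l.2, ∀ q ∈ rvals s ls, (wval s u.2 * q) • pt l.1 = pt u.1 ∧ u.1 < D.N := by
      intro u hu q hq
      obtain ⟨⟨hw, himg⟩, -⟩ := hts u hu
      rw [mul_smul, rvals_fix M ls _ hrest q hq l.1 List.mem_cons_self,
        (M.step _ (lettersOK_spec hw) l.1 hb).2, himg]
      exact ⟨rfl, himg ▸ (M.step _ (lettersOK_spec hw) l.1 hb).1⟩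
    have h1 := hbase l.1 List.mem_cons_self
    rw [(himg t ht r hr).1, (himg t' ht' r' hr').1] at h1
    obtain rfl : t = t' := List.inj_on_of_nodup_map
      (List.Pairwise.imp (fun h => ne_of_lt h) (incr_spec hincr)) ht ht'
      (M.inj _ _ (himg t ht r hr).2 (himg t' ht' r' hr').2 h1)
    rw [ih _ hrest r hr r' hr' fun p hp => ?_]
    have h2 := hbase p (List.mem_cons_of_mem _ hp)
    rw [mul_smul, mul_smul] at h2
    exact MulAction.injective (wval s t.2) h2

theorem card_rvals (M : Model D s pt) :
    ∀ (ls : List RLevel) (ps : List ℕ), rchainOK D ls ps = true → (rvals s ls).card = rsize ls := by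
  intro ls
  induction ls with
  | nil => intro ps _; simp [rvals, rsize]
  | cons l ls ih =>
    intro ps h
    classical
    have h' := h
    simp only [rchainOK, rlevelOK, Bool.and_eq_true, List.all_eq_true, Nat.blt_eq, Nat.beq_eq] at h
    obtain ⟨⟨⟨hb, hincr⟩, hts⟩, hrest⟩ := h
    have hnd : l.2.Nodup := List.Nodup.of_map Prod.fst
      (List.Pairwise.imp (fun h => ne_of_lt h) (incr_spec hincr))
    rw [rvals, Finset.card_image₂_iff.2, List.toFinset_card_of_nodup hnd, ih _ hrest]
    · simp [rsize]
    rintro ⟨t, r⟩ ht ⟨t', r'⟩ ht' he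
    simp only [Set.mem_prod, Finset.mem_coe, List.mem_toFinset] at ht ht'
    simp only at he
    have himg : ∀ u ∈ l.2, ∀ q ∈ rvals s ls, (wval s u.2 * q) • pt l.1 = pt u.1 ∧ u.1 < D.N := by
      intro u hu q hq
      obtain ⟨⟨hw, himg⟩, -⟩ := hts u hu
      rw [mul_smul, rvals_fix M ls _ hrest q hq l.1 List.mem_cons_self,
        (M.step _ (lettersOK_spec hw) l.1 hb).2, himg]
      exact ⟨rfl, himg ▸ (M.step _ (lettersOK_spec hw) l.1 hb).1⟩
    have h1 := congrArg (fun g : G => g • pt l.1) he
    simp only [(himg t ht.1 r ht.2).1, (himg t' ht'.1 r' ht'.2).1] at h1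
    obtain rfl : t = t' := List.inj_on_of_nodup_map
      (List.Pairwise.imp (fun h => ne_of_lt h) (incr_spec hincr)) ht.1 ht'.1
      (M.inj _ _ (himg t ht.1 r ht.2).2 (himg t' ht'.1 r' ht'.2).2 h1)
    rw [mul_right_inj] at he
    rw [he]

theorem mem_rvals [Finite G] (M : Model D s pt) {ls : List RLevel}
    (h : rchainOK D ls [] = true) (hcard : Nat.card G ≤ rsize ls) (g : G) : g ∈ rvals s ls := by
  classical
  have := Fintype.ofFinite G
  have he : rvals s ls = Finset.univ :=
    Finset.eq_univ_of_card _ (le_antisymm (Finset.card_le_univ _)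
      (by rw [card_rvals M ls [] h, ← Nat.card_eq_fintype_card]; exact hcard))
  rw [he]; exact Finset.mem_univ g

/-! ## Equality of words -/

/-- The points determine the elements. -/
def IsBaseFor (pt : ℕ → X) (G : Type*) [Group G] [MulAction G X] (bs : List ℕ) : Prop :=
  ∀ g g' : G, (∀ p ∈ bs, g • pt p = g' • pt p) → g = g'

theorem isBaseFor [Finite G] (M : Model D s pt) {ls : List RLevel}
    (h : rchainOK D ls [] = true) (hcard : Nat.card G ≤ rsize ls) : IsBaseFor pt G (rbase ls) :=
  fun g g' hh => rvals_eq_of_base M ls [] h g (mem_rvals M h hcard g) g' (mem_rvals M h hcard g') hh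

/-- Two words agree on the points. -/
noncomputable def sameOn (D : CosetCert) (bs : List ℕ) (u v : List ℕ) : Bool :=
  lettersOK D u && lettersOK D v && bs.all fun p => Nat.blt p D.N && Nat.beq (D.path u p) (D.path v p)

/-- A word fixes the points. -/
noncomputable def isOne (D : CosetCert) (bs : List ℕ) (u : List ℕ) : Bool :=
  bs.all fun p => Nat.beq (D.path u p) p

theorem eq_of_sameOn (M : Model D s pt) {bs : List ℕ} (hB : IsBaseFor pt G bs) {u v : List ℕ}
    (h : sameOn D bs u v = true) : wval s u = wval s v := by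
  simp only [sameOn, Bool.and_eq_true, List.all_eq_true, Nat.blt_eq, Nat.beq_eq] at h
  obtain ⟨⟨hu, hv⟩, hp⟩ := h
  refine hB _ _ fun p hpm => ?_
  rw [(M.step u (lettersOK_spec hu) p (hp p hpm).1).2, (M.step v (lettersOK_spec hv) p (hp p hpm).1).2,
    (hp p hpm).2]

theorem sameOn_of_eq (M : Model D s pt) {bs : List ℕ} {u v : List ℕ} (hu : lettersOK D u = true)
    (hv : lettersOK D v = true) (hb : ∀ p ∈ bs, p < D.N) (h : wval s u = wval s v) :
    sameOn D bs u v = true := by
  simp only [sameOn, hu, hv, Bool.true_and, List.all_eq_true, Bool.and_eq_true, Nat.blt_eq, Nat.beq_eq]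
  intro p hp
  obtain ⟨h1, e1⟩ := M.step u (lettersOK_spec hu) p (hb p hp)
  obtain ⟨h2, e2⟩ := M.step v (lettersOK_spec hv) p (hb p hp)
  rw [h] at e1
  exact ⟨hb p hp, M.inj _ _ h1 h2 (e1.symm.trans e2)⟩

theorem isOne_of_eq (M : Model D s pt) {bs : List ℕ} {u : List ℕ} (hu : lettersOK D u = true)
    (hb : ∀ p ∈ bs, p < D.N) (h : wval s u = 1) : isOne D bs u = true := by
  simp only [isOne, List.all_eq_true, Nat.beq_eq]
  intro p hp
  obtain ⟨h1, e1⟩ := M.step u (lettersOK_spec hu) p (hb p hp)
  rw [h, one_smul] at e1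
  exact M.inj _ _ h1 (hb p hp) e1.symm

theorem eq_one_of_isOne (M : Model D s pt) {bs : List ℕ} (hB : IsBaseFor pt G bs) {u : List ℕ}
    (hu : lettersOK D u = true) (hb : ∀ p ∈ bs, p < D.N) (h : isOne D bs u = true) : wval s u = 1 := by
  simp only [isOne, List.all_eq_true, Nat.beq_eq] at h
  refine hB _ _ fun p hp => ?_
  rw [(M.step u (lettersOK_spec hu) p (hb p hp)).2, h p hp, one_smul]

/-! ## The search -/

/-- An image already chosen: a point, its image under `u`, its image under the element. -/
abbrev Fixed : Type := ℕ × ℕ × ℕ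

/-- The representatives left by the images already chosen. -/
noncomputable def candidates (D : CosetCert) (v : List ℕ) (lu : RLevel × ℕ) (fixed : List Fixed)
    (acc : List ℕ) : List (ℕ × List ℕ) :=
  match fixed.find? (fun (q : Fixed) => Nat.beq q.2.1 lu.1.1) with
  | some q => force (D.path acc.reverse (D.path v q.2.2)) fun x =>
      lu.1.2.filter fun (t : ℕ × List ℕ) => Nat.beq t.1 x
  | none => lu.1.2

/-- A new image does not contradict those already chosen. -/
noncomputable def consistent (D : CosetCert) (v : List ℕ) (lu : RLevel × ℕ) (fixed : List Fixed)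
    (gb : ℕ) : Bool :=
  match fixed.find? (fun (q : Fixed) => Nat.beq q.1 lu.2) with
  | some q => Nat.beq (D.path v gb) q.2.2
  | none => !(Nat.beq lu.2 lu.1.1) || Nat.beq (D.path v gb) gb

/-- All candidates for `g` with `g * u = v * g`; each level carries the image of its point under `u`. -/
noncomputable def search (D : CosetCert) (v : List ℕ) :
    List (RLevel × ℕ) → List Fixed → List ℕ → List (List ℕ)
  | [], _, acc => [acc]
  | lu :: rest, fixed, acc =>
    (candidates D v lu fixed acc).flatMap fun (t : ℕ × List ℕ) =>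
      force (D.path acc t.1) fun gb =>
        if consistent D v lu fixed gb then
          search D v rest ((lu.1.1, lu.2, gb) :: fixed) (t.2 ++ acc)
        else []

/-- The images of the base points under `u` are right. -/
noncomputable def imagesOK (D : CosetCert) (u : List ℕ) (ls : List (RLevel × ℕ)) : Bool :=
  lettersOK D u && ls.all fun l => Nat.beq (D.path u l.1.1) l.2

theorem mem_search (M : Model D s pt) {u v : List ℕ} (hu : lettersOK D u = true)
    (hv : lettersOK D v = true) :
    ∀ (ls : List (RLevel × ℕ)) (fixed : List Fixed) (ps : List ℕ) (acc : List ℕ),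
      ps = fixed.map Prod.fst → lettersOK D acc = true → imagesOK D u ls = true →
      rchainOK D (ls.map Prod.fst) ps = true →
      (∀ q ∈ fixed, q.1 < D.N ∧ q.2.2 < D.N ∧ D.path u q.1 = q.2.1 ∧
        wval s acc • pt q.1 = pt q.2.2) →
      ∀ r ∈ rvals s (ls.map Prod.fst), wval s acc * r * wval s u = wval s v * (wval s acc * r) →
        ∃ l ∈ search D v ls fixed acc, lettersOK D l = true ∧ wval s l = wval s acc * r := by
  intro ls
  induction ls with
  | nil =>
    intro fixed ps acc _ hacc _ _ _ r hr _
    rw [List.map_nil, rvals, Finset.mem_singleton] at hr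
    exact ⟨acc, by simp [search], hacc, by rw [hr, mul_one]⟩
  | cons lu rest ih =>
    obtain ⟨l, ub⟩ := lu
    intro fixed ps acc hps hacc himg hok hfixed r hr heq
    classical
    simp only [List.map_cons, rchainOK, rlevelOK, Bool.and_eq_true, List.all_eq_true, Nat.blt_eq,
      Nat.beq_eq] at hok
    obtain ⟨⟨⟨hb, -⟩, hts⟩, hrest⟩ := hok
    simp only [imagesOK, Bool.and_eq_true, List.all_cons, Nat.beq_eq] at himg
    obtain ⟨-, hub, himgs⟩ := himg
    rw [List.map_cons, rvals, Finset.mem_image₂] at hr
    obtain ⟨t, ht, r', hr', rfl⟩ := hr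
    rw [List.mem_toFinset] at ht
    obtain ⟨⟨htw, htimg⟩, htfix⟩ := hts t ht
    have hAC : lettersOK D (t.2 ++ acc) = true := by
      simp only [lettersOK, List.all_append, Bool.and_eq_true] at htw hacc ⊢
      exact ⟨htw, hacc⟩
    have hrfix := rvals_fix M _ _ hrest r' hr'
    have hgb := M.step acc (lettersOK_spec hacc) t.1
      (htimg ▸ (M.step _ (lettersOK_spec htw) l.1 hb).1)
    set gb := D.path acc t.1 with hgbdef
    have hg : wval s acc * (wval s t.2 * r') = wval s (t.2 ++ acc) * r' := by
      rw [wval_append, mul_assoc]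
    -- images of the fixed points and of the new one
    have hF : ∀ q ∈ (l.1, ub, gb) :: fixed, q.1 < D.N ∧ q.2.2 < D.N ∧ D.path u q.1 = q.2.1 ∧
        wval s (t.2 ++ acc) • pt q.1 = pt q.2.2 := by
      intro q hq
      rcases List.mem_cons.1 hq with rfl | hq
      · refine ⟨hb, hgb.1, hub, ?_⟩
        rw [wval_append, mul_smul, (M.step _ (lettersOK_spec htw) l.1 hb).2, htimg, hgb.2]
      · obtain ⟨h1, h2, h3, h4⟩ := hfixed q hq
        refine ⟨h1, h2, h3, ?_⟩
        rw [wval_append, mul_smul, (M.step _ (lettersOK_spec htw) q.1 h1).2,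
          (htfix q.1 (hps ▸ List.mem_map_of_mem hq)).2, h4]
    have hval : ∀ q ∈ (l.1, ub, gb) :: fixed,
        (wval s (t.2 ++ acc) * r') • pt q.1 = pt q.2.2 := by
      intro q hq
      rw [mul_smul, hrfix q.1 ?_, (hF q hq).2.2.2]
      rcases List.mem_cons.1 hq with rfl | hq
      · exact List.mem_cons_self
      · exact List.mem_cons_of_mem _ (hps ▸ List.mem_map_of_mem hq)
    have hrel : ∀ q ∈ (l.1, ub, gb) :: fixed, ∀ q' ∈ (l.1, ub, gb) :: fixed, q.2.1 = q'.1 →
        D.path v q.2.2 = q'.2.2 := by
      intro q hq q' hq' he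
      obtain ⟨h1, h2, h3, -⟩ := hF q hq
      have hs1 := (M.step u (lettersOK_spec hu) q.1 h1).2
      have hs2 := M.step v (lettersOK_spec hv) q.2.2 h2
      have e1 : (wval s (t.2 ++ acc) * r' * wval s u) • pt q.1 = pt q'.2.2 := by
        rw [mul_smul, hs1, h3, he, hval q' hq']
      rw [← hg, heq, hg, mul_smul, hval q hq, hs2.2] at e1
      exact M.inj _ _ hs2.1 (hF q' hq').2.1 e1
    obtain ⟨w, hw, hwl, hwv⟩ := ih ((l.1, ub, gb) :: fixed) (l.1 :: ps) (t.2 ++ acc)
      (by rw [List.map_cons, hps]) hAC
      (by simp only [imagesOK, Bool.and_eq_true]; exact ⟨hu, himgs⟩) hrest hF r' hr'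
      (by rw [← hg]; exact heq)
    refine ⟨w, ?_, hwl, by rw [hwv, hg]⟩
    rw [search, List.mem_flatMap]
    refine ⟨t, ?_, ?_⟩
    · rw [candidates]
      split
      · next q hq =>
        have hqm := List.mem_of_find?_eq_some hq
        have hqb := List.find?_some hq
        rw [Nat.beq_eq] at hqb
        rw [force_eq, List.mem_filter, Nat.beq_eq]
        refine ⟨ht, ?_⟩
        rw [hrel q (List.mem_cons_of_mem _ hqm) (l.1, ub, gb) List.mem_cons_self hqb]
        -- undo `acc`
        have ht1 : t.1 < D.N := htimg ▸ (M.step _ (lettersOK_spec htw) l.1 hb).1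
        have hrev : lettersOK D acc.reverse = true := by
          simpa [lettersOK] using hacc
        have hst := M.step _ (lettersOK_spec hrev) gb hgb.1
        have e := hst.2
        rw [wval_reverse M.sq, ← hgb.2, inv_smul_smul] at e
        exact M.inj _ _ ht1 hst.1 e
      · exact ht
    · rw [force_eq, if_pos]
      · exact hw
      · rw [consistent]
        split
        · next q hq =>
          have hqm := List.mem_of_find?_eq_some hq
          have hqb := List.find?_some hq
          rw [Nat.beq_eq] at hqb ⊢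
          exact hrel (l.1, ub, gb) List.mem_cons_self q (List.mem_cons_of_mem _ hqm) hqb.symm
        · by_cases hs' : ub = l.1
          · rw [Bool.or_eq_true, Nat.beq_eq]
            exact Or.inr (hrel _ List.mem_cons_self _ List.mem_cons_self hs')
          · rw [Bool.or_eq_true, Bool.not_eq_true', ← Bool.not_eq_true, Nat.beq_eq]
            exact Or.inl hs'

/-- Two words agree on the points, the letters not being checked again. -/
noncomputable def agree (D : CosetCert) (bs : List ℕ) (u v : List ℕ) : Bool :=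
  bs.all fun p => Nat.beq (D.path u p) (D.path v p)

/-- All elements `g` with `g * u = v * g`. -/
noncomputable def solutions (D : CosetCert) (bs : List ℕ) (ls : List (RLevel × ℕ)) (u v : List ℕ) :
    List (List ℕ) :=
  (search D v ls [] []).filter fun g => agree D bs (u ++ g) (g ++ v)

/-- The chain with only `n` of the first representatives, from number `lo`. -/
def slice (ls : List (RLevel × ℕ)) (lo n : ℕ) : List (RLevel × ℕ) :=
  match ls with
  | [] => []
  | ((b, ts), ub) :: rest => ((b, (ts.drop lo).take n), ub) :: rest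

theorem incr_of_pairwise : ∀ {l : List ℕ}, l.Pairwise (· < ·) → incr l = true
  | [], _ => rfl
  | [_], _ => rfl
  | a :: b :: rest, h => by
    rw [incr, Bool.and_eq_true, Nat.blt_eq]
    exact ⟨(List.pairwise_cons.1 h).1 b List.mem_cons_self, incr_of_pairwise (List.pairwise_cons.1 h).2⟩

theorem rchainOK_slice {ls : List (RLevel × ℕ)} {ps : List ℕ} (h : rchainOK D (ls.map Prod.fst) ps = true)
    (lo n : ℕ) : rchainOK D ((slice ls lo n).map Prod.fst) ps = true := by
  rcases ls with _ | ⟨⟨⟨b, ts⟩, ub⟩, rest⟩
  · exact h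
  simp only [slice, List.map_cons, rchainOK, rlevelOK, Bool.and_eq_true, List.all_eq_true] at h ⊢
  have hsub : ((ts.drop lo).take n).Sublist ts := (List.take_sublist _ _).trans (List.drop_sublist _ _)
  exact ⟨⟨⟨h.1.1.1, incr_of_pairwise ((incr_spec h.1.1.2).sublist (hsub.map _))⟩,
    fun t ht => h.1.2 t (hsub.subset ht)⟩, h.2⟩

theorem imagesOK_slice {ls : List (RLevel × ℕ)} {u : List ℕ} (h : imagesOK D u ls = true) (lo n : ℕ) :
    imagesOK D u (slice ls lo n) = true := by
  rcases ls with _ | ⟨⟨⟨b, ts⟩, ub⟩, rest⟩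
  · exact h
  simpa [imagesOK, slice] using h

/-- Elements with `g * u = v * g` are found. -/
theorem exists_solution_of_mem (M : Model D s pt) {bs : List ℕ} (hb : ∀ p ∈ bs, p < D.N)
    {ls : List (RLevel × ℕ)} {u v : List ℕ} (hls : rchainOK D (ls.map Prod.fst) [] = true)
    (himg : imagesOK D u ls = true) (hv : lettersOK D v = true) {g : G}
    (hg : g ∈ rvals s (ls.map Prod.fst)) (h : g * wval s u = wval s v * g) :
    ∃ l ∈ solutions D bs ls u v, lettersOK D l = true ∧ wval s l = g := by
  have hu : lettersOK D u = true := by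
    simp only [imagesOK, Bool.and_eq_true] at himg; exact himg.1
  obtain ⟨l, hl, hlw, hlv⟩ := mem_search M hu hv ls [] [] [] rfl rfl himg hls
    (fun q hq => absurd hq (List.not_mem_nil)) g hg
    (by rw [show wval s ([] : List ℕ) = 1 from rfl, one_mul]; exact h)
  rw [show wval s ([] : List ℕ) = 1 from rfl, one_mul] at hlv
  refine ⟨l, List.mem_filter.2 ⟨hl, ?_⟩, hlw, hlv⟩
  have h1 : lettersOK D (u ++ l) = true := by
    simp only [lettersOK, List.all_append, Bool.and_eq_true] at hu hlw ⊢
    exact ⟨hu, hlw⟩
  have h2 : lettersOK D (l ++ v) = true := by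
    simp only [lettersOK, List.all_append, Bool.and_eq_true] at hlw hv ⊢
    exact ⟨hlw, hv⟩
  have h3 := sameOn_of_eq M h1 h2 hb (by rw [wval_append, wval_append, hlv, h])
  simp only [sameOn, Bool.and_eq_true, List.all_eq_true] at h3
  simp only [agree, List.all_eq_true]
  exact fun p hp => (h3.2 p hp).2

theorem exists_solution [Finite G] (M : Model D s pt) {bs : List ℕ} (hb : ∀ p ∈ bs, p < D.N)
    {ls : List (RLevel × ℕ)} {u v : List ℕ} (hls : rchainOK D (ls.map Prod.fst) [] = true)
    (hcard : Nat.card G ≤ rsize (ls.map Prod.fst)) (himg : imagesOK D u ls = true)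
    (hv : lettersOK D v = true) {g : G} (h : g * wval s u = wval s v * g) :
    ∃ l ∈ solutions D bs ls u v, lettersOK D l = true ∧ wval s l = g :=
  exists_solution_of_mem M hb hls himg hv (mem_rvals M hls hcard g) h

/-- The search split along the first level. -/
theorem exists_solution_slices [Finite G] (M : Model D s pt) {bs : List ℕ} (hb : ∀ p ∈ bs, p < D.N)
    {l₀ : RLevel × ℕ} {rest : List (RLevel × ℕ)} {u v : List ℕ}
    (hls : rchainOK D ((l₀ :: rest).map Prod.fst) [] = true)
    (hcard : Nat.card G ≤ rsize ((l₀ :: rest).map Prod.fst)) (himg : imagesOK D u (l₀ :: rest) = true)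
    (hv : lettersOK D v = true) {K : ℕ} (hK : 0 < K) {g : G} (h : g * wval s u = wval s v * g) :
    ∃ k, k * K < l₀.1.2.length ∧
      ∃ l ∈ solutions D bs (slice (l₀ :: rest) (k * K) K) u v, lettersOK D l = true ∧ wval s l = g := by
  have hg := mem_rvals M hls hcard g
  obtain ⟨⟨b, ts⟩, ub⟩ := l₀
  classical
  rw [List.map_cons, rvals, Finset.mem_image₂] at hg
  obtain ⟨t, ht, r, hr, hgr⟩ := hg
  obtain ⟨i, hi, hti⟩ := List.mem_iff_getElem.1 (List.mem_toFinset.1 ht)
  have hi' : i < ts.length := hi
  refine ⟨i / K, lt_of_le_of_lt (Nat.div_mul_le_self i K) hi', ?_⟩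
  refine exists_solution_of_mem M hb (rchainOK_slice hls _ _) (imagesOK_slice himg _ _) hv ?_ h
  rw [slice, List.map_cons, rvals, Finset.mem_image₂]
  refine ⟨t, List.mem_toFinset.2 ?_, r, hr, hgr⟩
  have h1 : i % K < K := Nat.mod_lt _ hK
  have h2 : i / K * K + i % K = i := by rw [Nat.mul_comm]; exact Nat.div_add_mod i K
  rw [List.mem_iff_getElem?]
  refine ⟨i % K, ?_⟩
  rw [List.getElem?_take_of_lt h1, List.getElem?_drop, h2, List.getElem?_eq_getElem hi']
  exact congrArg some hti

/-! ## Automorphisms -/

/-- A relation: a word in `x, x⁻¹, t, t⁻¹` and an exponent. -/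
abbrev RRel : Type := List ℕ × ℕ

/-- The value of a relation word on a pair. -/
def relWord (x t : List ℕ) (r : RRel) : List ℕ := rep r.2 (subst [x, x.reverse, t, t.reverse] r.1)

/-- The data of a certificate. -/
structure RigidCert where
  p : ℕ
  r : ℕ
  s : ℕ
  j : ℕ
  x : List ℕ
  y : List ℕ
  t : List ℕ
  R : List ℕ
  /-- Base for equality of words. -/
  bs : List ℕ
  /-- All images allowed for `(x, t)`. -/
  allowed : List (ℕ × List ℕ)
  rels : List RRel
  /-- The generators as words in `x, x⁻¹, t, t⁻¹, y, y⁻¹`. -/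
  words : List (List ℕ)
  /-- The solutions of `g * y = y ^ j * g`. -/
  cands : List (List ℕ)

/-- The checks that do not search. -/
noncomputable def RigidCert.basicOK (d : RigidCert) (D : CosetCert) : Bool :=
  Mathieu.expOK d.p d.r d.s d.R &&
    sameOn D d.bs (rep d.p d.x) [] && !isOne D d.bs d.x &&
    sameOn D d.bs (d.x ++ d.y) (d.y ++ rep d.r d.x) &&
    sameOn D d.bs (d.y ++ d.t) (d.t ++ rep d.j d.y) &&
    (d.rels.all fun r => isOne D d.bs (relWord d.x d.t r)) &&
    lettersOK D d.x && lettersOK D d.y && lettersOK D d.t && Nat.beq d.words.length D.m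

/-- A candidate is allowed or violates a relation. -/
noncomputable def RigidCert.candOK (d : RigidCert) (D : CosetCert) (a : ℕ) (l : List ℕ) : Bool :=
  (d.allowed.any fun q => Nat.beq q.1 a && sameOn D d.bs l q.2) ||
    d.rels.any fun r => !isOne D d.bs (relWord (rep a d.x) l r)

theorem lettersOK_reverse {w : List ℕ} (h : lettersOK D w = true) : lettersOK D w.reverse = true := by
  simpa [lettersOK] using h

theorem lettersOK_rep {w : List ℕ} (h : lettersOK D w = true) (k : ℕ) :
    lettersOK D (rep k w) = true := by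
  simp only [lettersOK, List.all_eq_true, Nat.blt_eq] at h ⊢
  intro g hg
  simp only [rep, List.mem_flatten, List.mem_replicate] at hg
  obtain ⟨l, ⟨-, rfl⟩, hgl⟩ := hg
  exact h g hgl

theorem lettersOK_relWord {x t : List ℕ} (hx : lettersOK D x = true) (ht : lettersOK D t = true)
    (r : RRel) : lettersOK D (relWord x t r) = true := by
  refine lettersOK_rep ?_ _
  simp only [lettersOK, List.all_eq_true, Nat.blt_eq]
  refine subst_mem_lt ?_ _
  intro w hw
  simp only [List.mem_cons, List.not_mem_nil, or_false] at hw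
  rcases hw with rfl | rfl | rfl | rfl
  exacts [lettersOK_spec hx, lettersOK_spec (lettersOK_reverse hx), lettersOK_spec ht,
    lettersOK_spec (lettersOK_reverse ht)]

theorem map_relWord (hs : ∀ g, s g * s g = 1) (f : G →* G) {x t x' t' : List ℕ}
    (hx : f (wval s x) = wval s x') (ht : f (wval s t) = wval s t') (r : RRel) :
    f (wval s (relWord x t r)) = wval s (relWord x' t' r) := by
  rw [relWord, relWord, wval_rep, wval_rep, map_pow, wval_subst, wval_subst, wval_map]
  congr 1
  rw [wval_eq_prod, wval_eq_prod]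
  congr 2
  refine List.map_congr_left fun i _ => ?_
  rcases i with _ | _ | _ | _ | i
  · exact hx
  · simp only [List.getD_cons_succ, List.getD_cons_zero, wval_reverse hs, map_inv, hx]
  · exact ht
  · simp only [List.getD_cons_succ, List.getD_cons_zero, wval_reverse hs, map_inv, ht]
  · simp [List.getD_eq_default, wval]

/-- At most as many outer classes as allowed images. -/
theorem outer_finite_card_le [Finite G] (M : Model D s pt)
    (hgen : Subgroup.closure (s '' {g | g < D.m}) = ⊤) (d : RigidCert)
    (hB : IsBaseFor pt G d.bs) (hbs : ∀ p ∈ d.bs, p < D.N)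
    (hp : d.p.Prime) (hp2 : ¬ d.p ^ 2 ∣ Nat.card G) (hb : d.basicOK D = true)
    (hwords : ((List.range D.m).all fun g => sameOn D d.bs [g]
      (subst [d.x, d.x.reverse, d.t, d.t.reverse, d.y, d.y.reverse] (d.words.getD g []))) = true)
    (hC : ∀ g, g * wval s d.x = wval s d.x * g → ∃ k, k < d.p ∧ g = wval s d.x ^ k)
    (hcands : ∀ g, g * wval s d.y = wval s d.y ^ d.j * g →
      ∃ l ∈ d.cands, lettersOK D l = true ∧ wval s l = g)
    (hok : ∀ a ∈ d.R, ∀ l ∈ d.cands, d.candOK D a l = true) :
    Finite (Cfsg.Out G) ∧ Nat.card (Cfsg.Out G) ≤ d.allowed.length := by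
  simp only [RigidCert.basicOK, Bool.and_eq_true, List.all_eq_true, Bool.not_eq_true'] at hb
  obtain ⟨⟨⟨⟨⟨⟨⟨⟨⟨hex, hxp⟩, hx1⟩, hyx⟩, hty⟩, hrels⟩, hxl⟩, hyl⟩, htl⟩, -⟩ := hb
  set X := wval s d.x with hX
  set Y := wval s d.y with hY
  set T := wval s d.t with hT
  have hord : orderOf X = d.p := by
    have := Fact.mk hp
    refine orderOf_eq_prime ?_ fun h => ?_
    · rw [hX, ← wval_rep]; exact (eq_of_sameOn M hB hxp).trans rfl
    · rw [isOne_of_eq M hxl hbs h] at hx1
      exact absurd hx1 (by simp)
  have hact : Y * X * Y⁻¹ = X ^ d.r := by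
    have := eq_of_sameOn M hB hyx
    rw [wval_append, wval_append, wval_rep] at this
    rw [mul_inv_eq_iff_eq_mul]
    exact this
  have hty' : T * Y = Y ^ d.j * T := by
    have := eq_of_sameOn M hB hty
    rwa [wval_append, wval_append, wval_rep] at this
  have hdense : Subgroup.closure ({X, T, Y} : Set G) = ⊤ := by
    rw [eq_top_iff, ← hgen, Subgroup.closure_le]
    rintro _ ⟨g, hg, rfl⟩
    have h := eq_of_sameOn M hB ((List.all_eq_true.1 hwords) g (List.mem_range.2 hg))
    rw [show wval s [g] = s g by simp [wval], wval_subst] at h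
    rw [SetLike.mem_coe, h, wval_eq_prod]
    refine Subgroup.list_prod_mem _ fun z hz => ?_
    rw [List.mem_reverse, List.mem_map] at hz
    obtain ⟨i, -, rfl⟩ := hz
    rcases i with _ | _ | _ | _ | _ | _ | i <;>
      simp only [List.getD_cons_succ, List.getD_cons_zero, wval_reverse M.sq, List.getD_nil]
    · exact Subgroup.subset_closure (by simp [hX])
    · exact Subgroup.inv_mem _ (Subgroup.subset_closure (by simp [hX]))
    · exact Subgroup.subset_closure (by simp [hT])
    · exact Subgroup.inv_mem _ (Subgroup.subset_closure (by simp [hT]))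
    · exact Subgroup.subset_closure (by simp [hY])
    · exact Subgroup.inv_mem _ (Subgroup.subset_closure (by simp [hY]))
    · exact Subgroup.one_mem _
  have key : ∀ φ : MulAut G, ∃ i : Fin d.allowed.length, ∃ ψ : MulAut G,
      (ψ : Cfsg.Out G) = (φ : Cfsg.Out G) ∧ ψ Y = Y ∧
        ψ X = X ^ d.allowed[i.val].1 ∧ ψ T = wval s d.allowed[i.val].2 := by
    intro φ
    obtain ⟨ψ, hψ, a, ha, hψx, hψy⟩ := Mathieu.exists_normalised hp hex hord hp2 hC hact φ
    have h1 := congrArg ψ hty'
    rw [map_mul, map_mul, map_pow, hψy] at h1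
    obtain ⟨l, hl, hll, hlv⟩ := hcands (ψ T) h1
    have h2 := hok a ha l hl
    simp only [RigidCert.candOK, Bool.or_eq_true, List.any_eq_true, Bool.and_eq_true, Nat.beq_eq,
      Bool.not_eq_true'] at h2
    rcases h2 with ⟨q, hq, hqa, hsame⟩ | ⟨r, hr, hne⟩
    · obtain ⟨i, hi, hiq⟩ := List.getElem_of_mem hq
      refine ⟨⟨i, hi⟩, ψ, hψ, hψy, ?_, ?_⟩
      · rw [hiq, hqa]; exact hψx
      · rw [hiq, ← eq_of_sameOn M hB hsame, hlv]
    · exfalso
      have h3 := eq_one_of_isOne M hB (lettersOK_relWord hxl htl r) hbs (hrels r hr)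
      have h4 := map_relWord M.sq ψ.toMonoidHom (x := d.x) (t := d.t) (x' := rep a d.x) (t' := l)
        (by rw [wval_rep]; exact hψx) hlv.symm r
      rw [h3, map_one] at h4
      rw [isOne_of_eq M (lettersOK_relWord (lettersOK_rep hxl a) hll r) hbs h4.symm] at hne
      exact absurd hne (by simp)
  choose idxOf autOf hclass hY' hX' hT' using key
  have huniq : ∀ φ φ' : MulAut G, idxOf φ = idxOf φ' → (φ : Cfsg.Out G) = (φ' : Cfsg.Out G) := by
    intro φ φ' h
    rw [← hclass φ, ← hclass φ']
    congr 1
    have hXe := hX' φ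
    have hTe := hT' φ
    rw [h] at hXe hTe
    have heq : (autOf φ).toMonoidHom = (autOf φ').toMonoidHom :=
      MonoidHom.eq_of_eqOn_dense hdense fun z hz => by
        rcases hz with rfl | rfl | rfl
        · exact hXe.trans (hX' φ').symm
        · exact hTe.trans (hT' φ').symm
        · exact (hY' φ).trans (hY' φ').symm
    exact MulEquiv.ext fun z => DFunLike.congr_fun heq z
  let f : Cfsg.Out G → Fin d.allowed.length := fun c => idxOf c.out
  have hf : Function.Injective f := fun c c' h => by
    simpa using huniq _ _ h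
  have : Finite (Cfsg.Out G) := Finite.of_injective f hf
  exact ⟨this, (Nat.card_le_card_of_injective f hf).trans_eq (Nat.card_fin _)⟩

section Presentation

open Cfsg.Spor

variable {α : Type*} [DecidableEq α] {gens : List α} {edges : List (α × ℕ × α)}
  {extra : List (FreeGroup α)}

/-- The images satisfy the relators. -/
noncomputable def imgsOK (D : CosetCert) (bs : List ℕ) (gens : List α) (edges : List (α × ℕ × α))
    (extra : List (FreeGroup α)) (imgs : List (List ℕ)) : Bool :=
  ((List.range gens.length).all fun g => sameOn D bs (imgs.getD g [] ++ imgs.getD g []) []) &&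
    ((relList gens edges extra).map (letters gens)).all fun w => sameOn D bs (subst imgs w) []

theorem exists_endomorphism {Y : Type*} [MulAction (CoxPresented α edges extra) Y] {pY : ℕ → Y}
    (hall : ∀ x, x ∈ gens) (M : Model D (genFun gens edges extra) pY) {bs : List ℕ}
    (hB : IsBaseFor pY (CoxPresented α edges extra) bs) {imgs : List (List ℕ)}
    (hnd : gens.Nodup) (hlen : D.m = gens.length) (h : imgsOK D bs gens edges extra imgs = true) :
    ∃ f : CoxPresented α edges extra →* CoxPresented α edges extra, ∀ w : List ℕ,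
      (∀ g ∈ w, g < D.m) →
        f (wval (genFun gens edges extra) w) = wval (genFun gens edges extra) (subst imgs w) := by
  simp only [imgsOK, Bool.and_eq_true, List.all_eq_true, List.mem_range] at h
  obtain ⟨hsq, hrel⟩ := h
  let im : α → CoxPresented α edges extra := fun x =>
    wval (genFun gens edges extra) (imgs.getD (gens.idxOf x) [])
  have him : ∀ x, im x * im x = 1 := fun x => by
    have := eq_of_sameOn M hB (hsq _ (List.idxOf_lt_length_of_mem (hall x)))
    rwa [wval_append] at this
  have hrels : ∀ r ∈ coxRelators edges ∪ {r | r ∈ extra}, FreeGroup.lift im r = 1 := by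
    intro r hr
    rw [lift_eq_wval im him hall (fun i => wval (genFun gens edges extra) (imgs.getD i [])) (fun _ => rfl),
      ← wval_subst, eq_of_sameOn M hB (hrel _ (List.mem_map_of_mem (mem_relList hall hr)))]
    rfl
  refine ⟨PresentedGroup.toGroup hrels, fun w hw => ?_⟩
  rw [wval_subst, wval_map, wval_eq_prod, wval_eq_prod]
  congr 2
  refine List.map_congr_left fun g hg => ?_
  have hlt : g < gens.length := hlen ▸ hw g hg
  show (PresentedGroup.toGroup hrels) (genFun gens edges extra g) = _
  rw [genFun, dif_pos hlt, PresentedGroup.toGroup.of]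
  show wval _ (imgs.getD (gens.idxOf gens[g]) []) = _
  congr 2
  exact hnd.idxOf_getElem g hlt

end Presentation

theorem exists_outer [Finite G] [IsSimpleGroup G] (M : Model D s pt) {bs : List ℕ}
    (hbs : ∀ p ∈ bs, p < D.N) (f : G →* G) {x dx : List ℕ} (hdx : lettersOK D dx = true)
    (hfx : f (wval s x) = wval s dx) (hne : isOne D bs dx = false)
    (hno : ∀ g, g * wval s x ≠ wval s dx * g) : ∃ c : Cfsg.Out G, c ≠ 1 := by
  have hker : f.ker = ⊥ := by
    rcases IsSimpleGroup.eq_bot_or_eq_top_of_normal f.ker inferInstance with h | h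
    · exact h
    · have hm : f (wval s x) = 1 := MonoidHom.mem_ker.1 (h ▸ Subgroup.mem_top _)
      rw [hfx] at hm
      rw [isOne_of_eq M hdx hbs hm] at hne
      exact absurd hne (by simp)
  have hinj : Function.Injective f := (MonoidHom.ker_eq_bot_iff f).1 hker
  let φ : MulAut G := MulEquiv.ofBijective f ⟨hinj, Finite.injective_iff_surjective.1 hinj⟩
  refine ⟨(φ : Cfsg.Out G), fun h => ?_⟩
  obtain ⟨g, hg⟩ := (QuotientGroup.eq_one_iff φ).1 h
  have hgx : g * wval s x = wval s dx * g := by
    have h1 : MulAut.conj g (wval s x) = f (wval s x) := by rw [hg]; rfl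
    rw [hfx, MulAut.conj_apply] at h1
    exact mul_inv_eq_iff_eq_mul.1 h1
  exact hno g hgx

end Cfsg.Agent.Presented
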