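import Cfsg.Agent.Lib.Presented.Order
import Cfsg.Agent.Lib.Presented.Count

/-!
# Stabiliser chains with one-sided orbit checks

For a lower bound of the order it is enough that the listed points are reached from the base point; the
closure of the orbit need not be checked.  This makes the cost of a level proportional to its orbit.
-/

set_option autoImplicit false

namespace Cfsg.Agent.Presented

namespace CosetCert

/-- All points of the orbit data are connected to `root`. -/
noncomputable def reachOK (D : CosetCert) (Ks : List (List ℕ)) (t : NTree) (root : ℕ) : Bool :=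
  Nat.blt root D.N && inOrbit t root && (Ks.all fun k => k.all fun g => Nat.blt g D.m) &&
  checkFast (fun i =>
      !(inOrbit t i) || Nat.beq i root ||
        force (t.get 64 i / 512) fun e => force (e / Ks.length) fun p => force (e % Ks.length) fun j =>
          Nat.blt p D.N && Nat.blt j Ks.length && inOrbit t p &&
            Nat.blt (t.get 64 p / 2 % 256) (t.get 64 i / 2 % 256) &&
            Nat.beq (D.path (Ks.getD j []) p) i)
    D.depth D.N

variable {D : CosetCert} {Ks : List (List ℕ)} {t : NTree}
variable {G : Type*} [Group G] {s : ℕ → G} {H : Subgroup G}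

theorem reach_le [Finite G] (he : D.edgesOK = true) (hn : D.nodesOK = true) (e : Fin D.N ≃ G ⧸ H)
    (hequiv : ∀ g (hg : g < D.m) (i : Fin D.N), s g • e i = e ⟨D.actOf i g, actOf_lt he hn i.2 hg⟩)
    {A : Subgroup G} (hle : A = Subgroup.closure {x | ∃ k ∈ Ks, x = wval s k}) {root : ℕ} (hroot : root < D.N)
    (hok : D.reachOK Ks t root = true) (hd : D.N < 2 ^ D.depth) :
    D.orbitCount t ≤ (MulAction.orbit A (e ⟨root, hroot⟩)).ncard := by
  simp only [reachOK, Bool.and_eq_true, List.all_eq_true, Nat.blt_eq] at hok
  obtain ⟨⟨⟨-, hin⟩, hlt⟩, hchk⟩ := hok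
  rw [← checkBelow_fast] at hchk
  have hall := checkBelow_spec hchk
  rw [orbitCount, countBelow_spec _ hd]
  refine le_of_eq_of_le (?_ : _ = (e '' {i : Fin D.N | inOrbit t i.1 = true}).ncard)
    (Set.ncard_le_ncard ?_ (Set.toFinite _))
  · rw [Set.ncard_image_of_injective _ e.injective, ← Nat.card_coe_set_eq]
    rfl
  rintro x ⟨i, hi, rfl⟩
  have key : ∀ d, ∀ i : Fin D.N, t.get 64 i.1 / 2 % 256 < d → inOrbit t i.1 = true →
      e i ∈ MulAction.orbit A (e ⟨root, hroot⟩) := by
    intro d
    induction d with
    | zero => intros; omega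
    | succ d ih =>
      intro i hid hi
      have := hall i.1 i.2
      simp only [Bool.and_eq_true, Bool.or_eq_true, force_eq, hi, Bool.not_true,
        Bool.false_eq_true, false_or, Nat.blt_eq, Nat.beq_eq] at this
      rcases this with h | ⟨⟨⟨⟨hp, hj⟩, hpin⟩, hdep⟩, hpath⟩
      · rw [show i = ⟨root, hroot⟩ from Fin.ext h]; exact MulAction.mem_orbit_self _
      · generalize t.get 64 i.1 / 512 / Ks.length = p at *
        generalize t.get 64 i.1 / 512 % Ks.length = j at *
        rw [List.getD_eq_getElem _ _ hj] at hpath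
        have hmem : wval s Ks[j] ∈ A := by
          rw [hle]
          exact Subgroup.subset_closure ⟨_, List.getElem_mem hj, rfl⟩
        have h1 := smul_path he hn e hequiv Ks[j] (hlt _ (List.getElem_mem hj)) ⟨p, hp⟩
        have h2 := MulAction.mem_orbit_of_mem_orbit (⟨_, hmem⟩ : A)
          (ih ⟨p, hp⟩ (Nat.lt_of_lt_of_le hdep (Nat.le_of_lt_succ hid)) hpin)
        rw [show (⟨_, hmem⟩ : A) • e ⟨p, hp⟩ = wval s Ks[j] • e ⟨p, hp⟩ from rfl, h1] at h2
        rw [show i = ⟨D.path Ks[j] p, path_lt he hn _ (hlt _ (List.getElem_mem hj)) hp⟩ from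
          Fin.ext hpath.symm]
        exact h2
  exact key _ i (Nat.lt_succ_self _) hi

end CosetCert

/-- Check of a stabiliser chain with one-sided orbit checks below the points `ps`. -/
noncomputable def reachChainOK (D : CosetCert) (ls : List Level) : List ℕ → Bool :=
  List.rec (motive := fun _ => List ℕ → Bool) (fun _ => true)
    (fun l _ ih ps => (ps.all fun p => l.gens.all fun k => Nat.beq (D.path k p) p) &&
      D.reachOK l.gens l.orb l.pt && Nat.beq (countFast (CosetCert.inOrbit l.orb) D.depth D.N) l.size && ih (l.pt :: ps)) ls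

theorem reachChainOK_nil {D : CosetCert} (ps : List ℕ) : reachChainOK D [] ps = true := rfl

/-- A chain is checked level by level. -/
theorem reachChainOK_cons {D : CosetCert} {l : Level} {ls : List Level} {ps : List ℕ}
    (h₁ : reachChainOK D [l] ps = true) (h₂ : reachChainOK D ls (l.pt :: ps) = true) :
    reachChainOK D (l :: ls) ps = true := by
  change ((ps.all fun p => l.gens.all fun k => Nat.beq (D.path k p) p) &&
      D.reachOK l.gens l.orb l.pt && Nat.beq (countFast (CosetCert.inOrbit l.orb) D.depth D.N) l.size &&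
        reachChainOK D [] (l.pt :: ps)) = true at h₁
  change ((ps.all fun p => l.gens.all fun k => Nat.beq (D.path k p) p) &&
      D.reachOK l.gens l.orb l.pt && Nat.beq (countFast (CosetCert.inOrbit l.orb) D.depth D.N) l.size &&
        reachChainOK D ls (l.pt :: ps)) = true
  simp only [Bool.and_eq_true] at h₁ ⊢
  exact ⟨h₁.1, h₂⟩

section

variable {G : Type*} [Group G] {s : ℕ → G}
variable {D : CosetCert} (he : D.edgesOK = true) (hn : D.nodesOK = true) {H : Subgroup G}
  (e : Fin D.N ≃ G ⧸ H)
  (hequiv : ∀ g (hg : g < D.m) (i : Fin D.N),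
    s g • e i = e ⟨D.actOf i g, CosetCert.actOf_lt he hn i.2 hg⟩)
include hequiv

theorem reachChain_card_le [Finite G] (hd : D.N < 2 ^ D.depth) : ∀ (ls : List Level) (ps : List ℕ),
    reachChainOK D ls ps = true →
      (ls.map Level.size).prod * Nat.card (fixer e ((ls.map Level.pt).reverse ++ ps) : Subgroup G) ≤
        Nat.card (fixer e ps : Subgroup G) := by
  intro ls
  induction ls with
  | nil => intro ps _; simp
  | cons l ls ih =>
    intro ps h
    change ((ps.all fun p => l.gens.all fun k => Nat.beq (D.path k p) p) &&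
      D.reachOK l.gens l.orb l.pt && Nat.beq (countFast (CosetCert.inOrbit l.orb) D.depth D.N) l.size &&
        reachChainOK D ls (l.pt :: ps)) = true at h
    simp only [Bool.and_eq_true, List.all_eq_true, Nat.beq_eq] at h
    obtain ⟨⟨⟨hfix, horb⟩, hcnt⟩, hrec⟩ := h
    rw [← countBelow_fast] at hcnt
    change D.orbitCount l.orb = l.size at hcnt
    have ih' := ih (l.pt :: ps) hrec
    have horb' := horb
    simp only [CosetCert.reachOK, Bool.and_eq_true, List.all_eq_true, Nat.blt_eq] at horb'
    obtain ⟨⟨⟨hroot, -⟩, hlt⟩, -⟩ := horb'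
    set x := e ⟨l.pt, hroot⟩ with hx
    set A : Subgroup G := fixer e ps with hA
    have hsub : wordSub s l.gens ≤ A := by
      rw [wordSub, Subgroup.closure_le]
      rintro _ ⟨k, hk, rfl⟩
      refine mem_fixer fun p hp hpN => ?_
      rw [CosetCert.smul_path he hn e hequiv k (hlt k hk) ⟨p, hpN⟩]
      exact congrArg e (Fin.ext (hfix p hp k hk))
    have hsize : l.size ≤ Nat.card (MulAction.orbit A x) := by
      rw [← hcnt, Nat.card_coe_set_eq]
      refine le_trans (CosetCert.reach_le he hn e hequiv (A := wordSub s l.gens) rfl hroot horb hd) ?_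
      refine Set.ncard_le_ncard ?_ (Set.toFinite _)
      rintro _ ⟨⟨a, ha⟩, rfl⟩
      exact ⟨⟨a, hsub ha⟩, rfl⟩
    have hstab : Nat.card (fixer e (l.pt :: ps) : Subgroup G) = Nat.card (MulAction.stabilizer A x) := by
      refine Nat.card_congr
        { toFun := fun g => ⟨⟨g.1, g.2.2⟩, ?_⟩
          invFun := fun a => ⟨a.1.1, ⟨Subgroup.mem_iInf.mpr fun _ => ?_, a.1.2⟩⟩
          left_inv := fun g => rfl
          right_inv := fun a => rfl }
      · exact MulAction.mem_stabilizer_iff.mp (Subgroup.mem_iInf.mp g.2.1 hroot)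
      · exact MulAction.mem_stabilizer_iff.mpr (MulAction.mem_stabilizer_iff.mp a.2)
    have horbstab : Nat.card A =
        Nat.card (MulAction.orbit A x) * Nat.card (MulAction.stabilizer A x) := by
      rw [← Nat.card_prod]
      exact Nat.card_congr (MulAction.orbitProdStabilizerEquivGroup A x).symm
    rw [List.map_cons, List.prod_cons, List.map_cons, List.reverse_cons, List.append_assoc,
      List.singleton_append, mul_assoc, horbstab]
    exact Nat.mul_le_mul hsize (ih'.trans hstab.le)

/-- When the chain reaches the order of the group, two words with the same walks are equal. -/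
theorem eq_of_paths_reach [Finite G] (hd : D.N < 2 ^ D.depth) {ls : List Level}
    (hls : reachChainOK D ls [] = true) (hcard : Nat.card G ≤ (ls.map Level.size).prod)
    (g g' : G) (h : ∀ p ∈ ls.map Level.pt, ∀ hp : p < D.N, g • e ⟨p, hp⟩ = g' • e ⟨p, hp⟩) : g = g' := by
  have hb := reachChain_card_le he hn e hequiv hd ls [] hls
  have htop : Nat.card (fixer e ([] : List ℕ) : Subgroup G) = Nat.card G := by
    rw [show (fixer e ([] : List ℕ) : Subgroup G) = ⊤ from rfl]; exact Subgroup.card_top
  rw [htop] at hb
  have hpos : 0 < (ls.map Level.size).prod := lt_of_lt_of_le Nat.card_pos hcard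
  have hone : Nat.card (fixer e ((ls.map Level.pt).reverse ++ []) : Subgroup G) ≤ 1 :=
    Nat.le_of_mul_le_mul_left (by rw [mul_one]; exact hb.trans hcard) hpos
  have hmem : g⁻¹ * g' ∈ fixer e ((ls.map Level.pt).reverse ++ []) :=
    mem_fixer fun p hpm hp => by
      rw [mul_smul, ← h p (by simpa using hpm) hp, inv_smul_smul]
  rw [Subgroup.eq_bot_of_card_le _ hone, Subgroup.mem_bot, inv_mul_eq_one] at hmem
  exact hmem

end

end Cfsg.Agent.Presented
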