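import Cfsg.Agent.Lib.Presented.Fi23Index
import Cfsg.Agent.Lib.Presented.Tower
import Cfsg.Agent.Lib.Presented.Reach
import Cfsg.Agent.Lib.Presented.Data.FiT120
import Cfsg.Agent.Lib.Presented.Data.FiT16
import Cfsg.Agent.Lib.Presented.Data.FiT27
import Cfsg.Agent.Lib.Presented.Data.F3T56
import Cfsg.Agent.Lib.Presented.Data.F3T3159
import Cfsg.Agent.Lib.Presented.Data.F3T14080Checks
import Cfsg.Agent.Lib.Presented.Data.Fi23Chain0
import Cfsg.Agent.Lib.Presented.Data.Fi23Chain1
import Cfsg.Agent.Lib.Presented.Data.Fi23Chain2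

/-!
# The order and simplicity of the presented Fischer group Fi23
-/

set_option autoImplicit false

namespace Cfsg.Agent.Presented.Fi23Order

open Cfsg.Spor Cfsg.Agent.Presented Fi23Index

theorem bound_FiT120_rels : stepRelsOK gens Fi23.edges Fi23.extra [2, 3, 4, 5] []
    (FiT120.cert.words.take FiT120.cert.nR) = true := by decide +kernel

theorem bound_FiT120_sub : ((FiT120.cert.words.drop FiT120.cert.nR).take 0).map
    (List.map fun g => [2, 3, 4, 5].getD g 0) = ([] : List (List ℕ)) := by decide +kernel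

theorem bound_FiT120_more : ∀ w ∈ (FiT120.cert.words.drop FiT120.cert.nR).drop 0,
    wval (stepGen gens Fi23.edges Fi23.extra [2, 3, 4, 5]) w ∈ wordSub gen [] := by
  rw [show (FiT120.cert.words.drop FiT120.cert.nR).drop 0 = [] by decide +kernel]
  simp

theorem bound_FiT120 : OrderLE (wordSub gen [[2], [3], [4], [5]]) 120 := by
  have h := step_le gens_all gens_ok (π := [2, 3, 4, 5]) (ex := []) (by simp) FiT120.cert_edgesOK
    FiT120.cert_nodesOK rfl bound_FiT120_rels 0 (Kprev := []) (by rw [bound_FiT120_sub]; simp)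
    (orderLE_nil gen) bound_FiT120_more
  exact ⟨h.1, h.2.trans (le_of_eq (by decide +kernel))⟩

theorem bound_FiT16_rels : stepRelsOK gens Fi23.edges Fi23.extra [2, 3, 4, 5, 8] []
    (FiT16.cert.words.take FiT16.cert.nR) = true := by decide +kernel

theorem bound_FiT16_sub : ((FiT16.cert.words.drop FiT16.cert.nR).take 4).map
    (List.map fun g => [2, 3, 4, 5, 8].getD g 0) = ([[2], [3], [4], [5]] : List (List ℕ)) := by decide +kernel

theorem bound_FiT16_more : ∀ w ∈ (FiT16.cert.words.drop FiT16.cert.nR).drop 4,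
    wval (stepGen gens Fi23.edges Fi23.extra [2, 3, 4, 5, 8]) w ∈ wordSub gen [[2], [3], [4], [5]] := by
  rw [show (FiT16.cert.words.drop FiT16.cert.nR).drop 4 = [] by decide +kernel]
  simp

theorem bound_FiT16 : OrderLE (wordSub gen [[2], [3], [4], [5], [8]]) 1920 := by
  have h := step_le gens_all gens_ok (π := [2, 3, 4, 5, 8]) (ex := []) (by simp) FiT16.cert_edgesOK
    FiT16.cert_nodesOK rfl bound_FiT16_rels 4 (Kprev := [[2], [3], [4], [5]]) (by rw [bound_FiT16_sub]; simp)
    bound_FiT120 bound_FiT16_more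
  exact ⟨h.1, h.2.trans (le_of_eq (by decide +kernel))⟩

theorem bound_FiT27_rels : stepRelsOK gens Fi23.edges Fi23.extra [1, 2, 3, 4, 5, 8] []
    (FiT27.cert.words.take FiT27.cert.nR) = true := by decide +kernel

theorem bound_FiT27_sub : ((FiT27.cert.words.drop FiT27.cert.nR).take 5).map
    (List.map fun g => [1, 2, 3, 4, 5, 8].getD g 0) = ([[2], [3], [4], [5], [8]] : List (List ℕ)) := by decide +kernel

theorem bound_FiT27_more : ∀ w ∈ (FiT27.cert.words.drop FiT27.cert.nR).drop 5,
    wval (stepGen gens Fi23.edges Fi23.extra [1, 2, 3, 4, 5, 8]) w ∈ wordSub gen [[2], [3], [4], [5], [8]] := by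
  rw [show (FiT27.cert.words.drop FiT27.cert.nR).drop 5 = [] by decide +kernel]
  simp

theorem bound_FiT27 : OrderLE (wordSub gen [[1], [2], [3], [4], [5], [8]]) 51840 := by
  have h := step_le gens_all gens_ok (π := [1, 2, 3, 4, 5, 8]) (ex := []) (by simp) FiT27.cert_edgesOK
    FiT27.cert_nodesOK rfl bound_FiT27_rels 5 (Kprev := [[2], [3], [4], [5], [8]]) (by rw [bound_FiT27_sub]; simp)
    bound_FiT16 bound_FiT27_more
  exact ⟨h.1, h.2.trans (le_of_eq (by decide +kernel))⟩

theorem bound_F3T56_rels : stepRelsOK gens Fi23.edges Fi23.extra [1, 2, 3, 4, 5, 6, 8] []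
    (F3T56.cert.words.take F3T56.cert.nR) = true := by decide +kernel

theorem bound_F3T56_sub : ((F3T56.cert.words.drop F3T56.cert.nR).take 6).map
    (List.map fun g => [1, 2, 3, 4, 5, 6, 8].getD g 0) = ([[1], [2], [3], [4], [5], [8]] : List (List ℕ)) := by decide +kernel

theorem bound_F3T56_more : ∀ w ∈ (F3T56.cert.words.drop F3T56.cert.nR).drop 6,
    wval (stepGen gens Fi23.edges Fi23.extra [1, 2, 3, 4, 5, 6, 8]) w ∈ wordSub gen [[1], [2], [3], [4], [5], [8]] := by
  rw [show (F3T56.cert.words.drop F3T56.cert.nR).drop 6 = [] by decide +kernel]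
  simp

theorem bound_F3T56 : OrderLE (wordSub gen [[1], [2], [3], [4], [5], [6], [8]]) 2903040 := by
  have h := step_le gens_all gens_ok (π := [1, 2, 3, 4, 5, 6, 8]) (ex := []) (by simp) F3T56.cert_edgesOK
    F3T56.cert_nodesOK rfl bound_F3T56_rels 6 (Kprev := [[1], [2], [3], [4], [5], [8]]) (by rw [bound_F3T56_sub]; simp)
    bound_FiT27 bound_F3T56_more
  exact ⟨h.1, h.2.trans (le_of_eq (by decide +kernel))⟩

theorem bound_F3T3159_rels : stepRelsOK gens Fi23.edges Fi23.extra [1, 2, 3, 4, 5, 6, 8, 9] []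
    (F3T3159.cert.words.take F3T3159.cert.nR) = true := by decide +kernel

theorem bound_F3T3159_sub : ((F3T3159.cert.words.drop F3T3159.cert.nR).take 7).map
    (List.map fun g => [1, 2, 3, 4, 5, 6, 8, 9].getD g 0) = ([[1], [2], [3], [4], [5], [6], [8]] : List (List ℕ)) := by decide +kernel

theorem bound_F3T3159_more : ∀ w ∈ (F3T3159.cert.words.drop F3T3159.cert.nR).drop 7,
    wval (stepGen gens Fi23.edges Fi23.extra [1, 2, 3, 4, 5, 6, 8, 9]) w ∈ wordSub gen [[1], [2], [3], [4], [5], [6], [8]] := by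
  have hR : stepRelsOK gens Fi23.edges Fi23.extra [1, 2, 3, 4, 5, 6, 8, 9] []
      (F3T3159.deriv.words.take F3T3159.deriv.nR) = true := by decide +kernel
  have h0 : ((F3T3159.deriv.words.drop F3T3159.deriv.nR).map
      (List.map fun g => [1, 2, 3, 4, 5, 6, 8, 9].getD g 0)) = [[1], [2], [3], [4], [5], [6], [8]] := by decide +kernel
  have h1 : (F3T3159.cert.words.drop F3T3159.cert.nR).drop 7 = F3T3159.deriv.loops.map Prod.fst := by
    decide +kernel
  exact step_more gens_all gens_ok (ex := []) (by simp) F3T3159.deriv_factsOK F3T3159.deriv_loopsOK hR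
    (Kprev := [[1], [2], [3], [4], [5], [6], [8]]) (by rw [h0]; simp) le_rfl h1

theorem bound_F3T3159 : OrderLE (wordSub gen [[1], [2], [3], [4], [5], [6], [8], [9]]) 9170703360 := by
  have h := step_le gens_all gens_ok (π := [1, 2, 3, 4, 5, 6, 8, 9]) (ex := []) (by simp) F3T3159.cert_edgesOK
    F3T3159.cert_nodesOK rfl bound_F3T3159_rels 7 (Kprev := [[1], [2], [3], [4], [5], [6], [8]]) (by rw [bound_F3T3159_sub]; simp)
    bound_F3T56 bound_F3T3159_more
  exact ⟨h.1, h.2.trans (le_of_eq (by decide +kernel))⟩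

theorem bound_F3T14080_rels : stepRelsOK gens Fi23.edges Fi23.extra [0, 1, 2, 3, 4, 5, 6, 8, 9] []
    (F3T14080.cert.words.take F3T14080.cert.nR) = true := by decide +kernel

theorem bound_F3T14080_sub : ((F3T14080.cert.words.drop F3T14080.cert.nR).take 8).map
    (List.map fun g => [0, 1, 2, 3, 4, 5, 6, 8, 9].getD g 0) = ([[1], [2], [3], [4], [5], [6], [8], [9]] : List (List ℕ)) := by decide +kernel

theorem bound_F3T14080_more : ∀ w ∈ (F3T14080.cert.words.drop F3T14080.cert.nR).drop 8,
    wval (stepGen gens Fi23.edges Fi23.extra [0, 1, 2, 3, 4, 5, 6, 8, 9]) w ∈ wordSub gen [[1], [2], [3], [4], [5], [6], [8], [9]] := by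
  have hR : stepRelsOK gens Fi23.edges Fi23.extra [0, 1, 2, 3, 4, 5, 6, 8, 9] []
      (F3T14080.deriv.words.take F3T14080.deriv.nR) = true := by decide +kernel
  have h0 : ((F3T14080.deriv.words.drop F3T14080.deriv.nR).map
      (List.map fun g => [0, 1, 2, 3, 4, 5, 6, 8, 9].getD g 0)) = [[1], [2], [3], [4], [5], [6], [8], [9]] := by decide +kernel
  have h1 : (F3T14080.cert.words.drop F3T14080.cert.nR).drop 8 = F3T14080.deriv.loops.map Prod.fst := by
    decide +kernel
  exact step_more gens_all gens_ok (ex := []) (by simp) F3T14080.deriv_factsOK F3T14080.deriv_loopsOK hR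
    (Kprev := [[1], [2], [3], [4], [5], [6], [8], [9]]) (by rw [h0]; simp) le_rfl h1

theorem bound_F3T14080 : OrderLE (wordSub gen [[0], [1], [2], [3], [4], [5], [6], [8], [9]]) 129123503308800 := by
  have h := step_le gens_all gens_ok (π := [0, 1, 2, 3, 4, 5, 6, 8, 9]) (ex := []) (by simp) F3T14080.cert_edgesOK
    F3T14080.cert_nodesOK rfl bound_F3T14080_rels 8 (Kprev := [[1], [2], [3], [4], [5], [6], [8], [9]]) (by rw [bound_F3T14080_sub]; simp)
    bound_F3T3159 bound_F3T14080_more
  exact ⟨h.1, h.2.trans (le_of_eq (by decide +kernel))⟩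

theorem closure_gens : Subgroup.closure (gen '' {g | g < 10}) = ⊤ := by
  rw [eq_top_iff, ← PresentedGroup.closure_range_of, Subgroup.closure_le]
  rintro _ ⟨x, rfl⟩
  exact Subgroup.subset_closure
    ⟨gens.idxOf x, List.idxOf_lt_length_of_mem (gens_all x), genFun_idxOf gens_all x⟩

theorem bound_hSub : OrderLE hSub 129123503308800 := by
  rw [hSub_eq_closure]; exact bound_F3T14080

theorem card_le : Finite Fi23 ∧ Nat.card Fi23 ≤ 4089470473293004800 := by
  obtain ⟨e, -, -⟩ := exists_table
  have h := card_le_of_table e bound_hSub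
  exact ⟨h.1, h.2.trans (le_of_eq (by decide +kernel))⟩

theorem chain_prod : (Fi23Chain.chain.map Level.size).prod = 4089470473293004800 := by decide +kernel

theorem chain_ok : reachChainOK Fi23C31671.cert Fi23Chain.chain [] = true :=
  reachChainOK_cons Fi23Chain.lev0_ok (reachChainOK_cons Fi23Chain.lev1_ok
    (reachChainOK_cons Fi23Chain.lev2_ok (reachChainOK_cons Fi23Chain.lev3_ok
    (reachChainOK_cons Fi23Chain.lev4_ok (reachChainOK_cons Fi23Chain.lev5_ok
    (reachChainOK_cons Fi23Chain.lev6_ok (reachChainOK_cons Fi23Chain.lev7_ok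
    (reachChainOK_cons Fi23Chain.lev8_ok (reachChainOK_cons Fi23Chain.lev9_ok
    (reachChainOK_cons Fi23Chain.lev10_ok (reachChainOK_nil _)))))))))))

theorem card_fi23 : Nat.card Fi23 = 4089470473293004800 := by
  obtain ⟨e, -, he⟩ := exists_table
  haveI := card_le.1
  refine le_antisymm card_le.2 ?_
  have h := reachChain_card_le Fi23C31671.cert_edgesOK Fi23C31671.cert_nodesOK e he (by decide +kernel)
    Fi23Chain.chain [] chain_ok
  rw [chain_prod] at h
  refine le_trans ?_ (h.trans ?_)
  · exact Nat.le_mul_of_pos_right _ Nat.card_pos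
  · exact Nat.card_le_card_of_injective _ Subtype.val_injective

theorem card_hSub : Nat.card hSub = 129123503308800 := by
  have h := hSub.index_mul_card
  rw [hSub_index, card_fi23] at h
  omega

/-- Words agreeing on the base points are equal. -/
theorem faith {G : Type} [Group G] [Finite G] {H : Subgroup G} {s : ℕ → G}
    (e : Fin Fi23C31671.cert.N ≃ G ⧸ H)
    (he : ∀ g (hgm : g < Fi23C31671.cert.m) (i : Fin Fi23C31671.cert.N),
      s g • e i = e ⟨Fi23C31671.cert.actOf i g,
        CosetCert.actOf_lt Fi23C31671.cert_edgesOK Fi23C31671.cert_nodesOK i.2 hgm⟩)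
    (hG : Nat.card G ≤ (Fi23Chain.chain.map Level.size).prod) (g g' : G)
    (h : ∀ p ∈ Fi23Chain.chain.map Level.pt, ∀ hp : p < Fi23C31671.cert.N,
      g • e ⟨p, hp⟩ = g' • e ⟨p, hp⟩) : g = g' :=
  eq_of_paths_reach Fi23C31671.cert_edgesOK Fi23C31671.cert_nodesOK e he (by decide +kernel) chain_ok hG
    g g' h

theorem block_cover : checkBelow (fun i => inUnion
    ([(1, Fi23C31671.orbit0), (52, Fi23C31671.orbit1)].map Prod.snd) i)
    Fi23C31671.cert.depth Fi23C31671.cert.N = true := by
  rw [checkBelow_fast]; decide +kernel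

theorem block_sizes :
    ([(1, Fi23C31671.orbit0), (52, Fi23C31671.orbit1)].sublists.all fun sel => sel.isEmpty ||
      Nat.beq sel.length [(1, Fi23C31671.orbit0), (52, Fi23C31671.orbit1)].length ||
      !(Nat.beq (Fi23C31671.cert.N % countBelow (inUnion (sel.map Prod.snd))
        Fi23C31671.cert.depth Fi23C31671.cert.N) 0)) = true := by
  simp only [countBelow_fast]; decide +kernel

theorem block_ok : blockOK Fi23C31671.cert [(1, Fi23C31671.orbit0), (52, Fi23C31671.orbit1)]
    [[0], [1], [2], [3], [4], [5], [6], [8], [9]] = true := by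
  rw [blockOK, List.all_cons, List.all_cons, List.all_nil, Fi23C31671.orbit0_ok,
    Fi23C31671.orbit1_ok, block_cover, block_sizes]
  rfl

theorem simple_fi23 : IsSimpleGroup Fi23 := by
  obtain ⟨e, he0, he⟩ := exists_table
  haveI := card_le.1
  exact isSimpleGroup_of_faith Fi23C31671.cert_edgesOK Fi23C31671.cert_nodesOK e he0 he closure_gens
    (by decide +kernel) (pts := Fi23Chain.chain.map Level.pt)
    (faith e he (by rw [chain_prod, card_fi23])) (by decide +kernel)
    hSub_eq_closure block_ok (q := 17)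
    (by rw [card_hSub]; decide +kernel) Fi23Chain.factors (by decide +kernel) (by decide +kernel)
    (by decide +kernel)

end Cfsg.Agent.Presented.Fi23Order
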