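import Cfsg.Agent.Lib.Presented.Fi23Out

/-!
# The outer automorphism group of the presented group Fi23 is trivial
-/

set_option autoImplicit false
set_option maxRecDepth 20000

namespace Cfsg.Agent.Presented.Fi23Out

open Cfsg.Spor Cfsg.Agent.Presented Fi23Index Fi23Order Fi23Cover Fi23Config

/-- Automorphisms map transpositions to transpositions. -/
theorem isConj_map_t (φ : MulAut Fi23) : IsConj Fi23Transp.t (φ Fi23Transp.t) := by
  obtain ⟨pt, M, h0, hsurj, -⟩ := exists_model
  haveI := card_le.1
  haveI : Fact (Nat.Prime 13) := ⟨by norm_num⟩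
  have hx : wval gen xWord ∈ hSub := by
    rw [← coe_wval (w := xWord) (by decide +kernel)]; exact Subtype.coe_prop _
  have hxw : ∀ a ∈ xWord, a < D.m := by decide +kernel
  have hord : orderOf (wval gen xWord) = 13 := by
    refine orderOf_eq_prime ?_ fun h => ?_
    · rw [← wval_rep]
      exact eq_of_same _ [] (by decide +kernel)
    · have := (M.step _ hxw 91 (by decide +kernel)).2
      rw [h, one_smul] at this
      have h' := M.inj _ _ (by decide +kernel) (M.step _ hxw 91 (by decide +kernel)).1 this
      revert h'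
      decide +kernel
  have hfac : (Nat.card Fi23).factorization 13 = 1 := by
    rw [card_fi23, show (4089470473293004800 : ℕ) = 13 * 314574651791769600 by norm_num,
      Nat.factorization_mul (by norm_num) (by norm_num), Finsupp.add_apply,
      Nat.Prime.factorization_self (by norm_num), Nat.factorization_eq_zero_of_not_dvd (by norm_num)]
  have hz : ∀ y : Fi23, orderOf y = 13 → Nat.card (Subgroup.zpowers y) = 13 ^ (Nat.card Fi23).factorization 13 := by
    intro y hy
    rw [hfac, pow_one, Nat.card_zpowers, hy]
  let P : Sylow 13 Fi23 := Sylow.ofCard _ (hz _ hord)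
  let Q : Sylow 13 Fi23 := Sylow.ofCard _ (hz (φ (wval gen xWord)) (by rw [MulEquiv.orderOf_eq]; exact hord))
  obtain ⟨h, hh⟩ := MulAction.exists_smul_eq Fi23 Q P
  have hmem : h * φ (wval gen xWord) * h⁻¹ ∈ Subgroup.zpowers (wval gen xWord) := by
    have h1 : h * φ (wval gen xWord) * h⁻¹ ∈ ((h • Q : Sylow 13 Fi23) : Subgroup Fi23) := by
      rw [Sylow.coe_subgroup_smul]
      exact Subgroup.smul_mem_pointwise_smul _ _ _ (Subgroup.mem_zpowers (φ (wval gen xWord)))
    rw [hh] at h1
    exact h1
  obtain ⟨n, hn⟩ := Subgroup.mem_zpowers_iff.mp hmem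
  have hcx : Fi23Transp.t * wval gen xWord = wval gen xWord * Fi23Transp.t :=
    (Subgroup.mem_centralizer_singleton_iff.mp (Fi23Transp.hSub_le_centralizer hx)).symm
  have hy : (h * φ Fi23Transp.t * h⁻¹) * wval gen xWord ^ n =
      wval gen xWord ^ n * (h * φ Fi23Transp.t * h⁻¹) := by
    rw [hn]
    calc h * φ Fi23Transp.t * h⁻¹ * (h * φ (wval gen xWord) * h⁻¹)
        = h * (φ Fi23Transp.t * φ (wval gen xWord)) * h⁻¹ := by group
      _ = h * (φ (wval gen xWord) * φ Fi23Transp.t) * h⁻¹ := by rw [← map_mul, hcx, map_mul]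
      _ = _ := by group
  have hgen : wval gen xWord ∈ Subgroup.zpowers (wval gen xWord ^ n) := by
    have hle : Subgroup.zpowers (wval gen xWord ^ n) ≤ Subgroup.zpowers (wval gen xWord) :=
      Subgroup.zpowers_le.mpr (zpow_mem (Subgroup.mem_zpowers _) n)
    have heq : Subgroup.zpowers (wval gen xWord ^ n) = Subgroup.zpowers (wval gen xWord) := by
      refine Subgroup.eq_of_le_of_card_ge hle ?_
      rw [Nat.card_zpowers, Nat.card_zpowers, hord, hn]
      refine le_of_eq ?_
      rw [← hord, ← MulEquiv.orderOf_eq φ (wval gen xWord)]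
      exact ((MulAut.conj h).orderOf_eq (φ (wval gen xWord))).symm
    rw [heq]; exact Subgroup.mem_zpowers _
  obtain ⟨l, hl⟩ := Subgroup.mem_zpowers_iff.mp hgen
  have hyx : (h * φ Fi23Transp.t * h⁻¹) * wval gen xWord =
      wval gen xWord * (h * φ Fi23Transp.t * h⁻¹) := by
    conv_lhs => rw [← hl]
    conv_rhs => rw [← hl]
    exact (show Commute (h * φ Fi23Transp.t * h⁻¹) (wval gen xWord ^ n) from hy).zpow_right l
  have hsq : (h * φ Fi23Transp.t * h⁻¹) * (h * φ Fi23Transp.t * h⁻¹) = 1 := by
    calc _ = h * (φ Fi23Transp.t * φ Fi23Transp.t) * h⁻¹ := by group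
      _ = 1 := by rw [← map_mul, Fi23Transp.t_sq, map_one]; group
  have hne : h * φ Fi23Transp.t * h⁻¹ ≠ 1 := by
    rw [ne_eq, conj_eq_one_iff]
    intro h1
    exact Fi23Transp.t_ne (φ.injective (h1.trans (map_one φ).symm))
  refine (isConj_of_commute_x M h0 hsurj hsq hne hyx).trans (isConj_iff.mpr ⟨h⁻¹, by group⟩)

theorem inner (φ : MulAut Fi23) : ∃ g : Fi23, ∀ x, φ x = g * x * g⁻¹ := by
  obtain ⟨pt, M, h0, hsurj, hreach⟩ := exists_model
  haveI := card_le.1
  have hconf : ((List.range 10).all fun j => Nat.blt (pts.getD j 0) D.N && valid (pts.getD j 0) &&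
      sameOK D (Fi23Chain.chain.map Level.pt)
        (wrev (pts.getD j 0) ++ Fi23Chain.zWord ++ (wrev (pts.getD j 0)).reverse) [order.getD j 0]) = true := by
    decide +kernel
  have hP : ∀ j, j < 10 → pts.getD j 0 < D.N ∧ T (pt (pts.getD j 0)) = gen (order.getD j 0) := by
    intro j hj
    have h := List.all_eq_true.mp hconf j (List.mem_range.mpr hj)
    simp only [Bool.and_eq_true, Nat.blt_eq] at h
    obtain ⟨⟨hlt, hv⟩, hs⟩ := h
    refine ⟨hlt, ?_⟩
    rw [T_pt M h0 hlt hv, eq_of_same _ _ hs]
    simp [wval]
  have hnd : pts.Nodup := by decide +kernel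
  have hlen : pts.length = 10 := by decide +kernel
  have hord : ∀ j, j < 10 → order.getD j 0 < D.m := by decide +kernel
  -- the candidates are one orbit of the stabiliser of the earlier places
  have horb : ∀ k, k < 10 → ∀ i, i < D.N → cand k i = true →
      ∃ a : Fi23, (∀ j, j < k → a • pt (pts.getD j 0) = pt (pts.getD j 0)) ∧
        a • pt (pts.getD k 0) = pt i := by
    intro k hk i hi hc
    by_cases h9 : k = 9
    · subst h9
      have hl := last_ok
      rw [← checkBelow_fast] at hl
      have h := checkBelow_spec hl i hi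
      rw [hc] at h
      simp only [Bool.not_true, Bool.false_or, Nat.beq_eq] at h
      exact ⟨1, fun j _ => one_smul _ _, by rw [one_smul, h]⟩
    have hl : ∃ l, levelOK k l = true := by
      have hk' : k < 9 := by omega
      interval_cases k
      · exact ⟨_, level0_ok⟩
      · exact ⟨_, level1_ok⟩
      · exact ⟨_, level2_ok⟩
      · exact ⟨_, level3_ok⟩
      · exact ⟨_, level4_ok⟩
      · exact ⟨_, level5_ok⟩
      · exact ⟨_, level6_ok⟩
      · exact ⟨_, level7_ok⟩
      · exact ⟨_, level8_ok⟩
    obtain ⟨l, hl⟩ := hl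
    simp only [levelOK, Bool.and_eq_true, Nat.beq_eq, List.all_eq_true] at hl
    obtain ⟨⟨⟨hpt, hfix⟩, hreachok⟩, hcnt⟩ := hl
    have hroot : l.pt < D.N := by rw [hpt]; exact (hP k hk).1
    have hlt : ∀ w ∈ l.gens, ∀ a ∈ w, a < D.m := by
      have h := hreachok
      simp only [CosetCert.reachOK, Bool.and_eq_true, List.all_eq_true, Nat.blt_eq] at h
      exact h.1.2
    set A : Subgroup Fi23 := Subgroup.closure {x | ∃ w ∈ l.gens, x = wval gen w} with hA
    have hAfix : ∀ a ∈ A, ∀ j, j < k → a • pt (pts.getD j 0) = pt (pts.getD j 0) := by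
      intro a ha
      induction ha using Subgroup.closure_induction with
      | mem y hy =>
        obtain ⟨w, hw, rfl⟩ := hy
        intro j hj
        have hj' : pts.getD j 0 ∈ pts.take k := by
          rw [List.getD_eq_getElem _ _ (by omega)]
          exact List.mem_take_iff_getElem.mpr ⟨j, by omega, rfl⟩
        rw [(M.step w (hlt w hw) _ (hP j (by omega)).1).2, hfix _ hj' w hw]
      | one => intro j _; exact one_smul _ _
      | mul a b _ _ iha ihb => intro j hj; rw [mul_smul, ihb j hj, iha j hj]
      | inv a _ iha => intro j hj; rw [inv_smul_eq_iff, iha j hj]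
    set Cset : Set (Fi23 ⧸ hSub) := pt '' {r | r < D.N ∧ cand k r = true} with hCset
    have hsub : MulAction.orbit A (pt l.pt) ⊆ Cset := by
      rintro _ ⟨⟨a, ha⟩, rfl⟩
      obtain ⟨r, hr, hr'⟩ := hsurj (a • pt l.pt)
      refine ⟨r, ⟨hr, ?_⟩, hr'⟩
      rw [cand, Bool.and_eq_true, Bool.not_eq_true', List.all_eq_true]
      refine ⟨?_, fun j hj => ?_⟩
      · rw [Bool.eq_false_iff]
        intro hmem
        simp only [List.contains_eq_mem, decide_eq_true_eq] at hmem
        obtain ⟨j, hj, rfl⟩ := List.mem_take_iff_getElem.mp hmem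
        have hjk : j < k := by omega
        have h1 : a • pt pts[j] = pt pts[j] := by
          have := hAfix a ha j hjk
          rwa [List.getD_eq_getElem _ _ (by omega)] at this
        have h2 := smul_left_cancel a (h1.trans hr')
        have h3 := M.inj _ _ hr hroot h2
        rw [hpt, List.getD_eq_getElem _ _ (by omega)] at h3
        have := hnd.getElem_inj_iff.mp h3
        omega
      · rw [List.mem_range] at hj
        have hfixj := (T_smul_self_iff a _).mp (hAfix a ha j hj)
        rw [(hP j (by omega)).2] at hfixj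
        have hw : ∀ b ∈ [order.getD j 0], b < D.m := by simpa using hord j (by omega)
        have h1 : ∀ s, s < D.N → (Nat.beq (D.path [order.getD j 0] s) s = true ↔
            gen (order.getD j 0) • pt s = pt s) := by
          intro s hs
          have h := M.step _ hw s hs
          rw [show wval gen [order.getD j 0] = gen (order.getD j 0) by simp [wval]] at h
          rw [h.2, Nat.beq_eq]
          exact ⟨fun e => by rw [e], fun e => M.inj _ _ h.1 hs e⟩
        rw [beq_iff_eq, Bool.eq_iff_iff, h1 r hr, h1 _ (hP k hk).1, hr', hpt, ← mul_smul, ← hfixj, mul_smul,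
          smul_left_cancel_iff]
    have hle : D.orbitCount l.orb ≤ (MulAction.orbit A (pt l.pt)).ncard := hreach hA hreachok hroot
    have hC : Cset.ncard = D.orbitCount l.orb := by
      have hd15 : D.N < 2 ^ 15 := by decide +kernel
      have hd : D.N < 2 ^ D.depth := by decide +kernel
      rw [hCset, Set.ncard_image_of_injOn (fun a ha b hb h => M.inj a b ha.1 hb.1 h),
        CosetCert.orbitCount, countBelow_spec _ hd, ← countBelow_spec _ hd15, countBelow_fast,
        ← hcnt, ← countBelow_fast, countBelow_spec _ hd15, ← Nat.card_coe_set_eq]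
      exact Nat.card_congr
        { toFun := fun r => ⟨⟨r.1, r.2.1⟩, r.2.2⟩
          invFun := fun r => ⟨r.1.1, r.1.2, r.2⟩
          left_inv := fun r => rfl
          right_inv := fun r => rfl }
    have heq : MulAction.orbit A (pt l.pt) = Cset :=
      Set.eq_of_subset_of_ncard_le hsub (hC.le.trans hle) (Set.toFinite _)
    have hmem : pt i ∈ MulAction.orbit A (pt l.pt) := by rw [heq]; exact ⟨i, ⟨hi, hc⟩, rfl⟩
    obtain ⟨⟨a, ha⟩, hai⟩ := hmem
    exact ⟨a, hAfix a ha, by rw [← hpt]; exact hai⟩
  -- conjugate the images of the generators back, place by place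
  have main : ∀ k, k ≤ 10 → ∃ g : Fi23, ∀ j, j < k →
      φ (gen (order.getD j 0)) = g * gen (order.getD j 0) * g⁻¹ := by
    intro k
    induction k with
    | zero => exact fun _ => ⟨1, fun j hj => absurd hj (by omega)⟩
    | succ k ih =>
      intro hk
      obtain ⟨g, hg⟩ := ih (by omega)
      let ψ : MulAut Fi23 := φ.trans (MulAut.conj g⁻¹)
      have hψ : ∀ x, ψ x = g⁻¹ * φ x * g := fun x => by simp [ψ]
      have hψfix : ∀ j, j < k → ψ (gen (order.getD j 0)) = gen (order.getD j 0) := fun j hj => by
        rw [hψ, hg j hj]; group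
      have hconj : IsConj Fi23Transp.t (ψ (gen (order.getD k 0))) := by
        obtain ⟨q, hq⟩ := QuotientGroup.mk_surjective (pt (pts.getD k 0))
        rw [← (hP k (by omega)).2, ← hq, T_mk, map_mul, map_mul, map_inv]
        exact (isConj_map_t ψ).trans (isConj_iff.mpr ⟨_, rfl⟩)
      obtain ⟨q, hq⟩ := exists_eq_T hconj
      obtain ⟨i, hi, hi'⟩ := hsurj q
      subst hi'
      have hc : cand k i = true := by
        rw [cand, Bool.and_eq_true, Bool.not_eq_true', List.all_eq_true]
        refine ⟨?_, fun j hj => ?_⟩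
        · rw [Bool.eq_false_iff]
          intro hmem
          simp only [List.contains_eq_mem, decide_eq_true_eq] at hmem
          obtain ⟨j, hj, rfl⟩ := List.mem_take_iff_getElem.mp hmem
          have hjk : j < k := by omega
          have h2 := (hP j (by omega)).2
          rw [List.getD_eq_getElem _ _ (by omega), hq, ← hψfix j hjk] at h2
          have h3 := ψ.injective h2
          rw [← (hP k (by omega)).2, ← (hP j (by omega)).2] at h3
          have h4 := M.inj _ _ (hP k (by omega)).1 (hP j (by omega)).1 (T_inj h3)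
          rw [List.getD_eq_getElem _ _ (by omega), List.getD_eq_getElem _ _ (by omega)] at h4
          have := hnd.getElem_inj_iff.mp h4
          omega
        · rw [List.mem_range] at hj
          have hw : ∀ b ∈ [order.getD j 0], b < D.m := by simpa using hord j (by omega)
          have h1 : ∀ s, s < D.N → (Nat.beq (D.path [order.getD j 0] s) s = true ↔
              gen (order.getD j 0) * T (pt s) = T (pt s) * gen (order.getD j 0)) := by
            intro s hs
            have h := M.step _ hw s hs
            rw [show wval gen [order.getD j 0] = gen (order.getD j 0) by simp [wval]] at h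
            rw [← T_smul_self_iff, h.2, Nat.beq_eq]
            exact ⟨fun e => by rw [e], fun e => M.inj _ _ h.1 hs e⟩
          rw [beq_iff_eq, Bool.eq_iff_iff, h1 i hi, h1 _ (hP k (by omega)).1, hq, (hP k (by omega)).2]
          constructor
          · intro h
            apply ψ.injective
            rw [map_mul, map_mul, hψfix j hj]; exact h
          · intro h
            have := congrArg ψ h
            rwa [map_mul, map_mul, hψfix j hj] at this
      obtain ⟨a, hafix, hai⟩ := horb k (by omega) i hi hc
      refine ⟨g * a, fun j hj => ?_⟩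
      have hψj : ψ (gen (order.getD j 0)) = a * gen (order.getD j 0) * a⁻¹ := by
        rcases Nat.lt_succ_iff_lt_or_eq.mp hj with hj' | rfl
        · rw [hψfix j hj', ← (hP j (by omega)).2, ← T_smul, hafix j hj']
        · rw [← hq, ← hai, T_smul, (hP j (by omega)).2]
      rw [hψ] at hψj
      calc φ (gen (order.getD j 0)) = g * (g⁻¹ * φ (gen (order.getD j 0)) * g) * g⁻¹ := by group
        _ = _ := by rw [hψj]; group
  obtain ⟨g, hg⟩ := main 10 le_rfl
  refine ⟨g, fun x => ?_⟩
  have heq : φ.toMonoidHom = (MulAut.conj g).toMonoidHom := by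
    refine PresentedGroup.ext fun y => ?_
    obtain ⟨j, hj, hy⟩ : ∃ j, j < 10 ∧ order.getD j 0 = gens.idxOf y := by
      cases y <;> decide
    rw [← genFun_idxOf gens_all y, ← hy]
    simp only [MulEquiv.coe_toMonoidHom, MulAut.conj_apply]
    exact hg j hj
  exact DFunLike.congr_fun heq x

theorem out_card : Nat.card (Cfsg.Out Fi23) = 1 := by
  rw [Nat.card_eq_one_iff_unique]
  refine ⟨⟨fun a b => ?_⟩, ⟨1⟩⟩
  have h : ∀ c : Cfsg.Out Fi23, c = 1 := by
    intro c
    induction c using QuotientGroup.induction_on with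
    | H φ =>
      obtain ⟨g, hg⟩ := inner φ
      rw [QuotientGroup.eq_one_iff]
      exact ⟨g, MulEquiv.ext fun x => (hg x).symm⟩
  rw [h a, h b]

end Cfsg.Agent.Presented.Fi23Out
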