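import Cfsg.Agent.Lib.Presented.O7Matrices
import Cfsg.Agent.Lib.Forms.OmegaOrder
import Cfsg.Agent.Lib.QForm.Spinor
import Cfsg.Agent.Lib.QForm.Diag
import Cfsg.Prelude.Def_FischerSpaces

/-!
# The six-dimensional reflection group inside the seven-dimensional orthogonal group

For a root `w` the negated reflections in the roots perpendicular to `w` generate the image of the
reflection group of the orthogonal complement under `g ↦ det g • (g ⊕ 1)`.
-/

set_option autoImplicit false
set_option maxRecDepth 20000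

namespace Cfsg.Agent.Presented.O7Six

open Cfsg
open scoped Matrix

/-- `x` is the negated reflection in the root `v`. -/
def IsEta (x : O7.OG) (v : O7.Ix → ZMod 3) : Prop :=
  O7.qf v = 2 ∧ ∀ y, O7.act x y = (2 * QuadraticMap.polar O7.qf v y) • v - y

theorem isEta_unique {x x' : O7.OG} {v : O7.Ix → ZMod 3} (h : IsEta x v) (h' : IsEta x' v) : x = x' :=
  O7.act_ext fun y => by rw [h.2, h'.2]

theorem isEta_refl {k : ℕ} (hk : k < 8) : IsEta (O7.refl k) (O7.root k) :=
  ⟨O7.qf_root hk, fun y => O7.act_refl_formula hk y⟩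

theorem act_smul_sub (u : O7.OG) (c : ZMod 3) (y z : O7.Ix → ZMod 3) :
    O7.act u (c • y - z) = c • O7.act u y - O7.act u z := by
  simp [O7.act, Matrix.mulVec_sub, Matrix.mulVec_smul]

theorem polar_act (u : O7.OG) (y z : O7.Ix → ZMod 3) :
    QuadraticMap.polar O7.qf (O7.act u y) (O7.act u z) = QuadraticMap.polar O7.qf y z := by
  have hq : ∀ y, O7.qf (O7.act u y) = O7.qf y := fun y => u.2 y y
  rw [QuadraticMap.polar, QuadraticMap.polar, show O7.act u y + O7.act u z = O7.act u (y + z) from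
    (Matrix.mulVec_add _ _ _).symm, hq, hq, hq]

theorem isEta_conj {x : O7.OG} {v : O7.Ix → ZMod 3} (h : IsEta x v) (u : O7.OG) :
    IsEta (u * x * u⁻¹) (O7.act u v) := by
  refine ⟨(u.2 v v).trans h.1, fun y => ?_⟩
  have hy : O7.act u (O7.act u⁻¹ y) = y := by rw [← O7.act_mul, mul_inv_cancel, O7.act_one]
  rw [O7.act_mul, O7.act_mul, h.2, act_smul_sub, hy]
  conv_rhs => rw [← hy, polar_act]
  rw [hy]

theorem polar_comm (v w : O7.Ix → ZMod 3) : QuadraticMap.polar O7.qf v w = QuadraticMap.polar O7.qf w v :=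
  QuadraticMap.polar_comm _ _ _

theorem polar_self {v : O7.Ix → ZMod 3} (h : O7.qf v = 2) : QuadraticMap.polar O7.qf v v = 1 := by
  have e : ⇑(Forms.quadOdd 3 (ZMod 3)) = O7.qf := funext Forms.quadOdd_apply
  have h2 : QuadraticMap.polar (⇑(Forms.quadOdd 3 (ZMod 3))) v v = 2 • (Forms.quadOdd 3 (ZMod 3)) v :=
    QuadraticMap.polar_self _ _
  rw [e, h] at h2
  rw [h2]
  decide

theorem polar_zero_left (w : O7.Ix → ZMod 3) : QuadraticMap.polar O7.qf 0 w = 0 := by
  have e : ⇑(Forms.quadOdd 3 (ZMod 3)) = O7.qf := funext Forms.quadOdd_apply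
  rw [← e, ← QuadraticMap.polarBilin_apply_apply, map_zero, LinearMap.zero_apply]

theorem polar_smul (c : ZMod 3) (v w : O7.Ix → ZMod 3) :
    QuadraticMap.polar O7.qf (c • v) w = c * QuadraticMap.polar O7.qf v w := by
  have e : ⇑(Forms.quadOdd 3 (ZMod 3)) = O7.qf := funext Forms.quadOdd_apply
  rw [← e, QuadraticMap.polar_smul_left, smul_eq_mul]

/-- Distinct negated reflections commute exactly when the roots are perpendicular. -/
theorem commute_iff {x y : O7.OG} {v w : O7.Ix → ZMod 3} (hx : IsEta x v) (hy : IsEta y w) :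
    (Commute y x ∧ x ≠ y) ↔ QuadraticMap.polar O7.qf v w = 0 := by
  set p := QuadraticMap.polar O7.qf v w with hp
  have hyw : O7.act y w = w := by
    rw [hy.2, polar_self hy.1, mul_one, two_smul, add_sub_cancel_right]
  have hxw : O7.act x w = (2 * p) • v - w := hx.2 w
  constructor
  · rintro ⟨hc, hne⟩
    by_contra hp0
    apply hne
    have h1 : O7.act y (O7.act x w) = O7.act x w := by
      conv_lhs => rw [← O7.act_mul, hc.eq, O7.act_mul, hyw]
    rw [hxw, act_smul_sub, hyw, hy.2, polar_comm, ← hp] at h1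
    have h2 : (2 * p) • ((2 * p) • w) = (2 * p) • ((2 : ZMod 3) • v) := by
      have h3 := sub_left_inj.1 h1
      linear_combination (norm := module) h3
    have hk : (2 * p) * (2 * p) = 1 := by
      revert hp0; generalize p = q; revert q; decide
    have hv : v = (2 * (2 * p)) • ((2 * p) • ((2 * p) • w)) := by
      rw [h2, smul_smul, smul_smul]
      have : (2 * (2 * p)) * (2 * p) * 2 = (1 : ZMod 3) := by
        revert hp0; generalize p = q; revert q; decide
      rw [this, one_smul]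
    rw [smul_smul (2 * p) (2 * p), hk, one_smul] at hv
    refine O7.act_ext fun z => ?_
    rw [hx.2, hy.2]
    have hd : (2 * (2 * p)) * (2 * (2 * p)) = 1 := by
      revert hp0; generalize p = q; revert q; decide
    generalize 2 * (2 * p) = d at hv hd
    rw [hv, polar_smul, smul_smul, show 2 * (d * QuadraticMap.polar O7.qf w z) * d =
      d * d * (2 * QuadraticMap.polar O7.qf w z) by ring, hd, one_mul]
  · intro h0
    refine ⟨?_, fun e => ?_⟩
    · have hvy : O7.act y v = -v := by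
        rw [hy.2, polar_comm, ← hp, h0, mul_zero, zero_smul, zero_sub]
      have hc := isEta_conj hx y
      rw [hvy] at hc
      have hneg : IsEta x (-v) := by
        refine ⟨?_, fun z => ?_⟩
        · rw [← hvy]; exact (y.2 v v).trans hx.1
        · rw [hx.2, ← neg_one_smul (ZMod 3) v, polar_smul, smul_smul]
          congr 2
          ring
      have := isEta_unique hc hneg
      exact mul_inv_eq_iff_eq_mul.1 this
    · have h1 : O7.act x w = -w := by rw [hxw, h0, mul_zero, zero_smul, zero_sub]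
      rw [e, hyw] at h1
      have h3 : w = 0 := by
        have h4 : (2 : ZMod 3) • w = 0 := by
          rw [two_smul]
          nth_rewrite 1 [h1]
          exact neg_add_cancel w
        exact (smul_eq_zero.1 h4).resolve_left (by decide)
      have h5 := polar_self hy.1
      rw [h3, polar_zero_left] at h5
      exact absurd h5 (by decide)

/-! ## Coordinates on the complement -/

/-- The base root. -/
def w : O7.Ix → ZMod 3 := O7.root 5

/-- An orthogonal basis of roots of the complement, as columns. -/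
def T : Matrix O7.Ix (Fin 6) (ZMod 3) :=
  Matrix.of fun j i => O7.vec ([105, 85, 196, 1145, 833, 1250].getD i.1 0) j

/-- The Gram matrix of the polar form. -/
def gram : Matrix O7.Ix O7.Ix (ZMod 3) :=
  Matrix.of fun i j => QuadraticMap.polar O7.qf (Pi.single i 1) (Pi.single j 1)

/-- The coordinates. -/
def P : Matrix (Fin 6) O7.Ix (ZMod 3) := T.transpose * gram

/-- The projection to the base root. -/
def E : Matrix O7.Ix O7.Ix (ZMod 3) := Matrix.vecMulVec w (gram *ᵥ w)

theorem PT : P * T = 1 := by decide +kernel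
theorem TPE : T * P + E = 1 := by decide +kernel
theorem PE : P * E = 0 := by decide +kernel
theorem ET : E * T = 0 := by decide +kernel
theorem EE : E * E = E := by decide +kernel

attribute [local irreducible] T gram P E w

/-- The form on the complement. -/
noncomputable abbrev qSix : QuadraticForm (ZMod 3) (Fin 6 → ZMod 3) :=
  QuadraticMap.weightedSumSquares (ZMod 3) (fun _ : Fin 6 => (2 : ZMod 3))

theorem qSix_apply (a : Fin 6 → ZMod 3) : qSix a = 2 * (a ⬝ᵥ a) := by
  rw [QuadraticMap.weightedSumSquares_apply, dotProduct, Finset.mul_sum]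
  rfl

theorem qSix_nondegenerate : (QuadraticMap.polarBilin qSix).Nondegenerate :=
  (LinearMap.BilinForm.nondegenerate_iff_det_ne_zero (Pi.basisFun (ZMod 3) (Fin 6))).2 (by
    rw [← QForm.gram_eq_toMatrix, QForm.det_gram_diag]
    decide +kernel)

theorem qSix_det : polarGramDet (⇑qSix) = 1 := by
  have : polarGramDet (⇑qSix) = (QForm.gram (⇑qSix) ⇑(Pi.basisFun (ZMod 3) (Fin 6))).det := by
    rw [polarGramDet]; congr 1; ext i j; simp [QForm.gram]
  rw [this, QForm.det_gram_diag]
  decide +kernel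

theorem polar_eq (x y : O7.Ix → ZMod 3) : QuadraticMap.polar O7.qf x y = x ⬝ᵥ (gram *ᵥ y) := by
  have e : ⇑(Forms.quadOdd 3 (ZMod 3)) = O7.qf := funext Forms.quadOdd_apply
  rw [← e, ← QuadraticMap.polarBilin_apply_apply]
  conv_lhs => rw [pi_eq_sum_univ' x, pi_eq_sum_univ' y]
  simp only [map_sum, map_smul, LinearMap.sum_apply, LinearMap.smul_apply, QuadraticMap.polarBilin_apply_apply,
    smul_eq_mul, dotProduct, Matrix.mulVec, gram, Matrix.of_apply, e, Finset.mul_sum]
  rw [Finset.sum_comm]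
  exact Finset.sum_congr rfl fun i _ => Finset.sum_congr rfl fun j _ => by ring

theorem qf_eq (x : O7.Ix → ZMod 3) : O7.qf x = 2 * (x ⬝ᵥ (gram *ᵥ x)) := by
  have e : ⇑(Forms.quadOdd 3 (ZMod 3)) = O7.qf := funext Forms.quadOdd_apply
  have h : QuadraticMap.polar (⇑(Forms.quadOdd 3 (ZMod 3))) x x = 2 • (Forms.quadOdd 3 (ZMod 3)) x :=
    QuadraticMap.polar_self _ _
  rw [e, polar_eq, nsmul_eq_mul] at h
  rw [h, ← mul_assoc, show (2 : ZMod 3) * ((2 : ℕ) : ZMod 3) = 1 by decide, one_mul]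

theorem dot_split (a b : Fin 6 → ZMod 3) (s t : ZMod 3) :
    (T *ᵥ a + s • w) ⬝ᵥ (gram *ᵥ (T *ᵥ b + t • w)) = a ⬝ᵥ b + s * t := by
  have h1 : T.transpose * (gram * T) = 1 := by decide +kernel
  have h2 : T.transpose *ᵥ (gram *ᵥ w) = 0 := by decide +kernel
  have h3 : w ⬝ᵥ (gram *ᵥ w) = 1 := by decide +kernel
  have h4 : Matrix.vecMul w (gram * T) = 0 := by decide +kernel
  have hT : ∀ c z, (T *ᵥ c) ⬝ᵥ z = c ⬝ᵥ (T.transpose *ᵥ z) := fun c z => by
    rw [dotProduct_comm, Matrix.dotProduct_mulVec, ← Matrix.mulVec_transpose, dotProduct_comm]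
  rw [add_dotProduct, Matrix.mulVec_add, Matrix.mulVec_smul, dotProduct_add, dotProduct_add,
    smul_dotProduct, smul_dotProduct, dotProduct_smul, dotProduct_smul, Matrix.mulVec_mulVec, hT, hT,
    Matrix.mulVec_mulVec, h1, Matrix.one_mulVec, h2, h3,
    Matrix.dotProduct_mulVec w (gram * T), h4]
  simp

theorem split (x : O7.Ix → ZMod 3) : T *ᵥ (P *ᵥ x) + ((gram *ᵥ w) ⬝ᵥ x) • w = x := by
  conv_rhs => rw [← Matrix.one_mulVec x, ← TPE, Matrix.add_mulVec, ← Matrix.mulVec_mulVec]
  rw [E, Matrix.vecMulVec_mulVec, op_smul_eq_smul]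

theorem block_mul (a b : Matrix (Fin 6) (Fin 6) (ZMod 3)) :
    (T * a * P + E) * (T * b * P + E) = T * (a * b) * P + E := by
  have e1 : ∀ M : Matrix (Fin 6) O7.Ix (ZMod 3), P * (T * M) = M := fun M => by
    rw [← Matrix.mul_assoc, PT, Matrix.one_mul]
  have e2 : ∀ M : Matrix (Fin 6) O7.Ix (ZMod 3), E * (T * M) = 0 := fun M => by
    rw [← Matrix.mul_assoc, ET, Matrix.zero_mul]
  simp only [Matrix.add_mul, Matrix.mul_add, Matrix.mul_assoc, e1, e2, PE, EE, Matrix.mul_zero, add_zero,
    zero_add]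

/-- The twisted embedding on matrices. -/
noncomputable def emb : ↥(isometryGroup (ZMod 3) ⇑qSix) →* Matrix O7.Ix O7.Ix (ZMod 3) where
  toFun g := ((g : Matrix.GeneralLinearGroup (Fin 6) (ZMod 3)) : Matrix (Fin 6) (Fin 6) (ZMod 3)).det •
    (T * ((g : Matrix.GeneralLinearGroup (Fin 6) (ZMod 3)) : Matrix (Fin 6) (Fin 6) (ZMod 3)) * P + E)
  map_one' := by
    simp only [Subgroup.coe_one, Units.val_one, Matrix.det_one, one_smul, Matrix.mul_one]
    exact TPE
  map_mul' g h := by
    simp only [Subgroup.coe_mul, Units.val_mul, Matrix.det_mul]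
    rw [Matrix.smul_mul, Matrix.mul_smul, smul_smul, block_mul]

theorem emb_mulVec (g : ↥(isometryGroup (ZMod 3) ⇑qSix)) (x : O7.Ix → ZMod 3) :
    emb g *ᵥ x = ((g : Matrix.GeneralLinearGroup (Fin 6) (ZMod 3)) : Matrix (Fin 6) (Fin 6) (ZMod 3)).det •
      (T *ᵥ QForm.act qSix g (P *ᵥ x) + ((gram *ᵥ w) ⬝ᵥ x) • w) := by
  simp only [emb, MonoidHom.coe_mk, OneHom.coe_mk]
  rw [Matrix.smul_mulVec, Matrix.add_mulVec, ← Matrix.mulVec_mulVec, ← Matrix.mulVec_mulVec, E,
    Matrix.vecMulVec_mulVec, op_smul_eq_smul]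

/-- The twisted embedding. -/
theorem exists_emb : ∃ θ : ↥(isometryGroup (ZMod 3) ⇑qSix) →* O7.OG, Function.Injective θ ∧
    ∀ g, ∀ x, O7.act (θ g) x = emb g *ᵥ x := by
  have hiso : ∀ g, emb.toHomUnits g ∈ isometryGroup (ZMod 3) O7.qf := by
    intro g x y
    show O7.qf (emb g *ᵥ x) = O7.qf x
    rw [emb_mulVec]
    set a := P *ᵥ x
    set s := (gram *ᵥ w) ⬝ᵥ x
    have hx : x = T *ᵥ a + s • w := (split x).symm
    have hdet : ∀ d : ZMod 3, d ≠ 0 → d * d = 1 := by decide
    have hd : ((g : Matrix.GeneralLinearGroup (Fin 6) (ZMod 3)) : Matrix (Fin 6) (Fin 6) (ZMod 3)).det ≠ 0 :=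
      (Matrix.isUnit_iff_isUnit_det _).1 (Units.isUnit _) |>.ne_zero
    generalize ((g : Matrix.GeneralLinearGroup (Fin 6) (ZMod 3)) : Matrix (Fin 6) (Fin 6) (ZMod 3)).det = d at hd
    rw [qf_eq, Matrix.mulVec_smul, dotProduct_smul, smul_dotProduct, smul_smul, hdet d hd, one_smul]
    conv_rhs => rw [qf_eq, hx, dot_split, mul_add, ← qSix_apply]
    rw [dot_split, mul_add, ← qSix_apply, QForm.act_map]
  refine ⟨emb.toHomUnits.codRestrict _ hiso, fun g h e => ?_, fun g x => rfl⟩
  have key : ∀ g, emb g = 1 → g = 1 := by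
    intro g hg
    have h1 := congrArg (fun M => M *ᵥ w) hg
    simp only [emb_mulVec, Matrix.one_mulVec] at h1
    have hPw : P *ᵥ w = 0 := by decide +kernel
    have hcw : (gram *ᵥ w) ⬝ᵥ w = 1 := by decide +kernel
    rw [hPw, QForm.act, Matrix.mulVec_zero, Matrix.mulVec_zero, hcw, one_smul, zero_add] at h1
    have hd : ((g : Matrix.GeneralLinearGroup (Fin 6) (ZMod 3)) : Matrix (Fin 6) (Fin 6) (ZMod 3)).det = 1 := by
      have hw0 : w (Sum.inr (Sum.inl 0)) = 1 := by decide +kernel
      generalize ((g : Matrix.GeneralLinearGroup (Fin 6) (ZMod 3)) : Matrix (Fin 6) (Fin 6) (ZMod 3)).det = d at h1 ⊢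
      generalize w = u at h1 hw0
      have h2 : d * u (Sum.inr (Sum.inl 0)) = u (Sum.inr (Sum.inl 0)) :=
        congrFun h1 (Sum.inr (Sum.inl 0))
      rwa [hw0, mul_one] at h2
    refine QForm.isometry_ext qSix fun a => ?_
    have h3 := congrArg (fun M => P *ᵥ (M *ᵥ (T *ᵥ a))) hg
    simp only [emb_mulVec, hd, one_smul, Matrix.one_mulVec] at h3
    have hcT : ∀ a, (gram *ᵥ w) ⬝ᵥ (T *ᵥ a) = 0 := fun a => by
      rw [Matrix.dotProduct_mulVec, show Matrix.vecMul (gram *ᵥ w) T = 0 by decide +kernel, zero_dotProduct]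
    have hPT : ∀ y, P *ᵥ (T *ᵥ y) = y := fun y => by rw [Matrix.mulVec_mulVec, PT, Matrix.one_mulVec]
    rw [hcT, zero_smul, add_zero, hPT, hPT] at h3
    rw [h3, QForm.act_one]
  have e' : emb g = emb h := congrArg (fun u : O7.OG =>
    ((u : Matrix.GeneralLinearGroup O7.Ix (ZMod 3)) : Matrix O7.Ix O7.Ix (ZMod 3))) e
  have := key (g * h⁻¹) (by rw [map_mul, e', ← map_mul, mul_inv_cancel, map_one])
  exact mul_inv_eq_one.1 this

/-- The roots perpendicular to the base one generate a copy of the reflection group. -/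
theorem closure_perp :
    Nonempty (↥(reflectionSubgroup (⇑qSix) (2 : ZMod 3)) ≃*
      ↥(Subgroup.closure {x : O7.OG | ∃ v, IsEta x v ∧ QuadraticMap.polar O7.qf v w = 0})) := by
  obtain ⟨θ, hθ, hact⟩ := exists_emb
  have key : ∀ r : ↥(isometryGroup (ZMod 3) ⇑qSix), ∀ a, qSix a = 2 →
      ((r : Matrix.GeneralLinearGroup (Fin 6) (ZMod 3)) : Matrix (Fin 6) (Fin 6) (ZMod 3)) =
        reflectionMatrix (⇑qSix) a → IsEta (θ r) (T *ᵥ a) ∧ QuadraticMap.polar O7.qf (T *ᵥ a) w = 0 := by
    intro r a ha hr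
    have hT0 : QuadraticMap.polar O7.qf (T *ᵥ a) w = 0 := by
      have h := dot_split a 0 0 1
      simp only [Matrix.mulVec_zero, zero_add, zero_smul, add_zero, one_smul, dotProduct_zero, zero_mul] at h
      rw [polar_eq, h]
    have hqT : O7.qf (T *ᵥ a) = 2 := by
      have h := dot_split a a 0 0
      simp only [zero_smul, add_zero, zero_mul] at h
      rw [qf_eq, h, ← qSix_apply, ha]
    refine ⟨⟨hqT, fun x => ?_⟩, hT0⟩
    have hdet : ((r : Matrix.GeneralLinearGroup (Fin 6) (ZMod 3)) : Matrix (Fin 6) (Fin 6) (ZMod 3)).det = -1 := by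
      rw [hr]; exact QForm.det_reflectionMatrix qSix (by rw [ha]; decide)
    have hpol : ∀ b, QuadraticMap.polar (⇑qSix) a b = a ⬝ᵥ b := fun b => by
      rw [QuadraticMap.polar, qSix_apply, qSix_apply, qSix_apply, add_dotProduct, dotProduct_add,
        dotProduct_add, dotProduct_comm b a]
      have h4 : (2 : ZMod 3) * 2 = 1 := by decide
      linear_combination (a ⬝ᵥ b) * h4
    have hp : QuadraticMap.polar O7.qf (T *ᵥ a) x = a ⬝ᵥ (P *ᵥ x) := by
      conv_lhs => rw [← split x]
      rw [polar_eq]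
      have h := dot_split a (P *ᵥ x) 0 ((gram *ᵥ w) ⬝ᵥ x)
      simp only [zero_smul, add_zero, zero_mul] at h
      exact h
    rw [hact, emb_mulVec, hdet, QForm.act, hr, QForm.reflectionMatrix_mulVec, ha, hpol, hp]
    conv_rhs => arg 2; rw [← split x]
    rw [Matrix.mulVec_sub, Matrix.mulVec_smul, show (2 : ZMod 3)⁻¹ = 2 by decide +kernel]
    module
  have himg : θ '' reflectionsOfNorm (⇑qSix) (2 : ZMod 3) =
      {x : O7.OG | ∃ v, IsEta x v ∧ QuadraticMap.polar O7.qf v w = 0} := by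
    apply Set.Subset.antisymm
    · rintro _ ⟨r, ⟨a, ha, hr⟩, rfl⟩
      exact ⟨_, key r a ha hr⟩
    · rintro x ⟨v, hv, hvw⟩
      have hc : (gram *ᵥ w) ⬝ᵥ v = 0 := by rw [dotProduct_comm, ← polar_eq]; exact hvw
      have hv' : T *ᵥ (P *ᵥ v) = v := by
        have := split v
        rwa [hc, zero_smul, add_zero] at this
      have ha : qSix (P *ᵥ v) = 2 := by
        have h := dot_split (P *ᵥ v) (P *ᵥ v) 0 0
        simp only [zero_smul, add_zero, zero_mul, hv'] at h
        rw [qSix_apply, ← h, ← qf_eq, hv.1]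
      refine ⟨QForm.refl qSix (P *ᵥ v) (by rw [ha]; decide), ⟨_, ha, rfl⟩, ?_⟩
      have := (key (QForm.refl qSix (P *ᵥ v) (by rw [ha]; decide)) _ ha rfl).1
      rw [hv'] at this
      exact isEta_unique this hv
  rw [← himg, ← MonoidHom.map_closure]
  exact ⟨Subgroup.equivMapOfInjective _ θ hθ⟩

end Cfsg.Agent.Presented.O7Six
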