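import Cfsg.Agent.Lib.Presented.Fi23Type
import Cfsg.Agent.Lib.Presented.O7SixRefl
import Cfsg.Agent.Lib.Presented.Data.Fi23PairData

/-!
# Transpositions of Fi23 commuting with a noncommuting pair and a further one

`six_iso`: the transpositions commuting with `t`, the eighth and the first generator generate a copy of the
reflection group of a six-dimensional orthogonal space over three elements.
-/

set_option autoImplicit false
set_option maxRecDepth 20000

namespace Cfsg.Agent.Presented.Fi23Pair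

open Cfsg Cfsg.Spor Cfsg.Agent.Presented Fi23Index Fi23Transp Fi23Pts Fi23Seven Fi23Type

/-- Each coset comes from an earlier one. -/
noncomputable def stepsOK : List (ℕ × ℕ × ℕ) → List ℕ → Bool
  | [], done => checkFast (fun p => !(inX p) || !(Nat.beq (Cc.actOf p 7) p) || Nat.beq p 8006 ||
      done.any fun q => Nat.beq q p) 15 Cc.N
  | e :: es, done => (done.any fun q => Nat.beq q e.2.1) && Nat.blt e.2.2 8 &&
      Nat.beq (Cc.actOf e.2.1 (arms.getD e.2.2 0)) e.1 && stepsOK es (e.1 :: done)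

theorem steps_ok : stepsOK (steps.drop 1) [11589] = true := by decide +kernel

theorem arms_lt : ∀ k ∈ arms, k < Cc.m := by decide +kernel

theorem arms_getD {i : ℕ} (hi : i < 8) : arms.getD i 0 ∈ arms :=
  (by decide +kernel : ∀ i < 8, arms.getD i 0 ∈ arms) i hi

/-- The transpositions commuting with `t` and the eighth generator are conjugate to the first generator by
their centraliser. -/
theorem exists_conj_pair {x : Fi23} (hx : x ∈ nbhd t ∩ nbhd (gen 7)) :
    ∃ a ∈ Subgroup.centralizer ({t, gen 7} : Set Fi23), a * gen 0 * a⁻¹ = x := by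
  obtain ⟨⟨hcl, hne, hct⟩, -, hne7, hc7⟩ := hx
  obtain ⟨p, hp, rfl⟩ := ι_surj hcl
  obtain ⟨e7, hp7⟩ := gen7_pt
  have hX : inX p = true := (inX_spec hp).2 ⟨hne, hct⟩
  have h7 : Cc.actOf p 7 = p := by
    have hlt : ∀ g ∈ [7], g < Cc.m := by decide +kernel
    have h := (commute_word (w := [7]) hlt hp).1 (by simpa [wval] using hc7)
    rwa [CosetCert.path_cons, CosetCert.path_nil] at h
  have h8 : p ≠ 8006 := fun e => hne7 (by rw [e, e7])
  suffices key : ∀ (es : List (ℕ × ℕ × ℕ)) (done : List ℕ), stepsOK es done = true →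
      (∀ q ∈ done, q < Cc.N ∧ ∃ a ∈ Subgroup.centralizer ({t, gen 7} : Set Fi23), a * gen 0 * a⁻¹ = ι q) →
      ∃ a ∈ Subgroup.centralizer ({t, gen 7} : Set Fi23), a * gen 0 * a⁻¹ = ι p by
    refine key _ _ steps_ok fun q hq => ?_
    rw [List.mem_singleton] at hq
    subst hq
    exact ⟨by decide +kernel, 1, one_mem _, by rw [ι_gen0]; group⟩
  intro es
  induction es with
  | nil =>
    intro done hok hd
    rw [stepsOK, ← checkBelow_fast] at hok
    have h := checkBelow_spec hok p hp
    simp only [hX, h7, Nat.beq_refl, Bool.not_true, Bool.false_or, Bool.or_eq_true, Nat.beq_eq,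
      List.any_eq_true] at h
    obtain ⟨q, hq, rfl⟩ := h.resolve_left h8
    exact (hd _ hq).2
  | cons e es ih =>
    intro done hok hd
    simp only [stepsOK, Bool.and_eq_true, List.any_eq_true, Nat.beq_eq, Nat.blt_eq] at hok
    obtain ⟨⟨⟨⟨q, hq, e1⟩, hi⟩, hact⟩, hrest⟩ := hok
    refine ih _ hrest fun v hv => ?_
    rcases List.mem_cons.1 hv with rfl | hv
    swap
    · exact hd v hv
    obtain ⟨hqN, a, ha, ea⟩ := hd q hq
    have hk := arms_getD hi
    generalize arms.getD e.2.2 0 = k at hk hact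
    have hlt : ∀ g ∈ [k], g < Cc.m := fun g hg => by rw [List.mem_singleton.1 hg]; exact arms_lt k hk
    have hc := conj_word hlt hqN
    subst e1
    rw [CosetCert.path_cons, CosetCert.path_nil] at hc
    have hw : wval gen [k] = gen k := by simp [wval]
    rw [hw, hact] at hc
    refine ⟨?_, gen k * a, mul_mem (gen_mem_cent hk) ha, ?_⟩
    · rw [← hact]
      have := path_lt hlt hqN
      rwa [CosetCert.path_cons, CosetCert.path_nil] at this
    · rw [← hc, ← ea]
      group

theorem gen_mem_pair {k : ℕ} (hk : k ∈ arms) : gen k ∈ nbhd t ∩ nbhd (gen 7) := by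
  have hk' : k ∈ Fi23Cover.idx := (by decide +kernel : ∀ k ∈ arms, k ∈ Fi23Cover.idx) k hk
  obtain ⟨h1, h2, h3⟩ := gen_near hk'
  have hc := Subgroup.mem_centralizer_iff.1 (gen_mem_cent hk) (gen 7) (Or.inr rfl)
  exact ⟨⟨h1, h2, h3⟩, h1, fun e => not_commute_seven (by rw [← e]; exact h3), hc⟩

theorem conj_mem_pair {a x : Fi23} (ha : a ∈ Subgroup.centralizer ({t, gen 7} : Set Fi23))
    (hx : x ∈ nbhd t ∩ nbhd (gen 7)) : a * x * a⁻¹ ∈ nbhd t ∩ nbhd (gen 7) := by
  have e : ∀ s ∈ ({t, gen 7} : Set Fi23), a * s * a⁻¹ = s := fun s hs => by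
    rw [← Subgroup.mem_centralizer_iff.1 ha s hs, mul_inv_cancel_right]
  have key : ∀ s ∈ ({t, gen 7} : Set Fi23), x ∈ nbhd s → a * x * a⁻¹ ∈ nbhd s := by
    rintro s hs ⟨h1, h2, h3⟩
    refine ⟨?_, fun h => h2 (mul_left_cancel (mul_right_cancel (h.trans (e s hs).symm))), ?_⟩
    · obtain ⟨b, rfl⟩ := isConj_iff.1 (h1 : IsConj t x)
      exact isConj_iff.2 ⟨a * b, by group⟩
    · rw [← e s hs]; exact (Commute.conj_iff a).2 h3
  exact ⟨key _ (Or.inl rfl) hx.1, key _ (Or.inr rfl) hx.2⟩

/-- The transpositions commuting with the pair and the first generator. -/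
abbrev M6 : Set Fi23 := nbhd t ∩ nbhd (gen 7) ∩ nbhd (gen 0)

/-- They generate the reflection group. -/
theorem six_iso :
    Nonempty (↥(Subgroup.closure M6) ≃* ↥(reflectionSubgroup (⇑O7Six.qSix) (2 : ZMod 3))) := by
  classical
  obtain ⟨φ, hφ⟩ := hom_fi23
  obtain ⟨φo, hφo⟩ := O7Three.hom_o7
  obtain ⟨φ₇, hb, hsimple⟩ := O7Three.bijective_pomega
  haveI := hsimple
  haveI : IsSimpleGroup O7Three.A := ClassicalSimple.isSimpleGroup_of_equiv (MulEquiv.ofBijective φ₇ hb)
  haveI := Fi23Order.card_le.1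
  have inj : ∀ {H : Type} [Group H] (f : O7Three.A →* H), f (PresentedGroup.of 0) ≠ 1 →
      Function.Injective f := by
    intro H _ f hf
    rw [← MonoidHom.ker_eq_bot_iff]
    exact (IsSimpleGroup.eq_bot_or_eq_top_of_normal _ inferInstance).resolve_right fun h =>
      hf (by rw [← MonoidHom.mem_ker, h]; trivial)
  have hφi : Function.Injective φ := inj φ (by
    rw [hφ]
    intro h
    have h' := (gen_mem_pair (show arms.getD 0 0 ∈ arms by decide)).1.1
    obtain ⟨b, hb⟩ := isConj_iff.1 (h' : IsConj t _)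
    have hb1 : b * t * b⁻¹ = 1 := hb.trans h
    exact t_ne (by simpa [mul_assoc] using congrArg (fun y => b⁻¹ * y * b) hb1))
  have hφoi : Function.Injective φo := inj φo (by
    rw [hφo]
    intro h
    have h1 := (O7Six.isEta_refl (k := 0) (by norm_num)).2
    have h2 : ∀ y : O7.Ix → ZMod 3,
        (2 * QuadraticMap.polar O7.qf (O7.root 0) y) • O7.root 0 - y = y := fun y => by
      rw [← h1, show O7.refl 0 = 1 from h, O7.act_one]
    exact absurd (congrFun (h2 (Pi.single (Sum.inr (Sum.inl 0)) 1)) (Sum.inr (Sum.inl 1))) (by decide +kernel))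
  have hrange : φ.range = Subgroup.closure (gen '' {k | k ∈ arms}) := by
    rw [MonoidHom.range_eq_map, ← PresentedGroup.closure_range_of, MonoidHom.map_closure]
    congr 1
    ext x
    simp only [Set.mem_image, Set.mem_range, Set.mem_ofPred_eq, exists_exists_eq_and, hφ]
    constructor
    · rintro ⟨k, rfl⟩
      exact ⟨_, arms_getD k.2, rfl⟩
    · rintro ⟨k, hk, rfl⟩
      obtain ⟨i, hi⟩ := (by decide +kernel : ∀ k ∈ arms, ∃ i : Fin 8, arms.getD i.1 0 = k) k hk
      exact ⟨i, by rw [hi]⟩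
  have hK : φ.range = Subgroup.centralizer ({t, gen 7} : Set Fi23) := hrange.trans pair_cent.1.symm
  have h0 : φ (PresentedGroup.of (5 : Fin 8)) = gen 0 := hφ 5
  have ho0 : φo (PresentedGroup.of (5 : Fin 8)) = O7.refl 5 := hφo 5
  have he5 : O7Six.IsEta (O7.refl 5) O7Six.w := by
    have := O7Six.isEta_refl (k := 5) (by norm_num)
    unfold O7Six.w
    exact this
  -- the words in the abstract group
  have hword : ∀ w : List ℕ, (∀ g ∈ w, g < 8) → φo (wval O7Three.gA w) = wval O7.refl w := by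
    intro w hw
    induction w with
    | nil => exact map_one φo
    | cons g w ih =>
      have hg : g < 8 := hw g List.mem_cons_self
      rw [wval, wval, map_mul, ih fun x hx => hw x (List.mem_cons_of_mem _ hx)]
      congr 1
      rw [← show (PresentedGroup.of (⟨g, hg⟩ : Fin 8) : O7Three.A) = O7Three.gA g from
        O7Three.gA_eq ⟨g, hg⟩, hφo]
  -- the images in the orthogonal group
  have hto : ∀ a, φ a ∈ M6 ↔ ∃ v, O7Six.IsEta (φo a) v ∧ QuadraticMap.polar O7.qf v O7Six.w = 0 := by
    intro a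
    have hpair : φ a ∈ nbhd t ∩ nbhd (gen 7) ↔ ∃ v, O7Six.IsEta (φo a) v := by
      constructor
      · intro h
        obtain ⟨b, hb, e⟩ := exists_conj_pair h
        rw [← hK] at hb
        obtain ⟨b, rfl⟩ := hb
        have ea : a = b * PresentedGroup.of (5 : Fin 8) * b⁻¹ := hφi (by
          rw [map_mul, map_mul, map_inv, h0, e])
        refine ⟨O7.act (φo b) O7Six.w, ?_⟩
        rw [ea, map_mul, map_mul, map_inv, ho0]
        exact O7Six.isEta_conj he5 _
      · rintro ⟨v, hv⟩
        obtain ⟨w', hw', ew⟩ := O7.exists_word v hv.1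
        set b := wval O7Three.gA w'
        have hbo : φo b = wval O7.refl w' := hword w' hw'
        have h2 := O7Six.isEta_conj (O7Six.isEta_refl (k := 0) (by norm_num)) (φo b)
        rw [hbo, ew, ← hbo] at h2
        have ea : a = b * PresentedGroup.of (0 : Fin 8) * b⁻¹ := hφoi (by
          rw [map_mul, map_mul, map_inv, hφo]
          exact O7Six.isEta_unique hv h2)
        rw [ea, map_mul, map_mul, map_inv, hφ]
        exact conj_mem_pair (by rw [← hK]; exact ⟨b, rfl⟩) (gen_mem_pair (arms_getD (by norm_num)))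
    have hiff : (φ a ≠ gen 0 ∧ Commute (gen 0) (φ a)) ↔
        (Commute (O7.refl 5) (φo a) ∧ φo a ≠ O7.refl 5) := by
      rw [← h0, ← ho0]
      constructor
      · rintro ⟨h1, h2⟩
        refine ⟨?_, fun e => h1 (congrArg φ (hφoi e))⟩
        have h3 : Commute (PresentedGroup.of (5 : Fin 8)) a := hφi (by rw [map_mul, map_mul]; exact h2.eq)
        exact h3.map φo
      · rintro ⟨h1, h2⟩
        refine ⟨fun e => h2 (congrArg φo (hφi e)), ?_⟩
        have h3 : Commute (PresentedGroup.of (5 : Fin 8)) a := hφoi (by rw [map_mul, map_mul]; exact h1.eq)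
        exact h3.map φ
    constructor
    · rintro ⟨hp, -, hne, hc⟩
      obtain ⟨v, hv⟩ := hpair.1 hp
      exact ⟨v, hv, (O7Six.commute_iff hv he5).1 (hiff.1 ⟨hne, hc⟩)⟩
    · rintro ⟨v, hv, hperp⟩
      have hp := hpair.2 ⟨v, hv⟩
      obtain ⟨h1, h2⟩ := hiff.2 ((O7Six.commute_iff hv he5).2 hperp)
      exact ⟨hp, hp.1.1, h1, h2⟩
  set S := {a : O7Three.A | φ a ∈ M6} with hS
  have hi1 : φ '' S = M6 := by
    apply Set.Subset.antisymm
    · rintro _ ⟨a, ha, rfl⟩; exact ha
    · intro x hx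
      obtain ⟨b, hb, e⟩ := exists_conj_pair hx.1
      rw [← hK] at hb
      obtain ⟨b, rfl⟩ := hb
      have e' : φ (b * PresentedGroup.of (5 : Fin 8) * b⁻¹) = x := by rw [map_mul, map_mul, map_inv, h0, e]
      exact ⟨_, by show φ _ ∈ M6; rw [e']; exact hx, e'⟩
  have hi2 : φo '' S = {x : O7.OG | ∃ v, O7Six.IsEta x v ∧ QuadraticMap.polar O7.qf v O7Six.w = 0} := by
    apply Set.Subset.antisymm
    · rintro _ ⟨a, ha, rfl⟩; exact (hto a).1 ha
    · rintro x ⟨v, hv, hperp⟩
      obtain ⟨w', hw', ew⟩ := O7.exists_word v hv.1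
      have h2 := O7Six.isEta_conj (O7Six.isEta_refl (k := 0) (by norm_num)) (φo (wval O7Three.gA w'))
      rw [hword w' hw', ew, ← hword w' hw'] at h2
      have ex : φo (wval O7Three.gA w' * PresentedGroup.of (0 : Fin 8) * (wval O7Three.gA w')⁻¹) = x := by
        rw [map_mul, map_mul, map_inv, hφo]
        exact O7Six.isEta_unique h2 hv
      exact ⟨_, (hto _).2 (by rw [ex]; exact ⟨v, hv, hperp⟩), ex⟩
  obtain ⟨er⟩ := O7Six.closure_perp
  have e1 : ↥(Subgroup.closure S) ≃* ↥(Subgroup.closure M6) :=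
    ((Subgroup.closure S).equivMapOfInjective φ hφi).trans
      (MulEquiv.subgroupCongr (by rw [MonoidHom.map_closure, hi1]))
  have e2 : ↥(Subgroup.closure S) ≃*
      ↥(Subgroup.closure {x : O7.OG | ∃ v, O7Six.IsEta x v ∧ QuadraticMap.polar O7.qf v O7Six.w = 0}) :=
    ((Subgroup.closure S).equivMapOfInjective φo hφoi).trans
      (MulEquiv.subgroupCongr (by rw [MonoidHom.map_closure, hi2]))
  exact ⟨(e1.symm.trans e2).trans er.symm⟩

end Cfsg.Agent.Presented.Fi23Pair
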