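import Cfsg.Agent.Lib.Presented.Fi23Transp

/-!
# The cosets of the double cover in Fi23 as its transpositions

`ι p` is the transposition attached to coset `p` of the coset table; an element fixes `p` exactly when
it commutes with `ι p`.  The transpositions commuting with `t`, other than `t`, are one class of the
centraliser of `t` (`exists_conj_gen0`).
-/

set_option autoImplicit false
set_option maxRecDepth 20000

namespace Cfsg.Agent.Presented.Fi23Pts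

open Cfsg.Spor Cfsg.Agent.Presented Fi23Index Fi23Order Fi23Cover Fi23Transp

/-- The table. -/
noncomputable abbrev Cc : CosetCert := Fi23C31671.cert

/-- The cosets by number. -/
noncomputable def tbl : Fin Cc.N ≃ Fi23 ⧸ hSub := exists_table.choose

theorem tbl_zero (i : Fin Cc.N) (h : (i : ℕ) = 0) : tbl i = QuotientGroup.mk 1 :=
  exists_table.choose_spec.1 i h

theorem smul_tbl (w : List ℕ) (hw : ∀ g ∈ w, g < Cc.m) (i : Fin Cc.N) :
    wval gen w • tbl i = tbl ⟨Cc.path w i,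
      CosetCert.path_lt Fi23C31671.cert_edgesOK Fi23C31671.cert_nodesOK w hw i.2⟩ :=
  CosetCert.smul_path Fi23C31671.cert_edgesOK Fi23C31671.cert_nodesOK tbl exists_table.choose_spec.2 w hw i

theorem path_lt {w : List ℕ} (hw : ∀ g ∈ w, g < Cc.m) {p : ℕ} (hp : p < Cc.N) : Cc.path w p < Cc.N :=
  CosetCert.path_lt Fi23C31671.cert_edgesOK Fi23C31671.cert_nodesOK w hw hp

theorem wval_rev (w : List ℕ) : wval gen w.reverse = (wval gen w)⁻¹ := Fi23Transp.wval_reverse w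

open Classical in
/-- The transposition of a coset. -/
noncomputable def ι (p : ℕ) : Fi23 :=
  if h : p < Cc.N then (tbl ⟨p, h⟩).out * t * (tbl ⟨p, h⟩).out⁻¹ else 1

theorem ι_of_mk {p : ℕ} (h : p < Cc.N) {r : Fi23} (e : tbl ⟨p, h⟩ = QuotientGroup.mk r) :
    ι p = r * t * r⁻¹ := by
  rw [ι, dif_pos h]
  obtain ⟨⟨k, hk⟩, hr⟩ : ∃ k : hSub, (tbl ⟨p, h⟩).out = r * k := by
    rw [e]; exact QuotientGroup.mk_out_eq_mul hSub r
  rw [hr, show r * k * t * (r * k)⁻¹ = r * (k * t * k⁻¹) * r⁻¹ by group, conj_mem_hSub hk]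

theorem ι_zero : ι 0 = t := by
  rw [ι_of_mk (p := 0) (by decide +kernel) (tbl_zero _ rfl)]
  group

theorem exists_rep {p : ℕ} (h : p < Cc.N) : ∃ r, tbl ⟨p, h⟩ = QuotientGroup.mk r :=
  ⟨_, (QuotientGroup.out_eq' _).symm⟩

theorem ι_mem {p : ℕ} (h : p < Cc.N) : ι p ∈ conjugatesOf t := by
  obtain ⟨r, hr⟩ := exists_rep h
  rw [ι_of_mk h hr]
  exact isConj_iff.2 ⟨r, rfl⟩

theorem ι_inj {p q : ℕ} (hp : p < Cc.N) (hq : q < Cc.N) (h : ι p = ι q) : p = q := by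
  obtain ⟨r, hr⟩ := exists_rep hp
  obtain ⟨s, hs⟩ := exists_rep hq
  rw [ι_of_mk hp hr, ι_of_mk hq hs] at h
  refine congrArg Fin.val (tbl.injective (a₁ := ⟨p, hp⟩) (a₂ := ⟨q, hq⟩) ?_)
  rw [hr, hs, QuotientGroup.eq, ← centralizer_eq, Subgroup.mem_centralizer_singleton_iff]
  calc r⁻¹ * s * t = r⁻¹ * (s * t * s⁻¹) * s := by group
    _ = t * (r⁻¹ * s) := by rw [← h]; group

theorem ι_surj {x : Fi23} (hx : x ∈ conjugatesOf t) : ∃ p < Cc.N, ι p = x := by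
  obtain ⟨r, rfl⟩ := isConj_iff.1 hx
  exact ⟨_, (tbl.symm (QuotientGroup.mk r)).2, ι_of_mk (r := r) _ (tbl.apply_symm_apply _)⟩

theorem conj_word {w : List ℕ} (hw : ∀ g ∈ w, g < Cc.m) {p : ℕ} (hp : p < Cc.N) :
    wval gen w * ι p * (wval gen w)⁻¹ = ι (Cc.path w p) := by
  obtain ⟨r, hr⟩ := exists_rep hp
  rw [ι_of_mk hp hr, ι_of_mk (path_lt hw hp) (r := wval gen w * r)]
  · group
  · rw [← smul_tbl w hw ⟨p, hp⟩, hr, MulAction.Quotient.smul_mk, smul_eq_mul]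

/-- Commuting with the transposition of a coset is fixing it. -/
theorem commute_word {w : List ℕ} (hw : ∀ g ∈ w, g < Cc.m) {p : ℕ} (hp : p < Cc.N) :
    Commute (wval gen w) (ι p) ↔ Cc.path w p = p := by
  constructor
  · intro h
    refine ι_inj (path_lt hw hp) hp ?_
    rw [← conj_word hw hp, h.eq, mul_inv_cancel_right]
  · intro h
    have e := conj_word hw hp
    rw [h] at e
    exact mul_inv_eq_iff_eq_mul.1 e

/-- The words of the generators as transpositions. -/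
def genPts : List (ℕ × ℕ × List ℕ) :=
  [(0, 11589, [7, 6, 5, 4, 3, 2, 1, 0, 8, 3, 2, 4, 3, 5, 4, 6, 5, 7, 6, 8, 3, 2, 4, 3, 5, 4, 8, 3, 2, 1]),
   (1, 8004, [7, 6, 5, 4, 3, 2, 1, 8, 3, 2, 4, 3, 5, 4, 6, 5, 7, 6, 8, 3, 2, 4, 3, 5, 4, 8, 3, 2]),
   (2, 8003, [7, 6, 5, 4, 3, 2, 1, 8, 3, 2, 4, 3, 5, 4, 6, 5, 7, 6, 8, 3, 2, 1, 4, 3, 5, 4, 8, 3]),
   (3, 8000, [7, 6, 5, 4, 3, 2, 1, 8, 3, 2, 4, 3, 5, 4, 6, 5, 7, 6, 8, 3, 2, 1, 4, 3, 2, 5, 4, 8]),
   (4, 8001, [7, 6, 5, 4, 3, 2, 1, 8, 3, 2, 4, 3, 5, 4, 6, 5, 7, 6, 8, 3, 2, 1, 4, 3, 2, 5, 8, 3]),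
   (5, 8002, [7, 6, 5, 4, 3, 2, 1, 8, 3, 2, 4, 3, 5, 4, 6, 5, 7, 6, 8, 3, 2, 1, 4, 3, 2, 8, 3, 4]),
   (6, 8005, [7, 6, 5, 4, 3, 2, 1, 8, 3, 2, 4, 3, 5, 4, 6, 5, 7, 8, 3, 2, 1, 4, 3, 2, 8, 3, 4, 5]),
   (7, 8006, [7, 6, 5, 4, 3, 2, 1, 8, 3, 2, 4, 3, 5, 4, 6, 5, 8, 3, 2, 1, 4, 3, 2, 8, 3, 4, 5, 6]),
   (8, 7999, [7, 6, 5, 4, 3, 2, 1, 8, 3, 2, 4, 3, 5, 4, 6, 5, 7, 6, 8, 3, 2, 1, 4, 3, 2, 5, 4, 3]),
   (9, 8007, [7, 6, 5, 4, 3, 2, 8, 3, 4, 5, 6, 7, 9, 8, 3, 2, 4, 3, 5, 4, 6, 5, 8, 3, 2, 4, 3, 8])]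

theorem ι_gen {k p : ℕ} {w : List ℕ} (h : (k, p, w) ∈ genPts) : ι p = gen k ∧ p < Cc.N := by
  have hall : (genPts.all fun x => (x.2.2.all fun g => Nat.blt g Cc.m) && Nat.beq (Cc.path x.2.2 0) x.2.1 &&
      sameOK Cc (Fi23Chain.chain.map Level.pt) (x.2.2.reverse ++ Fi23Chain.zWord ++ x.2.2) [x.1]) = true := by
    decide +kernel
  have h1 := List.all_eq_true.mp hall _ h
  simp only [Bool.and_eq_true, List.all_eq_true, Nat.blt_eq, Nat.beq_eq] at h1
  obtain ⟨⟨hlt, hpath⟩, hs⟩ := h1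
  have h0 : 0 < Cc.N := by decide +kernel
  have e := conj_word hlt h0
  rw [hpath, ι_zero] at e
  refine ⟨?_, hpath ▸ path_lt hlt h0⟩
  have e2 := Fi23Cover.eq_of_same _ _ hs
  rw [wval_append, wval_append, wval_rev] at e2
  simp only [wval, one_mul] at e2
  rw [← e2, ← e, t, mul_assoc]

theorem ι_gen0 : ι 11589 = gen 0 := (ι_gen List.mem_cons_self).1

theorem gen_mem_class {k : ℕ} (hk : k < 10) : gen k ∈ conjugatesOf t := by
  have hc : ∀ k : Fin 10, ∃ x ∈ genPts, x.1 = k.1 := by decide +kernel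
  obtain ⟨⟨k', p, w⟩, hx, rfl⟩ := hc ⟨k, hk⟩
  obtain ⟨e, hp⟩ := ι_gen hx
  exact e ▸ ι_mem hp

/-- The commutation of two cosets, the second given by a word from the coset of the first generator. -/
noncomputable def adjW (w : List ℕ) (p : ℕ) : Bool :=
  force (Cc.path w.reverse p) fun p' => Nat.beq (Cc.actOf p' 0) p'

theorem adjW_spec {w : List ℕ} (hw : ∀ g ∈ w, g < Cc.m) {p : ℕ} (hp : p < Cc.N) :
    adjW w p = true ↔ Commute (ι (Cc.path w 11589)) (ι p) := by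
  have hr : ∀ g ∈ w.reverse, g < Cc.m := fun g hg => hw g (List.mem_reverse.1 hg)
  have h0 : ∀ g ∈ [0], g < Cc.m := by decide +kernel
  have hp' := path_lt hr hp
  have e2 : ι p = wval gen w * ι (Cc.path w.reverse p) * (wval gen w)⁻¹ := by
    rw [← conj_word hr hp, wval_rev]; group
  rw [adjW, force_eq, Nat.beq_eq, ← conj_word hw (p := 11589) (by decide +kernel), ι_gen0, e2,
    Commute.conj_iff, show gen 0 = wval gen [0] by simp [wval], commute_word h0 hp', CosetCert.path_cons,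
    CosetCert.path_nil]

/-- The coset is fixed by `t` and is not its own. -/
noncomputable def inX (p : ℕ) : Bool := !(Nat.beq p 0) && Nat.beq (Cc.path Fi23Chain.zWord p) p

theorem zWord_lt : ∀ g ∈ Fi23Chain.zWord, g < Cc.m := by decide +kernel

theorem inX_spec {p : ℕ} (hp : p < Cc.N) : inX p = true ↔ ι p ≠ t ∧ Commute t (ι p) := by
  rw [inX, Bool.and_eq_true, Nat.beq_eq, ← commute_word zWord_lt hp]
  have h0 : 0 < Cc.N := by decide +kernel
  refine and_congr ?_ Iff.rfl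
  rw [Bool.not_eq_true', ← ι_zero]
  constructor
  · intro h e
    rw [ι_inj hp h0 e] at h
    simp at h
  · intro h
    rcases hb : Nat.beq p 0 with _ | _
    · rfl
    · exact absurd (congrArg ι (Nat.beq_eq.mp hb)) h

/-- The transpositions commuting with `t`, other than `t`, are conjugate to the first generator. -/
theorem exists_conj_gen0 {x : Fi23} (hx : x ∈ conjugatesOf t) (hne : x ≠ t) (hc : Commute t x) :
    ∃ h ∈ hSub, h * gen 0 * h⁻¹ = x := by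
  obtain ⟨p, hp, rfl⟩ := ι_surj hx
  have h52 : 52 < Cc.N := by decide +kernel
  have hT : ∀ (r : ℕ) (T : NTree) (hr : r < Cc.N),
      Cc.orbitOK [[0], [1], [2], [3], [4], [5], [6], [8], [9]] T r = true → CosetCert.inOrbit T p = true →
      ∃ h ∈ hSub, h * ι r * h⁻¹ = ι p := by
    intro r T hr hok hin
    have himg := CosetCert.orbit_eq_image Fi23C31671.cert_edgesOK Fi23C31671.cert_nodesOK tbl
      exists_table.choose_spec.2 hSub_eq_closure hr hok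
    have hmem : tbl ⟨p, hp⟩ ∈ MulAction.orbit hSub (tbl ⟨r, hr⟩) := by
      rw [himg]; exact ⟨⟨p, hp⟩, hin, rfl⟩
    obtain ⟨⟨h, hh⟩, hh'⟩ := hmem
    change h • tbl ⟨r, hr⟩ = tbl ⟨p, hp⟩ at hh'
    obtain ⟨a, ha⟩ := exists_rep hr
    refine ⟨h, hh, ?_⟩
    rw [ι_of_mk hr ha, ι_of_mk hp (r := h * a) (by rw [← hh', ha, MulAction.Quotient.smul_mk, smul_eq_mul])]
    group
  have hcov := checkBelow_spec block_cover p hp
  simp only [inUnion, Bool.or_eq_true, List.any_eq_true, List.map_cons, List.map_nil, List.mem_cons,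
    List.not_mem_nil, or_false] at hcov
  rcases hcov with h | ⟨T, hTm, hin⟩
  · exact absurd (by rw [Nat.beq_eq.mp h, ι_zero]) hne
  rcases hTm with rfl | rfl
  · exfalso
    obtain ⟨h, hh, e⟩ := hT 1 _ (by decide +kernel) Fi23C31671.orbit0_ok hin
    rw [← e, ← conj_mem_hSub hh, Commute.conj_iff] at hc
    have h1 := (commute_word zWord_lt (p := 1) (by decide +kernel)).1 hc
    exact absurd h1 (by decide +kernel)
  · obtain ⟨h, hh, e⟩ := hT 52 _ h52 Fi23C31671.orbit1_ok hin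
    obtain ⟨g, hg, e0⟩ : ∃ g ∈ hSub, g * ι 52 * g⁻¹ = gen 0 := by
      have hin0 : CosetCert.inOrbit Fi23C31671.orbit1 11589 = true := by decide +kernel
      have himg := CosetCert.orbit_eq_image Fi23C31671.cert_edgesOK Fi23C31671.cert_nodesOK tbl
        exists_table.choose_spec.2 hSub_eq_closure h52 Fi23C31671.orbit1_ok
      have hq : 11589 < Cc.N := by decide +kernel
      have hmem : tbl ⟨11589, hq⟩ ∈ MulAction.orbit hSub (tbl ⟨52, h52⟩) := by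
        rw [himg]; exact ⟨⟨11589, hq⟩, hin0, rfl⟩
      obtain ⟨⟨g, hg⟩, hg'⟩ := hmem
      change g • tbl ⟨52, h52⟩ = tbl ⟨11589, hq⟩ at hg'
      obtain ⟨a, ha⟩ := exists_rep h52
      refine ⟨g, hg, ?_⟩
      rw [← ι_gen0, ι_of_mk h52 ha,
        ι_of_mk hq (r := g * a) (by rw [← hg', ha, MulAction.Quotient.smul_mk, smul_eq_mul])]
      group
    refine ⟨h * g⁻¹, mul_mem hh (inv_mem hg), ?_⟩
    rw [← e, ← e0]
    group

end Cfsg.Agent.Presented.Fi23Pts
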