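import Cfsg.Agent.Lib.Presented.Fi23Pts
import Cfsg.Agent.Lib.Presented.O7Three

/-!
# The centraliser of two noncommuting transpositions of Fi23 is PΩ7(3)

`pair_cent`: the centraliser of `t` and the eighth generator is generated by eight generators commuting
with both, has order `4585351680` and is isomorphic to PΩ₇(3).
-/

set_option autoImplicit false
set_option maxRecDepth 20000

namespace Cfsg.Agent.Presented.Fi23Seven

open Cfsg.Spor Cfsg.Agent.Presented Fi23Index Fi23Transp Fi23Pts

/-- The eight generators in the order of the abstract group. -/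
def arms : List ℕ := [5, 4, 3, 2, 1, 0, 8, 9]

theorem gen_sq (k : ℕ) : gen k * gen k = 1 := genFun_mul_self gens_all gens_ok k

theorem hom_fi23 : ∃ φ : O7Three.A →* Fi23, ∀ k : Fin 8,
    φ (PresentedGroup.of k) = gen (arms.getD k.1 0) := by
  refine O7Three.exists_hom (fun k => gen (arms.getD k 0)) (fun k => gen_sq _) fun w hw => ?_
  have hall : (((relList O7Three.gensA O7Three.edgesA O7Three.extraA).map (letters O7Three.gensA)).all fun w =>
      sameOK Cc (Fi23Chain.chain.map Level.pt) (w.map fun k => arms.getD k 0) []) = true := by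
    decide +kernel
  have e := Fi23Cover.eq_of_same _ _ (List.all_eq_true.mp hall w hw)
  rw [← wval_comp] at e
  exact e

theorem gen7_pt : ι 8006 = gen 7 ∧ 8006 < Cc.N := ι_gen (k := 7) (p := 8006) (by decide +kernel : (7, 8006,
  [7, 6, 5, 4, 3, 2, 1, 8, 3, 2, 4, 3, 5, 4, 6, 5, 8, 3, 2, 1, 4, 3, 2, 8, 3, 4, 5, 6]) ∈ genPts)

/-- The generators commute with `t` and the eighth generator. -/
theorem gen_mem_cent {k : ℕ} (hk : k ∈ arms) :
    gen k ∈ Subgroup.centralizer ({t, gen 7} : Set Fi23) := by
  obtain ⟨e7, hp7⟩ := gen7_pt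
  have h1 : ∀ k ∈ arms, k ∈ Fi23Cover.idx ∧ k < Cc.m ∧ Cc.actOf 8006 k = 8006 := by decide +kernel
  obtain ⟨hidx, hlt, hact⟩ := h1 k hk
  have ct : gen k * t = t * gen k :=
    Subgroup.mem_centralizer_singleton_iff.1 (by rw [centralizer_eq]; exact Fi23Cover.gen_mem hidx)
  have c7 : gen k * gen 7 = gen 7 * gen k := by
    have h := (commute_word (w := [k]) (fun g hg => by rw [List.mem_singleton.1 hg]; exact hlt) hp7).2
      (by rw [CosetCert.path_cons, CosetCert.path_nil, hact])
    rw [e7] at h
    simpa [wval] using h.eq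
  rw [Subgroup.mem_centralizer_iff]
  rintro s (rfl | rfl)
  exacts [ct.symm, c7.symm]

theorem card_pair : Nat.card (Subgroup.centralizer ({t, gen 7} : Set Fi23)) = 4585351680 := by
  obtain ⟨e7, hp7⟩ := gen7_pt
  haveI := Fi23Order.card_le.1
  set K := Subgroup.centralizer ({t, gen 7} : Set Fi23) with hKdef
  have hKle : K ≤ hSub := by
    rw [← centralizer_eq]
    exact Subgroup.centralizer_le (by simp)
  have mem_h : ∀ x : Fi23, x ∈ hSub ↔ x * t = t * x := fun x => by
    rw [← centralizer_eq, Subgroup.mem_centralizer_singleton_iff]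
  have hst : MulAction.stabilizer hSub (tbl ⟨8006, hp7⟩) = K.subgroupOf hSub := by
    ext ⟨g, hg⟩
    obtain ⟨r, hr⟩ := exists_rep hp7
    rw [MulAction.mem_stabilizer_iff, Subgroup.mem_subgroupOf, hKdef, Subgroup.mem_centralizer_iff]
    change g • tbl ⟨8006, hp7⟩ = tbl ⟨8006, hp7⟩ ↔ _
    have hgt : g * t = t * g :=
      Subgroup.mem_centralizer_singleton_iff.1 (by rw [centralizer_eq]; exact hg)
    rw [← e7, ι_of_mk hp7 hr, hr, MulAction.Quotient.smul_mk, smul_eq_mul, eq_comm, QuotientGroup.eq,
      mem_h]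
    constructor
    · rintro h s (rfl | rfl)
      · exact hgt.symm
      · calc r * t * r⁻¹ * g = r * (t * (r⁻¹ * (g * r))) * r⁻¹ := by group
          _ = r * (r⁻¹ * (g * r) * t) * r⁻¹ := by rw [h]
          _ = g * (r * t * r⁻¹) := by group
    · intro h
      calc r⁻¹ * (g * r) * t = r⁻¹ * (g * (r * t * r⁻¹)) * r := by group
        _ = r⁻¹ * (r * t * r⁻¹ * g) * r := by rw [h _ (Or.inr rfl)]
        _ = t * (r⁻¹ * (g * r)) := by group
  have h1 : 1 < Cc.N := by decide +kernel
  have himg := CosetCert.orbit_eq_image Fi23C31671.cert_edgesOK Fi23C31671.cert_nodesOK tbl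
    exists_table.choose_spec.2 hSub_eq_closure h1 Fi23C31671.orbit0_ok
  have hmem : tbl ⟨8006, hp7⟩ ∈ MulAction.orbit hSub (tbl ⟨1, h1⟩) := by
    rw [himg]
    exact ⟨⟨8006, hp7⟩, (by decide +kernel : CosetCert.inOrbit Fi23C31671.orbit0 8006 = true), rfl⟩
  have hcnt : Cc.orbitCount Fi23C31671.orbit0 = 28160 := by
    rw [CosetCert.orbitCount, countBelow_fast]
    decide +kernel
  have horb : (MulAction.orbit hSub (tbl ⟨8006, hp7⟩)).ncard = 28160 := by
    rw [MulAction.orbit_eq_iff.2 hmem, CosetCert.orbit_ncard Fi23C31671.cert_edgesOK Fi23C31671.cert_nodesOK tbl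
      exists_table.choose_spec.2 hSub_eq_closure h1 Fi23C31671.orbit0_ok (by decide +kernel), hcnt]
  have hidx : (K.subgroupOf hSub).index = 28160 := by
    rw [← hst, MulAction.index_stabilizer, horb]
  have := (K.subgroupOf hSub).card_mul_index
  rw [hidx, Fi23Order.card_hSub, Nat.card_congr (Subgroup.subgroupOfEquivOfLe hKle).toEquiv] at this
  omega

/-- The centraliser of the pair is PΩ₇(3), generated by the eight generators. -/
theorem pair_cent :
    Subgroup.centralizer ({t, gen 7} : Set Fi23) = Subgroup.closure (gen '' {k | k ∈ arms}) ∧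
      Nonempty (↥(Subgroup.centralizer ({t, gen 7} : Set Fi23)) ≃*
        Cfsg.POmega (ZMod 3) (Cfsg.quadFormOdd 3 (ZMod 3))) ∧
      Subgroup.center ↥(Subgroup.centralizer ({t, gen 7} : Set Fi23)) = ⊥ := by
  haveI := Fi23Order.card_le.1
  obtain ⟨φ, hφ⟩ := hom_fi23
  obtain ⟨φ₇, hb, hsimple⟩ := O7Three.bijective_pomega
  let e₇ := MulEquiv.ofBijective φ₇ hb
  haveI := hsimple
  haveI : IsSimpleGroup O7Three.A := ClassicalSimple.isSimpleGroup_of_equiv e₇
  have hrange : φ.range = Subgroup.closure (gen '' {k | k ∈ arms}) := by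
    rw [MonoidHom.range_eq_map, ← PresentedGroup.closure_range_of, MonoidHom.map_closure]
    congr 1
    ext x
    simp only [Set.mem_image, Set.mem_range, Set.mem_ofPred_eq, exists_exists_eq_and, hφ]
    constructor
    · rintro ⟨k, rfl⟩
      exact ⟨_, (by decide +kernel : ∀ k : Fin 8, arms.getD k.1 0 ∈ arms) k, rfl⟩
    · rintro ⟨k, hk, rfl⟩
      obtain ⟨i, hi⟩ := (by decide +kernel : ∀ k ∈ arms, ∃ i : Fin 8, arms.getD i.1 0 = k) k hk
      exact ⟨i, by rw [hi]⟩
  have hle : φ.range ≤ Subgroup.centralizer ({t, gen 7} : Set Fi23) := by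
    rw [hrange, Subgroup.closure_le]
    rintro _ ⟨k, hk, rfl⟩
    exact gen_mem_cent hk
  have hinj : Function.Injective φ := by
    rw [← MonoidHom.ker_eq_bot_iff]
    refine (IsSimpleGroup.eq_bot_or_eq_top_of_normal _ inferInstance).resolve_right fun h => ?_
    have h0 : φ (PresentedGroup.of 0) = 1 := by rw [← MonoidHom.mem_ker, h]; trivial
    rw [hφ] at h0
    have h5 := conj_word (w := [5]) (fun g hg => by
      rw [List.mem_singleton.1 hg]; exact lt_of_lt_of_le (by norm_num : 5 < 10) (le_of_eq (by decide +kernel)))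
      (p := 8005) (by decide +kernel)
    rw [show wval gen [5] = 1 by simpa [wval, arms] using h0, one_mul, inv_one, mul_one] at h5
    exact absurd (ι_inj (by decide +kernel) (path_lt (fun g hg => by
      rw [List.mem_singleton.1 hg]; decide +kernel) (by decide +kernel)) h5) (by decide +kernel)
  have hcardA : Nat.card O7Three.A = 4585351680 := by
    rw [Nat.card_congr e₇.toEquiv]
    exact le_antisymm (Nat.card_congr e₇.toEquiv ▸ O7Three.card_A_le.2) (by
      have h2 : (2 : ZMod 3) ≠ 0 := by decide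
      haveI : Finite O7Three.A := O7Three.card_A_le.1
      have hN := Forms.quadOdd_nondegenerate (F := ZMod 3) h2 3
      have hq : ⇑(Forms.quadOdd 3 (ZMod 3)) = O7.qf := funext Forms.quadOdd_apply
      have hcentre : Nat.card (Subgroup.center (Cfsg.Omega (ZMod 3) O7.qf)) = 1 := by
        rw [QForm.OddInv.center_eq_bot h2 le_rfl, Subgroup.card_bot]
      have h := Forms.card_pomega (Q := Forms.quadOdd 3 (ZMod 3))
        (Forms.omega_index_odd _ h2 hN (by simp)) (c := 1) (by rw [hq]; exact hcentre)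
      rw [hq, S0286.result (q := 3) (by simp) (by decide) 3] at h
      simp only [Finset.prod_range_succ, Finset.prod_range_zero] at h
      norm_num at h
      omega)
  have heq : φ.range = Subgroup.centralizer ({t, gen 7} : Set Fi23) := by
    refine Subgroup.eq_of_le_of_card_ge hle ?_
    rw [card_pair, ← Nat.card_congr (MonoidHom.ofInjective hinj).toEquiv, hcardA]
  refine ⟨heq.symm.trans hrange, ⟨((MonoidHom.ofInjective hinj).trans
    (MulEquiv.subgroupCongr heq)).symm.trans e₇⟩, ?_⟩
  have e := ((MonoidHom.ofInjective hinj).trans (MulEquiv.subgroupCongr heq))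
  rw [← ClassicalSimple.center_map_equiv e]
  suffices Subgroup.center O7Three.A = ⊥ by rw [this, Subgroup.map_bot]
  refine (IsSimpleGroup.eq_bot_or_eq_top_of_normal _ inferInstance).resolve_right fun h => ?_
  have h1 : IsMulCommutative O7Three.A := ⟨⟨fun a b =>
    Subgroup.mem_center_iff.1 (by rw [h]; trivial : b ∈ Subgroup.center O7Three.A) a⟩⟩
  haveI : Finite O7Three.A := O7Three.card_A_le.1
  letI : CommGroup O7Three.A := { (inferInstance : Group O7Three.A) with mul_comm := h1.is_comm.comm }
  have hp : (Nat.card O7Three.A).Prime := IsSimpleGroup.prime_card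
  rw [hcardA] at hp
  rcases hp.eq_one_or_self_of_dvd 2 (by norm_num) with h2 | h2 <;> omega

end Cfsg.Agent.Presented.Fi23Seven
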