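import Cfsg.Agent.Lib.Presented.Order
import Cfsg.Agent.Lib.Presented.Data.Fi23Chain
import Cfsg.Agent.Lib.Presented.Data.Fi23Sylow

/-!
# Checks on the data for a Sylow 2-subgroup of the presented Fischer group Fi23
-/

set_option autoImplicit false
set_option maxRecDepth 20000

namespace Cfsg.Agent.Presented.Fi23Syl



/-- A field of a packed number. -/
def fld (w d i : ℕ) : ℕ := Nat.mod (Nat.shiftRight d (Nat.mul w i)) (Nat.pow 2 w)

/-- Image of `i` under the permutation with number `k`. -/
def permAt (k i : ℕ) : ℕ := fld 5 (fld 115 permData k) i

/-- The multiplication table. -/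
def mulAt (a b : ℕ) : ℕ := fld 7 (fld 896 mulData a) b

/-- Column `i` of the matrix with number `k`. -/
def colAt (k i : ℕ) : ℕ := fld 11 (fld 121 matData k) i

/-- The combination of the first `n` columns selected by the bits of `v`. -/
def comb (col : ℕ → ℕ) : ℕ → ℕ → ℕ
  | 0, _ => 0
  | n + 1, v => comb col n v ^^^ (if v.testBit n then col n else 0)

/-- Point of the frame. -/
def pt (i : ℕ) : ℕ := frame.getD i 0

/-- The table. -/
noncomputable abbrev tbl : CosetCert := Fi23C31671.cert

theorem frame_lt : (frame.length == 23 && (frame.all fun p => Nat.blt p tbl.N) &&
    frame.Nodup && ([174, 899, 52, 2524, 8005, 0].all fun p => frame.contains p)) = true := by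
  decide +kernel

theorem gens_lt : ((eGens ++ sWords).all fun k => k.all fun a => Nat.blt a tbl.m) = true := by
  decide +kernel

theorem lengths : eGens.length = 11 ∧ sWords.length = 7 ∧ parents.length = 128 ∧ localActs.length = 11 := by
  decide +kernel

theorem eGens_fix : (eGens.all fun k => frame.all fun p => Nat.beq (tbl.path k p) p) = true := by
  decide +kernel

theorem eGens_sq : ((List.range 11).all fun i => sameOK tbl (Fi23Chain.chain.map Level.pt)
    (eGens.getD i [] ++ eGens.getD i []) []) = true := by
  decide +kernel

theorem eGens_comm : ((List.range 11).all fun i => (List.range i).all fun j =>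
    sameOK tbl (Fi23Chain.chain.map Level.pt)
      (eGens.getD i [] ++ eGens.getD j []) (eGens.getD j [] ++ eGens.getD i [])) = true := by
  decide +kernel

theorem sWords_frame : ((List.range 7).all fun j => (List.range 23).all fun i =>
    Nat.beq (tbl.path (sWords.getD j []) (pt i)) (pt (fld 5 (sPerms.getD j 0) i))) = true := by
  decide +kernel

/-- Product of the generators selected by the bits of `v`. -/
def eWord : ℕ → ℕ → List ℕ
  | 0, _ => []
  | n + 1, v => (if v.testBit n then eGens.getD n [] else []) ++ eWord n v

/-- Conjugation of the generators by one lift is given by the matrix. -/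
noncomputable def conjOK (j : ℕ) : Bool := (List.range 11).all fun i =>
  sameOK tbl (Fi23Chain.chain.map Level.pt)
    ((sWords.getD j []).reverse ++ eGens.getD i [] ++ sWords.getD j [])
    (eWord 11 (fld 11 (sMats.getD j 0) i))

theorem conj0 : conjOK 0 = true := by decide +kernel
theorem conj1 : conjOK 1 = true := by decide +kernel
theorem conj2 : conjOK 2 = true := by decide +kernel
theorem conj3 : conjOK 3 = true := by decide +kernel
theorem conj4 : conjOK 4 = true := by decide +kernel
theorem conj5 : conjOK 5 = true := by decide +kernel
theorem conj6 : conjOK 6 = true := by decide +kernel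

theorem tree_check : ((List.range 128).all fun k =>
    ((List.range 23).all fun i => Nat.blt (permAt k i) 23) &&
    ((List.range 11).all fun i => Nat.blt (colAt k i) 2048) &&
    (if k = 0 then (List.range 23).all (fun i => permAt 0 i == i) &&
        (List.range 11).all (fun i => colAt 0 i == 2 ^ i)
      else match parents.getD k (0, 0) with
      | (j, p) => Nat.blt j 7 && Nat.blt p k &&
        (List.range 23).all (fun i => permAt k i == fld 5 (sPerms.getD j 0) (permAt p i)) &&
        (List.range 11).all (fun i => colAt k i == comb (fun c => fld 11 (sMats.getD j 0) c) 11 (colAt p i))))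
    = true := by
  decide +kernel

theorem perm_sep : ((List.range 128).all fun a => (List.range a).all fun b =>
    (List.range 23).any fun i => permAt a i != permAt b i) = true := by decide +kernel

/-- One row of the multiplication table. -/
def rowOK (a : ℕ) : Bool := (List.range 128).all fun b => Nat.blt (mulAt a b) 128 &&
  (List.range 23).all fun i => permAt (mulAt a b) i == permAt a (permAt b i)

theorem mul_check : ((List.range 128).all rowOK) = true := by decide +kernel

/-- Image under a generator on the local points. -/
def locStep (n u : ℕ) : ℕ := (localActs.getD n []).getD u 0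

theorem local_check : ((List.range 11).all fun n => (List.range localPts.length).all fun u =>
    Nat.blt (locStep n u) localPts.length && Nat.blt (localPts.getD u 0) tbl.N &&
      Nat.beq (tbl.path (eGens.getD n []) (localPts.getD u 0)) (localPts.getD (locStep n u) 0)) = true := by
  decide +kernel

/-- Image under a combination of the generators on the local points. -/
def locAct : ℕ → ℕ → ℕ → ℕ
  | 0, _, u => u
  | n + 1, v, u => locAct n v (if v.testBit n then locStep n u else u)

theorem local_faithful : ((List.range 2048).all fun v => v == 0 ||
    (List.range 5).any fun u => localPts.getD (locAct 11 v u) 0 != localPts.getD u 0) = true := by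
  decide +kernel

/-- The mask of `S` with a coset of it. -/
def extMask (S g : ℕ) : ℕ :=
  (List.range 128).foldl (fun acc a => if S.testBit a then acc ||| 2 ^ mulAt g a else acc) S

theorem subs_start : ((subs.map Prod.fst).contains 1) = true := by decide +kernel

theorem subs_step : (subs.all fun S => (List.range 128).all fun g =>
    S.1.testBit g || mulAt g g != 0 ||
      (List.range 128).any (fun a => S.1.testBit a && mulAt g a != mulAt a g) ||
      (subs.map Prod.fst).contains (extMask S.1 g)) = true := by
  decide +kernel

theorem subs_bound : (subs.all fun S => S.1 == 1 ||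
    (S.2.length == 2 * ((List.range 128).filter fun a => S.1.testBit a).length &&
      decide S.2.Nodup && S.2.all (fun x => Nat.blt x 2048) &&
      S.2.all fun x => S.2.all fun y => x == y || (List.range 128).any fun a =>
        S.1.testBit a && comb (colAt a) 11 (x ^^^ y) != x ^^^ y)) = true := by
  decide +kernel

end Cfsg.Agent.Presented.Fi23Syl
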