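import Cfsg.Agent.Lib.Presented.Fi23Cover
import Cfsg.Agent.Lib.Presented.Fi23Transp
import Cfsg.Agent.Lib.Presented.Fi23SylowChecks
import Cfsg.Prelude.Def_Transfer
import Mathlib.GroupTheory.Sylow

/-!
# A Sylow 2-subgroup of the presented Fischer group Fi23

The pointwise stabiliser `E` of twenty-three pairwise commuting transpositions is elementary abelian of
order `2 ^ 11`, and a Sylow 2-subgroup is an extension of `E` by 128 permutations of the twenty-three
transpositions.  Every other elementary abelian subgroup of this Sylow subgroup is smaller.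
-/

set_option autoImplicit false
set_option linter.constructorNameAsVariable false

namespace Cfsg.Agent.Presented.Fi23Syl

open Cfsg.Spor Cfsg.Agent.Presented Fi23Index Fi23Order Fi23Cover

/-- The equivalence given by the coset table. -/
noncomputable def table : Fin tbl.N ≃ Fi23 ⧸ hSub := exists_table.choose

theorem table_spec : ∀ g (hgm : g < tbl.m) (i : Fin tbl.N),
    gen g • table i = table ⟨tbl.actOf i g,
      CosetCert.actOf_lt Fi23C31671.cert_edgesOK Fi23C31671.cert_nodesOK i.2 hgm⟩ :=
  exists_table.choose_spec.2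

theorem smul_word {w : List ℕ} (hw : ∀ a ∈ w, a < tbl.m) {p q : ℕ} (hp : p < tbl.N) (hq : q < tbl.N)
    (h : tbl.path w p = q) : wval gen w • table ⟨p, hp⟩ = table ⟨q, hq⟩ := by
  rw [CosetCert.smul_path Fi23C31671.cert_edgesOK Fi23C31671.cert_nodesOK table table_spec w hw ⟨p, hp⟩]
  exact congrArg table (Fin.ext h)

theorem tbl_pos : 0 < tbl.N := by decide +kernel

theorem frame_facts : frame.length = 23 ∧ (∀ p ∈ frame, p < tbl.N) ∧ frame.Nodup ∧
    ∀ p ∈ [174, 899, 52, 2524, 8005, 0], p ∈ frame := by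
  have h := frame_lt
  simp only [Bool.and_eq_true, beq_iff_eq, List.all_eq_true, Nat.blt_eq, decide_eq_true_eq,
    List.contains_eq_mem] at h
  exact ⟨h.1.1.1, h.1.1.2, h.1.2, h.2⟩

theorem pt_lt (i : ℕ) : pt i < tbl.N := by
  rcases lt_or_ge i frame.length with hi | hi
  · rw [pt, List.getD_eq_getElem _ _ hi]
    exact frame_facts.2.1 _ (List.getElem_mem hi)
  · rw [pt, List.getD_eq_default _ _ hi]
    exact tbl_pos

/-- A point of the frame as a coset. -/
noncomputable def P (i : ℕ) : Fi23 ⧸ hSub := table ⟨pt i, pt_lt i⟩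

theorem pt_mem {i : ℕ} (hi : i < 23) : pt i ∈ frame := by
  rw [← frame_facts.1] at hi
  rw [pt, List.getD_eq_getElem _ _ hi]
  exact List.getElem_mem hi

theorem P_inj {i j : ℕ} (hi : i < 23) (hj : j < 23) (h : P i = P j) : i = j := by
  have h' : pt i = pt j := congrArg Fin.val (table.injective h)
  rw [← frame_facts.1] at hi hj
  rw [pt, pt, List.getD_eq_getElem _ _ hi, List.getD_eq_getElem _ _ hj] at h'
  exact (frame_facts.2.2.1.getElem_inj_iff).mp h'

/-- The pointwise stabiliser of the frame. -/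
noncomputable def E : Subgroup Fi23 := ⨅ i : Fin 23, MulAction.stabilizer Fi23 (P i)

theorem mem_E {g : Fi23} : g ∈ E ↔ ∀ i < 23, g • P i = P i := by
  rw [E, Subgroup.mem_iInf]
  exact ⟨fun h i hi => MulAction.mem_stabilizer_iff.mp (h ⟨i, hi⟩),
    fun h i => MulAction.mem_stabilizer_iff.mpr (h i i.2)⟩

theorem finite_fi23 : Finite Fi23 := card_le.1

theorem card_E_le : Nat.card E ≤ 2048 := by
  have := finite_fi23
  have hc := reachChain_card_le Fi23C31671.cert_edgesOK Fi23C31671.cert_nodesOK table table_spec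
    (by decide +kernel)
    [Fi23Chain.lev0, Fi23Chain.lev1, Fi23Chain.lev2, Fi23Chain.lev3, Fi23Chain.lev4, Fi23Chain.lev5] []
    (reachChainOK_cons Fi23Chain.lev0_ok (reachChainOK_cons Fi23Chain.lev1_ok
      (reachChainOK_cons Fi23Chain.lev2_ok (reachChainOK_cons Fi23Chain.lev3_ok
      (reachChainOK_cons Fi23Chain.lev4_ok (reachChainOK_cons Fi23Chain.lev5_ok
      (reachChainOK_nil _)))))))
  have hpts : ([Fi23Chain.lev0, Fi23Chain.lev1, Fi23Chain.lev2, Fi23Chain.lev3, Fi23Chain.lev4,
      Fi23Chain.lev5].map Level.pt).reverse = [174, 899, 52, 2524, 8005, 0] := by decide +kernel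
  have hprod : ([Fi23Chain.lev0, Fi23Chain.lev1, Fi23Chain.lev2, Fi23Chain.lev3, Fi23Chain.lev4,
      Fi23Chain.lev5].map Level.size).prod * 2048 = 4089470473293004800 := by decide +kernel
  rw [List.append_nil, hpts] at hc
  set Q := (fixer table [174, 899, 52, 2524, 8005, 0] : Subgroup Fi23) with hQ
  have hle : E ≤ Q := by
    intro g hg
    refine mem_fixer fun p hp hpN => ?_
    obtain ⟨i, hi, rfl⟩ := List.getElem_of_mem (frame_facts.2.2.2 p hp)
    have h := mem_E.mp hg i (frame_facts.1 ▸ hi)
    have he : (⟨frame[i], hpN⟩ : Fin tbl.N) = ⟨pt i, pt_lt i⟩ :=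
      Fin.ext (List.getD_eq_getElem _ _ hi).symm
    rw [he]
    exact h
  have htop : Nat.card (fixer table ([] : List ℕ) : Subgroup Fi23) = Nat.card Fi23 := by
    rw [show (fixer table ([] : List ℕ) : Subgroup Fi23) = ⊤ from rfl]; exact Subgroup.card_top
  rw [htop, card_fi23, ← hprod] at hc
  refine le_trans (Nat.card_le_card_of_injective _ (Subgroup.inclusion_injective hle)) ?_
  refine Nat.le_of_mul_le_mul_left hc ?_
  by_contra h0
  rw [Nat.not_lt, Nat.le_zero] at h0
  rw [h0, zero_mul] at hprod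
  exact absurd hprod (by norm_num)

/-! ### The generators of `E` -/

theorem eGens_lt (n : ℕ) : ∀ a ∈ eGens.getD n [], a < tbl.m := by
  intro a ha
  rcases lt_or_ge n eGens.length with hn | hn
  · rw [List.getD_eq_getElem _ _ hn] at ha
    have h := List.all_eq_true.mp gens_lt _ (List.mem_append_left _ (List.getElem_mem hn))
    exact Nat.blt_eq.mp (List.all_eq_true.mp h a ha)
  · rw [List.getD_eq_default _ _ hn] at ha
    simp at ha

theorem sWords_lt (j : ℕ) : ∀ a ∈ sWords.getD j [], a < tbl.m := by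
  intro a ha
  rcases lt_or_ge j sWords.length with hn | hn
  · rw [List.getD_eq_getElem _ _ hn] at ha
    have h := List.all_eq_true.mp gens_lt _ (List.mem_append_right _ (List.getElem_mem hn))
    exact Nat.blt_eq.mp (List.all_eq_true.mp h a ha)
  · rw [List.getD_eq_default _ _ hn] at ha
    simp at ha

/-- The generators of `E`. -/
noncomputable def a (n : ℕ) : Fi23 := wval gen (eGens.getD n [])

theorem a_sq {n : ℕ} (hn : n < 11) : a n * a n = 1 := by
  rw [a, ← wval_append]
  exact eq_of_same _ [] (List.all_eq_true.mp eGens_sq n (List.mem_range.mpr hn))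

theorem a_comm {n j : ℕ} (hn : n < 11) (hj : j < 11) : Commute (a n) (a j) := by
  have key : ∀ x y, x < 11 → y < x → Commute (a x) (a y) := by
    intro x y hx hy
    have h := List.all_eq_true.mp (List.all_eq_true.mp eGens_comm x (List.mem_range.mpr hx)) y
      (List.mem_range.mpr hy)
    have h' := eq_of_same _ _ h
    rw [wval_append, wval_append] at h'
    exact h'.symm
  rcases lt_trichotomy n j with h | h | h
  · exact (key j n hj h).symm
  · rw [h]
  · exact key n j hn h

/-- The element of `E` with given coordinates among the first `n`. -/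
noncomputable def F (n v : ℕ) : Fi23 := wval gen (eWord n v)

theorem F_zero (v : ℕ) : F 0 v = 1 := rfl

theorem F_succ (n v : ℕ) : F (n + 1) v = F n v * (if v.testBit n then a n else 1) := by
  rw [F, eWord, wval_append]
  cases v.testBit n <;> rfl

theorem F_comm {j : ℕ} (hj : j < 11) : ∀ n ≤ 11, ∀ v, Commute (a j) (F n v) := by
  intro n
  induction n with
  | zero => intro _ v; rw [F_zero]; exact Commute.one_right _
  | succ n ih =>
    intro hn v
    rw [F_succ]
    refine (ih (by omega) v).mul_right ?_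
    split
    · exact a_comm hj (by omega)
    · exact Commute.one_right _

theorem F_zero_vec : ∀ n, F n 0 = 1 := by
  intro n
  induction n with
  | zero => rfl
  | succ n ih => rw [F_succ, ih, Nat.zero_testBit]; simp

theorem F_xor : ∀ n ≤ 11, ∀ x y, F n (x ^^^ y) = F n x * F n y := by
  intro n
  induction n with
  | zero => intro _ x y; simp [F_zero]
  | succ n ih =>
    intro hn x y
    have hc := F_comm (j := n) (by omega) n (by omega) y
    rw [F_succ, F_succ, F_succ, ih (by omega), Nat.testBit_xor]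
    rcases x.testBit n <;> rcases y.testBit n <;> simp only [Bool.false_xor, Bool.true_xor, Bool.not_false,
      Bool.not_true, if_true, if_false, Bool.false_eq_true, mul_one, mul_assoc]
    · rw [hc.eq]
    · rw [← mul_assoc (a n), hc.eq, mul_assoc, a_sq (by omega), mul_one]

/-- The element of `E` with coordinates `v`. -/
noncomputable def el (v : ℕ) : Fi23 := F 11 v

theorem el_xor (x y : ℕ) : el (x ^^^ y) = el x * el y := F_xor 11 le_rfl x y

theorem el_zero : el 0 = 1 := F_zero_vec 11

theorem el_sq (v : ℕ) : el v * el v = 1 := by rw [← el_xor, Nat.xor_self, el_zero]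

theorem el_comm (x y : ℕ) : el x * el y = el y * el x := by
  rw [← el_xor, ← el_xor, Nat.xor_comm]

theorem el_pow_two (n : ℕ) (hn : n < 11) : el (2 ^ n) = a n := by
  have key : ∀ m ≤ 11, F m (2 ^ n) = if n < m then a n else 1 := by
    intro m
    induction m with
    | zero => intro _; simp [F_zero]
    | succ m ih =>
      intro hm
      rw [F_succ, ih (by omega), Nat.testBit_two_pow]
      rcases lt_trichotomy n m with h | h | h
      · simp [h, Nat.ne_of_lt h, Nat.lt_succ_of_lt h]
      · simp [h]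
      · simp [Nat.not_lt.mpr h.le, (Nat.ne_of_lt h).symm, show ¬ n < m + 1 by omega]
  rw [el, key 11 le_rfl, if_pos hn]

theorem el_mem (v : ℕ) : el v ∈ E := by
  have key : ∀ n ≤ 11, F n v ∈ E := by
    intro n
    induction n with
    | zero => intro _; exact one_mem _
    | succ n ih =>
      intro hn
      rw [F_succ]
      refine mul_mem (ih (by omega)) ?_
      split
      · refine mem_E.mpr fun i hi => ?_
        refine smul_word (eGens_lt n) _ _ ?_
        have hl : n < eGens.length := by rw [lengths.1]; omega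
        rw [List.getD_eq_getElem _ _ hl]
        exact Nat.beq_eq.mp (List.all_eq_true.mp
          (List.all_eq_true.mp eGens_fix _ (List.getElem_mem hl)) _ (pt_mem hi))
      · exact one_mem _
  exact key 11 le_rfl

theorem local_facts {n u : ℕ} (hn : n < 11) (hu : u < localPts.length) :
    locStep n u < localPts.length ∧ localPts.getD u 0 < tbl.N ∧
      tbl.path (eGens.getD n []) (localPts.getD u 0) = localPts.getD (locStep n u) 0 := by
  have h := List.all_eq_true.mp (List.all_eq_true.mp local_check n (List.mem_range.mpr hn)) u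
    (List.mem_range.mpr hu)
  simp only [Bool.and_eq_true, Nat.blt_eq, Nat.beq_eq] at h
  exact ⟨h.1.1, h.1.2, h.2⟩

theorem local_len : 5 ≤ localPts.length := by decide +kernel

/-- A local point as a coset. -/
noncomputable def Q (u : ℕ) : Fi23 ⧸ hSub :=
  if h : localPts.getD u 0 < tbl.N then table ⟨_, h⟩ else table ⟨0, tbl_pos⟩

theorem F_local : ∀ n ≤ 11, ∀ v u, u < localPts.length →
    locAct n v u < localPts.length ∧ F n v • Q u = Q (locAct n v u) := by
  intro n
  induction n with
  | zero => intro _ v u hu; exact ⟨hu, by rw [F_zero, one_smul]; rfl⟩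
  | succ n ih =>
    intro hn v u hu
    obtain ⟨h1, h2, h3⟩ := local_facts (n := n) (by omega) hu
    rw [F_succ, locAct]
    cases v.testBit n
    · simpa using ih (by omega) v u hu
    · obtain ⟨i1, i2⟩ := ih (by omega) v (locStep n u) h1
      obtain ⟨-, h2', -⟩ := local_facts (n := n) (by omega) h1
      simp only [if_true]
      refine ⟨i1, ?_⟩
      rw [mul_smul, ← i2]
      congr 1
      rw [Q, dif_pos h2, Q, dif_pos h2']
      exact smul_word (eGens_lt n) _ _ h3

theorem el_eq_one {v : ℕ} (hv : v < 2048) (h : el v = 1) : v = 0 := by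
  have hf := List.all_eq_true.mp local_faithful v (List.mem_range.mpr hv)
  simp only [Bool.or_eq_true, beq_iff_eq, List.any_eq_true, bne_iff_ne, List.mem_range] at hf
  rcases hf with hf | ⟨u, hu, hne⟩
  · exact hf
  · exfalso
    have hlu : u < localPts.length := lt_of_lt_of_le hu local_len
    obtain ⟨h1, h2⟩ := F_local 11 le_rfl v u hlu
    obtain ⟨-, hb, -⟩ := local_facts (n := 0) (by norm_num) hlu
    obtain ⟨-, hb', -⟩ := local_facts (n := 0) (by norm_num) h1
    rw [show F 11 v = 1 from h, one_smul, Q, Q, dif_pos hb, dif_pos hb'] at h2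
    exact hne (congrArg Fin.val (table.injective h2)).symm

theorem el_inj {x y : ℕ} (hx : x < 2048) (hy : y < 2048) (h : el x = el y) : x = y := by
  have hz : el (x ^^^ y) = 1 := by rw [el_xor, h, el_sq]
  exact Nat.xor_eq_zero_iff.mp (el_eq_one (Nat.xor_lt_two_pow (n := 11) hx hy) hz)

theorem el_surj {g : Fi23} (hg : g ∈ E) : ∃ v < 2048, g = el v := by
  have := finite_fi23
  let f : Fin 2048 → E := fun v => ⟨el v, el_mem v⟩
  have hf : Function.Injective f := fun x y h => Fin.ext (el_inj x.2 y.2 (congrArg Subtype.val h))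
  have hb : Function.Bijective f :=
    hf.bijective_of_nat_card_le (by rw [Nat.card_fin]; exact card_E_le)
  obtain ⟨v, hv⟩ := hb.2 ⟨g, hg⟩
  exact ⟨v, v.2, (congrArg Subtype.val hv).symm⟩

theorem card_E : Nat.card E = 2048 := by
  have := finite_fi23
  refine le_antisymm card_E_le ?_
  refine le_of_eq_of_le (Nat.card_fin 2048).symm (Nat.card_le_card_of_injective
    (fun v : Fin 2048 => (⟨el v, el_mem v⟩ : E)) ?_)
  exact fun x y h => Fin.ext (el_inj x.2 y.2 (congrArg Subtype.val h))

theorem E_elementary : IsElementaryAbelian 2 E := by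
  refine ⟨⟨⟨fun x y => ?_⟩⟩, fun x hx => ?_⟩
  · obtain ⟨u, -, hu⟩ := el_surj x.2
    obtain ⟨v, -, hv⟩ := el_surj y.2
    apply Subtype.ext
    rw [Subgroup.coe_mul, Subgroup.coe_mul, hu, hv, el_comm]
  · obtain ⟨u, -, rfl⟩ := el_surj hx
    rw [pow_two, el_sq]

/-! ### The 128 permutations -/

theorem tree_facts {k : ℕ} (hk : k < 128) :
    (∀ i < 23, permAt k i < 23) ∧ (∀ i < 11, colAt k i < 2048) := by
  have h := List.all_eq_true.mp tree_check k (List.mem_range.mpr hk)
  simp only [Bool.and_eq_true, List.all_eq_true, List.mem_range, Nat.blt_eq] at h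
  exact ⟨h.1.1, h.1.2⟩

theorem idx_unique {g : Fi23} {k l : ℕ} (hk : k < 128) (hl : l < 128)
    (h1 : ∀ i < 23, g • P i = P (permAt k i)) (h2 : ∀ i < 23, g • P i = P (permAt l i)) : k = l := by
  have key : ∀ x y, x < 128 → y < x → ∃ i < 23, permAt x i ≠ permAt y i := by
    intro x y hx hy
    have h := List.all_eq_true.mp (List.all_eq_true.mp perm_sep x (List.mem_range.mpr hx)) y
      (List.mem_range.mpr hy)
    simpa [List.any_eq_true] using h
  have heq : ∀ i < 23, permAt k i = permAt l i := fun i hi =>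
    P_inj ((tree_facts hk).1 i hi) ((tree_facts hl).1 i hi) ((h1 i hi).symm.trans (h2 i hi))
  rcases lt_trichotomy k l with h | h | h
  · obtain ⟨i, hi, hne⟩ := key l k hl h
    exact absurd (heq i hi).symm hne
  · exact h
  · obtain ⟨i, hi, hne⟩ := key k l hk h
    exact absurd (heq i hi) hne

theorem perm_zero : ∀ i < 23, permAt 0 i = i := by decide +kernel

theorem col_zero : ∀ i < 11, colAt 0 i = 2 ^ i := by decide +kernel

theorem mul_facts {x y : ℕ} (hx : x < 128) (hy : y < 128) :
    mulAt x y < 128 ∧ ∀ i < 23, permAt (mulAt x y) i = permAt x (permAt y i) := by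
  have h := List.all_eq_true.mp (List.all_eq_true.mp mul_check x (List.mem_range.mpr hx)) y
    (List.mem_range.mpr hy)
  simp only [Bool.and_eq_true, List.all_eq_true, List.mem_range, Nat.blt_eq, beq_iff_eq] at h
  exact h

/-- `g` permutes the frame as the permutation with number `k`. -/
def Idx (g : Fi23) (k : ℕ) : Prop := k < 128 ∧ ∀ i < 23, g • P i = P (permAt k i)

theorem idx_one : Idx 1 0 :=
  ⟨by norm_num, fun i hi => by rw [one_smul, perm_zero i hi]⟩

theorem idx_mul {g h : Fi23} {k l : ℕ} (hg : Idx g k) (hh : Idx h l) : Idx (g * h) (mulAt k l) := by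
  refine ⟨(mul_facts hg.1 hh.1).1, fun i hi => ?_⟩
  rw [mul_smul, hh.2 i hi, hg.2 _ ((tree_facts hh.1).1 i hi), (mul_facts hg.1 hh.1).2 i hi]

theorem idx_pow {g : Fi23} {k : ℕ} (hg : Idx g k) : ∀ n : ℕ, ∃ l, Idx (g ^ n) l
  | 0 => ⟨0, by rw [pow_zero]; exact idx_one⟩
  | n + 1 => by
    obtain ⟨l, hl⟩ := idx_pow hg n
    exact ⟨_, by rw [pow_succ]; exact idx_mul hl hg⟩

theorem idx_inv {g : Fi23} {k : ℕ} (hg : Idx g k) : ∃ l, Idx g⁻¹ l := by
  have := finite_fi23
  have h : g⁻¹ = g ^ (orderOf g - 1) := by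
    refine inv_eq_of_mul_eq_one_right ?_
    rw [← pow_succ', Nat.sub_add_cancel (orderOf_pos g), pow_orderOf_eq_one]
  rw [h]
  exact idx_pow hg _

/-- The Sylow 2-subgroup. -/
noncomputable def T0 : Subgroup Fi23 where
  carrier := {g | ∃ k, Idx g k}
  one_mem' := ⟨0, idx_one⟩
  mul_mem' := fun ⟨_, hk⟩ ⟨_, hl⟩ => ⟨_, idx_mul hk hl⟩
  inv_mem' := fun ⟨_, hk⟩ => idx_inv hk

/-! ### Conjugation -/

theorem conj_F (g : Fi23) (col : ℕ → ℕ) : ∀ n ≤ 11, (∀ i < n, g * a i * g⁻¹ = el (col i)) →
    ∀ v, g * F n v * g⁻¹ = el (comb col n v) := by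
  intro n
  induction n with
  | zero => intro _ _ v; simp [F_zero, comb, el_zero]
  | succ n ih =>
    intro hn h v
    rw [F_succ, comb, el_xor, ← ih (by omega) (fun i hi => h i (by omega)) v]
    cases v.testBit n
    · simp [el_zero]
    · simp only [if_true]
      rw [← h n (by omega)]
      group

theorem lift_step {j : ℕ} (hj : j < 7) :
    (∀ i < 23, fld 5 (sPerms.getD j 0) i < 23 →
      wval gen (sWords.getD j []) • P i = P (fld 5 (sPerms.getD j 0) i)) ∧
    ∀ v, wval gen (sWords.getD j []) * el v * (wval gen (sWords.getD j []))⁻¹ =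
      el (comb (fun c => fld 11 (sMats.getD j 0) c) 11 v) := by
  constructor
  · intro i hi _
    exact smul_word (sWords_lt j) _ _ (Nat.beq_eq.mp (List.all_eq_true.mp
      (List.all_eq_true.mp sWords_frame j (List.mem_range.mpr hj)) i (List.mem_range.mpr hi)))
  · refine conj_F _ _ 11 le_rfl fun i hi => ?_
    have hok : conjOK j = true := by
      obtain rfl | rfl | rfl | rfl | rfl | rfl | rfl :
          j = 0 ∨ j = 1 ∨ j = 2 ∨ j = 3 ∨ j = 4 ∨ j = 5 ∨ j = 6 := by omega
      exacts [conj0, conj1, conj2, conj3, conj4, conj5, conj6]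
    have h := eq_of_same _ _ (List.all_eq_true.mp hok i (List.mem_range.mpr hi))
    rw [wval_append, wval_append, Fi23Transp.wval_reverse, ← mul_assoc] at h
    exact h

theorem exists_lift : ∀ k, k < 128 → ∃ g, Idx g k ∧
    ∀ v < 2048, g * el v * g⁻¹ = el (comb (colAt k) 11 v) := by
  intro k
  induction k using Nat.strong_induction_on with
  | _ k ih =>
    intro hk
    rcases Nat.eq_zero_or_pos k with rfl | hpos
    · refine ⟨1, idx_one, fun v _ => ?_⟩
      have h : ∀ i < 11, (1 : Fi23) * a i * 1⁻¹ = el (colAt 0 i) := fun i hi => by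
        rw [col_zero i hi, el_pow_two i hi]; group
      exact conj_F 1 (colAt 0) 11 le_rfl h v
    · have h := List.all_eq_true.mp tree_check k (List.mem_range.mpr hk)
      rw [if_neg (by omega : k ≠ 0)] at h
      generalize parents.getD k (0, 0) = jp at h
      obtain ⟨j, p⟩ := jp
      simp only [Bool.and_eq_true, List.all_eq_true, List.mem_range, Nat.blt_eq, beq_iff_eq] at h
      obtain ⟨⟨hperm, hcol⟩, ⟨⟨hj, hp⟩, hpe⟩, hce⟩ := h
      have hp' : p < 128 := lt_trans hp hk
      obtain ⟨g, hg, hgc⟩ := ih p hp hp'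
      obtain ⟨hs, hsc⟩ := lift_step hj
      refine ⟨wval gen (sWords.getD j []) * g, ⟨hk, fun i hi => ?_⟩, fun v hv => ?_⟩
      · rw [mul_smul, hg.2 i hi, hpe i hi]
        refine hs _ ((tree_facts hp').1 i hi) ?_
        rw [← hpe i hi]; exact hperm i hi
      · refine conj_F _ (colAt k) 11 le_rfl (fun i hi => ?_) v
        rw [← el_pow_two i hi, hce i hi, ← hsc]
        have h2 : (2 : ℕ) ^ i < 2048 := Nat.pow_lt_pow_right (a := 2) (n := 11) (by norm_num) hi
        have h3 : comb (colAt p) 11 (2 ^ i) = colAt p i := by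
          have key : ∀ n ≤ 11, comb (colAt p) n (2 ^ i) = if i < n then colAt p i else 0 := by
            intro n
            induction n with
            | zero => intro _; rfl
            | succ n ihn =>
              intro hn
              rw [comb, ihn (by omega), Nat.testBit_two_pow]
              rcases lt_trichotomy i n with hh | hh | hh
              · simp [hh, Nat.ne_of_lt hh, Nat.lt_succ_of_lt hh]
              · simp [hh]
              · simp [Nat.not_lt.mpr hh.le, (Nat.ne_of_lt hh).symm, show ¬ i < n + 1 by omega]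
          rw [key 11 le_rfl, if_pos hi]
        rw [← h3, ← hgc _ h2]
        group

theorem mem_E_of_idx_zero {g : Fi23} (hg : Idx g 0) : g ∈ E :=
  mem_E.mpr fun i hi => by rw [hg.2 i hi, perm_zero i hi]

theorem idx_of_mem_E {g : Fi23} (hg : g ∈ E) : Idx g 0 :=
  ⟨by norm_num, fun i hi => by rw [mem_E.mp hg i hi, perm_zero i hi]⟩

theorem inv_mul_mem_E {g h : Fi23} {k : ℕ} (hg : Idx g k) (hh : Idx h k) : g⁻¹ * h ∈ E :=
  mem_E.mpr fun i hi => by rw [mul_smul, hh.2 i hi, ← hg.2 i hi, inv_smul_smul]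

/-- Conjugation in the Sylow subgroup is given by the matrices. -/
theorem conj_el {g : Fi23} {k : ℕ} (hg : Idx g k) {v : ℕ} (hv : v < 2048) :
    g * el v * g⁻¹ = el (comb (colAt k) 11 v) := by
  obtain ⟨s, hs, hsc⟩ := exists_lift k hg.1
  obtain ⟨u, -, hu⟩ := el_surj (inv_mul_mem_E hs hg)
  rw [eq_mul_of_inv_mul_eq hu, ← hsc v hv, mul_assoc s (el u) (el v), el_comm u v]
  group

theorem E_le : E ≤ T0 := fun _ hg => ⟨0, idx_of_mem_E hg⟩

theorem E_normal {t x : Fi23} (ht : t ∈ T0) (hx : x ∈ E) : t * x * t⁻¹ ∈ E := by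
  obtain ⟨k, hk⟩ := ht
  obtain ⟨v, hv, rfl⟩ := el_surj hx
  rw [conj_el hk hv]
  exact el_mem _

theorem card_T0 : Nat.card T0 = 2 ^ 18 := by
  have hl : ∀ k : Fin 128, ∃ g, Idx g k := fun k => by
    obtain ⟨g, hg, -⟩ := exists_lift k k.2; exact ⟨g, hg⟩
  choose r hr using hl
  let f : Fin 128 × Fin 2048 → T0 := fun kv => ⟨r kv.1 * el kv.2,
    mul_mem (show r kv.1 ∈ T0 from ⟨_, hr kv.1⟩) (E_le (el_mem _))⟩
  have hf : Function.Bijective f := by
    constructor
    · rintro ⟨k, u⟩ ⟨l, v⟩ h
      have h' : r k * el u = r l * el v := congrArg Subtype.val h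
      have hk : ∀ i < 23, (r k * el u) • P i = P (permAt k i) := fun i hi => by
        rw [mul_smul, mem_E.mp (el_mem u) i hi, (hr k).2 i hi]
      have hl : ∀ i < 23, (r k * el u) • P i = P (permAt l i) := fun i hi => by
        rw [h', mul_smul, mem_E.mp (el_mem v) i hi, (hr l).2 i hi]
      obtain rfl : k = l := Fin.ext (idx_unique k.2 l.2 hk hl)
      rw [Fin.ext (el_inj u.2 v.2 (mul_left_cancel h'))]
    · rintro ⟨g, k, hk⟩
      obtain ⟨u, hu, hu'⟩ := el_surj (inv_mul_mem_E (hr ⟨k, hk.1⟩) hk)
      exact ⟨(⟨k, hk.1⟩, ⟨u, hu⟩), Subtype.ext (eq_mul_of_inv_mul_eq hu').symm⟩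
  rw [← Nat.card_eq_of_bijective f hf, Nat.card_prod, Nat.card_fin, Nat.card_fin]
  norm_num

/-! ### Elementary abelian subgroups -/

theorem extMask_testBit (S g i : ℕ) : (extMask S g).testBit i = true ↔
    S.testBit i = true ∨ ∃ c < 128, S.testBit c = true ∧ mulAt g c = i := by
  have key : ∀ (l : List ℕ) (acc : ℕ),
      (l.foldl (fun acc a => if S.testBit a then acc ||| 2 ^ mulAt g a else acc) acc).testBit i = true ↔
        acc.testBit i = true ∨ ∃ c ∈ l, S.testBit c = true ∧ mulAt g c = i := by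
    intro l
    induction l with
    | nil => intro acc; simp
    | cons c l ih =>
      intro acc
      rw [List.foldl_cons, ih]
      by_cases hc : S.testBit c = true
      · simp [hc, Nat.testBit_two_pow, or_assoc]
      · simp [hc]
  rw [extMask, key]
  simp only [List.mem_range]

theorem exists_mask {A : Subgroup Fi23} (hA : IsElementaryAbelian 2 A) :
    ∃ S ∈ subs, (∀ k < 128, S.1.testBit k = true → ∃ g ∈ A, Idx g k) ∧
      ∀ g ∈ A, ∀ k, Idx g k → S.1.testBit k = true := by
  classical
  let cnt : ℕ → ℕ := fun m => ((Finset.range 128).filter fun k => m.testBit k = true).card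
  let C := (subs.map Prod.fst).toFinset.filter fun m =>
    m.testBit 0 = true ∧ ∀ k < 128, m.testBit k = true → ∃ g ∈ A, Idx g k
  have hne : C.Nonempty := by
    refine ⟨1, Finset.mem_filter.mpr ⟨List.mem_toFinset.mpr ?_, rfl, fun k _ hk => ?_⟩⟩
    · simpa using subs_start
    · obtain rfl : k = 0 := Nat.testBit_one_eq_true_iff_self_eq_zero.mp hk
      exact ⟨1, one_mem _, idx_one⟩
  obtain ⟨m, hm, hmax⟩ := C.exists_max_image cnt hne
  obtain ⟨hmem, h0, hsub⟩ := Finset.mem_filter.mp hm
  obtain ⟨S, hS, rfl⟩ := List.mem_map.mp (List.mem_toFinset.mp hmem)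
  refine ⟨S, hS, hsub, fun g hg k hk => ?_⟩
  by_contra hnot
  have h := List.all_eq_true.mp (List.all_eq_true.mp subs_step S hS) k (List.mem_range.mpr hk.1)
  simp only [Bool.or_eq_true, bne_iff_ne, ne_eq, List.any_eq_true, List.mem_range, Bool.and_eq_true,
    List.contains_eq_mem, decide_eq_true_eq] at h
  rcases h with ((h | h) | ⟨c, hc, hcb, h⟩) | h
  · exact hnot h
  · apply h
    have h1 := idx_mul hk hk
    rw [← pow_two, hA.2 g hg] at h1
    exact idx_unique h1.1 (by norm_num) h1.2 idx_one.2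
  · obtain ⟨x, hx, hxc⟩ := hsub c hc hcb
    apply h
    have hcomm : g * x = x * g :=
      congrArg Subtype.val (hA.1.is_comm.comm (⟨g, hg⟩ : A) ⟨x, hx⟩)
    have h1 := idx_mul hk hxc
    have h2 := idx_mul hxc hk
    rw [hcomm] at h1
    exact idx_unique h1.1 h2.1 h1.2 h2.2
  · have hin : extMask S.1 k ∈ C := by
      refine Finset.mem_filter.mpr ⟨List.mem_toFinset.mpr h,
        (extMask_testBit _ _ _).mpr (Or.inl h0), fun l hl hlb => ?_⟩
      rcases (extMask_testBit _ _ _).mp hlb with hlb | ⟨c, hc, hcb, rfl⟩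
      · exact hsub l hl hlb
      · obtain ⟨x, hx, hxc⟩ := hsub c hc hcb
        exact ⟨g * x, mul_mem hg hx, idx_mul hk hxc⟩
    have hk0 : mulAt k 0 = k := by
      have h1 := idx_mul hk idx_one
      rw [mul_one] at h1
      exact idx_unique h1.1 hk.1 h1.2 hk.2
    have hlt : cnt S.1 < cnt (extMask S.1 k) := by
      refine Finset.card_lt_card (Finset.ssubset_iff_of_subset ?_ |>.mpr ⟨k, ?_, ?_⟩)
      · intro l hl
        rw [Finset.mem_filter] at hl ⊢
        exact ⟨hl.1, (extMask_testBit _ _ _).mpr (Or.inl hl.2)⟩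
      · exact Finset.mem_filter.mpr ⟨Finset.mem_range.mpr hk.1,
          (extMask_testBit _ _ _).mpr (Or.inr ⟨0, by norm_num, h0, hk0⟩)⟩
      · exact fun h' => hnot (Finset.mem_filter.mp h').2
    exact absurd (hmax _ hin) (not_le.mpr hlt)

theorem comb_lt (col : ℕ → ℕ) : ∀ n, (∀ i < n, col i < 2048) → ∀ v, comb col n v < 2048 := by
  intro n
  induction n with
  | zero => intro _ v; norm_num [comb]
  | succ n ih =>
    intro h v
    rw [comb]
    refine Nat.xor_lt_two_pow (n := 11) (ih (fun i hi => h i (by omega)) v) ?_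
    split
    · exact h n (by omega)
    · norm_num

/-- An elementary abelian subgroup of the Sylow subgroup is inside `E` or has order at most `2 ^ 10`. -/
theorem le_or_small {A : Subgroup Fi23} (hT : A ≤ T0) (hA : IsElementaryAbelian 2 A) :
    A ≤ E ∨ Nat.card A ≤ 1024 := by
  classical
  have := finite_fi23
  obtain ⟨S, hS, hsub, hsup⟩ := exists_mask hA
  by_cases h1 : S.1 = 1
  · left
    intro g hg
    obtain ⟨k, hk⟩ := hT hg
    have h := hsup g hg k hk
    rw [h1] at h
    obtain rfl : k = 0 := Nat.testBit_one_eq_true_iff_self_eq_zero.mp h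
    exact mem_E_of_idx_zero hk
  right
  have hb := List.all_eq_true.mp subs_bound S hS
  simp only [Bool.or_eq_true, beq_iff_eq, h1, false_or, Bool.and_eq_true, decide_eq_true_eq,
    List.all_eq_true, Nat.blt_eq, List.any_eq_true, List.mem_range, bne_iff_ne, ne_eq] at hb
  obtain ⟨⟨⟨hlen, hnd⟩, hDlt⟩, hsep⟩ := hb
  set Im := ((List.range 128).filter fun c => S.1.testBit c).toFinset with hIm
  have hImc : Im.card = ((List.range 128).filter fun c => S.1.testBit c).length :=
    List.toFinset_card_of_nodup (List.nodup_range.filter _)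
  have hImm : ∀ c, c ∈ Im ↔ c < 128 ∧ S.1.testBit c = true := fun c => by simp [hIm]
  set W := (Finset.range 2048).filter fun v => el v ∈ A with hW
  -- the image and the kernel bound the order
  have hrep : ∀ c : Im, ∃ g ∈ A, Idx g c := fun c =>
    hsub c ((hImm c).mp c.2).1 ((hImm c).mp c.2).2
  choose r hrA hr using hrep
  have hle : Nat.card A ≤ Im.card * W.card := by
    have hs : Function.Surjective fun cv : Im × W =>
        (⟨r cv.1 * el cv.2, mul_mem (hrA cv.1) (Finset.mem_filter.mp cv.2.2).2⟩ : A) := by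
      rintro ⟨g, hg⟩
      obtain ⟨k, hk⟩ := hT hg
      have hkI : k ∈ Im := (hImm k).mpr ⟨hk.1, hsup g hg k hk⟩
      obtain ⟨u, hu, hu'⟩ := el_surj (inv_mul_mem_E (hr ⟨k, hkI⟩) hk)
      have huA : el u ∈ A := hu' ▸ mul_mem (inv_mem (hrA _)) hg
      exact ⟨(⟨k, hkI⟩, ⟨u, Finset.mem_filter.mpr ⟨Finset.mem_range.mpr hu, huA⟩⟩),
        Subtype.ext (eq_mul_of_inv_mul_eq hu').symm⟩
    refine (Nat.card_le_card_of_surjective _ hs).trans (le_of_eq ?_)
    simp
  -- the kernel is small, since the complement moves everything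
  have hWD : W.card * S.2.toFinset.card ≤ 2048 := by
    rw [← Finset.card_product, ← Finset.card_range 2048]
    refine Finset.card_le_card_of_injOn (fun p => p.1 ^^^ p.2) ?_ ?_
    · intro p hp
      rw [Finset.mem_coe, Finset.mem_product] at hp
      rw [Finset.mem_coe, Finset.mem_range]
      exact Nat.xor_lt_two_pow (n := 11) (Finset.mem_range.mp (Finset.mem_filter.mp hp.1).1)
        (hDlt _ (List.mem_toFinset.mp hp.2))
    · rintro ⟨w, x⟩ hp ⟨w', y⟩ hq h
      simp only [Finset.mem_coe, Finset.mem_product, List.mem_toFinset, hW, Finset.mem_filter,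
        Finset.mem_range] at hp hq h
      have hxy : x = y := by
        by_contra hne
        rcases hsep x hp.2 y hq.2 with h' | ⟨c, hc, hcb, hne'⟩
        · exact hne h'
        apply hne'
        obtain ⟨g, hg, hgc⟩ := hsub c hc hcb
        have hz : x ^^^ y < 2048 := Nat.xor_lt_two_pow (n := 11) (hDlt x hp.2) (hDlt y hq.2)
        have hzeq : x ^^^ y = w ^^^ w' := by
          apply Nat.eq_of_testBit_eq
          intro i
          have h' := congrArg (fun n => n.testBit i) h
          simp only [Nat.testBit_xor] at h' ⊢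
          revert h'
          cases w.testBit i <;> cases w'.testBit i <;> cases x.testBit i <;> cases y.testBit i <;> decide
        have hzA : el (x ^^^ y) ∈ A := by
          rw [hzeq, el_xor]; exact mul_mem hp.1.2 hq.1.2
        have hcz := conj_el hgc hz
        have hcomm : g * el (x ^^^ y) = el (x ^^^ y) * g :=
          congrArg Subtype.val (hA.1.is_comm.comm (⟨g, hg⟩ : A) ⟨_, hzA⟩)
        rw [hcomm, mul_inv_cancel_right] at hcz
        exact (el_inj hz (comb_lt _ 11 (tree_facts hc).2 _) hcz).symm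
      subst hxy
      have hww : w = w' := by
        have h' := congrArg (fun n => n ^^^ x) h
        simpa [Nat.xor_assoc] using h'
      rw [hww]
  rw [List.toFinset_card_of_nodup hnd, hlen, ← hImc] at hWD
  calc Nat.card A ≤ Im.card * W.card := hle
    _ ≤ 1024 := by nlinarith

theorem card_le_of_elementary {A : Subgroup Fi23} (hT : A ≤ T0) (hA : IsElementaryAbelian 2 A) :
    Nat.card A ≤ 2 ^ 11 ∧ (Nat.card A = 2 ^ 11 → A = E) := by
  have := finite_fi23
  rcases le_or_small hT hA with h | h
  · refine ⟨(Nat.card_le_card_of_injective _ (Subgroup.inclusion_injective h)).trans card_E.le,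
      fun hc => Subgroup.eq_of_le_of_card_ge h ?_⟩
    rw [hc, card_E]; norm_num
  · refine ⟨h.trans (by norm_num), fun hc => ?_⟩
    rw [hc] at h
    norm_num at h

/-- Every Sylow 2-subgroup is the preimage of `T0` under an automorphism. -/
theorem exists_conj (T : Sylow 2 Fi23) :
    ∃ c : Fi23 ≃* Fi23, ∀ x, x ∈ (T : Subgroup Fi23) ↔ c x ∈ T0 := by
  have := finite_fi23
  have hfac : (Nat.card Fi23).factorization 2 = 18 := by
    rw [card_fi23, show (4089470473293004800 : ℕ) = 2 ^ 18 * (4089470473293004800 / 2 ^ 18) by norm_num,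
      Nat.factorization_mul (by norm_num) (by norm_num), Finsupp.add_apply,
      Nat.prime_two.factorization_pow, Finsupp.single_eq_same,
      Nat.factorization_eq_zero_of_not_dvd (by norm_num)]
  let S : Sylow 2 Fi23 := Sylow.ofCard T0 (by rw [card_T0, hfac])
  obtain ⟨g, rfl⟩ := MulAction.exists_smul_eq Fi23 S T
  refine ⟨MulAut.conj g⁻¹, fun x => ?_⟩
  rw [Sylow.coe_subgroup_smul, Subgroup.mem_pointwise_smul_iff_inv_smul_mem, MulAut.conj.map_inv]
  rfl

theorem main (T : Sylow 2 Fi23) :
    (∀ A : Subgroup Fi23, A ≤ T → (A.subgroupOf T).Normal → IsElementaryAbelian 2 A →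
        Nat.card A ≤ 2 ^ 11) ∧
    ∃! A : Subgroup Fi23, A ≤ T ∧ (A.subgroupOf T).Normal ∧ IsElementaryAbelian 2 A ∧
        Nat.card A = 2 ^ 11 := by
  obtain ⟨c, hc⟩ := exists_conj T
  have hmove : ∀ A : Subgroup Fi23, A ≤ T → IsElementaryAbelian 2 A →
      Nat.card A ≤ 2 ^ 11 ∧ (Nat.card A = 2 ^ 11 → A = E.comap c.toMonoidHom) := by
    intro A hAT hA
    set B := A.map c.toMonoidHom with hB
    have hcard : Nat.card B = Nat.card A := Subgroup.card_map_of_injective c.injective
    have hBT : B ≤ T0 := by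
      rintro _ ⟨x, hx, rfl⟩
      exact (hc x).mp (hAT hx)
    have hBe : IsElementaryAbelian 2 B := by
      constructor
      · refine ⟨⟨fun x y => ?_⟩⟩
        obtain ⟨x', hx, hx'⟩ := x.2
        obtain ⟨y', hy, hy'⟩ := y.2
        apply Subtype.ext
        rw [Subgroup.coe_mul, Subgroup.coe_mul, ← hx', ← hy', ← map_mul, ← map_mul]
        exact congrArg _ (congrArg Subtype.val (hA.1.is_comm.comm (⟨x', hx⟩ : A) ⟨y', hy⟩))
      · rintro _ ⟨x, hx, rfl⟩
        rw [← map_pow, hA.2 x hx, map_one]
    obtain ⟨h1, h2⟩ := card_le_of_elementary hBT hBe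
    rw [hcard] at h1 h2
    refine ⟨h1, fun h => ?_⟩
    rw [← h2 h, hB, Subgroup.comap_map_eq_self_of_injective c.injective]
  set A0 := E.comap c.toMonoidHom with hA0
  have hAT : A0 ≤ (T : Subgroup Fi23) := fun x hx => (hc x).mpr (E_le hx)
  have hnormal : (A0.subgroupOf (T : Subgroup Fi23)).Normal := by
    refine ⟨fun x hx t => ?_⟩
    change c ((t : Fi23) * (x : Fi23) * (t : Fi23)⁻¹) ∈ E
    rw [map_mul, map_mul, map_inv]
    exact E_normal ((hc _).mp t.2) hx
  have helem : IsElementaryAbelian 2 A0 := by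
    refine ⟨⟨⟨fun x y => ?_⟩⟩, fun x hx => ?_⟩
    · apply Subtype.ext
      apply c.injective
      rw [Subgroup.coe_mul, Subgroup.coe_mul, map_mul, map_mul]
      exact congrArg Subtype.val (E_elementary.1.is_comm.comm (⟨c x, x.2⟩ : E) ⟨c y, y.2⟩)
    · apply c.injective
      rw [map_pow, map_one]
      exact E_elementary.2 _ hx
  have hcard : Nat.card A0 = 2 ^ 11 := by
    rw [hA0, Subgroup.comap_equiv_eq_map_symm', Subgroup.card_map_of_injective c.symm.injective, card_E]
    norm_num
  exact ⟨fun A hA _ he => (hmove A hA he).1,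
    A0, ⟨hAT, hnormal, helem, hcard⟩, fun A ⟨hA, _, he, hn⟩ => (hmove A hA he).2 hn⟩

end Cfsg.Agent.Presented.Fi23Syl
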