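import Cfsg.Agent.Lib.Presented.Fi23Pts
import Cfsg.Agent.Lib.Presented.Data.Fi23TreeData

/-!
# Configurations of transpositions in Fi23 at two commuting ones

Seven transpositions commuting with `t` and with the first generator, on the diagram `d c e f h i g` or
on the path `a b c d e f g`, are carried by the centraliser of these two onto one of the leaves of an
orbit tree.  `exists_witness` and `forced` read off what holds at the leaves.
-/

set_option autoImplicit false
set_option maxRecDepth 20000

namespace Cfsg.Agent.Presented.Fi23Tree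

open Cfsg.Spor Cfsg.Agent.Presented Fi23Index Fi23Transp Fi23Pts

/-- A candidate allowed by a row of the diagram. -/
noncomputable def fits (row : List Bool) (pre : List (ℕ × List ℕ)) (q : ℕ) : Bool :=
  (row.zip pre).all fun x => !(Nat.beq q x.2.1) && (adjW x.2.2 q == x.1)

/-- The words fix the two base cosets and the chosen ones. -/
noncomputable def gensOK (pre : List (ℕ × List ℕ)) (gens : List (List ℕ)) : Bool :=
  gens.all fun w => (w.all fun g => Nat.blt g Cc.m) && Nat.beq (Cc.path w 0) 0 &&
    Nat.beq (Cc.path w 11589) 11589 && pre.all fun x => Nat.beq (Cc.path w x.1) x.1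

/-- The forest reaches every candidate from a representative. -/
noncomputable def forestOK (gens : List (List ℕ)) (fits : ℕ → Bool) :
    List (ℕ × ℕ × ℕ) → List ℕ → Bool
  | [], done => cands.all fun x => !(fits x.1) || done.any fun y => Nat.beq x.1 y
  | e :: es, done => (done.any fun y => Nat.beq e.2.1 y) && Nat.blt e.2.2 gens.length &&
      Nat.beq (Cc.path (gens.getD e.2.2 []) e.2.1) e.1 && forestOK gens fits es (e.1 :: done)

/-- The tree is checked against the rows of the diagram. -/
noncomputable def treeOK : List (List Bool) → List (ℕ × List ℕ) → CTree → Bool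
  | [], _, _ => true
  | _ :: _, _, .leaf => false
  | _ :: _, _, .cons _ _ _ => false
  | row :: rows, pre, .node gens forest reps =>
    gensOK pre gens && forestOK gens (fits row pre) forest (reps.kids.map fun r => (cands.getD r.1 (0, [])).1) &&
    reps.kids.all fun r => Nat.blt r.1 cands.length && treeOK rows (pre ++ [cands.getD r.1 (0, [])]) r.2

/-- The complete tuples at the leaves. -/
noncomputable def leaves : List (List Bool) → List (ℕ × List ℕ) → CTree → List (List (ℕ × List ℕ))
  | [], pre, _ => [pre]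
  | _ :: _, _, .leaf => []
  | _ :: _, _, .cons _ _ _ => []
  | _ :: rows, pre, .node _ _ reps =>
    (reps.kids.map fun r => leaves rows (pre ++ [cands.getD r.1 (0, [])]) r.2).flatten

theorem cands_ok : (cands.all fun x => (x.2.all fun g => Nat.blt g Cc.m) && Nat.blt x.1 Cc.N &&
    Nat.beq (Cc.path x.2 11589) x.1) = true := by decide +kernel

theorem cands_full : checkBelow (fun p => !(Nat.beq (Cc.actOf p 0) p && inX p) || Nat.beq p 11589 ||
    cands.any fun x => Nat.beq x.1 p) 15 Cc.N = true := by decide +kernel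

theorem cand_spec {x : ℕ × List ℕ} (hx : x ∈ cands) :
    (∀ g ∈ x.2, g < Cc.m) ∧ x.1 < Cc.N ∧ Cc.path x.2 11589 = x.1 := by
  have h := List.all_eq_true.mp cands_ok x hx
  simp only [Bool.and_eq_true, List.all_eq_true, Nat.blt_eq, Nat.beq_eq] at h
  exact ⟨h.1.1, h.1.2, h.2⟩

/-- The transpositions commuting with `t` and the first generator. -/
structure Ok (x : Fi23) : Prop where
  mem : x ∈ conjugatesOf t
  ne_t : x ≠ t
  com_t : Commute t x
  ne_g : x ≠ gen 0
  com_g : Commute (gen 0) x

theorem gen0_eq : gen 0 = wval gen [0] := by simp [wval]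

theorem zero_lt : ∀ g ∈ [0], g < Cc.m := by decide +kernel

theorem Ok.exists_cand {x : Fi23} (hx : Ok x) : ∃ c ∈ cands, ι c.1 = x := by
  obtain ⟨p, hp, rfl⟩ := ι_surj hx.mem
  have h := checkBelow_spec cands_full p hp
  have h1 : inX p = true := (inX_spec hp).2 ⟨hx.ne_t, hx.com_t⟩
  have hc := hx.com_g
  rw [gen0_eq, commute_word zero_lt hp, CosetCert.path_cons, CosetCert.path_nil] at hc
  simp only [h1, hc, Nat.beq_refl, Bool.and_true, Bool.not_true, Bool.false_or, Bool.or_eq_true,
    Nat.beq_eq, List.any_eq_true] at h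
  rcases h with h | ⟨c, hc', e⟩
  · exact absurd (by rw [h, ι_gen0]) hx.ne_g
  · exact ⟨c, hc', by rw [e]⟩

/-- The relations of the members of a partial configuration with the earlier ones. -/
def Compat : List (List Bool) → List Fi23 → List Fi23 → Prop
  | [], _, [] => True
  | row :: rows, pre, x :: xs => Ok x ∧ (∀ q ∈ row.zip pre, x ≠ q.2 ∧ (Commute q.2 x ↔ q.1 = true)) ∧
      Compat rows (pre ++ [x]) xs
  | _, _, _ => False

theorem compat_conj {h : Fi23} (ht : h * t * h⁻¹ = t) (hg : h * gen 0 * h⁻¹ = gen 0) :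
    ∀ (rows : List (List Bool)) (pre xs : List Fi23), Compat rows pre xs →
      Compat rows (pre.map fun y => h * y * h⁻¹) (xs.map fun y => h * y * h⁻¹)
  | [], _, [], _ => trivial
  | [], _, _ :: _, hc => hc.elim
  | _ :: _, _, [], hc => hc.elim
  | row :: rows, pre, x :: xs, ⟨hx, hr, hc⟩ => by
    refine ⟨⟨?_, ?_, ?_, ?_, ?_⟩, ?_, ?_⟩
    · obtain ⟨a, rfl⟩ := isConj_iff.1 hx.mem
      exact isConj_iff.2 ⟨h * a, by group⟩
    · intro e; exact hx.ne_t (mul_left_cancel (mul_right_cancel (e.trans ht.symm)))
    · rw [← ht]; exact (Commute.conj_iff h).2 hx.com_t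
    · intro e; exact hx.ne_g (mul_left_cancel (mul_right_cancel (e.trans hg.symm)))
    · rw [← hg]; exact (Commute.conj_iff h).2 hx.com_g
    · intro q hq
      rw [List.zip_map_right, List.mem_map] at hq
      obtain ⟨q₀, hq₀, rfl⟩ := hq
      obtain ⟨h1, h2⟩ := hr q₀ hq₀
      refine ⟨fun e => h1 (mul_left_cancel (mul_right_cancel e)), ?_⟩
      simp only [Prod.map_fst, Prod.map_snd, id_eq, Commute.conj_iff]
      exact h2
    · have := compat_conj ht hg rows _ xs hc
      simpa [List.map_append] using this

theorem sound : ∀ (rows : List (List Bool)) (pre : List (ℕ × List ℕ)) (T : CTree),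
    treeOK rows pre T = true → (∀ c ∈ pre, c ∈ cands) →
    ∀ xs, Compat rows (pre.map fun c => ι c.1) xs →
    ∃ h, h * t * h⁻¹ = t ∧ h * gen 0 * h⁻¹ = gen 0 ∧ ∃ l ∈ leaves rows pre T, (∀ c ∈ l, c ∈ cands) ∧
      ((pre.map fun c => ι c.1) ++ xs).map (fun y => h * y * h⁻¹) = l.map fun c => ι c.1
  | [], pre, _, _, hpre, [], _ => ⟨1, by group, by group, pre, by simp [leaves], hpre, by simp⟩
  | [], _, _, _, _, _ :: _, hc => hc.elim
  | _ :: _, _, .leaf, hok, _, _, _ => by simp [treeOK] at hok
  | _ :: _, _, .cons _ _ _, hok, _, _, _ => by simp [treeOK] at hok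
  | _ :: _, _, .node _ _ _, _, _, [], hc => hc.elim
  | row :: rows, pre, .node gens forest reps, hok, hpre, x :: xs, ⟨hx, hr, hc⟩ => by
    simp only [treeOK, Bool.and_eq_true, List.all_eq_true, Nat.blt_eq] at hok
    obtain ⟨⟨hg, hf⟩, hreps⟩ := hok
    obtain ⟨c, hcm, rfl⟩ := hx.exists_cand
    have hfit : fits row pre c.1 = true := by
      simp only [fits, List.all_eq_true, Bool.and_eq_true]
      intro q hq
      have hqm : q.2 ∈ pre := (List.of_mem_zip hq).2
      obtain ⟨h1, h2⟩ := hr (q.1, ι q.2.1) (by
        rw [List.zip_map_right]; exact List.mem_map.mpr ⟨q, hq, rfl⟩)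
      obtain ⟨hw, hlt, hpath⟩ := cand_spec (hpre _ hqm)
      have hcl := (cand_spec hcm).2.1
      refine ⟨?_, ?_⟩
      · rcases hb : Nat.beq c.1 q.2.1 with _ | _
        · rfl
        · exact absurd (congrArg ι (Nat.beq_eq.mp hb)) h1
      · rw [beq_iff_eq, Bool.eq_iff_iff, adjW_spec hw hcl, hpath]
        exact h2
    -- follow the forest back to a representative
    have key : ∀ (es : List (ℕ × ℕ × ℕ)) (done : List ℕ), forestOK gens (fits row pre) es done = true →
        (∀ y ∈ done, y < Cc.N ∧ ∃ h, h * t * h⁻¹ = t ∧ h * gen 0 * h⁻¹ = gen 0 ∧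
          (∀ d ∈ pre, h * ι d.1 * h⁻¹ = ι d.1) ∧ ∃ r ∈ reps.kids, h * ι y * h⁻¹ = ι (cands.getD r.1 (0, [])).1) →
        ∃ h, h * t * h⁻¹ = t ∧ h * gen 0 * h⁻¹ = gen 0 ∧
          (∀ d ∈ pre, h * ι d.1 * h⁻¹ = ι d.1) ∧ ∃ r ∈ reps.kids, h * ι c.1 * h⁻¹ = ι (cands.getD r.1 (0, [])).1 := by
      intro es
      induction es with
      | nil =>
        intro done hf hd
        simp only [forestOK, List.all_eq_true, Bool.or_eq_true, Bool.not_eq_true', List.any_eq_true,
          Nat.beq_eq] at hf
        rcases hf c hcm with h | ⟨y, hy, e⟩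
        · rw [hfit] at h; simp at h
        · exact e ▸ (hd y hy).2
      | cons e es ih =>
        intro done hf hd
        simp only [forestOK, Bool.and_eq_true, List.any_eq_true, Nat.beq_eq, Nat.blt_eq] at hf
        obtain ⟨⟨⟨⟨y, hy, e1⟩, hgi⟩, hpath⟩, hrest⟩ := hf
        refine ih _ hrest fun v hv => ?_
        rcases List.mem_cons.mp hv with rfl | hv
        swap
        · exact hd v hv
        obtain ⟨hyN, k, k1, k2, k3, r, hr', k4⟩ := hd y hy
        set w := gens.getD e.2.2 [] with hw_def
        have hwm : w ∈ gens := by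
          rw [hw_def, List.getD_eq_getElem _ _ hgi]
          exact List.getElem_mem hgi
        simp only [gensOK, List.all_eq_true, Bool.and_eq_true, Nat.blt_eq, Nat.beq_eq] at hg
        obtain ⟨⟨⟨hwl, hw0⟩, hwa⟩, hwp⟩ := hg w hwm
        rw [e1] at hpath
        have c0 := conj_word hwl (p := 0) (by decide +kernel)
        rw [hw0, ι_zero] at c0
        have ca := conj_word hwl (p := 11589) (by decide +kernel)
        rw [hwa, ι_gen0] at ca
        have cy := conj_word hwl hyN
        rw [hpath] at cy
        refine ⟨hpath ▸ path_lt hwl hyN, k * (wval gen w)⁻¹, ?_, ?_, ?_, r, hr', ?_⟩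
        · conv_lhs => rw [← c0]
          conv_rhs => rw [← k1]
          group
        · conv_lhs => rw [← ca]
          conv_rhs => rw [← k2]
          group
        · intro d hd'
          have cd := conj_word hwl (cand_spec (hpre d hd')).2.1
          rw [hwp d hd'] at cd
          conv_lhs => rw [← cd]
          conv_rhs => rw [← k3 d hd']
          group
        · rw [← k4, ← cy]
          group
    obtain ⟨h, h1, h2, h3, r, hr', h4⟩ := key forest _ hf fun y hy => by
      obtain ⟨r, hr', rfl⟩ := List.mem_map.mp hy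
      refine ⟨?_, 1, by group, by group, fun d _ => by group, r, hr', by group⟩
      rw [List.getD_eq_getElem _ _ (hreps r hr').1]
      exact (cand_spec (List.getElem_mem _)).2.1
    obtain ⟨hlen, hsub⟩ := hreps r hr'
    set c' := cands.getD r.1 (0, []) with hc'
    have hc'm : c' ∈ cands := by rw [hc', List.getD_eq_getElem _ _ hlen]; exact List.getElem_mem hlen
    have hc2 := compat_conj h1 h2 rows _ xs hc
    have emap : ((pre.map fun c => ι c.1) ++ [ι c.1]).map (fun y => h * y * h⁻¹) =
        (pre ++ [c']).map fun c => ι c.1 := by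
      simp only [List.map_append, List.map_map, List.map_cons, List.map_nil, h4]
      congr 1
      exact List.map_congr_left fun d hd => h3 d hd
    rw [emap] at hc2
    obtain ⟨k, k1, k2, l, hl, hlm, e⟩ := sound rows (pre ++ [c']) r.2 hsub
      (fun d hd => by
        rcases List.mem_append.mp hd with hd | hd
        · exact hpre d hd
        · rw [List.mem_singleton.mp hd]; exact hc'm) _ hc2
    refine ⟨k * h, ?_, ?_, l, ?_, hlm, ?_⟩
    · conv_rhs => rw [← k1]
      conv_rhs => rw [← h1]
      group
    · conv_rhs => rw [← k2]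
      conv_rhs => rw [← h2]
      group
    · simp only [leaves, List.mem_flatten, List.mem_map]
      exact ⟨_, ⟨r, hr', rfl⟩, hl⟩
    · rw [← e, ← emap]
      simp [List.map_append, mul_assoc, Function.comp_def]

theorem treeA_ok : treeOK rowsA [] treeA = true := by decide +kernel

theorem treeI_ok : treeOK rowsI [] treeI = true := by decide +kernel

/-! ## The first diagram -/

/-- The word of the ninth power of the product of seven cosets, in the order `c d e f g h i`. -/
def valWord (l : List (ℕ × List ℕ)) : List ℕ :=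
  (List.replicate 9 ([1, 0, 2, 3, 6, 4, 5].map fun k =>
    (l.getD k (0, [])).2.reverse ++ [0] ++ (l.getD k (0, [])).2).flatten).flatten

/-- A witness for the first diagram, or a coset showing that the value is not the first generator. -/
noncomputable def leafA (l : List (ℕ × List ℕ)) : Bool :=
  ([1, 8, 8006].any fun p => !(Nat.beq (Cc.path (valWord l) p) (Cc.actOf p 0))) ||
  (inX 8274 && !(Nat.beq (Cc.actOf 8274 0) 8274) &&
    ([0, 1, 2, 3, 4, 5].all fun k => adjW (l.getD k (0, [])).2 8274) && !(adjW (l.getD 6 (0, [])).2 8274))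

theorem leavesA_ok : ((leaves rowsA [] treeA).all fun l => Nat.beq l.length 7 && leafA l) = true := by
  decide +kernel

theorem wval_member {x : ℕ × List ℕ} (hx : x ∈ cands) :
    wval gen (x.2.reverse ++ [0] ++ x.2) = ι x.1 := by
  obtain ⟨hw, -, hpath⟩ := cand_spec hx
  rw [wval_append, wval_append, wval_rev, ← gen0_eq, ← mul_assoc, ← ι_gen0,
    conj_word hw (by decide +kernel), hpath]

/-- A witness on the diagram `d c e f h i g`. -/
theorem exists_witness {c d e f g h i : Fi23} (hcom : Compat rowsA [] [d, c, e, f, h, i, g])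
    (hv : (i * h * g * f * e * d * c) ^ 9 = gen 0) :
    ∃ x ∈ conjugatesOf t, x ≠ t ∧ Commute t x ∧ ¬ Commute (gen 0) x ∧ Commute c x ∧ Commute d x ∧
      Commute e x ∧ Commute f x ∧ Commute h x ∧ Commute i x ∧ ¬ Commute g x := by
  obtain ⟨k, k1, k2, l, hl, hlm, el⟩ := sound rowsA [] treeA treeA_ok (by simp) _ hcom
  have hl' := List.all_eq_true.mp leavesA_ok l hl
  simp only [Bool.and_eq_true, Nat.beq_eq] at hl'
  obtain ⟨hlen, hleaf⟩ := hl'
  obtain ⟨d', c', e', f', h', i', g', rfl⟩ : ∃ a b c d e f g, l = [a, b, c, d, e, f, g] := by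
    match l, hlen with
    | [a, b, c, d, e, f, g], _ => exact ⟨a, b, c, d, e, f, g, rfl⟩
  simp only [List.map_nil, List.nil_append, List.map_cons, List.cons.injEq, and_true] at el
  obtain ⟨ed, ec, ee, ef, eh, ei, eg⟩ := el
  have hm := fun x hx => hlm x hx
  simp only [List.mem_cons, List.not_mem_nil, or_false] at hm
  have hval : wval gen (valWord [d', c', e', f', h', i', g']) = gen 0 := by
    have hg0 : k * (i * h * g * f * e * d * c) ^ 9 * k⁻¹ = gen 0 := by rw [hv, k2]
    rw [← hg0, valWord, wval_replicate]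
    simp only [List.map_cons, List.map_nil, List.getD_cons_succ, List.getD_cons_zero, List.flatten_cons,
      List.flatten_nil, List.append_nil]
    rw [wval_append (c'.2.reverse ++ [0] ++ c'.2), wval_append (d'.2.reverse ++ [0] ++ d'.2),
      wval_append (e'.2.reverse ++ [0] ++ e'.2), wval_append (f'.2.reverse ++ [0] ++ f'.2),
      wval_append (g'.2.reverse ++ [0] ++ g'.2), wval_append (h'.2.reverse ++ [0] ++ h'.2),
      wval_member (hm c' (by simp)), wval_member (hm d' (by simp)), wval_member (hm e' (by simp)),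
      wval_member (hm f' (by simp)), wval_member (hm g' (by simp)), wval_member (hm h' (by simp)),
      wval_member (hm i' (by simp)), ← ec, ← ed, ← ee, ← ef, ← eg, ← eh, ← ei, ← conj_pow]
    congr 1
    group
  have hvlt : ∀ a ∈ valWord [d', c', e', f', h', i', g'], a < Cc.m := by
    intro a ha
    have h0 : 0 < Cc.m := zero_lt 0 (by simp)
    have hb := fun x hx b => (cand_spec (hm x hx)).1 b
    simp only [valWord, List.mem_flatten, List.mem_replicate, List.map_cons, List.map_nil,
      List.getD_cons_succ, List.getD_cons_zero] at ha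
    obtain ⟨_, ⟨-, rfl⟩, ha⟩ := ha
    simp only [List.flatten_cons, List.flatten_nil, List.append_nil, List.mem_append, List.mem_reverse,
      List.mem_singleton] at ha
    rcases ha with ha | ha | ha | ha | ha | ha | ha <;> rcases ha with (ha | rfl) | ha <;>
      first | exact h0 | exact hb _ (by simp) _ ha
  simp only [leafA, Bool.or_eq_true, List.any_eq_true, Bool.and_eq_true, List.all_eq_true] at hleaf
  rcases hleaf with ⟨p, hp, hne⟩ | ⟨⟨⟨hX, hnz⟩, hadj⟩, hng⟩
  · exfalso
    have hpN : p < Cc.N := by
      have : ∀ q ∈ [1, 8, 8006], q < Cc.N := by decide +kernel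
      exact this p hp
    have h1 := conj_word hvlt hpN
    rw [hval, gen0_eq, conj_word zero_lt hpN] at h1
    have h2 := ι_inj (path_lt zero_lt hpN) (path_lt hvlt hpN) h1
    rw [CosetCert.path_cons, CosetCert.path_nil] at h2
    rw [← h2] at hne
    simp at hne
  · have hj : 8274 < Cc.N := by decide +kernel
    obtain ⟨hXne, hXc⟩ := (inX_spec hj).1 hX
    set y := k⁻¹ * ι 8274 * k with hy
    have hyk : ι 8274 = k * y * k⁻¹ := by rw [hy]; group
    have back : ∀ {u : Fi23} {u' : ℕ × List ℕ}, k * u * k⁻¹ = ι u'.1 → u' ∈ cands →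
        (Commute u y ↔ adjW u'.2 8274 = true) := fun {u u'} e hu => by
      obtain ⟨hw, -, hpath⟩ := cand_spec hu
      rw [adjW_spec hw hj, hpath, ← e, hyk, Commute.conj_iff]
    refine ⟨y, ?_, ?_, ?_, ?_, (back ec (hm _ (by simp))).2 ?_, (back ed (hm _ (by simp))).2 ?_,
      (back ee (hm _ (by simp))).2 ?_, (back ef (hm _ (by simp))).2 ?_, (back eh (hm _ (by simp))).2 ?_,
      (back ei (hm _ (by simp))).2 ?_, fun hcg => ?_⟩
    · obtain ⟨a, ha⟩ := isConj_iff.1 (ι_mem hj)
      exact isConj_iff.2 ⟨k⁻¹ * a, by rw [hy, ← ha]; group⟩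
    · intro he; apply hXne; rw [hyk, he, k1]
    · have := (Commute.conj_iff k).1 (by rw [k1, ← hyk]; exact hXc : Commute (k * t * k⁻¹) (k * y * k⁻¹))
      exact this
    · intro hc'
      have h1 := (Commute.conj_iff k).2 hc'
      rw [k2, ← hyk, gen0_eq, commute_word zero_lt hj, CosetCert.path_cons, CosetCert.path_nil] at h1
      rw [h1] at hnz
      simp at hnz
    · exact hadj 1 (by simp)
    · exact hadj 0 (by simp)
    · exact hadj 2 (by simp)
    · exact hadj 3 (by simp)
    · exact hadj 4 (by simp)
    · exact hadj 5 (by simp)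
    · rw [back eg (hm _ (by simp))] at hcg
      simp [hcg] at hng

/-! ## The second diagram -/

theorem testPts_full : checkBelow (fun p => Nat.beq (Cc.actOf p 0) p ||
    !(adjW (cands.getD 0 (0, [])).2 p && inX p) || testPts.any fun q => Nat.beq q p) 15 Cc.N = true := by
  decide +kernel

/-- Every test coset commuting as required commutes with the second node. -/
noncomputable def leafI (l : List (ℕ × List ℕ)) : Bool :=
  Nat.beq (l.getD 0 (0, [])).1 (cands.getD 0 (0, [])).1 &&
  testPts.all fun p => !(([2, 3, 4, 5].all fun k => adjW (l.getD k (0, [])).2 p) &&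
    !(adjW (l.getD 6 (0, [])).2 p)) || adjW (l.getD 1 (0, [])).2 p

theorem leavesI_ok : ((leaves rowsI [] treeI).all fun l => Nat.beq l.length 7 && leafI l) = true := by
  decide +kernel

/-- The forced commutation on the path `a b c d e f g`. -/
theorem forced {a b c d e f g x : Fi23} (hcom : Compat rowsI [] [a, b, c, d, e, f, g])
    (hx : x ∈ conjugatesOf t) (hxt : x ≠ t) (ctx : Commute t x) (n0 : ¬ Commute (gen 0) x)
    (ca : Commute a x) (cc : Commute c x) (cd : Commute d x) (ce : Commute e x) (cf : Commute f x)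
    (ng : ¬ Commute g x) : Commute b x := by
  obtain ⟨k, k1, k2, l, hl, hlm, el⟩ := sound rowsI [] treeI treeI_ok (by simp) _ hcom
  have hl' := List.all_eq_true.mp leavesI_ok l hl
  simp only [Bool.and_eq_true, Nat.beq_eq] at hl'
  obtain ⟨hlen, hleaf⟩ := hl'
  obtain ⟨a', b', c', d', e', f', g', rfl⟩ : ∃ a b c d e f g, l = [a, b, c, d, e, f, g] := by
    match l, hlen with
    | [a, b, c, d, e, f, g], _ => exact ⟨a, b, c, d, e, f, g, rfl⟩
  simp only [List.map_nil, List.nil_append, List.map_cons, List.cons.injEq, and_true] at el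
  obtain ⟨ea, eb, ec, ed, ee, ef, eg⟩ := el
  have hm := fun x hx => hlm x hx
  simp only [List.mem_cons, List.not_mem_nil, or_false] at hm
  simp only [leafI, Bool.and_eq_true, Nat.beq_eq, List.getD_cons_zero, List.getD_cons_succ,
    List.all_eq_true, Bool.or_eq_true, Bool.not_eq_true', List.mem_cons, List.not_mem_nil, or_false,
    forall_eq_or_imp, forall_eq] at hleaf
  obtain ⟨ha', hall⟩ := hleaf
  have hy : k * x * k⁻¹ ∈ conjugatesOf t := by
    obtain ⟨r, hr⟩ := isConj_iff.1 hx
    exact isConj_iff.2 ⟨k * r, by rw [← hr]; group⟩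
  obtain ⟨p, hp, hpx⟩ := ι_surj hy
  have back : ∀ {u : Fi23} {u' : ℕ × List ℕ}, k * u * k⁻¹ = ι u'.1 → u' ∈ cands →
      (Commute u x ↔ adjW u'.2 p = true) := fun {u u'} e hu => by
    obtain ⟨hw, -, hpath⟩ := cand_spec hu
    rw [adjW_spec hw hp, hpath, ← e, hpx, Commute.conj_iff]
  have h0 := cands.getD 0 (0, [])
  have hc0 : cands.getD 0 (0, []) ∈ cands := by
    rw [List.getD_eq_getElem _ _ (by decide +kernel)]
    exact List.getElem_mem _
  have hA : adjW (cands.getD 0 (0, [])).2 p = true :=
    (back (u' := cands.getD 0 (0, [])) (by rw [← ha']; exact ea) hc0).1 ca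
  have hX : inX p = true := (inX_spec hp).2 (by
    rw [hpx]
    refine ⟨fun he => hxt (mul_left_cancel (mul_right_cancel (he.trans k1.symm))), ?_⟩
    rw [← k1]; exact (Commute.conj_iff k).2 ctx)
  have hnz : ¬ Cc.actOf p 0 = p := fun he => by
    apply n0
    have h1 : Commute (gen 0) (ι p) := by
      rw [gen0_eq, commute_word zero_lt hp, CosetCert.path_cons, CosetCert.path_nil, he]
    rw [hpx, ← k2, Commute.conj_iff] at h1
    exact h1
  have hmem := checkBelow_spec testPts_full p hp
  simp only [hA, hX, Bool.and_true, Bool.not_true, Bool.or_false, Bool.or_eq_true, Nat.beq_eq,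
    List.any_eq_true] at hmem
  obtain ⟨q, hq, rfl⟩ := hmem.resolve_left hnz
  rw [back eb (hm _ (by simp))]
  refine (hall q hq).resolve_left fun hbad => ?_
  simp only [List.all_cons, List.all_nil, List.getD_cons_succ, List.getD_cons_zero, Bool.and_true] at hbad
  rw [(back ec (hm _ (by simp))).1 cc, (back ed (hm _ (by simp))).1 cd, (back ee (hm _ (by simp))).1 ce,
    (back ef (hm _ (by simp))).1 cf] at hbad
  have hg' : adjW g'.2 q = false := by
    rw [← Bool.not_eq_true]; exact fun h => ng ((back eg (hm _ (by simp))).2 h)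
  simp [hg'] at hbad

end Cfsg.Agent.Presented.Fi23Tree
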