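import Cfsg.Agent.Lib.Presented.E7Bound
import Cfsg.Agent.Lib.Presented.Data.Y332E7Chain
import Cfsg.Agent.Lib.Presented.Data.Y332QChain

/-!
# Identities in two Coxeter groups inside the diagram Y332

`W7`, nodes numbered `f e d c b a h`, and the quotient `WQ` of the group of the diagram Y222 (nodes
`b c d e f h i`) by `(b θ) ^ 3`, where `θ` is the highest reflection on the other six nodes, act
faithfully on 56 and 729 cosets.  `ev_same7`, `ev_sameQ` carry identities checked there to any group.
-/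

set_option autoImplicit false
set_option maxRecDepth 20000
set_option linter.style.haveILetI false

namespace Cfsg.Agent.Presented.Y332

open Cfsg.Spor Cfsg.Agent.Presented
open Cfsg.Agent.Presented.E7 (edges7 W7 gens7 g7)

/-! ## Words -/

/-- A reflection as a palindrome. -/
def pal (u : List ℕ) (k : ℕ) : List ℕ := u ++ k :: u.reverse

/-- The product `a b c d e f h`. -/
def coxWord : List ℕ := [6, 0, 1, 2, 3, 4, 5]

/-- The product `f e d c b a h`. -/
def coxWord' : List ℕ := [6, 5, 4, 3, 2, 1, 0]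

/-- The reflection at `e₁ + e₂`. -/
def rWord : List ℕ := pal [4, 3, 2, 6, 5, 4, 3, 2] 1

/-- The reflection `d c e h d h e c d`. -/
def xWord : List ℕ := pal [2, 3, 1, 6] 2

/-- The highest reflection of the E7 diagram. -/
def pWord : List ℕ := pal [0, 1, 2, 6, 3, 4, 2, 3, 1, 2, 6, 5, 4, 3, 2, 1] 0

/-- The highest reflection on the nodes other than `a`. -/
def thetaWord : List ℕ := pal [6, 2, 3, 1, 2, 6, 4, 3, 2, 1] 0

/-- The product `a r c x e h p` of seven commuting reflections. -/
def sevenWord : List ℕ := pWord ++ [6, 1] ++ xWord ++ [3] ++ rWord ++ [5]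

/-! ## The group of the diagram E7 -/

/-- The generators of the parabolic subgroup of type E6. -/
def hGens7 : List (FreeGroup (Fin 7)) := [0, 1, 2, 3, 4, 6].map FreeGroup.of

/-- The parabolic subgroup. -/
def hSub7 : Subgroup W7 :=
  (Subgroup.closure {x | x ∈ hGens7}).map
    (PresentedGroup.mk (coxRelators edges7 ∪ {r | r ∈ ([] : List (FreeGroup (Fin 7)))}))

theorem exists_table7 : ∃ e : Fin Y332E7.cert.N ≃ W7 ⧸ hSub7,
    (∀ i : Fin Y332E7.cert.N, (i : ℕ) = 0 → e i = QuotientGroup.mk 1) ∧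
    ∀ g (hgm : g < Y332E7.cert.m) (i : Fin Y332E7.cert.N),
      g7 g • e i = e ⟨Y332E7.cert.actOf i g,
        CosetCert.actOf_lt Y332E7.cert_edgesOK Y332E7.cert_nodesOK i.2 hgm⟩ := by
  have h1 : (Y332E7.cert.words.drop Y332E7.cert.nR).take hGens7.length =
      hGens7.map (letters gens7) := by decide +kernel
  have h2 : relsOK gens7 edges7 [] (Y332E7.cert.words.take Y332E7.cert.nR) = true := by decide +kernel
  have h5 : (Y332E7.cert.words.drop Y332E7.cert.nR).drop hGens7.length = [] := by decide +kernel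
  exact indexCert E7.gens7_all E7.gens7_ok rfl Y332E7.cert_edgesOK Y332E7.cert_nodesOK
    Y332E7.cert_wordsOK Y332E7.cert_subOK h2 (by decide) hGens7 hSub7 rfl h1
    (fun w hw => by rw [h5] at hw; simp at hw)

/-- Two words have the same walks from the base. -/
noncomputable def same7 (u v : List ℕ) : Bool :=
  sameOK Y332E7.cert (Y332E7Chain.chain.map Level.pt) u v

theorem eq_of_same7 {u v : List ℕ} (h : same7 u v = true) : wval g7 u = wval g7 v := by
  obtain ⟨e, -, he⟩ := exists_table7
  haveI := E7.card_W7.1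
  simp only [same7, sameOK, Bool.and_eq_true, List.all_eq_true, Nat.blt_eq] at h
  obtain ⟨⟨hu, hv⟩, hpath⟩ := h
  refine eq_of_paths Y332E7.cert_edgesOK Y332E7.cert_nodesOK e he (by decide +kernel)
    Y332E7Chain.chain_ok (E7.card_W7.2.trans (by decide +kernel)) _ _ fun p hpm hp => ?_
  rw [CosetCert.smul_path Y332E7.cert_edgesOK Y332E7.cert_nodesOK e he _ hu ⟨p, hp⟩,
    CosetCert.smul_path Y332E7.cert_edgesOK Y332E7.cert_nodesOK e he _ hv ⟨p, hp⟩]
  exact congrArg e (Fin.ext (Nat.beq_eq.mp (hpath p hpm)))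

/-! ## The quotient of the group of the diagram Y222 -/

/-- The diagram Y222 on `b c d e f h i`. -/
def edgesQ : List (Fin 7 × ℕ × Fin 7) :=
  [(0, 3, 1), (1, 3, 2), (2, 3, 3), (3, 3, 4), (2, 3, 5), (5, 3, 6)]

/-- `θ` in the numbering of `b c d e f h i`. -/
def thetaQ : List ℕ := pal [1, 2, 3, 5, 2, 1, 4, 3, 2, 5] 6

/-- The relator `(b θ) ^ 3`. -/
def extraQ : List (FreeGroup (Fin 7)) :=
  [(FreeGroup.of 0 *
    (([1, 2, 3, 5, 2, 1, 4, 3, 2, 5, 6, 5, 2, 3, 4, 1, 2, 5, 3, 2, 1] : List (Fin 7)).map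
      FreeGroup.of).prod) ^ 3]

/-- The group. -/
abbrev WQ : Type := CoxPresented (Fin 7) edgesQ extraQ

theorem gensQ_ok : gensOK gens7 edgesQ = true := by decide +kernel

/-- The generators by number. -/
abbrev gQ : ℕ → WQ := genFun gens7 edgesQ extraQ

/-- The generators of the parabolic subgroup of type E6. -/
def hGensQ : List (FreeGroup (Fin 7)) := [1, 2, 3, 4, 5, 6].map FreeGroup.of

/-- The parabolic subgroup. -/
def hSubQ : Subgroup WQ :=
  (Subgroup.closure {x | x ∈ hGensQ}).map
    (PresentedGroup.mk (coxRelators edgesQ ∪ {r | r ∈ extraQ}))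

theorem exists_tableQ : ∃ e : Fin Y332Q.cert.N ≃ WQ ⧸ hSubQ,
    (∀ i : Fin Y332Q.cert.N, (i : ℕ) = 0 → e i = QuotientGroup.mk 1) ∧
    ∀ g (hgm : g < Y332Q.cert.m) (i : Fin Y332Q.cert.N),
      gQ g • e i = e ⟨Y332Q.cert.actOf i g,
        CosetCert.actOf_lt Y332Q.cert_edgesOK Y332Q.cert_nodesOK i.2 hgm⟩ := by
  have h1 : (Y332Q.cert.words.drop Y332Q.cert.nR).take hGensQ.length =
      hGensQ.map (letters gens7) := by decide +kernel
  have h2 : relsOK gens7 edgesQ extraQ (Y332Q.cert.words.take Y332Q.cert.nR) = true := by decide +kernel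
  have h5 : (Y332Q.cert.words.drop Y332Q.cert.nR).drop hGensQ.length = [] := by decide +kernel
  exact indexCert E7.gens7_all gensQ_ok rfl Y332Q.cert_edgesOK Y332Q.cert_nodesOK
    Y332Q.cert_wordsOK Y332Q.cert_subOK h2 (by decide) hGensQ hSubQ rfl h1
    (fun w hw => by rw [h5] at hw; simp at hw)

theorem boundQ120 : OrderLE (wordSub gQ [[2], [3], [4], [1]]) 120 := by
  have hR : stepRelsOK gens7 edgesQ extraQ [2, 3, 4, 1] []
      (O7T120.cert.words.take O7T120.cert.nR) = true := by decide +kernel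
  have h1 : (O7T120.cert.words.drop O7T120.cert.nR) = [] := by decide +kernel
  exact step_le E7.gens7_all gensQ_ok (π := [2, 3, 4, 1]) (ex := []) (by simp) O7T120.cert_edgesOK
    O7T120.cert_nodesOK rfl hR 0 (Kprev := []) (by simp) (orderLE_nil gQ) (by rw [h1]; simp)

theorem boundQ1920 : OrderLE (wordSub gQ [[5], [2], [3], [4], [1]]) (16 * 120) := by
  have hR : stepRelsOK gens7 edgesQ extraQ [5, 2, 3, 4, 1] []
      (O7T16.cert.words.take O7T16.cert.nR) = true := by decide +kernel
  have hK : ((O7T16.cert.words.drop O7T16.cert.nR).take 4).map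
      (List.map fun g => [5, 2, 3, 4, 1].getD g 0) = [[2], [3], [4], [1]] := by decide +kernel
  have h1 : (O7T16.cert.words.drop O7T16.cert.nR).drop 4 = [] := by decide +kernel
  exact step_le E7.gens7_all gensQ_ok (π := [5, 2, 3, 4, 1]) (ex := []) (by simp) O7T16.cert_edgesOK
    O7T16.cert_nodesOK rfl hR 4 (Kprev := [[2], [3], [4], [1]]) (by rw [hK]; simp) boundQ120
    (by rw [h1]; simp)

theorem boundQ51840 : OrderLE (wordSub gQ [[6], [5], [2], [3], [4], [1]]) (27 * (16 * 120)) := by
  have hR : stepRelsOK gens7 edgesQ extraQ [6, 5, 2, 3, 4, 1] []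
      (O7T27.cert.words.take O7T27.cert.nR) = true := by decide +kernel
  have hK : ((O7T27.cert.words.drop O7T27.cert.nR).take 5).map
      (List.map fun g => [6, 5, 2, 3, 4, 1].getD g 0) = [[5], [2], [3], [4], [1]] := by decide +kernel
  have h1 : (O7T27.cert.words.drop O7T27.cert.nR).drop 5 = [] := by decide +kernel
  exact step_le E7.gens7_all gensQ_ok (π := [6, 5, 2, 3, 4, 1]) (ex := []) (by simp) O7T27.cert_edgesOK
    O7T27.cert_nodesOK rfl hR 5 (Kprev := [[5], [2], [3], [4], [1]]) (by rw [hK]; simp) boundQ1920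
    (by rw [h1]; simp)

theorem card_WQ : Finite WQ ∧ Nat.card WQ ≤ 729 * 51840 := by
  obtain ⟨e, -, -⟩ := exists_tableQ
  have hle : hSubQ ≤ wordSub gQ [[6], [5], [2], [3], [4], [1]] := by
    rw [hSubQ, map_closure_eq_wval E7.gens7_all gensQ_ok,
      show hGensQ.map (letters gens7) = [[1], [2], [3], [4], [5], [6]] by decide +kernel]
    exact wordSub_mono (K := [[1], [2], [3], [4], [5], [6]]) (by simp)
  have h := card_le_of_table e (boundQ51840.mono hle)
  exact ⟨h.1, h.2.trans (le_of_eq (by decide +kernel))⟩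

/-- Two words have the same walks from the base. -/
noncomputable def sameQ (u v : List ℕ) : Bool :=
  sameOK Y332Q.cert (Y332QChain.chain.map Level.pt) u v

theorem eq_of_sameQ {u v : List ℕ} (h : sameQ u v = true) : wval gQ u = wval gQ v := by
  obtain ⟨e, -, he⟩ := exists_tableQ
  haveI := card_WQ.1
  simp only [sameQ, sameOK, Bool.and_eq_true, List.all_eq_true, Nat.blt_eq] at h
  obtain ⟨⟨hu, hv⟩, hpath⟩ := h
  refine eq_of_paths Y332Q.cert_edgesOK Y332Q.cert_nodesOK e he (by decide +kernel)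
    Y332QChain.chain_ok (card_WQ.2.trans (by decide +kernel)) _ _ fun p hpm hp => ?_
  rw [CosetCert.smul_path Y332Q.cert_edgesOK Y332Q.cert_nodesOK e he _ hu ⟨p, hp⟩,
    CosetCert.smul_path Y332Q.cert_edgesOK Y332Q.cert_nodesOK e he _ hv ⟨p, hp⟩]
  exact congrArg e (Fin.ext (Nat.beq_eq.mp (hpath p hpm)))

/-! ## Identities in other groups -/

section Transport

variable {P : Type*} [Group P]

/-- The value of a word on seven elements. -/
def ev (s : Fin 7 → P) (w : List ℕ) : P := wval (fun k => s (Fin.ofNat 7 k)) w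

theorem ev_cons (s : Fin 7 → P) (k : ℕ) (w : List ℕ) : ev s (k :: w) = ev s w * s (Fin.ofNat 7 k) := rfl

theorem ev_singleton (s : Fin 7 → P) (k : ℕ) : ev s [k] = s (Fin.ofNat 7 k) := one_mul _

theorem ev_append (s : Fin 7 → P) (u v : List ℕ) : ev s (u ++ v) = ev s v * ev s u :=
  wval_append u v

theorem ev_pow (s : Fin 7 → P) (u : List ℕ) (n : ℕ) :
    ev s (List.replicate n u).flatten = ev s u ^ n :=
  wval_replicate u n

theorem ev_nil (s : Fin 7 → P) : ev s [] = 1 := rfl

theorem ev_reverse {s : Fin 7 → P} (hs : ∀ i, s i * s i = 1) (u : List ℕ) :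
    ev s u.reverse = (ev s u)⁻¹ := by
  induction u with
  | nil => simp [ev_nil]
  | cons k u ih =>
    rw [List.reverse_cons, ev_append, ev_singleton, ev_cons, ih, mul_inv_rev,
      inv_eq_of_mul_eq_one_right (hs _)]

theorem ev_pal {s : Fin 7 → P} (hs : ∀ i, s i * s i = 1) (u : List ℕ) (k : ℕ) :
    ev s (pal u k) = (ev s u)⁻¹ * s (Fin.ofNat 7 k) * ev s u := by
  rw [pal, ev_append, ev_cons, ev_reverse hs]

theorem wval_congr {G : Type*} [Group G] (f g : ℕ → G) :
    ∀ w : List ℕ, (∀ k ∈ w, f k = g k) → wval f w = wval g w := by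
  intro w
  induction w with
  | nil => intro _; rfl
  | cons k w ih =>
    intro h
    rw [wval, wval, h k List.mem_cons_self, ih fun j hj => h j (List.mem_cons_of_mem _ hj)]

theorem genFun_lt {edges : List (Fin 7 × ℕ × Fin 7)} {extra : List (FreeGroup (Fin 7))} {k : ℕ}
    (hk : k < 7) : genFun gens7 edges extra k = PresentedGroup.of (Fin.ofNat 7 k) := by
  interval_cases k <;> rfl

/-- An identity in `W7` holds for elements satisfying its relations. -/
theorem ev_same7 {s : Fin 7 → P} (h : ∀ i j : Fin 7, (s i * s j) ^ coxLabel edges7 i j = 1)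
    {u v : List ℕ} (huv : same7 u v = true) : ev s u = ev s v := by
  obtain ⟨φ, hφ⟩ := E7.exists_hom s h
  have hlt := huv
  simp only [same7, sameOK, Bool.and_eq_true, List.all_eq_true, Nat.blt_eq] at hlt
  have key : ∀ w : List ℕ, (∀ k ∈ w, k < 7) → φ (wval g7 w) = ev s w := fun w hw => by
    rw [wval_map]
    exact wval_congr _ _ w fun k hk => by rw [g7, genFun_lt (hw k hk), hφ]
  rw [← key u hlt.1.1, ← key v hlt.1.2, eq_of_same7 huv]

/-- An identity in `WQ` holds for elements satisfying its relations. -/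
theorem ev_sameQ {s : Fin 7 → P} (h : ∀ i j : Fin 7, (s i * s j) ^ coxLabel edgesQ i j = 1)
    (hR : (s 0 * ev s thetaQ) ^ 3 = 1) {u v : List ℕ} (huv : sameQ u v = true) : ev s u = ev s v := by
  have hsq : ∀ i, s i * s i = 1 := fun i => by
    have := h i i
    rwa [show coxLabel edgesQ i i = 1 by simp [coxLabel], pow_one] at this
  have hrel : ∀ r ∈ coxRelators edgesQ ∪ {r | r ∈ extraQ}, FreeGroup.lift s r = 1 := by
    rintro r (⟨x, -, y, -, rfl⟩ | hr)
    · rw [map_pow, map_mul, FreeGroup.lift_apply_of, FreeGroup.lift_apply_of]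
      exact h x y
    · rw [Set.mem_ofPred_eq, extraQ, List.mem_singleton] at hr
      subst hr
      have e : ev s thetaQ = (([1, 2, 3, 5, 2, 1, 4, 3, 2, 5, 6, 5, 2, 3, 4, 1, 2, 5, 3, 2, 1] :
          List (Fin 7)).map s).prod := by
        rw [ev, wval_eq_prod]
        rfl
      rw [e] at hR
      simp only [map_pow, map_mul, map_list_prod, List.map_map, FreeGroup.lift_apply_of,
        Function.comp_def]
      exact hR
  let φ : WQ →* P := PresentedGroup.toGroup hrel
  have hlt := huv
  simp only [sameQ, sameOK, Bool.and_eq_true, List.all_eq_true, Nat.blt_eq] at hlt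
  have key : ∀ w : List ℕ, (∀ k ∈ w, k < 7) → φ (wval gQ w) = ev s w := fun w hw => by
    rw [wval_map]
    exact wval_congr _ _ w fun k hk => by rw [gQ, genFun_lt (hw k hk)]; exact PresentedGroup.toGroup.of _
  rw [← key u hlt.1.1, ← key v hlt.1.2, eq_of_sameQ huv]

end Transport

/-! ## The identities used -/

theorem z_central : ((List.range 7).all fun k =>
    same7 ((List.replicate 9 coxWord).flatten ++ [k]) ([k] ++ (List.replicate 9 coxWord).flatten)) =
      true := by decide +kernel

theorem z_swap : same7 (List.replicate 9 coxWord').flatten (List.replicate 9 coxWord).flatten = true := by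
  decide +kernel

theorem z_seven : same7 (List.replicate 9 coxWord).flatten sevenWord = true := by decide +kernel

theorem x_comm7 : ([3, 1, 6].all fun k => same7 (xWord ++ [k]) ([k] ++ xWord)) = true := by
  decide +kernel

theorem theta_comm : ([0, 1, 2, 3, 4].all fun k => same7 (thetaWord ++ [k]) ([k] ++ thetaWord)) =
    true := by decide +kernel

/-- `u` carries the two words to two nodes. -/
noncomputable def pairOK (v w u : List ℕ) (j k : ℕ) : Bool :=
  same7 (u.reverse ++ v ++ u) [j] && same7 (u.reverse ++ w ++ u) [k]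

theorem pair_ar : pairOK [5] rWord [4, 3, 2, 1, 5, 4, 3, 2] 1 6 = true := by
  decide +kernel

theorem pair_ap : pairOK [5] pWord [0, 1, 2, 3, 4, 5, 6, 2, 1, 0, 3, 2, 1, 4, 3, 2] 1 6 = true := by
  decide +kernel

theorem pair_rp : pairOK rWord pWord
    [0, 1, 2, 3, 4, 3, 2, 1, 0, 5, 4, 3, 2, 1, 6, 2, 1, 0, 3, 2, 1, 4, 3, 2] 5 6 = true := by
  decide +kernel

theorem pair_theta_short : pairOK [6] thetaWord [2, 1, 0, 6, 2, 1, 0, 3, 2, 4, 3, 6, 2] 0 1 = true := by
  decide +kernel

theorem pair_theta_long : pairOK [5] thetaWord [6, 2, 1, 0, 3, 2, 1, 6, 2, 3] 5 4 = true := by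
  decide +kernel

/-- The spider `(d c b d e f d h i) ^ 10`. -/
def spiderWord : List ℕ := (List.replicate 10 [6, 5, 2, 4, 3, 2, 0, 1, 2]).flatten

theorem spider_cube : sameQ (spiderWord ++ spiderWord ++ spiderWord) [] = true := by decide +kernel

theorem spider_central : ((List.range 7).all fun k =>
    sameQ (spiderWord ++ [k]) ([k] ++ spiderWord)) = true := by decide +kernel

end Cfsg.Agent.Presented.Y332
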