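import Cfsg.Prelude.Def_Spor_Fi22
import Cfsg.Agent.Lib.Presented.Index
import Cfsg.Agent.Lib.Presented.Orbit
import Cfsg.Agent.Lib.Presented.Data.FiC3510

/-!
# A subgroup of index 3510 of the presented group Fi22
-/

set_option autoImplicit false

namespace Cfsg.Agent.Presented.FiIndex

open Cfsg.Spor Cfsg.Agent.Presented

/-- The generators in table order. -/
def gens : List Fi22.Gen := [.a, .b, .c, .d, .e, .f, .g, .h, .i]

theorem gens_all (x : Fi22.Gen) : x ∈ gens := by cases x <;> decide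

theorem gens_nodup : gens.Nodup := by decide

theorem gens_ok : gensOK gens Fi22.edges = true := by decide +kernel

/-- The generating words of the subgroup. -/
def hGens : List (FreeGroup Fi22.Gen) := [Fi22.a, Fi22.c, Fi22.d, Fi22.e, Fi22.f, Fi22.g, Fi22.h, Fi22.i, (Fi22.a * Fi22.b * Fi22.c * Fi22.d * Fi22.e * Fi22.h) ^ 5]

/-- The subgroup generated by the words `hGens`. -/
def hSub : Subgroup Fi22 :=
  (Subgroup.closure {x | x ∈ hGens}).map
    (PresentedGroup.mk (coxRelators Fi22.edges ∪ {r | r ∈ Fi22.extra}))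

/-- The generators of `Fi22` by number. -/
abbrev gen : ℕ → Fi22 := genFun gens Fi22.edges Fi22.extra

theorem exists_table : ∃ e : Fin FiC3510.cert.N ≃ Fi22 ⧸ hSub,
    (∀ i : Fin FiC3510.cert.N, (i : ℕ) = 0 → e i = QuotientGroup.mk 1) ∧
    ∀ g (hgm : g < FiC3510.cert.m) (i : Fin FiC3510.cert.N),
      gen g • e i = e ⟨FiC3510.cert.actOf i g,
        CosetCert.actOf_lt FiC3510.cert_edgesOK FiC3510.cert_nodesOK i.2 hgm⟩ := by
  have h1 : (FiC3510.cert.words.drop FiC3510.cert.nR).take hGens.length = hGens.map (letters gens) := by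
    decide +kernel
  have h2 : relsOK gens Fi22.edges Fi22.extra (FiC3510.cert.words.take FiC3510.cert.nR) = true := by
    decide +kernel
  have h5 : (FiC3510.cert.words.drop FiC3510.cert.nR).drop hGens.length = [] := by decide +kernel
  exact indexCert gens_all gens_ok rfl FiC3510.cert_edgesOK FiC3510.cert_nodesOK
    FiC3510.cert_wordsOK FiC3510.cert_subOK h2 gens_nodup hGens hSub rfl h1
    (fun w hw => by rw [h5] at hw; simp at hw)

theorem hSub_index : hSub.index = 3510 := by
  obtain ⟨e, -, -⟩ := exists_table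
  rw [card_quotient_of_equiv e]; rfl

theorem hSub_eq_closure :
    hSub = Subgroup.closure {x | ∃ k ∈ ([[0], [2], [3], [4], [5], [6], [7], [8], [7, 4, 3, 2, 1, 0, 7, 4, 3, 2, 1, 0, 7, 4, 3, 2, 1, 0, 7, 4, 3, 2, 1, 0, 7, 4, 3, 2, 1, 0]] : List (List ℕ)), x = wval gen k} := by
  rw [hSub, map_closure_eq_wval gens_all gens_ok,
    show hGens.map (letters gens) = [[0], [2], [3], [4], [5], [6], [7], [8], [7, 4, 3, 2, 1, 0, 7, 4, 3, 2, 1, 0, 7, 4, 3, 2, 1, 0, 7, 4, 3, 2, 1, 0, 7, 4, 3, 2, 1, 0]] by decide +kernel]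

theorem suborbits : ∃ q₁ q₂ : Fi22 ⧸ hSub,
    (MulAction.orbit hSub q₁).ncard = 693 ∧
    (MulAction.orbit hSub q₂).ncard = 2816 := by
  obtain ⟨e, -, he⟩ := exists_table
  refine ⟨e ⟨6, by decide +kernel⟩, e ⟨1, by decide +kernel⟩, ?_, ?_⟩
  · rw [CosetCert.orbit_ncard FiC3510.cert_edgesOK FiC3510.cert_nodesOK e he hSub_eq_closure
      _ FiC3510.orbit1_ok (by decide +kernel)]
    exact FiC3510.orbit1_count
  · rw [CosetCert.orbit_ncard FiC3510.cert_edgesOK FiC3510.cert_nodesOK e he hSub_eq_closure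
      _ FiC3510.orbit0_ok (by decide +kernel)]
    exact FiC3510.orbit0_count

end Cfsg.Agent.Presented.FiIndex
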