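import Cfsg.Agent.Lib.Presented.FiIndex
import Cfsg.Agent.Lib.Presented.Data.FiMat78

/-!
# A seventy-eight dimensional representation of the presented group Fi22 in characteristic thirteen

Products are evaluated on lists of rows; the lemma `toD_smul` identifies this evaluation with the product
of matrices, so the relators can be checked by computation.
-/

set_option autoImplicit false
set_option maxRecDepth 10000

namespace Cfsg.Agent.Presented.FiMatrix78

open Cfsg.Spor Cfsg.Agent.Presented

/-- The matrices considered. -/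
abbrev M := Matrix (Fin 78) (Fin 78) (ZMod 13)

/-- The natural number matrix of a sparse list of rows. -/
def toN (A : List (List (ℕ × ℕ))) : Matrix (Fin 78) (Fin 78) ℕ :=
  fun i j => ((A.getD i.1 []).map fun e => if e.1 = j.1 then e.2 else 0).sum

/-- The base of the packing; it exceeds every entry of a product of at most ninety generators. -/
def base : ℕ := 2 ^ 728

theorem base_eq : base = 2 ^ 728 := rfl

/-- A row packed as a number. -/
def enc {n : ℕ} (B : ℕ) (a : Fin n → ℕ) : ℕ := ∑ j, a j * B ^ (j : ℕ)

theorem enc_digit {B : ℕ} : ∀ {n : ℕ} (a : Fin n → ℕ), (∀ j, a j < B) → ∀ k : Fin n,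
    enc B a / B ^ (k : ℕ) % B = a k
  | 0, _, _, k => k.elim0
  | n + 1, a, h, k => by
    have hB : 0 < B := lt_of_le_of_lt (Nat.zero_le _) (h 0)
    have e : enc B a = a 0 + B * enc B (fun j => a j.succ) := by
      simp only [enc, Fin.sum_univ_succ, Fin.val_zero, pow_zero, mul_one, Fin.val_succ, Finset.mul_sum]
      congr 1
      apply Finset.sum_congr rfl
      intro j _
      ring
    induction k using Fin.cases with
    | zero => simp [e, Nat.mod_eq_of_lt (h 0)]
    | succ k =>
      rw [Fin.val_succ, pow_succ', ← Nat.div_div_eq_div_mul, e,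
        Nat.add_mul_div_left _ _ hB, Nat.div_eq_of_lt (h 0), Nat.zero_add]
      exact enc_digit _ (fun j => h _) k

/-- A list of numbers contains the packed rows of a matrix. -/
def Packs (R : List ℕ) (N : Matrix (Fin 78) (Fin 78) ℕ) : Prop :=
  ∀ i : Fin 78, R.getD i.1 0 = enc base (N i)

/-- A sparse combination of packed rows. -/
def comb (R : List ℕ) : List (ℕ × ℕ) → ℕ
  | [] => 0
  | e :: r => e.2 * R.getD e.1 0 + comb R r

/-- A sparse matrix times a packed one. -/
def stepMul (A : List (List (ℕ × ℕ))) (R : List ℕ) : List ℕ := A.map (comb R)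

/-- The packed identity. -/
def idRows : List ℕ := (List.range 78).map fun i => base ^ i

/-- A sparse list of rows of the right shape, with small row sums. -/
def sparseOK (A : List (List (ℕ × ℕ))) : Bool :=
  A.length == 78 && A.all fun r => (r.all fun e => decide (e.1 < 78)) && decide ((r.map Prod.snd).sum ≤ 256)

theorem rows_of_sparseOK {A : List (List (ℕ × ℕ))} (hA : sparseOK A = true) :
    A.length = 78 ∧ (∀ i, ∀ e ∈ A.getD i [], e.1 < 78) ∧ ∀ i, ((A.getD i []).map Prod.snd).sum ≤ 256 := by
  simp only [sparseOK, Bool.and_eq_true, beq_iff_eq, List.all_eq_true, decide_eq_true_eq] at hA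
  refine ⟨hA.1, fun i e he => ?_, fun i => ?_⟩
  · rcases lt_or_ge i A.length with hi | hi
    · rw [List.getD_eq_getElem _ _ hi] at he
      exact (hA.2 _ (List.getElem_mem hi)).1 e he
    · rw [List.getD_eq_default _ _ hi] at he
      simp at he
  · rcases lt_or_ge i A.length with hi | hi
    · rw [List.getD_eq_getElem _ _ hi]
      exact (hA.2 _ (List.getElem_mem hi)).2
    · rw [List.getD_eq_default _ _ hi]; simp

theorem sum_single {n : ℕ} {a : ℕ} (ha : a < n) (c : ℕ) (f : Fin n → ℕ) :
    ∑ j : Fin n, (if a = j.1 then c else 0) * f j = c * f ⟨a, ha⟩ := by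
  rw [Finset.sum_eq_single (⟨a, ha⟩ : Fin n)]
  · rw [if_pos rfl]
  · intro j _ hj
    rw [if_neg (fun he => hj (Fin.ext he.symm)), zero_mul]
  · intro hh
    exact absurd (Finset.mem_univ _) hh

theorem comb_sum {R : List ℕ} {N : Matrix (Fin 78) (Fin 78) ℕ} (hR : Packs R N) :
    ∀ r : List (ℕ × ℕ), (∀ e ∈ r, e.1 < 78) →
      comb R r = enc base (fun k =>
        ∑ j : Fin 78, (r.map fun e => if e.1 = j.1 then e.2 else 0).sum * N j k)
  | [], _ => by simp [comb, enc]
  | e :: r, h => by
    have h1 := h e (List.mem_cons_self ..)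
    rw [comb, comb_sum hR r fun x hx => h x (List.mem_cons_of_mem _ hx), hR ⟨e.1, h1⟩]
    have key : ∀ k, ∑ j : Fin 78, (((e :: r).map fun e => if e.1 = j.1 then e.2 else 0).sum * N j k) =
        e.2 * N ⟨e.1, h1⟩ k +
          ∑ j : Fin 78, (r.map fun e => if e.1 = j.1 then e.2 else 0).sum * N j k := by
      intro k
      simp only [List.map_cons, List.sum_cons, add_mul, Finset.sum_add_distrib]
      rw [sum_single h1 e.2 (fun j => N j k)]
    simp only [key, enc, add_mul, Finset.sum_add_distrib, Finset.mul_sum, mul_assoc]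

theorem entry_le {N : Matrix (Fin 78) (Fin 78) ℕ} {m : ℕ} (hN : ∀ i j, N i j ≤ m) (k : Fin 78) :
    ∀ r : List (ℕ × ℕ), (∀ e ∈ r, e.1 < 78) →
      ∑ j : Fin 78, (r.map fun e => if e.1 = j.1 then e.2 else 0).sum * N j k ≤ (r.map Prod.snd).sum * m
  | [], _ => by simp
  | e :: r, h => by
    have h1 := h e (List.mem_cons_self ..)
    simp only [List.map_cons, List.sum_cons, add_mul, Finset.sum_add_distrib]
    refine Nat.add_le_add ?_ (entry_le hN k r fun x hx => h x (List.mem_cons_of_mem _ hx))
    rw [sum_single h1 e.2 (fun j => N j k)]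
    exact Nat.mul_le_mul_left _ (hN _ _)

theorem packs_smul {A : List (List (ℕ × ℕ))} {R : List ℕ} {N : Matrix (Fin 78) (Fin 78) ℕ}
    (hA : sparseOK A = true) (hR : Packs R N) : Packs (stepMul A R) (toN A * N) := by
  obtain ⟨hl, hr, -⟩ := rows_of_sparseOK hA
  intro i
  show (A.map (comb R)).getD i.1 0 = _
  rw [List.getD_eq_getElem _ _ (by simp [hl]), List.getElem_map,
    ← List.getD_eq_getElem A [] (by omega), comb_sum hR _ (hr i.1)]
  congr 1

theorem mul_le {A : List (List (ℕ × ℕ))} {N : Matrix (Fin 78) (Fin 78) ℕ} {m : ℕ}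
    (hA : sparseOK A = true) (hN : ∀ i j, N i j ≤ m) (i j : Fin 78) : (toN A * N) i j ≤ 256 * m := by
  obtain ⟨-, hr, hs⟩ := rows_of_sparseOK hA
  rw [Matrix.mul_apply]
  exact (entry_le hN j _ (hr i.1)).trans (Nat.mul_le_mul_right _ (hs i.1))

/-- The sparse rows of a generator (the first one if out of range). -/
def matOf (g : ℕ) : List (List (ℕ × ℕ)) := mats.getD g mat_a

theorem matOf_ok (g : ℕ) : sparseOK (matOf g) = true := by
  have h : mats.all sparseOK = true := by decide +kernel
  rcases lt_or_ge g mats.length with hg | hg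
  · rw [matOf, List.getD_eq_getElem _ _ hg]
    exact List.all_eq_true.mp h _ (List.getElem_mem hg)
  · rw [matOf, List.getD_eq_default _ _ hg]
    exact List.all_eq_true.mp h _ (by simp [mats])

/-- The value of a word on packed rows. -/
def run : List ℕ → List ℕ → List ℕ
  | [], R => R
  | g :: w, R => run w (stepMul (matOf g) R)

/-- The matrix of a word over the natural numbers. -/
def wmat : List ℕ → Matrix (Fin 78) (Fin 78) ℕ
  | [] => 1
  | g :: w => wmat w * toN (matOf g)

theorem run_spec : ∀ (w : List ℕ) {R : List ℕ} {N : Matrix (Fin 78) (Fin 78) ℕ} {m : ℕ},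
    Packs R N → (∀ i j, N i j ≤ m) →
      Packs (run w R) (wmat w * N) ∧ ∀ i j, (wmat w * N) i j ≤ 256 ^ w.length * m
  | [], R, N, m, hR, hN => by simp [run, wmat, hR, hN]
  | g :: w, R, N, m, hR, hN => by
    have h := run_spec w (packs_smul (matOf_ok g) hR) (mul_le (matOf_ok g) hN)
    rw [run, wmat, mul_assoc, List.length_cons, pow_succ, mul_assoc]
    exact h

theorem packs_idRows : Packs idRows 1 := by
  intro i
  simp [idRows, enc, Matrix.one_apply]

/-- The first `n` digits of `x` are, modulo thirteen, those of row `i` of the identity, counted from `j`. -/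
def digitsOK (B i : ℕ) : ℕ → ℕ → ℕ → Bool
  | 0, _, _ => true
  | n + 1, x, j => Nat.beq (x % B % 13) (bif Nat.beq i j then 1 else 0) && digitsOK B i n (x / B) (j + 1)

theorem of_digitsOK {B i : ℕ} : ∀ {n x j : ℕ}, digitsOK B i n x j = true →
    ∀ k < n, x / B ^ k % B % 13 = if i = j + k then 1 else 0
  | 0, _, _, _ => fun k hk => absurd hk (Nat.not_lt_zero k)
  | n + 1, x, j, h => by
    rw [digitsOK, Bool.and_eq_true] at h
    have h0 : x % B % 13 = if i = j then 1 else 0 := by
      rw [Nat.eq_of_beq_eq_true h.1]
      by_cases e : i = j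
      · simp [e]
      · have : Nat.beq i j = false := by
          cases hb : Nat.beq i j
          · rfl
          · exact absurd (Nat.eq_of_beq_eq_true hb) e
        simp [e, this]
    intro k hk
    cases k with
    | zero => simpa using h0
    | succ k =>
      rw [pow_succ', ← Nat.div_div_eq_div_mul, of_digitsOK h.2 k (by omega)]
      simp only [Nat.add_assoc, Nat.add_comm 1 k]

/-- The rows are, modulo thirteen, those of the identity, counted from `i`. -/
def rowsOK : List ℕ → ℕ → Bool
  | [], _ => true
  | x :: l, i => digitsOK base i 78 x 0 && rowsOK l (i + 1)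

theorem of_rowsOK : ∀ {l : List ℕ} {i : ℕ}, rowsOK l i = true →
    ∀ k < l.length, digitsOK base (i + k) 78 (l.getD k 0) 0 = true
  | [], _, _ => fun k hk => absurd hk (Nat.not_lt_zero k)
  | x :: l, i, h => by
    rw [rowsOK, Bool.and_eq_true] at h
    intro k hk
    cases k with
    | zero => simpa using h.1
    | succ k =>
      rw [List.getD_cons_succ, show i + (k + 1) = i + 1 + k by omega]
      exact of_rowsOK h.2 k (by simpa using hk)

theorem length_run : ∀ (w : List ℕ) {R : List ℕ}, R.length = 78 → (run w R).length = 78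
  | [], R, h => h
  | g :: w, R, _ => by
    rw [run]
    exact length_run w (by
      rw [show stepMul (matOf g) R = (matOf g).map (comb R) from rfl, List.length_map]
      exact (rows_of_sparseOK (matOf_ok g)).1)

/-- A word acts trivially modulo thirteen. -/
def trivOK (w : List ℕ) : Bool := decide (w.length ≤ 90) && rowsOK (run w idRows) 0

/-- Reduction modulo thirteen. -/
abbrev red : Matrix (Fin 78) (Fin 78) ℕ →+* M := (Nat.castRingHom (ZMod 13)).mapMatrix

theorem red_wmat_eq_one {w : List ℕ} (h : trivOK w = true) : red (wmat w) = 1 := by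
  simp only [trivOK, Bool.and_eq_true, decide_eq_true_eq] at h
  have hone : ∀ i j, (1 : Matrix (Fin 78) (Fin 78) ℕ) i j ≤ 1 := by
    intro i j
    rw [Matrix.one_apply]
    split <;> omega
  obtain ⟨hp, hb⟩ := run_spec w packs_idRows hone
  rw [mul_one] at hp hb
  have hlt : ∀ i j, wmat w i j < base := fun i j =>
    lt_of_le_of_lt (hb i j) (by
      rw [mul_one, base_eq, show (256 : ℕ) = 2 ^ 8 from rfl, ← pow_mul]
      exact Nat.pow_lt_pow_right (by norm_num) (by omega))
  ext i j
  have hd := of_digitsOK (of_rowsOK h.2 i.1 (by rw [length_run w (by simp [idRows])]; exact i.2)) j.1 j.2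
  rw [Nat.zero_add, Nat.zero_add] at hd
  rw [hp i, enc_digit _ (hlt i) j] at hd
  rw [RingHom.mapMatrix_apply, Matrix.map_apply, Matrix.one_apply, Nat.coe_castRingHom,
    ← ZMod.natCast_mod, hd]
  simp only [Fin.ext_iff]
  split <;> simp

theorem sq_matOf (g : ℕ) : red (toN (matOf g)) * red (toN (matOf g)) = 1 := by
  have h : (List.range 10).all (fun k => trivOK [k, k]) = true := by decide +kernel
  have key : ∀ k < 10, red (toN (matOf k)) * red (toN (matOf k)) = 1 := by
    intro k hk
    have := red_wmat_eq_one (List.all_eq_true.mp h k (List.mem_range.mpr hk))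
    rwa [wmat, wmat, wmat, one_mul, map_mul] at this
  rcases lt_or_ge g 10 with hg | hg
  · exact key g hg
  · have e : matOf g = matOf 9 := by
      rw [matOf, matOf, List.getD_eq_default _ _ (by simp [mats]; omega),
        List.getD_eq_default _ _ (by simp [mats])]
    rw [e]
    exact key 9 (by norm_num)

/-- The image of a generator. -/
def gmat (g : ℕ) : GL (Fin 78) (ZMod 13) := ⟨red (toN (matOf g)), red (toN (matOf g)), sq_matOf g, sq_matOf g⟩

theorem val_gmat (g : ℕ) : (gmat g).val = red (toN (matOf g)) := rfl

theorem gmat_mul_self (g : ℕ) : gmat g * gmat g = 1 := Units.ext (sq_matOf g)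

theorem val_wval : ∀ w : List ℕ, (wval gmat w : GL (Fin 78) (ZMod 13)).val = red (wmat w)
  | [] => by simp [wval, wmat]
  | g :: w => by rw [wval, wmat, Units.val_mul, map_mul, val_wval w]; rfl

theorem wval_eq_one {w : List ℕ} (h : trivOK w = true) : wval gmat w = 1 :=
  Units.ext (by rw [val_wval, red_wmat_eq_one h]; rfl)

theorem wval_eq_one_of_all {L : List (List ℕ)} (h : L.all trivOK = true) (w : List ℕ) (hw : w ∈ L) :
    wval gmat w = 1 :=
  wval_eq_one (List.all_eq_true.mp h w hw)

theorem all_split {α : Type*} {p : α → Bool} {L : List α} (n : ℕ) (h1 : (L.take n).all p = true)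
    (h2 : (L.drop n).all p = true) : L.all p = true := by
  rw [← List.take_append_drop n L, List.all_append, h1, h2]
  rfl

/-- The relators as words. -/
def relWords : List (List ℕ) := (relList FiIndex.gens Fi22.edges Fi22.extra).map (letters FiIndex.gens)

theorem relWords_one : (relWords.take 20).all trivOK = true := by decide +kernel

theorem relWords_two : ((relWords.drop 20).take 20).all trivOK = true := by decide +kernel

theorem relWords_three : (((relWords.drop 20).drop 20).take 20).all trivOK = true := by decide +kernel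

theorem relWords_four : ((((relWords.drop 20).drop 20).drop 20).take 21).all trivOK = true := by decide +kernel

theorem relWords_five : (((((relWords.drop 20).drop 20).drop 20).drop 21).take 1).all trivOK = true := by
  decide +kernel

theorem relWords_six : ((((((relWords.drop 20).drop 20).drop 20).drop 21).drop 1).take 1).all trivOK = true := by
  decide +kernel

theorem relWords_seven : ((((((relWords.drop 20).drop 20).drop 20).drop 21).drop 1).drop 1).all trivOK = true := by
  decide +kernel

theorem relators_ok :
    ((relList FiIndex.gens Fi22.edges Fi22.extra).map (letters FiIndex.gens)).all trivOK = true :=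
  all_split (L := relWords) 20 relWords_one <| all_split 20 relWords_two <| all_split 20 relWords_three <|
    all_split 21 relWords_four <| all_split 1 relWords_five <| all_split 1 relWords_six relWords_seven

attribute [local irreducible] gmat matOf toN trivOK run

theorem exists_hom {G : Type*} [Group G] (s : ℕ → G) (hs : ∀ k, s k * s k = 1)
    (hr : ∀ w ∈ (relList FiIndex.gens Fi22.edges Fi22.extra).map (letters FiIndex.gens), wval s w = 1) :
    ∃ φ : Fi22 →* G, φ (PresentedGroup.of Fi22.Gen.a) = s 0 := by
  refine ⟨PresentedGroup.toGroup (f := fun x => s (FiIndex.gens.idxOf x)) ?_,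
    PresentedGroup.toGroup.of _⟩
  intro r hr'
  rw [lift_eq_wval (fun x => s (FiIndex.gens.idxOf x)) (fun x => hs _) FiIndex.gens_all s (fun _ => rfl)]
  exact hr _ (List.mem_map_of_mem (mem_relList FiIndex.gens_all hr'))

theorem exists_hom_units {R : Type*} [Monoid R] (u : ℕ → Rˣ) (hs : ∀ k, u k * u k = 1)
    (hr : ∀ w ∈ (relList FiIndex.gens Fi22.edges Fi22.extra).map (letters FiIndex.gens), wval u w = 1) :
    ∃ φ : Fi22 →* Rˣ, φ (PresentedGroup.of Fi22.Gen.a) = u 0 :=
  exists_hom u hs hr

theorem exists_rep :
    ∃ f : Fi22 →* GL (Fin 78) (ZMod 13), f (PresentedGroup.of Fi22.Gen.a) ≠ 1 := by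
  have hs : ∀ k, gmat k * gmat k = 1 := fun k => gmat_mul_self k
  obtain ⟨φ, hφ⟩ := exists_hom_units (R := Matrix (Fin 78) (Fin 78) (ZMod 13)) gmat hs
    (wval_eq_one_of_all relators_ok)
  refine ⟨φ, ?_⟩
  · rw [hφ]
    intro h
    have h1 : red (toN (matOf 0)) = (1 : M) := by rw [← val_gmat, h, Units.val_one]
    have h3 : ((List.finRange 78).all fun i => toN (matOf 0) i i % 13 == 1) = false := by decide +kernel
    have h4 : ((List.finRange 78).all fun i => toN (matOf 0) i i % 13 == 1) = true := by
      rw [List.all_eq_true]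
      intro i _
      have e := congrFun (congrFun h1 i) i
      rw [RingHom.mapMatrix_apply, Matrix.map_apply, Matrix.one_apply_eq, Nat.coe_castRingHom] at e
      have := congrArg ZMod.val e
      rw [ZMod.val_natCast] at this
      rw [beq_iff_eq, this]
      decide
    rw [h3] at h4
    exact Bool.false_ne_true h4

end Cfsg.Agent.Presented.FiMatrix78
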