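import Cfsg.Agent.Lib.Presented.HeSp4
import Cfsg.Agent.Lib.Presented.Data.HeCentData

/-!
# An involution centraliser in the presented Held group

The centraliser of the generator `d` has at most `42 · 512 = 21504` elements: it permutes the 42 fixed cosets of
`d`, and `d` has at least 3825 conjugates in the point stabiliser. Three words in it and three matrices
centralising a transvection of `SL₅(2)` induce the same permutations of 336 points, generating 21504 of them.
-/

set_option autoImplicit false
set_option linter.style.haveILetI false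

namespace Cfsg.Agent.Presented.HeCent

open Cfsg.Spor Cfsg.Agent.Presented HeIndex HeCentData
open Cfsg.Agent.Presented.HeSp4 (optB kgen kWords)

/-- The involution. -/
def zinv : He := gen 3

theorem eq_of_same {u v : List ℕ}
    (h : sameOK HeC2058.cert (HeChain.chain.map Level.pt) u v = true) : wval gen u = wval gen v := by
  obtain ⟨e, -, he⟩ := exists_table
  haveI := HeOrder.card_le.1
  simp only [sameOK, Bool.and_eq_true, List.all_eq_true, Nat.blt_eq] at h
  obtain ⟨⟨hu, hv⟩, hpath⟩ := h
  refine eq_of_paths HeC2058.cert_edgesOK HeC2058.cert_nodesOK e he (by decide +kernel) HeChain.chain_ok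
    (by rw [HeOrder.chain_prod, HeOrder.card_he]) _ _ fun p hpm hp => ?_
  rw [CosetCert.smul_path HeC2058.cert_edgesOK HeC2058.cert_nodesOK e he _ hu ⟨p, hp⟩,
    CosetCert.smul_path HeC2058.cert_edgesOK HeC2058.cert_nodesOK e he _ hv ⟨p, hp⟩]
  exact congrArg e (Fin.ext (Nat.beq_eq.mp (hpath p hpm)))

theorem move_check : HeC2058.cert.path [3] 1 ≠ 1 ∨ HeC2058.cert.path [3] 2 ≠ 2 ∨
    HeC2058.cert.path [3] 3 ≠ 3 := by decide +kernel

theorem orderOf_zinv : orderOf zinv = 2 := by
  haveI := Fact.mk Nat.prime_two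
  refine orderOf_eq_prime ?_ ?_
  · rw [pow_two]; exact genFun_mul_self gens_all gens_ok 3
  · intro h
    obtain ⟨e, -, he⟩ := exists_table
    have hN : 3 < HeC2058.cert.N := by decide +kernel
    have hlt : ∀ g ∈ ([3] : List ℕ), g < HeC2058.cert.m := by decide +kernel
    have key : ∀ i, i ≤ 3 → HeC2058.cert.path [3] i = i := by
      intro i hi
      have h1 := CosetCert.smul_path HeC2058.cert_edgesOK HeC2058.cert_nodesOK e he _ hlt
        ⟨i, lt_of_le_of_lt hi hN⟩
      rw [show wval gen [3] = zinv by simp [wval, zinv], h, one_smul] at h1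
      exact (congrArg Fin.val (e.injective h1)).symm
    rcases move_check with h1 | h1 | h1
    · exact h1 (key 1 (by omega))
    · exact h1 (key 2 (by omega))
    · exact h1 (key 3 (by omega))

/-! ### The upper bound -/

theorem exists_block_hom : ∃ φ : hSub →* Equiv.Perm (Fin 85), Function.Injective φ ∧
    ∀ g (hg : g < HeSp4Data.hTab.m) (h : kgen g ∈ hSub) (i : Fin 85),
      (φ ⟨kgen g, h⟩ i : ℕ) = HeSp4Data.hTab.img g i := by
  haveI : Finite He := HeOrder.card_le.1
  obtain ⟨e, -, he⟩ := exists_table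
  let fH : He ⧸ hSub → Option (Fin HeSp4Data.hTab.N) := fun x => optB 85 (HeSp4Data.hblk.get 7 (e.symm x))
  have hfH : ∀ i, ∃ x, fH x = some i := fun i => by
    obtain ⟨h1, h2⟩ := HeSp4.hrep_check i
    exact ⟨e ⟨_, h1⟩, by simp only [fH, Equiv.symm_apply_apply]; exact h2⟩
  have hlt : ∀ g, g < 7 → ∀ a ∈ kWords.getD g [], a < HeC2058.cert.m := by decide +kernel
  have hsH : ∀ g, g < HeSp4Data.hTab.m → ∀ x,
      (fH (kgen g • x)).map Fin.val = (fH x).map fun i => HeSp4Data.hTab.img g i := by
    intro g hg x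
    obtain ⟨i, rfl⟩ := e.surjective x
    rw [show kgen g • e i = _ from
      CosetCert.smul_path HeC2058.cert_edgesOK HeC2058.cert_nodesOK e he _ (hlt g hg) i]
    simp only [fH, Equiv.symm_apply_apply]
    exact of_decide_eq_true
      (List.all_eq_true.mp (checkBelow_spec HeSp4.hblk_check i.1 i.2) g (List.mem_range.mpr hg))
  obtain ⟨φ₀, hφ₀⟩ := PTab.exists_hom (T := HeSp4Data.hTab) (s := kgen) fH hfH hsH
  let φ : hSub →* Equiv.Perm (Fin 85) := φ₀.comp (MulEquiv.subgroupCongr HeSp4.hSub_eq).toMonoidHom
  let hgen : ℕ → hSub := fun j => if h : j < HeSp4Data.hTab.m then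
    ⟨kgen j, HeSp4.hSub_eq ▸ Subgroup.subset_closure ⟨j, h, rfl⟩⟩ else 1
  have hφ : ∀ g, g < HeSp4Data.hTab.m → ∀ i : Fin 85, (φ (hgen g) i : ℕ) = HeSp4Data.hTab.img g i := by
    intro g hg i
    simp only [φ, hgen, dif_pos hg, MonoidHom.comp_apply]
    exact hφ₀ g hg i
  refine ⟨φ, ?_, fun g hg h i => by have := hφ g hg i; simp only [hgen, dif_pos hg] at this; exact this⟩
  have h := PTab.prod_le_card_range (T := HeSp4Data.hTab) φ hφ HeSp4.hChain_ok
  rw [show PTab.chainSize HeSp4Data.hChain = 1958400 by decide +kernel] at h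
  have h1 : Nat.card φ.range = Nat.card hSub :=
    le_antisymm (Nat.card_le_card_of_surjective _ φ.rangeRestrict_surjective) (HeOrder.card_hSub ▸ h)
  have := (Nat.bijective_iff_surjective_and_card φ.rangeRestrict).2 ⟨φ.rangeRestrict_surjective, h1.symm⟩
  exact fun a b hab => this.1 (Subtype.ext hab)

/-- Field `i` of a packed number. -/
noncomputable def fld (w R i : ℕ) : ℕ := Nat.mod (Nat.shiftRight R (Nat.mul w i)) (Nat.pow 2 w)

/-- Entry of the table of conjugates. -/
noncomputable def row (k i : ℕ) : ℕ := fld 7 (clsRows.get 595 k) i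

/-- The key of a conjugate. -/
noncomputable def key (k : ℕ) : ℕ := clsBase.foldr (fun b acc => row k b + 128 * acc) 0

theorem row_zero : ∀ i : Fin 85, row 0 i = HeSp4Data.hTab.img 2 i := by decide +kernel

theorem hperm_check : ∀ (j : Fin 7) (i : Fin 85), fld 7 (hPerm.getD j 0) i = HeSp4Data.hTab.img j i := by
  decide +kernel

/-- A conjugate against the conjugate it comes from. -/
noncomputable def rowOK (P R R' : ℕ) : Bool :=
  checkBelow (fun i => Nat.beq (fld 7 R (fld 7 P i)) (fld 7 P (fld 7 R' i))) 7 85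

theorem row_step : checkBelow (fun k => Nat.beq k 0 || force (clsPar.get 16 k) fun v =>
    Nat.blt (v / 8) k && Nat.blt (v % 8) 7 && force (hPerm.getD (v % 8) 0) fun P =>
      force (clsRows.get 595 k) fun R => force (clsRows.get 595 (v / 8)) fun R' => rowOK P R R')
    12 3825 = true := by decide +kernel

theorem order_check : checkBelow (fun t => Nat.blt (clsOrd.get 12 t) 3825 &&
    (Nat.beq t 0 || Nat.blt (key (clsOrd.get 12 (t - 1))) (key (clsOrd.get 12 t)))) 12 3825 = true := by
  decide +kernel

theorem base_lt : ∀ b ∈ clsBase, b < 85 := by decide +kernel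

theorem kgen_two : kgen 2 = zinv := by
  show wval gen [3] = zinv
  simp [wval, zinv]

theorem zinv_mem : zinv ∈ hSub :=
  kgen_two ▸ HeSp4.hSub_eq ▸ Subgroup.subset_closure ⟨2, by show (2 : ℕ) < HeSp4Data.hTab.m; decide +kernel, rfl⟩

theorem centralizer_hSub_le :
    Nat.card (Subgroup.centralizer ({⟨zinv, zinv_mem⟩} : Set hSub)) ≤ 512 := by
  haveI : Finite He := HeOrder.card_le.1
  obtain ⟨φ, hinj, hφ⟩ := exists_block_hom
  set d : hSub := ⟨zinv, zinv_mem⟩
  have hm : HeSp4Data.hTab.m = 7 := by decide +kernel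
  have hconj : ∀ k, k < 3825 → ∃ h : hSub, ∀ i : Fin 85, (φ (h * d * h⁻¹) i : ℕ) = row k i := by
    intro k
    induction k using Nat.strong_induction_on with
    | _ k ih =>
      intro hk
      rcases Nat.eq_zero_or_pos k with rfl | hpos
      · refine ⟨1, fun i => ?_⟩
        rw [one_mul, inv_one, mul_one, row_zero i]
        have := hφ 2 (by omega) (kgen_two ▸ zinv_mem) i
        simpa [d, kgen_two] using this
      · have hstep := checkBelow_spec row_step k hk
        simp only [force_eq, Bool.or_eq_true, Nat.beq_eq, Bool.and_eq_true, Nat.blt_eq] at hstep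
        rcases hstep with h0 | ⟨⟨hp, hg⟩, hall⟩
        · omega
        obtain ⟨h, hh⟩ := ih _ hp (by omega)
        set j := clsPar.get 16 k % 8
        have hmem : kgen j ∈ hSub := HeSp4.hSub_eq ▸ Subgroup.subset_closure ⟨j, show j < _ by omega, rfl⟩
        set g : hSub := ⟨kgen j, hmem⟩
        refine ⟨g * h, fun i => ?_⟩
        obtain ⟨i', rfl⟩ := (φ g).surjective i
        have e : φ (g * h * d * (g * h)⁻¹) (φ g i') = φ g (φ (h * d * h⁻¹) i') := by
          simp only [mul_inv_rev, map_mul, map_inv, Equiv.Perm.mul_apply, Equiv.Perm.coe_inv,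
            Equiv.symm_apply_apply]
        have h7 : j < 7 := hg
        have hi : fld 7 (hPerm.getD j 0) i' = HeSp4Data.hTab.img j i' := hperm_check ⟨j, h7⟩ i'
        have hr : row (clsPar.get 16 k / 8) i' < 85 := hh i' ▸ Fin.is_lt _
        have hv : fld 7 (hPerm.getD j 0) (row (clsPar.get 16 k / 8) i') =
            HeSp4Data.hTab.img j (row (clsPar.get 16 k / 8) i') := hperm_check ⟨j, h7⟩ ⟨_, hr⟩
        have hall' : fld 7 (clsRows.get 595 k) (fld 7 (hPerm.getD j 0) i') =
            fld 7 (hPerm.getD j 0) (row (clsPar.get 16 k / 8) i') :=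
          Nat.beq_eq.mp (checkBelow_spec hall i' i'.2)
        rw [e, hφ j (by omega) hmem, hh, hφ j (by omega) hmem i', ← hi, ← hv]
        exact hall'.symm
  choose c hc using hconj
  have hord : ∀ t : Fin 3825, clsOrd.get 12 t < 3825 := fun t => by
    have := checkBelow_spec order_check t t.2
    simp only [Bool.and_eq_true, Nat.blt_eq] at this
    exact this.1
  let F : Fin 3825 → hSub ⧸ Subgroup.centralizer ({d} : Set hSub) :=
    fun t => QuotientGroup.mk (c _ (hord t))
  have hmono : StrictMono fun t : Fin 3825 => key (clsOrd.get 12 t) := by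
    rw [Fin.strictMono_iff_lt_succ]
    intro t
    have := checkBelow_spec order_check (t.succ : Fin 3825) (Fin.is_lt _)
    simp only [Bool.and_eq_true, Bool.or_eq_true, Nat.beq_eq, Nat.blt_eq, Fin.val_succ,
      Nat.add_sub_cancel] at this
    rcases this.2 with h | h
    · omega
    · simpa using h
  have hF : Function.Injective F := by
    intro t u htu
    have hq := QuotientGroup.eq.1 htu
    rw [Subgroup.mem_centralizer_singleton_iff] at hq
    set a := c _ (hord t)
    set b := c _ (hord u)
    have hab : a * d * a⁻¹ = b * d * b⁻¹ := by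
      calc a * d * a⁻¹ = a * (d * (a⁻¹ * b)) * b⁻¹ := by group
        _ = a * ((a⁻¹ * b) * d) * b⁻¹ := by rw [hq]
        _ = b * d * b⁻¹ := by group
    refine hmono.injective ?_
    have hrow : ∀ i, i < 85 → row (clsOrd.get 12 t) i = row (clsOrd.get 12 u) i := fun i hi => by
      rw [← hc _ (hord t) ⟨i, hi⟩, ← hc _ (hord u) ⟨i, hi⟩, hab]
    show key (clsOrd.get 12 t) = key (clsOrd.get 12 u)
    unfold key
    have : ∀ l : List ℕ, (∀ b ∈ l, b < 85) →
        l.foldr (fun b acc => row (clsOrd.get 12 t) b + 128 * acc) 0 =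
          l.foldr (fun b acc => row (clsOrd.get 12 u) b + 128 * acc) 0 := by
      intro l
      induction l with
      | nil => intro _; rw [List.foldr_nil, List.foldr_nil]
      | cons x l ihl =>
        intro hl
        simp only [List.foldr_cons, hrow x (hl x List.mem_cons_self),
          ihl fun b hb => hl b (List.mem_cons_of_mem _ hb)]
    exact this clsBase base_lt
  have h1 := Nat.card_le_card_of_injective F hF
  rw [Nat.card_eq_fintype_card, Fintype.card_fin] at h1
  have h2 := (Subgroup.centralizer ({d} : Set hSub)).card_mul_index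
  rw [HeOrder.card_hSub] at h2
  have h3 : 3825 ≤ (Subgroup.centralizer ({d} : Set hSub)).index := h1
  nlinarith

theorem fixed_count : countBlock (fun i => Nat.beq (HeC2058.cert.path [3] i) i) HeC2058.cert.N 12 0 ≤ 42 := by
  decide +kernel

theorem centralizer_le : Nat.card (Subgroup.centralizer ({zinv} : Set He)) ≤ 21504 := by
  classical
  haveI : Finite He := HeOrder.card_le.1
  obtain ⟨e, -, he⟩ := exists_table
  set C := Subgroup.centralizer ({zinv} : Set He)
  set x₀ : He ⧸ hSub := QuotientGroup.mk 1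
  have hlt : ∀ g ∈ ([3] : List ℕ), g < HeC2058.cert.m := by decide +kernel
  set S := Finset.univ.filter fun i : Fin HeC2058.cert.N => HeC2058.cert.path [3] i = i
  have hS : S.card ≤ 42 := by
    refine le_trans ?_ fixed_count
    rw [countBlock_spec]
    refine Finset.card_le_card_of_injOn Fin.val ?_ Fin.val_injective.injOn
    intro i hi
    have hN : HeC2058.cert.N ≤ 2 ^ 12 := by decide +kernel
    simp only [S, Finset.coe_filter, Finset.mem_univ, true_and, Set.mem_setOf_eq] at hi
    simp only [Finset.coe_filter, Finset.mem_Ico, Set.mem_setOf_eq, Nat.beq_eq]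
    exact ⟨⟨Nat.zero_le _, lt_of_lt_of_le i.2 (by simpa using hN)⟩, i.2, hi⟩
  have horb : MulAction.orbit C x₀ ⊆ e '' (S : Set (Fin HeC2058.cert.N)) := by
    rintro x ⟨⟨g, hg⟩, rfl⟩
    refine ⟨e.symm (g • x₀), ?_, e.apply_symm_apply _⟩
    have h0 : zinv • x₀ = x₀ := by
      show QuotientGroup.mk (zinv * 1) = QuotientGroup.mk 1
      rw [QuotientGroup.eq, mul_one, mul_one]
      exact hSub.inv_mem zinv_mem
    have hfix : zinv • (g • x₀) = g • x₀ := by
      rw [smul_smul, ← Subgroup.mem_centralizer_singleton_iff.1 hg, ← smul_smul, h0]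
    have h1 := CosetCert.smul_path HeC2058.cert_edgesOK HeC2058.cert_nodesOK e he _ hlt (e.symm (g • x₀))
    rw [show wval gen [3] = zinv by simp [wval, zinv], e.apply_symm_apply, hfix] at h1
    simp only [S, Finset.coe_filter, Finset.mem_univ, true_and, Set.mem_setOf_eq]
    have h2 := congrArg e.symm h1
    rw [Equiv.symm_apply_apply] at h2
    exact (congrArg Fin.val h2).symm
  have h42 : Nat.card (MulAction.orbit C x₀) ≤ 42 := by
    rw [Nat.card_coe_set_eq]
    refine (Set.ncard_le_ncard horb).trans ?_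
    rw [Set.ncard_image_of_injective _ e.injective, Set.ncard_coe_finset]
    exact hS
  have hst : Nat.card (MulAction.stabilizer C x₀) ≤ 512 := by
    refine le_trans ?_ centralizer_hSub_le
    have hmem : ∀ a : MulAction.stabilizer C x₀, ((a : C) : He) ∈ hSub := fun a => by
      have h := MulAction.mem_stabilizer_iff.1 a.2
      change QuotientGroup.mk ((((a : C) : He)) * 1) = QuotientGroup.mk 1 at h
      rw [QuotientGroup.eq, mul_one, mul_one] at h
      exact inv_mem_iff.1 h
    refine Nat.card_le_card_of_injective (fun a => ⟨⟨_, hmem a⟩, ?_⟩) ?_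
    · rw [Subgroup.mem_centralizer_singleton_iff]
      exact Subtype.ext (Subgroup.mem_centralizer_singleton_iff.1 (a : C).2)
    · intro a b hab
      exact Subtype.ext (Subtype.ext (congrArg (fun x => ((x.1 : hSub) : He)) hab))
  rw [← Nat.card_congr (MulAction.orbitProdStabilizerEquivGroup C x₀), Nat.card_prod]
  exact le_trans (Nat.mul_le_mul h42 hst) le_rfl

/-! ### The matrices -/

/-- A generating matrix. -/
def cmat (g : ℕ) : Matrix (Fin 5) (Fin 5) (ZMod 2) :=
  Matrix.of fun i j => ((((mats.getD g []).getD i.1 []).getD j.1 0 : ℕ) : ZMod 2)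

theorem cmat_check : ∀ g : Fin 3, (cmat g).det = 1 ∧
    cmat g * Matrix.transvection 0 1 1 = Matrix.transvection 0 1 1 * cmat g := by
  decide +kernel

/-- The generating matrices in the special linear group. -/
def cgen (g : ℕ) : Matrix.SpecialLinearGroup (Fin 5) (ZMod 2) :=
  if h : g < 3 then ⟨cmat g, (cmat_check ⟨g, h⟩).1⟩ else 1

/-- Four coordinates of a vector as a digit. -/
def nib (v : Fin 5 → ZMod 2) : ℕ := (v 0).val + 2 * (v 2).val + 4 * (v 3).val + 8 * (v 4).val

theorem cgen_val {g : ℕ} (hg : g < 3) : (cgen g : Matrix (Fin 5) (Fin 5) (ZMod 2)) = cmat g := by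
  have h : cgen g = ⟨cmat g, (cmat_check ⟨g, hg⟩).1⟩ := dif_pos hg
  rw [h]

theorem nib_lt : ∀ v, nib v < 16 := by decide +kernel

theorem nib_inj : ∀ v w : Fin 5 → ZMod 2, v 1 = w 1 → nib v = nib w → v = w := by decide +kernel

theorem nib_add : ∀ v w : Fin 5 → ZMod 2, nib (v + w) = nib v ^^^ nib w := by decide +kernel

/-- The code of a matrix. -/
def code (A : Matrix (Fin 5) (Fin 5) (ZMod 2)) : ℕ :=
  nib (fun i => A i 1) + 16 * nib (fun i => A i 2) + 256 * nib (fun i => A i 3) + 4096 * nib (fun i => A i 4)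

/-- Image of a digit. -/
noncomputable def dig (t : List ℕ) (g n : ℕ) : ℕ := t.getD g 0 / 16 ^ n % 16

/-- Image of a code. -/
noncomputable def cstep (g c : ℕ) : ℕ :=
  dig one1 g (c % 16) + 16 * dig one0 g (c / 16 % 16) + 256 * dig one0 g (c / 256 % 16) +
    4096 * dig one0 g (c / 4096 % 16)

theorem nib_step : ∀ g : Fin 3, ∀ v : Fin 5 → ZMod 2,
    nib ((cmat g).mulVec v) = if v 1 = 1 then dig one1 g (nib v) else dig one0 g (nib v) := by
  decide +kernel

/-- The point of the orbit belonging to a code. -/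
noncomputable def pnt (c : ℕ) : ℕ := fld 9 (ptabRows.get 2304 (c / 256)) (c % 256)

theorem lo_check : ∀ (g : Fin 3) (n : Fin 256),
    fld 8 (loMap.getD g 0) n = dig one1 g (n.1 % 16) + 16 * dig one0 g (n.1 / 16) := by decide +kernel

theorem hi_check : ∀ (g : Fin 3) (n : Fin 256),
    fld 8 (hiMap.getD g 0) n = dig one0 g (n.1 % 16) + 16 * dig one0 g (n.1 / 16) := by decide +kernel

theorem operm_check : ∀ (g : Fin 3) (i : Fin 336), fld 9 (oPerm.getD g 0) i = oTab.img g i := by decide +kernel

theorem fld_lt (w R i : ℕ) : fld w R i < 2 ^ w := Nat.mod_lt _ (Nat.two_pow_pos w)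

/-- One entry of the table against its image. -/
noncomputable def entryOK (R R' L P lo : ℕ) : Bool :=
  force (fld 9 R lo) fun v => force (fld 9 R' (fld 8 L lo)) fun v' =>
    cond (Nat.beq v 0) (Nat.beq v' 0)
      (Nat.ble v 336 && force (fld 9 P (Nat.sub v 1)) fun w => Nat.beq v' (w + 1) && Nat.blt w 336)

/-- A row of the table against its image under a generator. -/
noncomputable def rowGen (R hi g : ℕ) : Bool :=
  force (loMap.getD g 0) fun L => force (oPerm.getD g 0) fun P =>
    force (ptabRows.get 2304 (fld 8 (hiMap.getD g 0) hi)) fun R' => checkBelow (entryOK R R' L P) 9 256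

/-- A row of the table against its images. -/
noncomputable def rowsOK (hi : ℕ) : Bool :=
  force (ptabRows.get 2304 hi) fun R => rowGen R hi 0 && rowGen R hi 1 && rowGen R hi 2

theorem rows_0 : checkBlock rowsOK 256 4 0 = true := by decide +kernel

theorem rows_1 : checkBlock rowsOK 256 4 16 = true := by decide +kernel

theorem rows_2 : checkBlock rowsOK 256 4 32 = true := by decide +kernel

theorem rows_3 : checkBlock rowsOK 256 4 48 = true := by decide +kernel

theorem rows_4 : checkBlock rowsOK 256 4 64 = true := by decide +kernel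

theorem rows_5 : checkBlock rowsOK 256 4 80 = true := by decide +kernel

theorem rows_6 : checkBlock rowsOK 256 4 96 = true := by decide +kernel

theorem rows_7 : checkBlock rowsOK 256 4 112 = true := by decide +kernel

theorem rows_8 : checkBlock rowsOK 256 4 128 = true := by decide +kernel

theorem rows_9 : checkBlock rowsOK 256 4 144 = true := by decide +kernel

theorem rows_10 : checkBlock rowsOK 256 4 160 = true := by decide +kernel

theorem rows_11 : checkBlock rowsOK 256 4 176 = true := by decide +kernel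

theorem rows_12 : checkBlock rowsOK 256 4 192 = true := by decide +kernel

theorem rows_13 : checkBlock rowsOK 256 4 208 = true := by decide +kernel

theorem rows_14 : checkBlock rowsOK 256 4 224 = true := by decide +kernel

theorem rows_15 : checkBlock rowsOK 256 4 240 = true := by decide +kernel

theorem table_rows : checkBelow rowsOK 9 256 = true :=
  checkBelow_of_block rfl <| checkBlock_join 8 (checkBlock_join 7 (checkBlock_join 6 (checkBlock_join 5 (checkBlock_join 4 rows_0 rows_1) (checkBlock_join 4 rows_2 rows_3)) (checkBlock_join 5 (checkBlock_join 4 rows_4 rows_5) (checkBlock_join 4 rows_6 rows_7))) (checkBlock_join 6 (checkBlock_join 5 (checkBlock_join 4 rows_8 rows_9) (checkBlock_join 4 rows_10 rows_11)) (checkBlock_join 5 (checkBlock_join 4 rows_12 rows_13) (checkBlock_join 4 rows_14 rows_15)))) <|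
    checkBlock_ge 8 256 le_rfl

theorem table_step (g c : ℕ) (hg : g < 3) (hc : c < 65536) :
    cond (Nat.beq (pnt c) 0) (Nat.beq (pnt (cstep g c)) 0)
      (Nat.ble (pnt c) 336 && Nat.beq (pnt (cstep g c)) (oTab.img g (pnt c - 1) + 1) &&
        Nat.blt (oTab.img g (pnt c - 1)) 336) = true := by
  have h := checkBelow_spec table_rows (c / 256) (by omega)
  simp only [rowsOK, force_eq, Bool.and_eq_true] at h
  have h' : rowGen (ptabRows.get 2304 (c / 256)) (c / 256) g = true := by
    obtain rfl | rfl | rfl : g = 0 ∨ g = 1 ∨ g = 2 := by omega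
    exacts [h.1.1, h.1.2, h.2]
  rw [rowGen, force_eq, force_eq, force_eq] at h'
  have h'' := checkBelow_spec h' (c % 256) (by omega)
  rw [entryOK, force_eq, force_eq, force_eq] at h''
  have hL : fld 8 (loMap.getD g 0) (c % 256) = cstep g c % 256 ∧
      fld 8 (hiMap.getD g 0) (c / 256) = cstep g c / 256 := by
    have e1 : fld 8 (loMap.getD g 0) (c % 256) = _ := lo_check ⟨g, hg⟩ ⟨c % 256, by omega⟩
    have e2 : fld 8 (hiMap.getD g 0) (c / 256) = _ := hi_check ⟨g, hg⟩ ⟨c / 256, by omega⟩
    simp only [show c % 256 % 16 = c % 16 by omega, show c % 256 / 16 = c / 16 % 16 by omega] at e1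
    simp only [show c / 256 / 16 = c / 4096 % 16 by omega] at e2
    have hlt : ∀ (t : List ℕ) (n : ℕ), dig t g n < 16 := fun t n => Nat.mod_lt _ (by omega)
    have b1 := hlt one1 (c % 16)
    have b2 := hlt one0 (c / 16 % 16)
    rw [e1, e2]
    unfold cstep
    omega
  rw [hL.1, hL.2] at h''
  rcases Nat.eq_zero_or_pos (fld 9 (ptabRows.get 2304 (c / 256)) (c % 256)) with h0 | h0
  · unfold pnt
    rw [h0] at h'' ⊢
    exact h''
  · unfold pnt
    rw [show Nat.beq (fld 9 (ptabRows.get 2304 (c / 256)) (c % 256)) 0 = false from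
      Bool.eq_false_iff.2 fun hb => absurd (Nat.eq_of_beq_eq_true hb) (by omega)] at h'' ⊢
    simp only [cond_false, Bool.and_eq_true, Nat.ble_eq, Nat.beq_eq, Nat.blt_eq] at h'' ⊢
    obtain ⟨hle, heq, hlt⟩ := h''
    have e3 : fld 9 (oPerm.getD g 0) _ = oTab.img g (fld 9 (ptabRows.get 2304 (c / 256)) (c % 256) - 1) :=
      operm_check ⟨g, hg⟩ ⟨_, by omega⟩
    exact ⟨⟨hle, e3 ▸ heq⟩, e3 ▸ hlt⟩

theorem rep_check : (List.range 336).all (fun i =>
    (repWords.getD i []).all (fun g => Nat.blt g 3) &&
      Nat.beq (pnt ((repWords.getD i []).foldl (fun c g => cstep g c) 33824)) (i + 1)) = true := by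
  decide +kernel

/-- The shape of a matrix commuting with the transvection. -/
def Shape (A : Matrix (Fin 5) (Fin 5) (ZMod 2)) : Prop :=
  (∀ i, A i 0 = if i = 0 then 1 else 0) ∧ ∀ j, A 1 j = if j = 1 then 1 else 0

theorem shape_of_commute {A : Matrix (Fin 5) (Fin 5) (ZMod 2)} (hdet : A.det = 1)
    (h : A * Matrix.transvection 0 1 1 = Matrix.transvection 0 1 1 * A) : Shape A := by
  have e : ∀ i j : Fin 5, (A * (Matrix.single 0 1 1 : Matrix (Fin 5) (Fin 5) (ZMod 2))) i j =
      ((Matrix.single 0 1 1 : Matrix (Fin 5) (Fin 5) (ZMod 2)) * A) i j := by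
    intro i j
    have h' := congrFun (congrFun h i) j
    simp only [Matrix.transvection, Matrix.mul_add, Matrix.add_mul, mul_one, one_mul, Matrix.add_apply] at h'
    exact add_left_cancel h'
  have hcol : ∀ i, i ≠ 0 → A i 0 = 0 := fun i hi => by
    have := e i 1
    rw [Matrix.mul_single_apply_same, Matrix.single_mul_apply_of_ne (h := hi)] at this
    simpa using this
  have hrow : ∀ j, j ≠ 1 → A 1 j = 0 := fun j hj => by
    have := e 0 j
    rw [Matrix.single_mul_apply_same, Matrix.mul_single_apply_of_ne (hbj := hj)] at this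
    simpa using this.symm
  have h01 : A 0 0 = A 1 1 := by
    have := e 0 1
    rw [Matrix.mul_single_apply_same, Matrix.single_mul_apply_same] at this
    simpa using this
  have h00 : A 0 0 = 1 := by
    by_contra hne
    have h0 : A 0 0 = 0 := by revert hne; generalize A 0 0 = a; revert a; decide
    have hz : ∀ i, A i 0 = 0 := fun i => by
      by_cases hi : i = 0
      · rw [hi]; exact h0
      · exact hcol i hi
    rw [Matrix.det_eq_zero_of_column_eq_zero 0 hz] at hdet
    exact zero_ne_one hdet
  refine ⟨fun i => ?_, fun j => ?_⟩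
  · split
    · subst i; exact h00
    · exact hcol i ‹_›
  · split
    · subst j; rw [← h01]; exact h00
    · exact hrow j ‹_›

theorem code_lt (A : Matrix (Fin 5) (Fin 5) (ZMod 2)) : code A < 65536 := by
  have h1 := nib_lt fun i => A i 1; have h2 := nib_lt fun i => A i 2
  have h3 := nib_lt fun i => A i 3; have h4 := nib_lt fun i => A i 4
  unfold code; omega

theorem code_mul {A : Matrix (Fin 5) (Fin 5) (ZMod 2)} (hA : Shape A) {g : ℕ} (hg : g < 3) :
    code (cmat g * A) = cstep g (code A) := by
  have hcol : ∀ j, (fun i => (cmat g * A) i j) = (cmat g).mulVec fun i => A i j := by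
    intro j; funext i; simp [Matrix.mul_apply, Matrix.mulVec, dotProduct]
  have h := fun j => nib_step ⟨g, hg⟩ fun i => A i j
  simp only [hA.2] at h
  have h1 := h 1; have h2 := h 2; have h3 := h 3; have h4 := h 4
  simp only [show (2 : Fin 5) ≠ 1 by decide, show (3 : Fin 5) ≠ 1 by decide, show (4 : Fin 5) ≠ 1 by decide,
    if_false, if_true, show (0 : ZMod 2) ≠ 1 by decide] at h1 h2 h3 h4
  have n1 := nib_lt fun i => A i 1; have n2 := nib_lt fun i => A i 2
  have n3 := nib_lt fun i => A i 3; have n4 := nib_lt fun i => A i 4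
  have d1 : code A % 16 = nib (fun i => A i 1) := by unfold code; omega
  have d2 : code A / 16 % 16 = nib (fun i => A i 2) := by unfold code; omega
  have d3 : code A / 256 % 16 = nib (fun i => A i 3) := by unfold code; omega
  have d4 : code A / 4096 % 16 = nib (fun i => A i 4) := by unfold code; omega
  rw [cstep, d1, d2, d3, d4, ← h1, ← h2, ← h3, ← h4]
  simp only [code, hcol]

/-- A combination of the digits of the columns `0, 2, 3, 4`. -/
def mix (a d : ℕ) : ℕ :=
  (if a % 2 = 1 then 1 else 0) ^^^ (if a / 2 % 2 = 1 then d % 16 else 0) ^^^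
    (if a / 4 % 2 = 1 then d / 16 % 16 else 0) ^^^ (if a / 8 % 2 = 1 then d / 256 % 16 else 0)

/-- Independence of the columns `0, 2, 3, 4`. -/
def good (d : ℕ) : Bool := (List.range 15).all fun a => !(mix (a + 1) d == 0)

theorem good_count : countBlock good 4096 12 0 ≤ 1344 := by decide +kernel

theorem good_code {A : Matrix (Fin 5) (Fin 5) (ZMod 2)} (hdet : A.det = 1) (hA : Shape A) :
    good (code A / 16) = true := by
  have n1 := nib_lt fun i => A i 1; have n2 := nib_lt fun i => A i 2
  have n3 := nib_lt fun i => A i 3; have n4 := nib_lt fun i => A i 4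
  have d2 : code A / 16 % 16 = nib (fun i => A i 2) := by unfold code; omega
  have d3 : code A / 16 / 16 % 16 = nib (fun i => A i 3) := by unfold code; omega
  have d4 : code A / 16 / 256 % 16 = nib (fun i => A i 4) := by unfold code; omega
  rw [good, List.all_eq_true]
  intro a ha
  rw [List.mem_range] at ha
  simp only [Bool.not_eq_true', beq_eq_false_iff_ne]
  intro hmix
  let bitv : ℕ → ZMod 2 := fun k => if (a + 1) / k % 2 = 1 then 1 else 0
  let u : Fin 5 → ZMod 2 := ![bitv 1, 0, bitv 2, bitv 4, bitv 8]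
  have hu : u ≠ 0 := by
    intro h0
    have hb : ∀ k, bitv k = 0 → (a + 1) / k % 2 ≠ 1 := by
      intro k hk hk'
      simp only [bitv, if_pos hk'] at hk
      exact one_ne_zero hk
    have e0 := hb 1 (congrFun h0 0); have e2 := hb 2 (congrFun h0 2)
    have e3 := hb 4 (congrFun h0 3); have e4 := hb 8 (congrFun h0 4)
    omega
  have hgen : ∀ x y z w : ZMod 2, A.mulVec ![x, 0, y, z, w] =
      x • (fun i => A i 0) + y • (fun i => A i 2) + z • (fun i => A i 3) + w • (fun i => A i 4) := by
    intro x y z w
    funext i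
    simp only [Matrix.mulVec, dotProduct, Fin.sum_univ_five, Pi.add_apply, Pi.smul_apply, smul_eq_mul]
    show A i 0 * x + A i 1 * 0 + A i 2 * y + A i 3 * z + A i 4 * w = _
    ring
  have hsum : A.mulVec u = bitv 1 • (fun i => A i 0) + bitv 2 • (fun i => A i 2) +
      bitv 4 • (fun i => A i 3) + bitv 8 • (fun i => A i 4) := hgen _ _ _ _
  have hnib : ∀ (k : ℕ) (v : Fin 5 → ZMod 2), nib (bitv k • v) = if (a + 1) / k % 2 = 1 then nib v else 0 := by
    intro k v
    simp only [bitv]
    split_ifs
    · rw [one_smul]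
    · rw [zero_smul]; decide
  have h0 : nib (A.mulVec u) = mix (a + 1) (code A / 16) := by
    rw [hsum, nib_add, nib_add, nib_add, hnib, hnib, hnib, hnib, mix, d2, d3, d4, Nat.div_one]
    rw [show nib (fun i => A i 0) = 1 by simp only [hA.1]; decide]
  have h1 : (A.mulVec u) 1 = 0 := by
    rw [hsum]
    simp only [Pi.add_apply, Pi.smul_apply, smul_eq_mul, hA.2]
    simp only [show (0 : Fin 5) ≠ 1 by decide, show (2 : Fin 5) ≠ 1 by decide, show (3 : Fin 5) ≠ 1 by decide,
      show (4 : Fin 5) ≠ 1 by decide, if_false, mul_zero, add_zero]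
  have hz : A.mulVec u = 0 := nib_inj _ _ h1 (by rw [h0, hmix]; decide)
  exact hu (Matrix.eq_zero_of_mulVec_eq_zero (by rw [hdet]; exact one_ne_zero) hz)

variable (s : Matrix.SpecialLinearGroup (Fin 5) (ZMod 2))
  (hs : (s : Matrix (Fin 5) (Fin 5) (ZMod 2)) = Matrix.transvection 0 1 1)

include hs

theorem shape_of_mem {A : Matrix.SpecialLinearGroup (Fin 5) (ZMod 2)}
    (hA : A ∈ Subgroup.centralizer ({s} : Set (Matrix.SpecialLinearGroup (Fin 5) (ZMod 2)))) : Shape A.1 := by
  refine shape_of_commute A.2 ?_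
  have h : (A * s : Matrix.SpecialLinearGroup (Fin 5) (ZMod 2)).1 = (s * A).1 :=
    congrArg (fun M : Matrix.SpecialLinearGroup (Fin 5) (ZMod 2) => M.1)
      (Subgroup.mem_centralizer_singleton_iff.1 hA)
  rw [← hs]
  exact h

theorem cgen_mem {g : ℕ} (hg : g < 3) : cgen g ∈ Subgroup.centralizer ({s} : Set (Matrix.SpecialLinearGroup (Fin 5) (ZMod 2))) := by
  rw [Subgroup.mem_centralizer_singleton_iff]
  refine Subtype.ext ?_
  show (cgen g : Matrix (Fin 5) (Fin 5) (ZMod 2)) * (s : Matrix (Fin 5) (Fin 5) (ZMod 2)) =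
    (s : Matrix (Fin 5) (Fin 5) (ZMod 2)) * (cgen g : Matrix (Fin 5) (Fin 5) (ZMod 2))
  rw [cgen_val hg, hs]
  exact (cmat_check ⟨g, hg⟩).2

theorem card_le_sl : Nat.card (Subgroup.centralizer ({s} : Set (Matrix.SpecialLinearGroup (Fin 5) (ZMod 2)))) ≤ 21504 := by
  classical
  set C := Subgroup.centralizer ({s} : Set (Matrix.SpecialLinearGroup (Fin 5) (ZMod 2)))
  set T := (Finset.Ico 0 (0 + 2 ^ 12)).filter fun i => i < 4096 ∧ good i = true
  let F : C → Fin 16 × T := fun A =>
    (⟨code (A : Matrix.SpecialLinearGroup (Fin 5) (ZMod 2)).1 % 16, Nat.mod_lt _ (by omega)⟩,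
      ⟨code (A : Matrix.SpecialLinearGroup (Fin 5) (ZMod 2)).1 / 16, by
        have h := code_lt (A : Matrix.SpecialLinearGroup (Fin 5) (ZMod 2)).1
        simp only [T, Finset.mem_filter, Finset.mem_Ico]
        exact ⟨by omega, by omega, good_code (A : Matrix.SpecialLinearGroup (Fin 5) (ZMod 2)).2
          (shape_of_mem s hs A.2)⟩⟩)
  have hF : Function.Injective F := by
    intro A B h
    simp only [F, Prod.mk.injEq, Subtype.mk.injEq, Fin.mk.injEq] at h
    have hA := shape_of_mem s hs A.2; have hB := shape_of_mem s hs B.2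
    set a := (A : Matrix.SpecialLinearGroup (Fin 5) (ZMod 2)).1
    set b := (B : Matrix.SpecialLinearGroup (Fin 5) (ZMod 2)).1
    have hn := fun j => nib_lt fun i => a i j
    have hm := fun j => nib_lt fun i => b i j
    have := hn 1; have := hn 2; have := hn 3; have := hn 4
    have := hm 1; have := hm 2; have := hm 3; have := hm 4
    have hab : code a = code b := by omega
    simp only [code] at hab
    have k1 : nib (fun i => a i 1) = nib (fun i => b i 1) := by omega
    have k2 : nib (fun i => a i 2) = nib (fun i => b i 2) := by omega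
    have k3 : nib (fun i => a i 3) = nib (fun i => b i 3) := by omega
    have k4 : nib (fun i => a i 4) = nib (fun i => b i 4) := by omega
    have hcol : ∀ j, j ≠ 0 → nib (fun i => a i j) = nib (fun i => b i j) := by
      intro j hj
      fin_cases j
      · exact absurd rfl hj
      all_goals first | exact k1 | exact k2 | exact k3 | exact k4
    refine Subtype.ext (Subtype.ext (Matrix.ext fun i j => ?_))
    by_cases hj : j = 0
    · show a i j = b i j
      subst hj; rw [hA.1, hB.1]
    · exact congrFun (nib_inj (fun i => a i j) (fun i => b i j) (by show a 1 j = b 1 j; rw [hA.2, hB.2]) (hcol j hj)) i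
  refine (Nat.card_le_card_of_injective F hF).trans ?_
  rw [Nat.card_prod, Nat.card_eq_fintype_card, Fintype.card_fin, Nat.card_eq_fintype_card, Fintype.card_coe]
  have := good_count
  rw [countBlock_spec] at this
  exact le_trans (Nat.mul_le_mul_left 16 this) le_rfl

theorem exists_iso : ∃ z : He, orderOf z = 2 ∧
    Nonempty (↥(Subgroup.centralizer ({z} : Set He)) ≃* ↥(Subgroup.centralizer ({s} : Set (Matrix.SpecialLinearGroup (Fin 5) (ZMod 2))))) := by
  classical
  refine ⟨zinv, orderOf_zinv, ?_⟩
  haveI : Finite He := HeOrder.card_le.1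
  set C := Subgroup.centralizer ({zinv} : Set He)
  set D := Subgroup.centralizer ({s} : Set (Matrix.SpecialLinearGroup (Fin 5) (ZMod 2)))
  have hm : oTab.m = 3 := rfl
  -- the words
  let wg : ℕ → He := fun g => wval gen (words.getD g [])
  have hwlt : ∀ g, g < 3 → ∀ a ∈ words.getD g [], a < HeC2058.cert.m := by decide +kernel
  have hwC : ∀ g, g < 3 → wg g ∈ C := by
    intro g hg
    rw [Subgroup.mem_centralizer_singleton_iff]
    have hall : ∀ g, g < 3 → sameOK HeC2058.cert (HeChain.chain.map Level.pt)
        (words.getD g [] ++ [3]) ([3] ++ words.getD g []) = true := by decide +kernel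
    have h := eq_of_same (hall g hg)
    rw [wval_append, wval_append] at h
    simp only [wval, one_mul] at h
    first
      | exact h
      | exact h.symm
  obtain ⟨e, -, he⟩ := exists_table
  let fo : He ⧸ hSub → Option (Fin oTab.N) := fun x => optB 336 (oblk.get 9 (e.symm x))
  have horep : ∀ i : Fin 336, orep.getD i 0 < HeC2058.cert.N ∧ optB 336 (oblk.get 9 (orep.getD i 0)) = some i := by
    decide +kernel
  have hfo : ∀ i, ∃ x, fo x = some i := fun i => by
    obtain ⟨h1, h2⟩ := horep i
    exact ⟨e ⟨_, h1⟩, by simp only [fo, Equiv.symm_apply_apply]; exact h2⟩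
  have hochk : checkBelow (fun i => (List.range 3).all fun g =>
      decide ((optB 336 (oblk.get 9 (HeC2058.cert.path (words.getD g []) i))).map Fin.val =
        (optB 336 (oblk.get 9 i)).map fun b => oTab.img g b)) 12 HeC2058.cert.N = true := by decide +kernel
  have hso : ∀ g, g < oTab.m → ∀ x, (fo (wg g • x)).map Fin.val = (fo x).map fun i => oTab.img g i := by
    intro g hg x
    obtain ⟨i, rfl⟩ := e.surjective x
    rw [show wg g • e i = _ from
      CosetCert.smul_path HeC2058.cert_edgesOK HeC2058.cert_nodesOK e he _ (hwlt g hg) i]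
    simp only [fo, Equiv.symm_apply_apply]
    exact of_decide_eq_true
      (List.all_eq_true.mp (checkBelow_spec hochk i.1 i.2) g (List.mem_range.mpr hg))
  set A := Subgroup.closure (wg '' {g | g < oTab.m})
  obtain ⟨φ, hφ⟩ : ∃ f : A →* Equiv.Perm (Fin 336), ∀ g (hg : g < oTab.m) (i : Fin 336),
      (f ⟨wg g, Subgroup.subset_closure ⟨g, hg, rfl⟩⟩ i : ℕ) = oTab.img g i :=
    PTab.exists_hom (T := oTab) (s := wg) fo hfo hso
  have hchain : oTab.chainOK HeCentData.chain [] = true := by decide +kernel
  have hsize : PTab.chainSize HeCentData.chain = 21504 := by decide +kernel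
  let a₀ : ℕ → A := fun g => if h : g < oTab.m then ⟨wg g, Subgroup.subset_closure ⟨g, h, rfl⟩⟩ else 1
  have hφ' : ∀ g, g < oTab.m → ∀ i : Fin 336, (φ (a₀ g) i : ℕ) = oTab.img g i := by
    intro g hg i; simp only [a₀, dif_pos hg]; exact hφ g hg i
  have hrA : 21504 ≤ Nat.card φ.range := by
    have h := PTab.prod_le_card_range (T := oTab) φ hφ' hchain
    rwa [hsize] at h
  have hAC : A ≤ C := (Subgroup.closure_le _).2 (by rintro _ ⟨g, hg, rfl⟩; exact hwC g hg)
  -- the matrices
  let fm : Matrix.SpecialLinearGroup (Fin 5) (ZMod 2) → Option (Fin oTab.N) :=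
    fun M => if M ∈ D then optB 336 (pnt (code M.1)) else none
  have fm_pos : ∀ M, M ∈ D → fm M = optB 336 (pnt (code M.1)) := fun M h => if_pos h
  have fm_neg : ∀ M, M ∉ D → fm M = none := fun M h => if_neg h
  have hmul : ∀ g, g < 3 → ∀ M ∈ D, code (cgen g * M).1 = cstep g (code M.1) := by
    intro g hg M hM
    show code ((cgen g : Matrix (Fin 5) (Fin 5) (ZMod 2)) * M.1) = _
    rw [cgen_val hg]
    exact code_mul (shape_of_mem s hs hM) hg
  have hsm : ∀ g, g < oTab.m → ∀ M, (fm (cgen g • M)).map Fin.val = (fm M).map fun i => oTab.img g i := by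
    intro g hg M
    show (fm (cgen g * M)).map Fin.val = _
    by_cases hM : M ∈ D
    · have hM' : cgen g * M ∈ D := D.mul_mem (cgen_mem s hs hg) hM
      rw [fm_pos _ hM, fm_pos _ hM', hmul g hg M hM]
      have h' := table_step g (code M.1) hg (code_lt _)
      by_cases hv : pnt (code M.1) = 0
      · rw [hv] at h' ⊢
        simp only [Nat.beq_eq, cond_true, show Nat.beq 0 0 = true from rfl] at h'
        rw [h']
        rfl
      · rw [show Nat.beq (pnt (code M.1)) 0 = false from Bool.eq_false_iff.2 fun hb => hv (Nat.eq_of_beq_eq_true hb)] at h'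
        simp only [cond_false, Bool.and_eq_true, Nat.ble_eq, Nat.beq_eq, Nat.blt_eq] at h'
        obtain ⟨⟨hle, heq⟩, hlt⟩ := h'
        rw [heq]
        simp only [optB]
        rw [dif_pos ⟨by omega, by omega⟩, dif_pos ⟨by omega, by omega⟩]
        simp only [Nat.add_sub_cancel]
        exact Eq.refl (some (oTab.img g (pnt (code M.1) - 1)))
    · have hM' : cgen g * M ∉ D := fun h => hM (by
        have := D.mul_mem (D.inv_mem (cgen_mem s hs hg)) h
        rwa [inv_mul_cancel_left] at this)
      rw [fm_neg _ hM, fm_neg _ hM']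
      rfl
  have hone : code (1 : Matrix.SpecialLinearGroup (Fin 5) (ZMod 2)).1 = 33824 := by
    show code 1 = 33824
    decide +kernel
  have hfm : ∀ i, ∃ M, fm M = some i := by
    intro i
    have h := List.all_eq_true.mp rep_check i.1 (List.mem_range.mpr i.2)
    simp only [Bool.and_eq_true, List.all_eq_true, Nat.blt_eq, Nat.beq_eq] at h
    have hw : ∀ (w : List ℕ), (∀ g ∈ w, g < 3) → ∀ M ∈ D, wval cgen w * M ∈ D ∧
        code (wval cgen w * M).1 = w.foldl (fun c g => cstep g c) (code M.1) := by
      intro w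
      induction w with
      | nil => intro _ M hM; simp [wval, hM]
      | cons g w ih =>
        intro hlt M hM
        have hg := hlt g List.mem_cons_self
        have := ih (fun x hx => hlt x (List.mem_cons_of_mem _ hx)) _ (D.mul_mem (cgen_mem s hs hg) hM)
        rw [← mul_assoc] at this
        simp only [wval, List.foldl_cons, ← hmul g hg M hM]
        exact this
    obtain ⟨h1, h2⟩ := hw _ h.1 1 D.one_mem
    rw [hone, mul_one] at h2
    rw [mul_one] at h1
    refine ⟨wval cgen (repWords.getD i.1 []), ?_⟩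
    rw [fm_pos _ h1, h2, h.2]
    simp only [optB]
    rw [dif_pos ⟨by omega, show i.1 + 1 ≤ 336 from i.2⟩]
    rfl
  set B := Subgroup.closure (cgen '' {g | g < oTab.m})
  obtain ⟨ψ, hψ⟩ : ∃ f : B →* Equiv.Perm (Fin 336), ∀ g (hg : g < oTab.m) (i : Fin 336),
      (f ⟨cgen g, Subgroup.subset_closure ⟨g, hg, rfl⟩⟩ i : ℕ) = oTab.img g i :=
    PTab.exists_hom (T := oTab) (s := cgen) fm hfm hsm
  let b₀ : ℕ → B := fun g => if h : g < oTab.m then ⟨cgen g, Subgroup.subset_closure ⟨g, h, rfl⟩⟩ else 1
  have hψ' : ∀ g, g < oTab.m → ∀ i : Fin 336, (ψ (b₀ g) i : ℕ) = oTab.img g i := by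
    intro g hg i; simp only [b₀, dif_pos hg]; exact hψ g hg i
  have hrB : 21504 ≤ Nat.card ψ.range := by
    have h := PTab.prod_le_card_range (T := oTab) ψ hψ' hchain
    rwa [hsize] at h
  have hBD : B ≤ D := (Subgroup.closure_le _).2 (by rintro _ ⟨g, hg, rfl⟩; exact cgen_mem s hs hg)
  -- equal ranges
  have hrange : φ.range = ψ.range := by
    have hA : Subgroup.closure (a₀ '' {g | g < oTab.m}) = ⊤ := by
      apply Subgroup.map_injective A.subtype_injective
      rw [MonoidHom.map_closure, ← MonoidHom.range_eq_map, Subgroup.range_subtype, ← Set.image_comp]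
      refine congrArg Subgroup.closure (Set.image_congr fun g hg => ?_)
      simp only [Function.comp, Subgroup.coe_subtype, a₀, dif_pos (show g < oTab.m from hg)]
    have hB : Subgroup.closure (b₀ '' {g | g < oTab.m}) = ⊤ := by
      apply Subgroup.map_injective B.subtype_injective
      rw [MonoidHom.map_closure, ← MonoidHom.range_eq_map, Subgroup.range_subtype, ← Set.image_comp]
      refine congrArg Subgroup.closure (Set.image_congr fun g hg => ?_)
      simp only [Function.comp, Subgroup.coe_subtype, b₀, dif_pos (show g < oTab.m from hg)]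
    rw [MonoidHom.range_eq_map, ← hA, MonoidHom.range_eq_map, ← hB, MonoidHom.map_closure, MonoidHom.map_closure,
      ← Set.image_comp, ← Set.image_comp]
    refine congrArg Subgroup.closure (Set.image_congr fun g hg => Equiv.ext fun i => Fin.ext ?_)
    exact (hφ' g hg i).trans (hψ' g hg i).symm
  have hA1 : Nat.card φ.range ≤ Nat.card A := Nat.card_le_card_of_surjective _ φ.rangeRestrict_surjective
  have hA2 : Nat.card A ≤ Nat.card C := Subgroup.card_le_of_le hAC
  have hA3 : Nat.card C ≤ 21504 := centralizer_le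
  have hB1 : Nat.card ψ.range ≤ Nat.card B := Nat.card_le_card_of_surjective _ ψ.rangeRestrict_surjective
  have hB2 : Nat.card B ≤ Nat.card D := Subgroup.card_le_of_le hBD
  have hB3 : Nat.card D ≤ 21504 := card_le_sl s hs
  have hAeq : A = C := Subgroup.eq_of_le_of_card_ge hAC (by omega)
  have hBeq : B = D := Subgroup.eq_of_le_of_card_ge hBD (by omega)
  have eA : Function.Bijective φ.rangeRestrict :=
    (Nat.bijective_iff_surjective_and_card _).2 ⟨φ.rangeRestrict_surjective, by omega⟩
  have eB : Function.Bijective ψ.rangeRestrict :=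
    (Nat.bijective_iff_surjective_and_card _).2 ⟨ψ.rangeRestrict_surjective, by omega⟩
  exact ⟨(MulEquiv.subgroupCongr hAeq).symm.trans <| (MulEquiv.ofBijective _ eA).trans <|
    (MulEquiv.subgroupCongr hrange).trans <| (MulEquiv.ofBijective _ eB).symm.trans <|
      MulEquiv.subgroupCongr hBeq⟩

end Cfsg.Agent.Presented.HeCent
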