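import Cfsg.Agent.Lib.Presented.HeOrder
import Cfsg.Agent.Lib.Presented.Data.HeSp4Data
import Cfsg.Agent.Lib.SylL34.L34
import Cfsg.Agent.Lib.Forms.Symp

/-!
# `Sp₄(4)` inside the presented Held group

The point stabiliser permutes a system of 85 blocks in its suborbit of length 425; on them it contains the
permutations induced by `Sp₄(4)` on the points of projective 3-space.
-/

set_option autoImplicit false
set_option linter.style.haveILetI false

namespace Cfsg.Agent.Presented.HeSp4

open Cfsg.Spor Cfsg.Agent.Presented HeIndex HeSp4Data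
open Cfsg.Agent.SylL34 (F4)

/-- Option-valued reading of a code. -/
def optB (N b : ℕ) : Option (Fin N) :=
  if h : 0 < b ∧ b ≤ N then some ⟨b - 1, by omega⟩ else none

/-- A coded element of the field. -/
def toF (c : ℕ) : F4 := ⟨Nat.beq (c % 2) 1, Nat.beq (c / 2 % 2) 1⟩

/-- The code of a field element. -/
def ofF (a : F4) : ℕ := (bif a.l then 1 else 0) + (bif a.h then 2 else 0)

/-- The code of a vector. -/
def code (v : Fin 2 ⊕ Fin 2 → F4) : ℕ :=
  ofF (v (.inl 0)) + 4 * ofF (v (.inl 1)) + 16 * ofF (v (.inr 0)) + 64 * ofF (v (.inr 1))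

/-- The vector with a given code. -/
def vec (c : ℕ) : Fin 2 ⊕ Fin 2 → F4 :=
  Sum.elim ![toF c, toF (c / 4)] ![toF (c / 16), toF (c / 64)]

theorem toF_ofF : ∀ a : F4, toF (ofF a) = a := by decide

theorem ofF_lt : ∀ a : F4, ofF a < 4 := by decide

theorem toF_mod (c : ℕ) : toF c = toF (c % 4) := by
  have h1 : c % 4 % 2 = c % 2 := by omega
  have h2 : c % 4 / 2 % 2 = c / 2 % 2 := by omega
  simp [toF, h1, h2]

theorem vec_code (v : Fin 2 ⊕ Fin 2 → F4) : vec (code v) = v := by
  have h1 := ofF_lt (v (.inl 0)); have h2 := ofF_lt (v (.inl 1))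
  have h3 := ofF_lt (v (.inr 0)); have h4 := ofF_lt (v (.inr 1))
  funext x
  rcases x with i | i <;> fin_cases i <;>
    simp only [vec, code, Sum.elim_inl, Sum.elim_inr] <;>
    simp only [Fin.zero_eta, Fin.mk_one, Matrix.cons_val_zero, Matrix.cons_val_one] <;>
    rw [toF_mod] <;> conv_rhs => rw [← toF_ofF (v _)]
  all_goals congr 1; omega

theorem code_lt (v : Fin 2 ⊕ Fin 2 → F4) : code v < 256 := by
  have h1 := ofF_lt (v (.inl 0)); have h2 := ofF_lt (v (.inl 1))
  have h3 := ofF_lt (v (.inr 0)); have h4 := ofF_lt (v (.inr 1))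
  unfold code
  omega

/-- The position of an index among `0, …, 3`. -/
def pos : Fin 2 ⊕ Fin 2 → ℕ := Sum.elim (fun i => i.val) (fun i => i.val + 2)

/-- The `k`-th listed matrix. -/
def smat (k : ℕ) : Matrix (Fin 2 ⊕ Fin 2) (Fin 2 ⊕ Fin 2) F4 :=
  Matrix.of fun i j => toF (((mats.getD k []).getD (pos i) []).getD (pos j) 0)

theorem smat_mem : ∀ k : Fin 4, smat k ∈ Matrix.symplecticGroup (Fin 2) F4 := by
  intro k
  rw [SymplecticGroup.mem_iff]
  revert k
  decide +kernel

/-- The listed matrices as symplectic group elements. -/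
def sgen (k : ℕ) : Matrix.symplecticGroup (Fin 2) F4 :=
  if h : k < 4 then ⟨smat k, smat_mem ⟨k, h⟩⟩ else 1

/-- The action on vectors. -/
@[instance_reducible] def vecAct :
    MulAction (Matrix.symplecticGroup (Fin 2) F4) (Fin 2 ⊕ Fin 2 → F4) where
  smul A v := (A : Matrix _ _ F4).mulVec v
  one_smul v := Matrix.one_mulVec v
  mul_smul A B v := (Matrix.mulVec_mulVec v _ _).symm

theorem vblk_check : ∀ k : Fin 4, ∀ c : Fin 256,
    (optB 85 (vblk.get 7 (code ((smat k).mulVec (vec c))))).map Fin.val =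
      (optB 85 (vblk.get 7 c)).map fun i => sTab.img k i := by
  decide +kernel

theorem vrep_check : ∀ i : Fin 85, optB 85 (vblk.get 7 (code (vec (vrep.getD i 0)))) = some i := by
  decide +kernel

theorem hblk_check : (checkBelow (fun i => (List.range 7).all fun j =>
    decide ((optB 85 (hblk.get 7 (HeC2058.cert.path
        (([[0], [2], [3], [4], [5], [1, 0, 1, 0],
          [4, 3, 2, 1, 4, 3, 2, 1, 4, 3, 2, 1, 4, 3, 2, 1, 4, 3, 2, 1, 4, 3, 2, 1, 4, 3, 2, 1]] :
          List (List ℕ)).getD j []) i))).map Fin.val =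
      (optB 85 (hblk.get 7 i)).map fun b => hTab.img j b))
    HeC2058.cert.depth HeC2058.cert.N) = true := by decide +kernel

theorem hrep_check : ∀ i : Fin 85, hrep.getD i 0 < HeC2058.cert.N ∧
    optB 85 (hblk.get 7 (hrep.getD i 0)) = some i := by
  decide +kernel

theorem word_check : ∀ k : Fin 4, (∀ g ∈ words.getD k [], g < 7) ∧
    ∀ i : Fin 85, hTab.path (words.getD k []) i = sTab.img k i := by
  decide +kernel

theorem hChain_ok : hTab.chainOK hChain [] = true := by decide +kernel

theorem sChain_ok : sTab.chainOK sChain [] = true := by decide +kernel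

/-- The generating words of the point stabiliser. -/
def kWords : List (List ℕ) := [[0], [2], [3], [4], [5], [1, 0, 1, 0],
  [4, 3, 2, 1, 4, 3, 2, 1, 4, 3, 2, 1, 4, 3, 2, 1, 4, 3, 2, 1, 4, 3, 2, 1, 4, 3, 2, 1]]

/-- Their values. -/
def kgen (j : ℕ) : He := wval gen (kWords.getD j [])

theorem hSub_eq : hSub = Subgroup.closure (kgen '' {j | j < hTab.m}) := by
  rw [hSub_eq_closure]
  congr 1
  ext x
  constructor
  · rintro ⟨k, hk, rfl⟩
    obtain ⟨j, hj, rfl⟩ := List.getElem_of_mem hk
    exact ⟨j, hj, congrArg (wval gen) (List.getD_eq_getElem kWords [] hj)⟩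
  · rintro ⟨j, hj, rfl⟩
    have hj' : j < kWords.length := hj
    exact ⟨_, List.getElem_mem hj', congrArg (wval gen) (List.getD_eq_getElem kWords [] hj')⟩

theorem exists_iso : ∃ N : Subgroup hSub, N.Normal ∧ N.index = 2 ∧
    Nonempty (N ≃* Matrix.symplecticGroup (Fin 2) F4) := by
  haveI : Finite He := HeOrder.card_le.1
  obtain ⟨e, -, he⟩ := exists_table
  -- the stabiliser on blocks
  let fH : He ⧸ hSub → Option (Fin hTab.N) := fun x => optB 85 (hblk.get 7 (e.symm x))
  have hfH : ∀ i, ∃ x, fH x = some i := fun i => by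
    obtain ⟨h1, h2⟩ := hrep_check i
    exact ⟨e ⟨_, h1⟩, by simp only [fH, Equiv.symm_apply_apply]; exact h2⟩
  have hsH : ∀ g, g < hTab.m → ∀ x, (fH (kgen g • x)).map Fin.val = (fH x).map fun i => hTab.img g i := by
    intro g hg x
    obtain ⟨i, rfl⟩ := e.surjective x
    have hlt : ∀ a ∈ kWords.getD g [], a < HeC2058.cert.m := by
      have hall : (List.range 7).all (fun j => (kWords.getD j []).all fun a => Nat.blt a 7) = true := by
        decide +kernel
      intro a ha
      have := List.all_eq_true.mp (List.all_eq_true.mp hall g (List.mem_range.mpr hg)) a ha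
      exact Nat.le_of_ble_eq_true this
    rw [show kgen g • e i = _ from CosetCert.smul_path HeC2058.cert_edgesOK HeC2058.cert_nodesOK e he _ hlt i]
    simp only [fH, Equiv.symm_apply_apply]
    exact of_decide_eq_true
      (List.all_eq_true.mp (checkBelow_spec hblk_check i.1 i.2) g (List.mem_range.mpr hg))
  obtain ⟨φ₀, hφ₀⟩ := PTab.exists_hom (T := hTab) (s := kgen) fH hfH hsH
  let φ : hSub →* Equiv.Perm (Fin 85) :=
    φ₀.comp (MulEquiv.subgroupCongr hSub_eq).toMonoidHom
  let hgen : ℕ → hSub := fun j => if h : j < hTab.m then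
    ⟨kgen j, hSub_eq ▸ Subgroup.subset_closure ⟨j, h, rfl⟩⟩ else 1
  have hφ : ∀ g, g < hTab.m → ∀ i : Fin 85, (φ (hgen g) i : ℕ) = hTab.img g i := by
    intro g hg i
    simp only [φ, hgen, dif_pos hg, MonoidHom.comp_apply]
    exact hφ₀ g hg i
  have hcH : Nat.card hSub = 1958400 := HeOrder.card_hSub
  have hrangeH : 1958400 ≤ Nat.card φ.range := by
    have h := PTab.prod_le_card_range (T := hTab) φ hφ hChain_ok
    rwa [show PTab.chainSize hChain = 1958400 by decide +kernel] at h
  have hφinj : Function.Injective φ := by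
    have h1 : Nat.card φ.range = Nat.card hSub :=
      le_antisymm (Nat.card_le_card_of_surjective _ φ.rangeRestrict_surjective) (hcH ▸ hrangeH)
    have := (Nat.bijective_iff_surjective_and_card φ.rangeRestrict).2 ⟨φ.rangeRestrict_surjective, h1.symm⟩
    exact fun a b h => this.1 (Subtype.ext h)
  -- the symplectic group on points
  let fS : (Fin 2 ⊕ Fin 2 → F4) → Option (Fin sTab.N) := fun v => optB 85 (vblk.get 7 (code v))
  letI := vecAct
  have hfS : ∀ i, ∃ x, fS x = some i := fun i => ⟨_, vrep_check i⟩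
  have hsS : ∀ g, g < sTab.m → ∀ x, (fS (sgen g • x)).map Fin.val = (fS x).map fun i => sTab.img g i := by
    intro g hg x
    have hg' : g < 4 := hg
    have h := vblk_check ⟨g, hg'⟩ ⟨code x, code_lt x⟩
    rw [vec_code] at h
    show (fS ((sgen g : Matrix _ _ F4).mulVec x)).map Fin.val = _
    rw [sgen, dif_pos hg']
    exact h
  set S₀ := Subgroup.closure (sgen '' {g | g < sTab.m}) with hS₀
  obtain ⟨ψ, hψ⟩ : ∃ ψ : S₀ →* Equiv.Perm (Fin 85), ∀ g (hg : g < sTab.m) (i : Fin 85),
      (ψ ⟨sgen g, Subgroup.subset_closure ⟨g, hg, rfl⟩⟩ i : ℕ) = sTab.img g i :=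
    PTab.exists_hom (T := sTab) (s := sgen) fS hfS hsS
  let s₀ : ℕ → S₀ := fun g => if h : g < sTab.m then ⟨sgen g, Subgroup.subset_closure ⟨g, h, rfl⟩⟩ else 1
  have hψ' : ∀ g, g < sTab.m → ∀ i : Fin 85, (ψ (s₀ g) i : ℕ) = sTab.img g i := by
    intro g hg i
    simp only [s₀, dif_pos hg]
    exact hψ g hg i
  have hsp : Nat.card (Matrix.symplecticGroup (Fin 2) F4) = 979200 := by
    rw [Forms.card_symplecticGroup, SylL34.card_F4]
    rfl
  have hrangeS : 979200 ≤ Nat.card ψ.range := by
    have h := PTab.prod_le_card_range (T := sTab) ψ hψ' sChain_ok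
    rwa [show PTab.chainSize sChain = 979200 by decide +kernel] at h
  have hS₀le : Nat.card S₀ ≤ 979200 := hsp ▸ Nat.card_le_card_of_injective _ S₀.subtype_injective
  have hψle : Nat.card ψ.range ≤ Nat.card S₀ :=
    Nat.card_le_card_of_surjective _ ψ.rangeRestrict_surjective
  have hS₀top : S₀ = ⊤ := Subgroup.eq_top_of_card_eq _ (by omega)
  have hψinj : Function.Injective ψ := by
    have := (Nat.bijective_iff_surjective_and_card ψ.rangeRestrict).2
      ⟨ψ.rangeRestrict_surjective, by omega⟩
    exact fun a b h => this.1 (Subtype.ext h)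
  -- the image of the symplectic group lies in the image of the stabiliser
  have hle : ψ.range ≤ φ.range := by
    have hgen₀ : Subgroup.closure (s₀ '' {g | g < sTab.m}) = ⊤ := by
      apply Subgroup.map_injective S₀.subtype_injective
      rw [MonoidHom.map_closure, ← MonoidHom.range_eq_map, Subgroup.range_subtype, ← Set.image_comp]
      refine (congrArg Subgroup.closure (Set.image_congr fun g hg => ?_)).trans hS₀.symm
      simp only [Function.comp, Subgroup.coe_subtype, s₀, dif_pos (show g < sTab.m from hg)]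
    rw [MonoidHom.range_eq_map, ← hgen₀, MonoidHom.map_closure]
    refine (Subgroup.closure_le φ.range).2 ?_
    rintro _ ⟨_, ⟨g, hg, rfl⟩, rfl⟩
    have hg' : g < 4 := hg
    obtain ⟨hlt, hw⟩ := word_check ⟨g, hg'⟩
    refine ⟨wval hgen (words.getD g []), Equiv.ext fun i => Fin.ext ?_⟩
    exact ((PTab.apply_wval (T := hTab) φ hφ _ hlt i).trans (hw i)).trans (hψ' g hg i).symm
  -- the subgroup
  let N : Subgroup hSub := ψ.range.comap φ
  have hmap : N.map φ = ψ.range := Subgroup.map_comap_eq_self hle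
  have hN : Nat.card N = 979200 := by
    rw [← Subgroup.card_map_of_injective hφinj, hmap]
    omega
  have hidx : N.index = 2 := by
    have h := N.card_mul_index
    rw [hN, hcH] at h
    omega
  refine ⟨N, Subgroup.normal_of_index_eq_two hidx, hidx, ⟨?_⟩⟩
  exact (N.equivMapOfInjective φ hφinj).trans <| (MulEquiv.subgroupCongr hmap).trans <|
    (MonoidHom.ofInjective hψinj).symm.trans <|
      (MulEquiv.subgroupCongr hS₀top).trans Subgroup.topEquiv

end Cfsg.Agent.Presented.HeSp4
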