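import Cfsg.Agent.Lib.Presented.Data.HeMultData
import Cfsg.Agent.Lib.Presented.HeSp4
import Cfsg.Agent.Lib.Presented.Rigid
import Cfsg.Agent.Lib.Schur.Stem
import Cfsg.Agent.S2092

/-!
# The Schur multiplier of the presented group He is trivial

In a stem extension the derived group of the preimage of the point stabiliser `S₄(4):2` meets the kernel
trivially, as `S₄(4)` has trivial multiplier.  The linear certificate on the 2058 cosets then gives lifts of
the generators that satisfy every relator.
-/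

set_option autoImplicit false
set_option maxRecDepth 20000

namespace Cfsg.Agent.Presented.HeMult

open Cfsg.Spor Cfsg.Agent.Presented HeIndex
open Cfsg.Agent.SylL34 (F4)
open scoped commutatorElement

/-- The symplectic group of degree 4 over the field of four elements. -/
abbrev Sp : Type := Matrix.symplecticGroup (Fin 2) F4

theorem sp_perfect : commutator Sp = ⊤ :=
  ClassicalSimple.symplectic_commutator_eq_top (F := F4) (Or.inr (Or.inr (le_of_eq SylL34.card_F4.symm)))

theorem sp_center : Subgroup.center Sp = ⊥ := by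
  obtain ⟨e⟩ := S2092.exists_equiv_center (F := F4) 2 (by norm_num)
  haveI : Subsingleton (rootsOfUnity 2 F4) := ⟨fun a b => by
    have h : ∀ x : F4, x * x = 1 → x = 1 := by decide
    have hh : ∀ c : rootsOfUnity 2 F4, ((c : F4ˣ) : F4) = 1 := fun c => h _ (by
      rw [← Units.val_mul, ← pow_two, (mem_rootsOfUnity _ _).1 c.2, Units.val_one])
    exact Subtype.ext (Units.ext ((hh a).trans (hh b).symm))⟩
  haveI : Subsingleton (Subgroup.center Sp) := e.symm.toEquiv.subsingleton
  exact Subgroup.eq_bot_of_subsingleton _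

theorem sp_stem {K : Type} [Group K] [Finite K] (f : K →* Sp) (hf : Cfsg.IsStemExtension f) : f.ker = ⊥ := by
  have hM := (S2092.result (F := F4) SylL34.card_F4 2 le_rfl (fun _ => by norm_num) (by norm_num)).2
  rw [show Nat.gcd 2 (4 - 1) = 1 by decide] at hM
  let j : Sp →* Cfsg.PSp 2 F4 := QuotientGroup.mk' _
  have hj : Function.Injective j := by
    rw [← MonoidHom.ker_eq_bot_iff, QuotientGroup.ker_mk', sp_center]
  have hker : (j.comp f).ker = f.ker := by
    ext x
    simp only [MonoidHom.mem_ker, MonoidHom.comp_apply, map_eq_one_iff j hj]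
  have hst : Cfsg.IsStemExtension (j.comp f) :=
    ⟨(QuotientGroup.mk'_surjective _).comp hf.1, hker ▸ hf.2.1, hker ▸ hf.2.2⟩
  obtain ⟨π, hπ⟩ := hM K (j.comp f) hst
  rw [← hker, eq_bot_iff]
  intro x hx
  obtain ⟨a, ha⟩ := hπ ⟨x, hx⟩
  rw [Subsingleton.elim a 1, map_one] at ha
  exact Subgroup.mem_bot.2 (congrArg Subtype.val ha).symm

theorem perfect_he : commutator He = ⊤ := by
  haveI := HeOrder.simple_he
  rcases (inferInstance : (commutator He).Normal).eq_bot_or_eq_top with h | h
  · exfalso
    haveI : Finite He := HeOrder.card_le.1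
    letI : CommGroup He := { (inferInstance : Group He) with
      mul_comm := fun a b => by
        have hab : ⁅a, b⁆ = (1 : He) := by
          rw [← Subgroup.mem_bot, ← h, commutator_def]
          exact Subgroup.commutator_mem_commutator (Subgroup.mem_top a) (Subgroup.mem_top b)
        exact commutatorElement_eq_one_iff_mul_comm.mp hab }
    have hp : (Nat.card He).Prime := IsSimpleGroup.prime_card
    rw [HeOrder.card_he] at hp
    rcases hp.eq_one_or_self_of_dvd 2 (by norm_num) with h2 | h2 <;> omega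
  · exact h

section

variable {Γ : Type} [Group Γ] [Finite Γ] (σ : Γ →* He)

/-- The derived group of the preimage of the point stabiliser meets the kernel trivially. -/
theorem comm_inf_ker (hsurj : Function.Surjective σ) (hc : σ.ker ≤ Subgroup.center Γ) :
    ∀ x ∈ ⁅hSub.comap σ, hSub.comap σ⁆, σ x = 1 → x = 1 := by
  obtain ⟨N, hNn, hNi, ⟨eN⟩⟩ := HeSp4.exists_iso
  let N' : Subgroup He := N.map hSub.subtype
  let P := hSub.comap σ
  let P₀ := N'.comap σ
  let D := ⁅P₀, P₀⁆
  have hP₀ : P₀ ≤ P := by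
    intro x hx
    obtain ⟨y, -, hy⟩ := hx
    show σ x ∈ hSub
    rw [← hy]; exact y.2
  have hzero : ∀ x, σ x = 1 → x ∈ P₀ := fun x hx => by
    show σ x ∈ N'; rw [hx]; exact one_mem _
  have hN' : ⁅N', N'⁆ = N' := by
    rw [← Subgroup.map_commutator]
    congr 1
    apply le_antisymm (Subgroup.commutator_le_self N)
    have htop : commutator N = ⊤ := by
      have h := congrArg (Subgroup.map eN.symm.toMonoidHom) sp_perfect
      rw [commutator_def, Subgroup.map_commutator,
        Subgroup.map_top_of_surjective eN.symm.toMonoidHom eN.symm.surjective] at h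
      rwa [commutator_def]
    have h := congrArg (Subgroup.map N.subtype) htop
    rw [commutator_def, Subgroup.map_commutator, ← MonoidHom.range_eq_map, Subgroup.range_subtype] at h
    exact h.ge
  have hDmap : D.map σ = N' := by
    rw [Subgroup.map_commutator, Subgroup.map_comap_eq_self_of_surjective hsurj, hN']
  have hDle : D ≤ P₀ := Subgroup.commutator_le_self P₀
  -- every element of `P₀` is one of `D` times a kernel element
  have hsplit : ∀ x ∈ P₀, ∃ d ∈ D, ∃ z, σ z = 1 ∧ x = d * z := by
    intro x hx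
    have : σ x ∈ D.map σ := by rw [hDmap]; exact hx
    obtain ⟨d, hd, hdx⟩ := this
    exact ⟨d, hd, d⁻¹ * x, by rw [map_mul, map_inv, hdx, inv_mul_cancel], by rw [mul_inv_cancel_left]⟩
  have hz : ∀ z, σ z = 1 → ∀ x, Commute z x := fun z hz x => (Subgroup.mem_center_iff.mp (hc hz) x).symm
  have hDD : D ≤ ⁅D, D⁆ := by
    rw [Subgroup.commutator_le]
    intro a ha b hb
    obtain ⟨d, hd, z, hz1, rfl⟩ := hsplit a ha
    obtain ⟨d', hd', z', hz1', rfl⟩ := hsplit b hb
    have e : ⁅d * z, d' * z'⁆ = ⁅d, d'⁆ := by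
      simp only [commutatorElement_def, mul_inv_rev]
      calc d * z * (d' * z') * (z⁻¹ * d⁻¹) * (z'⁻¹ * d'⁻¹)
          = d * (z * (d' * z')) * z⁻¹ * d⁻¹ * (z'⁻¹ * d'⁻¹) := by group
        _ = d * d' * (z' * d⁻¹) * z'⁻¹ * d'⁻¹ := by rw [(hz z hz1 _).eq]; group
        _ = d * d' * d⁻¹ * d'⁻¹ := by rw [(hz z' hz1' _).eq]; group
    rw [e]
    exact Subgroup.commutator_mem_commutator hd hd'
  -- the derived group of `P₀` is a stem extension of `N`
  let f : D →* N' := (σ.comp D.subtype).codRestrict N' fun d => hDmap ▸ Subgroup.mem_map_of_mem σ d.2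
  let g : N' →* Sp := eN.toMonoidHom.comp (N.equivMapOfInjective _ hSub.subtype_injective).symm.toMonoidHom
  have hg : Function.Bijective g :=
    eN.bijective.comp (N.equivMapOfInjective _ hSub.subtype_injective).symm.bijective
  have hfk : ∀ d : D, (g.comp f) d = 1 ↔ σ d = 1 := fun d => by
    rw [MonoidHom.comp_apply, map_eq_one_iff g hg.1, Subtype.ext_iff]; rfl
  have hstem : Cfsg.IsStemExtension (g.comp f) := by
    refine ⟨hg.2.comp ?_, ?_, ?_⟩
    · intro y
      have : (y : He) ∈ D.map σ := by rw [hDmap]; exact y.2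
      obtain ⟨d, hd, hdy⟩ := this
      exact ⟨⟨d, hd⟩, Subtype.ext hdy⟩
    · intro d hd
      rw [Subgroup.mem_center_iff]
      intro x
      exact Subtype.ext (hz d ((hfk d).1 hd) x).symm.eq
    · intro d _
      have h : (d : Γ) ∈ (commutator D).map D.subtype := by
        rw [commutator_def, Subgroup.map_commutator, ← MonoidHom.range_eq_map, Subgroup.range_subtype]
        exact hDD d.2
      obtain ⟨d', hd', he⟩ := h
      rwa [← Subtype.ext he]
  have hbot := sp_stem (g.comp f) hstem
  -- the quotient of `P` by `D` is abelian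
  have hPD : ⁅P, P⁆ ≤ D := by
    have hPn : ∀ p ∈ P, ∀ x ∈ P₀, p * x * p⁻¹ ∈ P₀ := by
      intro p hp x hx
      obtain ⟨y, hy, hye⟩ := hx
      show σ (p * x * p⁻¹) ∈ N'
      refine ⟨⟨σ p, hp⟩ * y * ⟨σ p, hp⟩⁻¹, hNn.conj_mem y hy _, ?_⟩
      simp only [map_mul, map_inv, ← hye]; rfl
    have hDn : ∀ p ∈ P, ∀ d ∈ D, p * d * p⁻¹ ∈ D := by
      intro p hp d hd
      have : D.map (MulAut.conj p).toMonoidHom ≤ D := by
        rw [Subgroup.map_commutator]
        exact Subgroup.commutator_mono
          (fun x ⟨a, ha, hax⟩ => hax ▸ hPn p hp a ha) (fun x ⟨a, ha, hax⟩ => hax ▸ hPn p hp a ha)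
      exact this ⟨d, hd, rfl⟩
    -- an element outside `P₀`
    obtain ⟨t, ht⟩ : ∃ t : hSub, t ∉ N := by
      by_contra h
      simp only [not_exists, not_not] at h
      have : N = ⊤ := eq_top_iff.2 fun x _ => h x
      rw [this, Subgroup.index_top] at hNi
      omega
    obtain ⟨T, hT⟩ := hsurj (t : He)
    have hmemP₀ : ∀ p (hp : p ∈ P), (⟨σ p, hp⟩ : hSub) ∈ N → p ∈ P₀ := fun p hp h => ⟨_, h, rfl⟩
    have hTP : T ∈ P := by show σ T ∈ hSub; rw [hT]; exact t.2
    let Q : Subgroup Γ := D
    have key : ∀ p ∈ P, ∃ d ∈ D, ∃ z, σ z = 1 ∧ (p = d * z ∨ p = d * z * T) := by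
      intro p hp
      by_cases hpN : (⟨σ p, hp⟩ : hSub) ∈ N
      · obtain ⟨d, hd, z, hz1, e⟩ := hsplit p (hmemP₀ p hp hpN)
        exact ⟨d, hd, z, hz1, Or.inl e⟩
      · have hq : p * T⁻¹ ∈ P := mul_mem hp (inv_mem hTP)
        have hqN : (⟨σ (p * T⁻¹), hq⟩ : hSub) ∈ N := by
          have : (⟨σ (p * T⁻¹), hq⟩ : hSub) = ⟨σ p, hp⟩ * t⁻¹ := Subtype.ext (by
            show σ (p * T⁻¹) = σ p * (t : He)⁻¹
            rw [map_mul, map_inv, hT])
          rw [this, Subgroup.mul_mem_iff_of_index_two hNi, N.inv_mem_iff]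
          exact ⟨fun h => absurd h hpN, fun h => absurd h ht⟩
        obtain ⟨d, hd, z, hz1, e⟩ := hsplit _ (hmemP₀ _ hq hqN)
        exact ⟨d, hd, z, hz1, Or.inr (by rw [← e, inv_mul_cancel_right])⟩
    haveI : (D.subgroupOf P).Normal := ⟨fun d hd p => hDn p p.2 d hd⟩
    rw [Subgroup.commutator_le]
    intro a ha b hb
    let π := QuotientGroup.mk' (D.subgroupOf P)
    have himg : ∀ p : P, ∃ z : P, (∀ w : P, Commute z w) ∧ (π p = π z ∨ π p = π (z * ⟨T, hTP⟩)) := by
      intro p
      obtain ⟨d, hd, z, hz1, h⟩ := key p p.2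
      refine ⟨⟨z, hP₀ (hzero z hz1)⟩, fun w => Subtype.ext (hz z hz1 w), ?_⟩
      have hdP : d ∈ P := hP₀ (hDle hd)
      have hd1 : π ⟨d, hdP⟩ = 1 := (QuotientGroup.eq_one_iff _).2 hd
      rcases h with h | h
      · left
        rw [show p = ⟨d, hdP⟩ * ⟨z, hP₀ (hzero z hz1)⟩ from Subtype.ext h, map_mul, hd1, one_mul]
      · right
        rw [show p = ⟨d, hdP⟩ * (⟨z, hP₀ (hzero z hz1)⟩ * ⟨T, hTP⟩) from Subtype.ext (h.trans (mul_assoc _ _ _)),
          map_mul π ⟨d, hdP⟩, hd1, one_mul]
    have hcomm : π (⁅(⟨a, ha⟩ : P), ⟨b, hb⟩⁆) = 1 := by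
      rw [map_commutatorElement, commutatorElement_eq_one_iff_mul_comm]
      obtain ⟨za, hza, hpa⟩ := himg ⟨a, ha⟩
      obtain ⟨zb, hzb, hpb⟩ := himg ⟨b, hb⟩
      have c1 : ∀ w : P, Commute (π za) (π w) := fun w => (hza w).map π
      have c2 : ∀ w : P, Commute (π zb) (π w) := fun w => (hzb w).map π
      rcases hpa with h | h <;> rcases hpb with h' | h' <;> rw [h, h']
      · exact c1 _
      · exact c1 _
      · exact (c2 _).symm
      · rw [map_mul, map_mul]
        exact ((c1 zb).mul_right (c1 _)).mul_left ((c2 ⟨T, hTP⟩).symm.mul_right (Commute.refl _))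
    have hmem : (⁅(⟨a, ha⟩ : P), ⟨b, hb⟩⁆ : P) ∈ D.subgroupOf P := (QuotientGroup.eq_one_iff _).1 hcomm
    exact hmem
  intro x hx h1
  have hd : (⟨x, hPD hx⟩ : D) ∈ (g.comp f).ker := (hfk _).2 h1
  rw [hbot, Subgroup.mem_bot] at hd
  exact congrArg Subtype.val hd

end

/-- `w` arises from a listed word by rotation and reversal. -/
def fromBase (base : List (List ℕ)) (w : List ℕ) : Bool :=
  w.isEmpty || base.any fun b => (b.length == w.length) && (List.range b.length).any fun i =>
    (b.drop i ++ b.take i == w) || (b.reverse.drop i ++ b.reverse.take i == w)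

theorem wval_fromBase {Γ : Type*} [Group Γ] {s : ℕ → Γ} (hs : ∀ g, s g * s g = 1) {base : List (List ℕ)}
    (hb : ∀ b ∈ base, wval s b = 1) {w : List ℕ} (h : fromBase base w = true) : wval s w = 1 := by
  have hrot : ∀ (b : List ℕ) (i : ℕ), wval s b = 1 → wval s (b.drop i ++ b.take i) = 1 := by
    intro b i hb'
    rw [← List.take_append_drop i b, wval_append] at hb'
    rw [wval_append]
    exact mul_eq_one_comm.mp hb'
  simp only [fromBase, Bool.or_eq_true, List.isEmpty_iff, List.any_eq_true, Bool.and_eq_true,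
    beq_iff_eq] at h
  rcases h with rfl | ⟨b, hbm, -, i, -, h | h⟩
  · rfl
  · rw [← h]; exact hrot b i (hb b hbm)
  · rw [← h]
    refine hrot _ i ?_
    rw [wval_reverse hs, hb b hbm, inv_one]

/-- The words of the relators in the certificate. -/
def base : List (List ℕ) :=
  (List.range HeMultData.lin.nc).map fun r => HeMultData.lin.cws.getD r []

theorem base_rels (r : ℕ) (hr : r < HeMultData.lin.nc) :
    wval gen (HeMultData.lin.cws.getD r []) = 1 := by
  have h2 : relsOK gens He.edges He.extra (HeC2058.cert.words.take HeC2058.cert.nR) = true := by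
    decide +kernel
  have hall : ((List.range HeMultData.lin.nc).all fun r =>
      (Nat.blt r 7 && (HeMultData.lin.cws.getD r [] == [r, r])) ||
        (HeC2058.cert.words.take HeC2058.cert.nR).contains (HeMultData.lin.cws.getD r [])) = true := by
    decide +kernel
  have h := List.all_eq_true.mp hall r (List.mem_range.mpr hr)
  simp only [Bool.or_eq_true, Bool.and_eq_true, beq_iff_eq, List.contains_eq_mem, decide_eq_true_eq] at h
  rcases h with ⟨-, h⟩ | h
  · rw [h]
    simp only [wval, one_mul]
    exact genFun_mul_self gens_all gens_ok r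
  · exact wval_rels gens_all gens_ok h2 _ h

theorem exists_section {Γ : Type} [Group Γ] [Finite Γ] (σ : Γ →* He) (hsurj : Function.Surjective σ)
    (hc : σ.ker ≤ Subgroup.center Γ) : ∃ φ : He →* Γ, ∀ y, σ (φ y) = y := by
  classical
  obtain ⟨e, he0, he⟩ := exists_table
  haveI : Finite He := HeOrder.card_le.1
  let τ := Abelianization.of (G := hSub.comap σ)
  have hτ : ∀ x : hSub.comap σ, σ x = 1 → τ x = 1 → (x : Γ) = 1 := by
    intro x h1 h2
    refine comm_inf_ker σ hsurj hc x ?_ h1
    have hx : x ∈ commutator (hSub.comap σ) := (QuotientGroup.eq_one_iff x).1 h2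
    have h := Subgroup.mem_map_of_mem (hSub.comap σ).subtype hx
    rwa [commutator_def, Subgroup.map_commutator, ← MonoidHom.range_eq_map, Subgroup.range_subtype] at h
  obtain ⟨X, hX, hrel⟩ := LinCert.exact_lifts (L := HeMultData.lin) σ hsurj hc HeC2058.cert_edgesOK
    HeC2058.cert_nodesOK HeMultData.labelsOK HeMultData.packOK HeMultData.checkSel HeMultData.checkComb
    e he0 he base_rels τ hτ
  let s : ℕ → Γ := fun g => if g < 7 then X g else 1
  have hs : ∀ g, s g * s g = 1 := by
    intro g
    by_cases hg : g < 7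
    · simp only [s, if_pos hg]
      have hw : ((List.range 7).all fun g => HeMultData.lin.cws.getD g [] == [g, g]) = true := by decide +kernel
      have hnc : 7 ≤ HeMultData.lin.nc := by decide +kernel
      have h := hrel g (by omega)
      rw [beq_iff_eq.1 (List.all_eq_true.mp hw g (List.mem_range.mpr hg))] at h
      simpa [wval] using h
    · simp [s, hg]
  have hsw : ∀ w : List ℕ, (∀ g ∈ w, g < 7) → wval s w = wval X w := by
    intro w
    induction w with
    | nil => intro _; rfl
    | cons a w ih =>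
      intro h
      simp only [wval, s, if_pos (h a List.mem_cons_self)]
      rw [← ih fun g hg => h g (List.mem_cons_of_mem _ hg)]
  have hbase : ∀ b ∈ base, wval s b = 1 := by
    intro b hb
    obtain ⟨r, hr, rfl⟩ := List.mem_map.mp hb
    have hlt : ((List.range HeMultData.lin.nc).all fun r =>
        (HeMultData.lin.cws.getD r []).all fun g => Nat.blt g 7) = true := by decide +kernel
    rw [hsw _ fun g hg => by
      have := List.all_eq_true.mp (List.all_eq_true.mp hlt r hr) g hg
      rwa [Nat.blt_eq] at this]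
    exact hrel r (List.mem_range.mp hr)
  have hr' : ∀ r ∈ coxRelators He.edges ∪ {r | r ∈ He.extra},
      FreeGroup.lift (fun x => s (gens.idxOf x)) r = 1 := by
    intro r hr
    rw [lift_eq_wval _ (fun x => hs _) gens_all s (fun _ => rfl)]
    refine wval_fromBase hs hbase ?_
    have hall : (((relList gens He.edges He.extra).map (letters gens)).all fun w => fromBase base w) = true := by
      decide +kernel
    exact List.all_eq_true.mp hall _ (List.mem_map.mpr ⟨r, mem_relList gens_all hr, rfl⟩)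
  refine ⟨PresentedGroup.toGroup hr', fun y => ?_⟩
  have hid : σ.comp (PresentedGroup.toGroup hr') = MonoidHom.id He := by
    refine PresentedGroup.ext fun x => ?_
    have hlt : gens.idxOf x < 7 := List.idxOf_lt_length_of_mem (gens_all x)
    rw [MonoidHom.comp_apply, PresentedGroup.toGroup.of]
    simp only [s, if_pos hlt, hX]
    exact genFun_idxOf gens_all x
  exact DFunLike.congr_fun hid y

/-- The Schur multiplier of He is trivial. -/
theorem multiplier_trivial : Cfsg.HasCyclicSchurMultiplier He 1 := by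
  haveI : Finite He := HeOrder.card_le.1
  refine Schur.hasCyclicSchurMultiplier_one fun Γ _ _ σ hσ => ?_
  obtain ⟨hsurj, hc, hcomm⟩ := hσ
  obtain ⟨φ, hsec⟩ := exists_section σ hsurj hc
  have htop : φ.range = ⊤ := by
    have hperf : commutator Γ = ⊤ := by
      rw [eq_top_iff]
      intro x _
      have hx : σ x ∈ (commutator Γ).map σ := by
        rw [commutator_def, Subgroup.map_commutator, Subgroup.map_top_of_surjective σ hsurj, ← commutator_def,
          perfect_he]
        trivial
      obtain ⟨y, hy, hyx⟩ := hx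
      have h1 : y⁻¹ * x ∈ σ.ker := by rw [MonoidHom.mem_ker, map_mul, map_inv, hyx, inv_mul_cancel]
      simpa using mul_mem hy (hcomm h1)
    rw [eq_top_iff, ← hperf, commutator_def, Subgroup.commutator_le]
    intro a _ b _
    have hz : ∀ a : Γ, ∀ x, Commute (a * (φ (σ a))⁻¹) x := fun a x =>
      (Subgroup.mem_center_iff.mp (hc (by
        rw [MonoidHom.mem_ker, map_mul, map_inv, hsec, mul_inv_cancel])) x).symm
    refine ⟨⁅σ a, σ b⁆, ?_⟩
    rw [map_commutatorElement]
    have ha : a = a * (φ (σ a))⁻¹ * φ (σ a) := by rw [inv_mul_cancel_right]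
    have hb : b = b * (φ (σ b))⁻¹ * φ (σ b) := by rw [inv_mul_cancel_right]
    conv_rhs => rw [ha, hb]
    generalize hA : a * (φ (σ a))⁻¹ = p
    generalize hB : b * (φ (σ b))⁻¹ = q
    have hp : ∀ x, Commute p x := fun x => hA ▸ hz a x
    have hq : ∀ x, Commute q x := fun x => hB ▸ hz b x
    generalize φ (σ a) = u
    generalize φ (σ b) = v
    simp only [commutatorElement_def, mul_inv_rev]
    symm
    calc p * u * (q * v) * (u⁻¹ * p⁻¹) * (v⁻¹ * q⁻¹)
        = p * (u * q) * (v * u⁻¹ * p⁻¹) * (v⁻¹ * q⁻¹) := by group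
      _ = p * (q * (u * v * u⁻¹)) * p⁻¹ * (v⁻¹ * q⁻¹) := by rw [← (hq u).eq]; group
      _ = q * (u * v * u⁻¹) * (v⁻¹ * q⁻¹) := by rw [(hp _).eq, mul_inv_cancel_right]
      _ = q * (u * v * u⁻¹ * v⁻¹) * q⁻¹ := by group
      _ = u * v * u⁻¹ * v⁻¹ := by rw [(hq _).eq, mul_inv_cancel_right]
  rw [eq_bot_iff]
  intro x hx
  obtain ⟨y, rfl⟩ := MonoidHom.range_eq_top.mp htop x
  rw [MonoidHom.mem_ker, hsec] at hx
  rw [hx, map_one]
  exact one_mem _

end Cfsg.Agent.Presented.HeMult
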