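import Cfsg.Agent.Lib.Presented.Data.HeRigidConj0
import Cfsg.Agent.Lib.Presented.Data.HeRigidConj1
import Cfsg.Agent.Lib.Presented.Data.HeRigidConj2
import Cfsg.Agent.Lib.Presented.Data.HeRigidConj3
import Cfsg.Agent.Lib.Presented.HeOrder
import Cfsg.Agent.Lib.Presented.Data.HeRigidXChecks
import Cfsg.Agent.Lib.Presented.Data.HeRigidYChecks
import Cfsg.Agent.Lib.Presented.Data.HeRigidSol0
import Cfsg.Agent.Lib.Presented.Data.HeRigidSol1
import Cfsg.Agent.Lib.Presented.Data.HeRigidSol2
import Cfsg.Agent.Lib.Presented.Data.HeRigidSol3
import Cfsg.Agent.Lib.Presented.Data.HeRigidCand1_0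
import Cfsg.Agent.Lib.Presented.Data.HeRigidCand3_0

/-!
# The outer automorphism group of the presented group He has order two
-/

set_option autoImplicit false
set_option maxRecDepth 20000

namespace Cfsg.Agent.Presented.HeRigid

open Cfsg.Spor Cfsg.Agent.Presented HeIndex

theorem bs_lt : ∀ p ∈ data.bs, p < HeC2058.cert.N := by decide +kernel

theorem x_images : imagesOK HeC2058.cert xWord XChain = true := by decide +kernel

theorem y_images : imagesOK HeC2058.cert yWord YChain = true := by decide +kernel

theorem x_base : rbase (XChain.map Prod.fst) = data.bs := by decide +kernel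

theorem basic_ok : data.basicOK HeC2058.cert = true := by decide +kernel

theorem words_ok : ((List.range HeC2058.cert.m).all fun g => sameOn HeC2058.cert data.bs [g]
    (subst [data.x, data.x.reverse, data.t, data.t.reverse, data.y, data.y.reverse]
      (data.words.getD g []))) = true := by
  decide +kernel

theorem imgs_ok : imgsOK HeC2058.cert data.bs gens He.edges He.extra imgs = true := by decide +kernel

theorem image_letters : lettersOK HeC2058.cert dxWord = true := by decide +kernel

theorem image_eq : sameOn HeC2058.cert data.bs (subst imgs xWord) dxWord = true := by decide +kernel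

theorem image_ne : isOne HeC2058.cert data.bs dxWord = false := by decide +kernel

theorem cent0 : ((solutions HeC2058.cert data.bs (slice XChain (0 * 515) 515) xWord xWord).all fun g =>
    (List.range 17).any fun k => sameOn HeC2058.cert data.bs g (rep k xWord)) = true := by
  decide +kernel

theorem cent1 : ((solutions HeC2058.cert data.bs (slice XChain (1 * 515) 515) xWord xWord).all fun g =>
    (List.range 17).any fun k => sameOn HeC2058.cert data.bs g (rep k xWord)) = true := by
  decide +kernel

theorem cent2 : ((solutions HeC2058.cert data.bs (slice XChain (2 * 515) 515) xWord xWord).all fun g =>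
    (List.range 17).any fun k => sameOn HeC2058.cert data.bs g (rep k xWord)) = true := by
  decide +kernel

theorem cent3 : ((solutions HeC2058.cert data.bs (slice XChain (3 * 515) 515) xWord xWord).all fun g =>
    (List.range 17).any fun k => sameOn HeC2058.cert data.bs g (rep k xWord)) = true := by
  decide +kernel

theorem out_card : Nat.card (Cfsg.Out He) = 2 := by
  obtain ⟨e, -, he⟩ := exists_table
  haveI : Finite He := HeOrder.card_le.1
  haveI := HeOrder.simple_he
  have M := model_of_equiv (D := HeC2058.cert) HeC2058.cert_edgesOK HeC2058.cert_nodesOK e he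
    (genFun_mul_self gens_all gens_ok)
  have hXc : Nat.card He ≤ rsize (XChain.map Prod.fst) :=
    le_of_eq (HeOrder.card_he.trans XChain_size.symm)
  have hYc : Nat.card He ≤ rsize (YChain.map Prod.fst) :=
    le_of_eq (HeOrder.card_he.trans YChain_size.symm)
  have hB := isBaseFor M XChain_ok hXc
  rw [x_base] at hB
  have hgen : Subgroup.closure (gen '' {g | g < HeC2058.cert.m}) = ⊤ := by
    rw [eq_top_iff, ← PresentedGroup.closure_range_of, Subgroup.closure_le]
    rintro _ ⟨x, rfl⟩
    exact Subgroup.subset_closure
      ⟨gens.idxOf x, List.idxOf_lt_length_of_mem (gens_all x), genFun_idxOf gens_all x⟩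
  have hxl : lettersOK HeC2058.cert xWord = true := by decide +kernel
  have hp : data.p.Prime := by show Nat.Prime 17; norm_num
  have hp2 : ¬ data.p ^ 2 ∣ Nat.card He := by rw [HeOrder.card_he]; decide +kernel
  have hC : ∀ g, g * wval gen data.x = wval gen data.x * g →
      ∃ k, k < data.p ∧ g = wval gen data.x ^ k := by
    intro g hg
    obtain ⟨k, hk, l, hl, -, rfl⟩ := exists_solution_slices M bs_lt (K := 515) XChain_ok hXc x_images
      hxl (by norm_num) hg
    have hk4 : k < 4 := by
      have : XLev0.2.length = 2058 := by decide +kernel
      change k * 515 < XLev0.2.length at hk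
      omega
    have key : ((List.range 17).any fun i => sameOn HeC2058.cert data.bs l (rep i xWord)) = true := by
      interval_cases k
      · exact List.all_eq_true.1 cent0 l hl
      · exact List.all_eq_true.1 cent1 l hl
      · exact List.all_eq_true.1 cent2 l hl
      · exact List.all_eq_true.1 cent3 l hl
    obtain ⟨i, hi, h⟩ := List.any_eq_true.1 key
    exact ⟨i, List.mem_range.1 hi, (eq_of_sameOn M hB h).trans (wval_rep _ _)⟩
  have hcands : ∀ g, g * wval gen data.y = wval gen data.y ^ data.j * g →
      ∃ l ∈ data.cands, lettersOK HeC2058.cert l = true ∧ wval gen l = g := by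
    intro g hg
    rw [← wval_rep] at hg
    obtain ⟨k, hk, l, hl, hl', hv⟩ := exists_solution_slices M bs_lt (K := 515) YChain_ok hYc y_images
      (by decide +kernel) (by norm_num) hg
    have hk' : k < 4 := by
      have : YLev0.2.length = 2058 := by decide +kernel
      change k * 515 < YLev0.2.length at hk
      omega
    refine ⟨l, ?_, hl', hv⟩
    show l ∈ candParts.flatten
    change l ∈ solutions HeC2058.cert data.bs (slice YChain (k * 515) 515) yWord (rep 3 yWord) at hl
    interval_cases k
    · rw [sol0_ok] at hl; simp [candParts, hl]
    · rw [sol1_ok] at hl; simp [candParts, hl]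
    · rw [sol2_ok] at hl; simp [candParts, hl]
    · rw [sol3_ok] at hl; simp [candParts, hl]
  have hok : ∀ a ∈ data.R, ∀ l ∈ data.cands, data.candOK HeC2058.cert a l = true := by
    intro a ha l hl
    change a ∈ [1, 3] at ha
    change l ∈ candParts.flatten at hl
    simp only [candParts, List.flatten_cons, List.flatten_nil, List.mem_append, List.not_mem_nil,
      or_false] at hl
    simp only [List.mem_cons, List.not_mem_nil, or_false] at ha
    rcases ha with rfl | rfl
    · rcases hl with hl | hl | hl | hl
      · exact List.all_eq_true.1 cand1_0_ok l hl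
      · exact List.all_eq_true.1 cand1_1_ok l hl
      · exact List.all_eq_true.1 cand1_2_ok l hl
      · exact List.all_eq_true.1 cand1_3_ok l hl
    · rcases hl with hl | hl | hl | hl
      · exact List.all_eq_true.1 cand3_0_ok l hl
      · exact List.all_eq_true.1 cand3_1_ok l hl
      · exact List.all_eq_true.1 cand3_2_ok l hl
      · exact List.all_eq_true.1 cand3_3_ok l hl
  obtain ⟨hfin, hle⟩ := outer_finite_card_le M hgen data hB bs_lt hp hp2 basic_ok words_ok hC hcands hok
  have hlen : data.allowed.length = 2 := rfl
  obtain ⟨f, hf⟩ := exists_endomorphism gens_all M hB gens_nodup rfl imgs_ok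
  have hno : ∀ g, g * wval gen xWord ≠ wval gen dxWord * g := by
    intro g hg
    obtain ⟨k, hk, l, hl, -⟩ := exists_solution_slices M bs_lt (K := 515) XChain_ok hXc x_images
      image_letters (by norm_num) hg
    have hk4 : k < 4 := by
      have : XLev0.2.length = 2058 := by decide +kernel
      change k * 515 < XLev0.2.length at hk
      omega
    change l ∈ solutions HeC2058.cert data.bs (slice XChain (k * 515) 515) xWord dxWord at hl
    interval_cases k
    · rw [conj0_ok] at hl; simp at hl
    · rw [conj1_ok] at hl; simp at hl
    · rw [conj2_ok] at hl; simp at hl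
    · rw [conj3_ok] at hl; simp at hl
  obtain ⟨c, hc⟩ := exists_outer M bs_lt f image_letters
    ((hf xWord (lettersOK_spec hxl)).trans (eq_of_sameOn M hB image_eq)) image_ne hno
  have : Nontrivial (Cfsg.Out He) := ⟨⟨c, 1, hc⟩⟩
  have := (Finite.one_lt_card_iff_nontrivial (α := Cfsg.Out He)).2 inferInstance
  omega

end Cfsg.Agent.Presented.HeRigid
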