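import Cfsg.Agent.Lib.Presented.Order

/-!
# Enumeration certificates for generators of any order

The other certificate checkers of this library need generators which are involutions.  Here the numbers
`< m` stand for generators closed under inversion by `inv`, a word is read as the product from left to right,
and an edge `(i, g, j)` means `(s g)⁻¹ • c i = c j` for the nodes `c` in the coset space of `H`.

* `Table` is a complete coset table in which every edge is a tree edge, the reverse of an earlier edge, or the
  only new edge of a rule; `Table.closure_card_le` bounds the order of the generated subgroup.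
* `Log` is a pruned deduction log of an enumeration with coincidences (label `7` is an equality of nodes);
  `Log.loops_mem` shows that further words lie in `H`.
-/

set_option autoImplicit false

namespace Cfsg.Agent.Presented.InvCert

variable {G : Type*} [Group G] {s : ℕ → G}

/-- The product of a word. -/
def pv (s : ℕ → G) (w : List ℕ) : G := (w.map s).prod

theorem pv_nil : pv s [] = 1 := rfl

theorem pv_cons (g : ℕ) (w : List ℕ) : pv s (g :: w) = s g * pv s w := by simp [pv]

theorem pv_append (a b : List ℕ) : pv s (a ++ b) = pv s a * pv s b := by simp [pv]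

/-- A rule: the part before the new letter, the new letter (`7` for none), the part after it, and whether
it is trivial in the group (otherwise it lies in the subgroup). -/
abbrev Rule := List ℕ × ℕ × List ℕ × Bool

/-- The word of a rule. -/
def ruleWord (R : Rule) : List ℕ := R.1 ++ (bif Nat.beq R.2.1 7 then R.2.2.1 else R.2.1 :: R.2.2.1)

/-- The rules are valid in `G` relative to `H`. -/
def RulesOK (s : ℕ → G) (H : Subgroup G) (Rs : List Rule) : Prop :=
  ∀ R ∈ Rs, if R.2.2.2 = true then pv s (ruleWord R) = 1 else pv s (ruleWord R) ∈ H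

/-- The generators are closed under inversion. -/
def InvOK (s : ℕ → G) (m : ℕ) (inv : ℕ → ℕ) : Prop := ∀ g, g < m → inv g < m ∧ s (inv g) * s g = 1

theorem smul_mk_one_eq_iff {H : Subgroup G} (a : G) :
    a • (QuotientGroup.mk 1 : G ⧸ H) = QuotientGroup.mk 1 ↔ a ∈ H := by
  rw [MulAction.Quotient.smul_mk, smul_eq_mul, mul_one, QuotientGroup.eq, mul_one]
  exact inv_mem_iff

theorem rule_fix {H : Subgroup G} {Rs : List Rule} (hR : RulesOK s H Rs) {r : ℕ} (hr : r < Rs.length)
    {c : ℕ → G ⧸ H} (hc0 : c 0 = QuotientGroup.mk 1) {st : ℕ}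
    (hst : (Rs.getD r ([], 7, [], true)).2.2.2 = true ∨ st = 0) :
    (pv s (ruleWord (Rs.getD r ([], 7, [], true))))⁻¹ • c st = c st := by
  rw [List.getD_eq_getElem _ _ hr] at hst ⊢
  have h := hR _ (List.getElem_mem hr)
  by_cases hb : (Rs[r]).2.2.2 = true
  · rw [if_pos hb] at h
    rw [h, inv_one, one_smul]
  · rw [if_neg hb] at h
    rw [hst.resolve_left hb, hc0, smul_mk_one_eq_iff]
    exact inv_mem h

/-- A complete table. -/
structure Table where
  N : ℕ
  m : ℕ
  inv : ℕ → ℕ
  aw : ℕ
  ar : ℕ → ℕ
  just : ℕ → ℕ
  par : ℕ → ℕ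
  rules : List Rule

namespace Table

variable (D : Table)

/-- The image in a packed edge. -/
noncomputable def img (a : ℕ) : ℕ := Nat.mod a (Nat.pow 2 D.aw)

/-- The rank in a packed edge. -/
noncomputable def rk (a : ℕ) : ℕ := Nat.shiftRight a D.aw

/-- Walk along edges of rank below `r`; `D.N` signals failure. -/
noncomputable def walk (r : ℕ) (w : List ℕ) : ℕ → ℕ :=
  List.rec (motive := fun _ => ℕ → ℕ) (fun i => i)
    (fun g _ ih i =>
      bif Nat.blt i D.N && Nat.blt g D.m then
        force (D.ar (Nat.add (Nat.mul i D.m) g)) fun a =>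
          bif Nat.blt (D.rk a) r then force (D.img a) ih else D.N
      else D.N) w

theorem walk_cons (r g i : ℕ) (w : List ℕ) : D.walk r (g :: w) i =
    (bif Nat.blt i D.N && Nat.blt g D.m then
        force (D.ar (Nat.add (Nat.mul i D.m) g)) fun a =>
          bif Nat.blt (D.rk a) r then force (D.img a) (D.walk r w) else D.N
      else D.N) := rfl

/-- The justification of an edge. -/
noncomputable def checkEdge (e : ℕ) : Bool :=
  force (Nat.div e D.m) fun i => force (Nat.mod e D.m) fun g => force (D.ar e) fun a =>
  force (D.img a) fun j => force (D.just e) fun u =>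
    Nat.blt j D.N &&
    (bif Nat.beq (Nat.mod u 4) 0 then Nat.blt i j && Nat.beq (D.par j) e
     else bif Nat.beq (Nat.mod u 4) 1 then
       force (D.inv g) fun g' => force (D.ar (Nat.add (Nat.mul j D.m) g')) fun b =>
         Nat.beq (D.img b) i && Nat.blt (D.rk b) (D.rk a)
     else force (Nat.mod (Nat.div u 4) 1024) fun r => force (Nat.div u 4096) fun st =>
       force (D.rk a) fun k =>
         Nat.blt st D.N && Nat.blt r D.rules.length &&
         ((D.rules.getD r ([], 7, [], true)).2.2.2 || Nat.beq st 0) &&
         Nat.beq (D.rules.getD r ([], 7, [], true)).2.1 g && Nat.blt g 7 &&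
         Nat.beq (D.walk k (D.rules.getD r ([], 7, [], true)).1 st) i &&
         Nat.beq (D.walk k (D.rules.getD r ([], 7, [], true)).2.2.1 j) st)

/-- All edges are checked. -/
noncomputable def edgesOK (d : ℕ) : Bool := checkBelow D.checkEdge d (D.N * D.m)

variable {D} {H : Subgroup G}

theorem walk_spec (r : ℕ) (c : ℕ → G ⧸ H)
    (good : ∀ i g, i < D.N → g < D.m → D.rk (D.ar (i * D.m + g)) < r →
      (s g)⁻¹ • c i = c (D.img (D.ar (i * D.m + g)))) :
    ∀ (w : List ℕ) {i j : ℕ}, D.walk r w i = j → j < D.N → (pv s w)⁻¹ • c i = c j := by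
  intro w
  induction w with
  | nil => intro i j h _; change i = j at h; subst h; simp [pv_nil]
  | cons g w ih =>
    intro i j h hj
    rw [walk_cons] at h
    by_cases hc : i < D.N ∧ g < D.m
    · rw [show (Nat.blt i D.N && Nat.blt g D.m) = true by
        simp [blt_true hc.1, blt_true hc.2], cond_true, force_eq] at h
      by_cases hr : D.rk (D.ar (i * D.m + g)) < r
      · rw [show Nat.blt (D.rk (D.ar (Nat.add (Nat.mul i D.m) g))) r = true from blt_true hr, cond_true,
          force_eq] at h
        rw [pv_cons, mul_inv_rev, mul_smul, good i g hc.1 hc.2 hr]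
        exact ih h hj
      · rw [show Nat.blt (D.rk (D.ar (Nat.add (Nat.mul i D.m) g))) r = false by
          rw [Bool.eq_false_iff, ne_eq, Nat.blt_eq]; exact hr, cond_false] at h
        omega
    · rw [show (Nat.blt i D.N && Nat.blt g D.m) = false by
        rw [Bool.eq_false_iff, ne_eq, Bool.and_eq_true, Nat.blt_eq, Nat.blt_eq]; exact hc, cond_false] at h
      omega

theorem edge_good {d : ℕ} (he : D.edgesOK d = true) (hinv : InvOK s D.m D.inv) (hR : RulesOK s H D.rules)
    {c : ℕ → G ⧸ H} (hc0 : c 0 = QuotientGroup.mk 1)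
    (hc : ∀ i, D.par i / D.m < i → c i = (s (D.par i % D.m))⁻¹ • c (D.par i / D.m)) :
    ∀ n i g, i < D.N → g < D.m → D.rk (D.ar (i * D.m + g)) < n →
      D.img (D.ar (i * D.m + g)) < D.N ∧ (s g)⁻¹ • c i = c (D.img (D.ar (i * D.m + g))) := by
  intro n
  induction n with
  | zero => intros; omega
  | succ n ih =>
    intro i g hi hg hlt
    have hed : i * D.m + g < D.N * D.m :=
      calc i * D.m + g < (i + 1) * D.m := by rw [Nat.succ_mul]; omega
        _ ≤ D.N * D.m := Nat.mul_le_mul_right _ hi
    obtain ⟨hd, hmd⟩ : (i * D.m + g) / D.m = i ∧ (i * D.m + g) % D.m = g := by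
      constructor
      · rw [mul_comm, Nat.mul_add_div (by omega), Nat.div_eq_of_lt hg, add_zero]
      · rw [mul_comm, Nat.mul_add_mod, Nat.mod_eq_of_lt hg]
    have h := checkBelow_spec he _ hed
    simp only [checkEdge, force_eq] at h
    change (Nat.blt (D.img (D.ar (i * D.m + g))) D.N && _) = true at h
    rw [Bool.and_eq_true, Nat.blt_eq] at h
    obtain ⟨hj, h⟩ := h
    refine ⟨hj, ?_⟩
    rw [show Nat.div (i * D.m + g) D.m = i from hd, show Nat.mod (i * D.m + g) D.m = g from hmd] at h
    generalize D.just (i * D.m + g) = u at h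
    by_cases h0 : u % 4 = 0
    · rw [show Nat.beq (Nat.mod u 4) 0 = true from Nat.beq_eq.mpr h0, cond_true, Bool.and_eq_true,
        Nat.blt_eq, Nat.beq_eq] at h
      rw [hc (D.img (D.ar (i * D.m + g))) (by rw [h.2, hd]; exact h.1), h.2, hd, hmd]
    · rw [show Nat.beq (Nat.mod u 4) 0 = false by
        rw [Bool.eq_false_iff, ne_eq, Nat.beq_eq]; exact h0, cond_false] at h
      by_cases h1 : u % 4 = 1
      · rw [show Nat.beq (Nat.mod u 4) 1 = true from Nat.beq_eq.mpr h1, cond_true] at h
        simp only [Bool.and_eq_true, Nat.beq_eq, Nat.blt_eq, Nat.add_eq, Nat.mul_eq] at h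
        have hb := (ih (D.img (D.ar (i * D.m + g))) (D.inv g) hj (hinv g hg).1 (by omega)).2
        rw [h.1, inv_eq_of_mul_eq_one_right (hinv g hg).2] at hb
        rw [← hb, inv_smul_smul]
      · rw [show Nat.beq (Nat.mod u 4) 1 = false by
          rw [Bool.eq_false_iff, ne_eq, Nat.beq_eq]; exact h1, cond_false] at h
        generalize Nat.mod (Nat.div u 4) 1024 = r at h
        generalize Nat.div u 4096 = st at h
        simp only [Bool.and_eq_true, Bool.or_eq_true, Nat.beq_eq, Nat.blt_eq] at h
        obtain ⟨⟨⟨⟨⟨⟨hst, hr⟩, hrel⟩, hmid⟩, hg7⟩, hA⟩, hB⟩ := h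
        have hgood : ∀ x y, x < D.N → y < D.m → D.rk (D.ar (x * D.m + y)) < D.rk (D.ar (i * D.m + g)) →
            (s y)⁻¹ • c x = c (D.img (D.ar (x * D.m + y))) := fun x y hx hy hxy =>
          (ih x y hx hy (by omega)).2
        have eA := walk_spec (s := s) _ c hgood _ hA hi
        have eB := walk_spec (s := s) _ c hgood _ hB hst
        have hfix := rule_fix hR hr hc0 hrel
        rw [ruleWord, hmid, show Nat.beq g 7 = false by
          rw [Bool.eq_false_iff, ne_eq, Nat.beq_eq]; omega, cond_false, pv_append, pv_cons, mul_inv_rev,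
          mul_inv_rev, mul_smul, mul_smul, eA, ← eB] at hfix
        exact MulAction.injective _ hfix

/-- A checked table bounds the order of the generated subgroup. -/
theorem closure_card_le {d : ℕ} (he : D.edgesOK d = true) (hN : 0 < D.N) (hinv : InvOK s D.m D.inv)
    (hR : RulesOK s H D.rules) {n : ℕ} (hH : OrderLE H n) :
    OrderLE (Subgroup.closure (s '' {g | g < D.m})) (D.N * n) := by
  set A := Subgroup.closure (s '' {g | g < D.m}) with hA
  let c : ℕ → G ⧸ H := fun i => WellFounded.fix Nat.lt_wfRel.wf (fun i rec =>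
    if h : D.par i / D.m < i then (s (D.par i % D.m))⁻¹ • rec _ h
    else QuotientGroup.mk 1) i
  have hc : ∀ i, D.par i / D.m < i → c i = (s (D.par i % D.m))⁻¹ • c (D.par i / D.m) := by
    intro i h
    show WellFounded.fix _ _ i = _
    rw [WellFounded.fix_eq, dif_pos h]
  have hc0 : c 0 = QuotientGroup.mk 1 := by
    show WellFounded.fix _ _ 0 = _
    rw [WellFounded.fix_eq]; simp
  have good : ∀ i g, i < D.N → g < D.m →
      D.img (D.ar (i * D.m + g)) < D.N ∧ (s g)⁻¹ • c i = c (D.img (D.ar (i * D.m + g))) :=
    fun i g hi hg => edge_good he hinv hR hc0 hc _ i g hi hg (Nat.lt_succ_self _)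
  have key : ∀ a ∈ A, ∀ i, i < D.N → ∃ j, j < D.N ∧ a • c i = c j := by
    intro a ha
    induction ha using Subgroup.closure_induction'' with
    | one => exact fun i hi => ⟨i, hi, one_smul _ _⟩
    | mem x hx =>
      obtain ⟨g, hg, rfl⟩ := hx
      intro i hi
      obtain ⟨hj, hh⟩ := good i (D.inv g) hi (hinv g hg).1
      refine ⟨_, hj, ?_⟩
      rw [← hh, inv_eq_of_mul_eq_one_right (hinv g hg).2]
    | inv_mem x hx =>
      obtain ⟨g, hg, rfl⟩ := hx
      intro i hi
      exact ⟨_, (good i g hi hg).1, (good i g hi hg).2⟩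
    | mul x y _ _ ihx ihy =>
      intro i hi
      obtain ⟨j, hj, hy'⟩ := ihy i hi
      obtain ⟨k, hk, hx'⟩ := ihx j hj
      exact ⟨k, hk, by rw [mul_smul, hy', hx']⟩
  let B := H.subgroupOf A
  let f : A ⧸ B → Set.range (fun i : Fin D.N => c i) := Quotient.lift
    (fun a => ⟨(a : G) • (QuotientGroup.mk 1 : G ⧸ H), by
      obtain ⟨j, hj, hj'⟩ := key a.1 a.2 0 hN
      exact ⟨⟨j, hj⟩, by rw [← hc0, hj']⟩⟩)
    fun a b hab => by
      have h := QuotientGroup.leftRel_apply.mp hab
      apply Subtype.ext
      simp only [MulAction.Quotient.smul_mk, smul_eq_mul, mul_one, QuotientGroup.eq]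
      exact h
  have hf : Function.Injective f := by
    intro x y
    induction x using QuotientGroup.induction_on with
    | H a => induction y using QuotientGroup.induction_on with
      | H b =>
        intro h
        have h' : ((a : G) • (QuotientGroup.mk 1 : G ⧸ H)) = (b : G) • QuotientGroup.mk 1 :=
          congrArg Subtype.val h
        simp only [MulAction.Quotient.smul_mk, smul_eq_mul, mul_one, QuotientGroup.eq] at h'
        rw [QuotientGroup.eq]
        exact h'
  haveI : Finite (A ⧸ B) := Finite.of_injective f hf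
  have hq : Nat.card (A ⧸ B) ≤ D.N := by
    refine (Nat.card_le_card_of_injective f hf).trans ?_
    refine le_of_le_of_eq (Nat.card_le_card_of_surjective
      (Set.rangeFactorization fun i : Fin D.N => c i) Set.rangeFactorization_surjective) ?_
    rw [Nat.card_fin]
  haveI := hH.1
  let ι : B → H := fun b => ⟨(b : A).1, b.2⟩
  have hι : Function.Injective ι := fun x y h => by
    have h' := congrArg Subtype.val h
    exact Subtype.ext (Subtype.ext h')
  haveI : Finite B := Finite.of_injective ι hι
  haveI : Finite A := Finite.of_subgroup_quotient B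
  refine ⟨inferInstance, ?_⟩
  rw [Subgroup.card_eq_card_quotient_mul_card_subgroup B]
  exact Nat.mul_le_mul hq ((Nat.card_le_card_of_injective ι hι).trans hH.2)

end Table

/-- A deduction log.  `fact f` packs `v` in the lowest `24` bits, the label in the next `3` and `u` above;
`just f` is `0` for a definition and otherwise `1 + 2 * (rule + 1024 * (l₁ + 1024 * (l₂ + 1024 * (st + 2 ^ 24 * off))))`,
where the `l₁` facts from `steps off` spell the first part of the rule and the next `l₂` the second part. -/
structure Log where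
  m : ℕ
  inv : ℕ → ℕ
  nodePar : ℕ → ℕ
  nF : ℕ
  fact : ℕ → ℕ
  just : ℕ → ℕ
  steps : ℕ → ℕ
  rules : List Rule
  loops : List (List ℕ × ℕ × ℕ)

namespace Log

variable (D : Log)

noncomputable def dst (F : ℕ) : ℕ := Nat.mod F 16777216
noncomputable def lbl (F : ℕ) : ℕ := Nat.mod (Nat.shiftRight F 24) 8
noncomputable def src (F : ℕ) : ℕ := Nat.shiftRight F 27

/-- Follow `k` facts below `bd` from `p`, spelling `w`, to `tgt`. -/
noncomputable def follow (bd tgt k : ℕ) : ℕ → ℕ → List ℕ → Bool :=
  Nat.rec (motive := fun _ => ℕ → ℕ → List ℕ → Bool)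
    (fun _ p w => w.isEmpty && Nat.beq p tgt)
    (fun _ ih off p w =>
      force (D.steps off) fun f => Nat.blt f bd &&
      force (D.fact f) fun F => force (dst F) fun v => force (lbl F) fun g => force (src F) fun u =>
        bif Nat.beq g 7 then
          (Nat.beq p u && ih (Nat.add off 1) v w) || (Nat.beq p v && ih (Nat.add off 1) u w)
        else List.rec (motive := fun _ => Bool) false
          (fun x w' _ => Nat.blt g D.m &&
            ((Nat.beq p u && Nat.beq x g && ih (Nat.add off 1) v w') ||
              (Nat.beq p v && Nat.beq x (D.inv g) && ih (Nat.add off 1) u w'))) w) k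

/-- A single fact is justified. -/
noncomputable def checkFact (f : ℕ) : Bool :=
  force (D.fact f) fun F => force (dst F) fun v => force (lbl F) fun g => force (src F) fun u =>
  force (D.just f) fun J =>
    bif Nat.beq (Nat.mod J 2) 0 then
      Nat.blt g D.m && Nat.blt g 7 && Nat.blt u v && Nat.beq (D.nodePar v) (Nat.add (Nat.mul u D.m) g)
    else
      force (Nat.mod (Nat.div J 2) 1024) fun r => force (Nat.mod (Nat.div J 2048) 1024) fun l₁ =>
      force (Nat.mod (Nat.div J 2097152) 1024) fun l₂ => force (Nat.mod (Nat.div J 2147483648) 16777216) fun st =>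
      force (Nat.div J 36028797018963968) fun off =>
        Nat.blt r D.rules.length && ((D.rules.getD r ([], 7, [], true)).2.2.2 || Nat.beq st 0) &&
        D.follow f u l₁ off st (D.rules.getD r ([], 7, [], true)).1 &&
        Nat.beq (D.rules.getD r ([], 7, [], true)).2.1 g &&
        D.follow f st l₂ (Nat.add off l₁) v (D.rules.getD r ([], 7, [], true)).2.2.1

/-- All facts are checked. -/
noncomputable def factsOK (d : ℕ) : Bool := checkBelow D.checkFact d D.nF

/-- All loops close at node `0`. -/
noncomputable def loopsOK : Bool := D.loops.all fun l => D.follow D.nF 0 l.2.2 l.2.1 0 l.1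

variable {D} {H : Subgroup G}

/-- Meaning of a fact. -/
def Holds (D : Log) (c : ℕ → G ⧸ H) (s : ℕ → G) (f : ℕ) : Prop :=
  if lbl (D.fact f) = 7 then c (src (D.fact f)) = c (dst (D.fact f))
  else (s (lbl (D.fact f)))⁻¹ • c (src (D.fact f)) = c (dst (D.fact f))

theorem follow_spec (hinv : InvOK s D.m D.inv) (c : ℕ → G ⧸ H) (bd tgt : ℕ)
    (good : ∀ f, f < bd → Holds D c s f) : ∀ (k off p : ℕ) (w : List ℕ),
    D.follow bd tgt k off p w = true → (pv s w)⁻¹ • c p = c tgt := by
  intro k
  induction k with
  | zero =>
    intro off p w h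
    change (w.isEmpty && Nat.beq p tgt) = true at h
    simp only [Bool.and_eq_true, List.isEmpty_iff, Nat.beq_eq] at h
    rw [h.1, h.2]; simp [pv_nil]
  | succ k ih =>
    intro off p w h
    change (force (D.steps off) fun f => Nat.blt f bd &&
      force (D.fact f) fun F => force (dst F) fun v => force (lbl F) fun g => force (src F) fun u =>
        bif Nat.beq g 7 then
          (Nat.beq p u && D.follow bd tgt k (Nat.add off 1) v w) ||
            (Nat.beq p v && D.follow bd tgt k (Nat.add off 1) u w)
        else List.rec (motive := fun _ => Bool) false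
          (fun x w' _ => Nat.blt g D.m &&
            ((Nat.beq p u && Nat.beq x g && D.follow bd tgt k (Nat.add off 1) v w') ||
              (Nat.beq p v && Nat.beq x (D.inv g) && D.follow bd tgt k (Nat.add off 1) u w'))) w) = true at h
    simp only [force_eq, Bool.and_eq_true, Nat.blt_eq] at h
    obtain ⟨hf, h⟩ := h
    have hgood := good _ hf
    simp only [Holds] at hgood
    generalize D.fact (D.steps off) = F at *
    generalize dst F = v at *
    generalize src F = u at *
    generalize lbl F = g at *
    by_cases hg : g = 7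
    · rw [if_pos hg] at hgood
      rw [show Nat.beq g 7 = true from Nat.beq_eq.mpr hg, cond_true] at h
      simp only [Bool.or_eq_true, Bool.and_eq_true, Nat.beq_eq] at h
      rcases h with ⟨hp, h⟩ | ⟨hp, h⟩
      · rw [hp, hgood]; exact ih _ _ _ h
      · rw [hp, ← hgood]; exact ih _ _ _ h
    · rw [if_neg hg] at hgood
      rw [show Nat.beq g 7 = false by rw [Bool.eq_false_iff, ne_eq, Nat.beq_eq]; exact hg, cond_false] at h
      cases w with
      | nil => simp at h
      | cons x w =>
        simp only [Bool.or_eq_true, Bool.and_eq_true, Nat.beq_eq, Nat.blt_eq] at h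
        obtain ⟨hlt, ⟨⟨hp, hx⟩, h⟩ | ⟨⟨hp, hx⟩, h⟩⟩ := h
        · rw [pv_cons, mul_inv_rev, mul_smul, hp, hx, hgood]; exact ih _ _ _ h
        · rw [pv_cons, mul_inv_rev, mul_smul, hp, hx, inv_eq_of_mul_eq_one_right (hinv g hlt).2,
            ← hgood, smul_inv_smul]
          exact ih _ _ _ h

/-- The words of the loops lie in the subgroup. -/
theorem loops_mem {d : ℕ} (hok : D.factsOK d = true) (hloop : D.loopsOK = true)
    (hinv : InvOK s D.m D.inv) (hR : RulesOK s H D.rules) :
    ∀ w ∈ D.loops.map Prod.fst, pv s w ∈ H := by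
  let c : ℕ → G ⧸ H := fun i => WellFounded.fix Nat.lt_wfRel.wf (fun i rec =>
    if h : D.nodePar i / D.m < i then (s (D.nodePar i % D.m))⁻¹ • rec _ h
    else QuotientGroup.mk 1) i
  have hc : ∀ i, D.nodePar i / D.m < i →
      c i = (s (D.nodePar i % D.m))⁻¹ • c (D.nodePar i / D.m) := by
    intro i h
    show WellFounded.fix _ _ i = _
    rw [WellFounded.fix_eq, dif_pos h]
  have hc0 : c 0 = QuotientGroup.mk 1 := by
    show WellFounded.fix _ _ 0 = _
    rw [WellFounded.fix_eq]; simp
  have key : ∀ n, n ≤ D.nF → ∀ f, f < n → Holds D c s f := by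
    intro n
    induction n with
    | zero => intros; omega
    | succ n ih =>
      intro hn f hf
      by_cases hfn : f < n
      · exact ih (by omega) f hfn
      obtain rfl : f = n := by omega
      have good := ih (by omega)
      have h := checkBelow_spec hok f (by omega)
      simp only [checkFact, force_eq] at h
      simp only [Holds]
      generalize D.fact f = F at *
      generalize D.just f = J at *
      generalize src F = u at *
      generalize dst F = v at *
      generalize lbl F = g at *
      by_cases hdef : J % 2 = 0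
      · rw [show Nat.beq (Nat.mod J 2) 0 = true from Nat.beq_eq.mpr hdef, cond_true] at h
        simp only [Bool.and_eq_true, Nat.blt_eq, Nat.beq_eq, Nat.add_eq, Nat.mul_eq] at h
        obtain ⟨⟨⟨hg, hg7⟩, huv⟩, hpar⟩ := h
        obtain ⟨hd, hm⟩ : (u * D.m + g) / D.m = u ∧ (u * D.m + g) % D.m = g := by
          constructor
          · rw [mul_comm, Nat.mul_add_div (by omega), Nat.div_eq_of_lt hg, add_zero]
          · rw [mul_comm, Nat.mul_add_mod, Nat.mod_eq_of_lt hg]
        rw [if_neg (by omega), hc v (by rw [hpar, hd]; exact huv), hpar, hd, hm]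
      · rw [show Nat.beq (Nat.mod J 2) 0 = false by
          rw [Bool.eq_false_iff, ne_eq, Nat.beq_eq]; exact hdef, cond_false] at h
        generalize Nat.mod (Nat.div J 2) 1024 = r at h
        generalize Nat.mod (Nat.div J 2048) 1024 = l₁ at h
        generalize Nat.mod (Nat.div J 2097152) 1024 = l₂ at h
        generalize Nat.mod (Nat.div J 2147483648) 16777216 = st at h
        generalize Nat.div J 36028797018963968 = off at h
        simp only [Bool.and_eq_true, Bool.or_eq_true, Nat.beq_eq, Nat.blt_eq] at h
        obtain ⟨⟨⟨⟨hr, hrel⟩, hA⟩, hmid⟩, hB⟩ := h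
        have eA := follow_spec hinv c _ _ good _ _ _ _ hA
        have eB := follow_spec hinv c _ _ good _ _ _ _ hB
        have hfix := rule_fix hR hr hc0 hrel
        rw [ruleWord, hmid] at hfix
        by_cases hg : g = 7
        · rw [show Nat.beq g 7 = true from Nat.beq_eq.mpr hg, cond_true, pv_append, mul_inv_rev, mul_smul,
            eA, ← eB] at hfix
          rw [if_pos hg]
          exact MulAction.injective _ hfix
        · rw [show Nat.beq g 7 = false by rw [Bool.eq_false_iff, ne_eq, Nat.beq_eq]; exact hg,
            cond_false, pv_append, pv_cons, mul_inv_rev, mul_inv_rev, mul_smul, mul_smul, eA, ← eB] at hfix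
          rw [if_neg hg]
          exact MulAction.injective _ hfix
  intro w hw
  obtain ⟨l, hl, rfl⟩ := List.mem_map.mp hw
  have := follow_spec hinv c _ _ (key _ le_rfl) _ _ _ _ (List.all_eq_true.mp hloop l hl)
  rw [hc0, smul_mk_one_eq_iff] at this
  exact inv_mem_iff.mp this

end Log

end Cfsg.Agent.Presented.InvCert
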