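import Cfsg.Prelude.Def_Spor_J4
import Cfsg.Agent.Lib.Presented.Data.J4Mat

/-!
# A 112-dimensional representation of the presented `J₄`

The twelve relators hold for three explicit invertible matrices over the field of two elements; the
kernel checks this by walking every basis row along short words.
-/

set_option autoImplicit false
set_option maxRecDepth 20000

namespace Cfsg.Agent.Presented.J4Rep

open BitMatrix J4Mat
open scoped Matrix

/-- A row as a vector. -/
def vec (n r : ℕ) : Fin n → ZMod 2 := fun j => bz (r.testBit j)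

theorem vec_comb {n : ℕ} {B : List ℕ} (hB : B.length = n) (r : ℕ) :
    vec n (comb B r) = vec n r ᵥ* dec n B := by
  subst hB
  funext j
  simp only [vec, bz_comb, Matrix.vecMul, dotProduct, dec]

/-- The matrix with a given number. -/
noncomputable def mat (i : ℕ) : List ℕ := mats.getD i []

/-- Move a row along a word of matrices. -/
noncomputable def walkRow (w : List ℕ) : ℕ → ℕ :=
  List.rec (motive := fun _ => ℕ → ℕ) (fun r => r) (fun g _ ih r => ih (comb (mat g) r)) w

@[simp] theorem walkRow_nil (r : ℕ) : walkRow [] r = r := rfl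

@[simp] theorem walkRow_cons (g r : ℕ) (w : List ℕ) :
    walkRow (g :: w) r = walkRow w (comb (mat g) r) := rfl

/-- The product along a word, as a matrix. -/
noncomputable def prodOf (w : List ℕ) : Matrix (Fin 112) (Fin 112) (ZMod 2) :=
  (w.map fun g => dec 112 (mat g)).prod

theorem lengths : mats.all (fun B => Nat.beq B.length 112) = true ∧ mats.length = 10 := by
  decide +kernel

theorem length_mat {g : ℕ} (hg : g < 10) : (mat g).length = 112 := by
  have h := lengths.1
  rw [List.all_eq_true] at h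
  have hg' : g < mats.length := by rw [lengths.2]; exact hg
  rw [mat, List.getD_eq_getElem _ _ hg']
  exact Nat.beq_eq.mp (h _ (List.getElem_mem hg'))

theorem vec_walkRow : ∀ (w : List ℕ), (∀ g ∈ w, g < 10) → ∀ r : ℕ,
    vec 112 (walkRow w r) = vec 112 r ᵥ* prodOf w := by
  intro w
  induction w with
  | nil => intro _ r; simp [prodOf]
  | cons g w ih =>
    intro hw r
    rw [walkRow_cons, ih (fun a ha => hw a (List.mem_cons_of_mem _ ha)),
      vec_comb (length_mat (hw g List.mem_cons_self)), prodOf, prodOf, List.map_cons, List.prod_cons,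
      Matrix.vecMul_vecMul]

/-- Every basis row is sent by the word to the given row. -/
noncomputable def rowsOK (w : List ℕ) (C : List ℕ) : Bool :=
  w.all (fun g => Nat.blt g 10) &&
    (List.range 112).all fun i => Nat.beq (walkRow w (2 ^ i)) (C.getD i 0)

theorem prodOf_eq {w C : List ℕ} (h : rowsOK w C = true) : prodOf w = dec 112 C := by
  simp only [rowsOK, Bool.and_eq_true, List.all_eq_true, Nat.blt_eq, List.mem_range, Nat.beq_eq] at h
  funext i j
  have hv := congrFun (vec_walkRow w h.1 (2 ^ (i : ℕ))) j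
  rw [h.2 i i.2] at hv
  have he : vec 112 (2 ^ (i : ℕ)) = Pi.single i 1 := by
    funext k
    rw [vec, Nat.testBit_two_pow, Pi.single_apply]
    by_cases hik : k = i
    · simp [hik, bz]
    · rw [if_neg hik, bz, if_neg (by simpa using fun e => hik (Fin.ext e.symm))]
  rw [he, Matrix.single_one_vecMul] at hv
  exact hv.symm

theorem prodOf_one {w : List ℕ} (h : rowsOK w (oneP 112) = true) : prodOf w = 1 := by
  rw [prodOf_eq h, dec_oneP]

theorem def4 : prodOf [0, 1] = dec 112 (mat 4) :=
  prodOf_eq (C := mat 4) (by decide +kernel)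

theorem def5 : prodOf [0, 3, 0, 1] = dec 112 (mat 5) :=
  prodOf_eq (C := mat 5) (by decide +kernel)

theorem def6 : prodOf [0, 3, 0, 3, 0, 1, 0, 1] = dec 112 (mat 6) :=
  prodOf_eq (C := mat 6) (by decide +kernel)

theorem def7 : prodOf [0, 1, 0, 1, 0, 3, 0, 1, 0, 3, 0, 1, 0, 3] = dec 112 (mat 7) :=
  prodOf_eq (C := mat 7) (by decide +kernel)

theorem def8 : prodOf [1, 0, 1, 0, 3, 0, 1, 0, 3, 2, 1, 0, 3, 0, 1, 0, 3, 0] = dec 112 (mat 8) :=
  prodOf_eq (C := mat 8) (by decide +kernel)

theorem def9 : prodOf [1, 0, 1, 0, 1, 0, 1, 1, 0, 1, 0, 1, 0, 1, 1, 0, 1, 0, 1, 0, 1, 2, 3, 3, 0, 3, 0, 3, 0, 3, 0, 3, 0, 3, 0, 3, 3, 0, 3, 0, 3, 0, 2, 0, 1, 0, 1, 0, 1, 1, 0, 1, 0, 1, 0, 1, 0, 1, 0, 1, 0, 1, 1] = dec 112 (mat 9) :=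
  prodOf_eq (C := mat 9) (by decide +kernel)

theorem one_r0 : prodOf [0, 0] = 1 :=
  prodOf_one (by decide +kernel)

theorem one_r1 : prodOf [1, 1, 1] = 1 :=
  prodOf_one (by decide +kernel)

theorem one_r2 : prodOf [4, 4, 4, 4, 4, 4, 4, 4, 4, 4, 4, 4, 4, 4, 4, 4, 4, 4, 4, 4, 4, 4, 4] = 1 :=
  prodOf_one (by decide +kernel)

theorem one_r3 : prodOf [5, 5, 5, 5, 5, 5, 5, 5, 5, 5, 5, 5] = 1 :=
  prodOf_one (by decide +kernel)

theorem one_r4 : prodOf [6, 6, 6, 6, 6] = 1 :=
  prodOf_one (by decide +kernel)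

theorem one_r5 : prodOf [7, 7, 7, 7] = 1 :=
  prodOf_one (by decide +kernel)

theorem one_r6 : prodOf [0, 1, 0, 1, 0, 3, 0, 1, 0, 1, 0, 3, 0, 1, 0, 1, 0, 3, 0, 1, 0, 3, 0, 3, 0, 1, 0, 3, 0, 3, 0, 1, 0, 3, 0, 3] = 1 :=
  prodOf_one (by decide +kernel)

theorem one_r7 : prodOf [2, 2] = 1 :=
  prodOf_one (by decide +kernel)

theorem one_r8 : prodOf [2, 3, 0, 3, 0, 3, 0, 1, 0, 1, 0, 3, 0, 3, 2, 1, 0, 1, 0, 3, 0, 3, 0, 1, 0, 1, 0, 1] = 1 :=
  prodOf_one (by decide +kernel)

theorem one_r9 : prodOf [2, 0, 2, 0] = 1 :=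
  prodOf_one (by decide +kernel)

theorem one_r10 : prodOf [8, 8, 8] = 1 :=
  prodOf_one (by decide +kernel)

theorem one_r11 : prodOf [9, 9] = 1 :=
  prodOf_one (by decide +kernel)

theorem one_r12 : prodOf [1, 3] = 1 :=
  prodOf_one (by decide +kernel)

theorem one_r13 : prodOf [3, 1] = 1 :=
  prodOf_one (by decide +kernel)

/-- The generator matrices as units. -/
noncomputable def ux : GL (Fin 112) (ZMod 2) :=
  ⟨dec 112 (mat 0), dec 112 (mat 0), by simpa [prodOf] using one_r0, by simpa [prodOf] using one_r0⟩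

/-- The matrix of `y` as a unit. -/
noncomputable def uy : GL (Fin 112) (ZMod 2) :=
  ⟨dec 112 (mat 1), dec 112 (mat 3), by simpa [prodOf] using one_r12,
    by simpa [prodOf] using one_r13⟩

/-- The matrix of `t` as a unit. -/
noncomputable def ut : GL (Fin 112) (ZMod 2) :=
  ⟨dec 112 (mat 2), dec 112 (mat 2), by simpa [prodOf] using one_r7, by simpa [prodOf] using one_r7⟩

theorem ux_inv : ux⁻¹ = ux := Units.ext rfl

theorem ut_inv : ut⁻¹ = ut := Units.ext rfl

/-- The images of the generators. -/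
noncomputable def img : Cfsg.Spor.J4.Gen → GL (Fin 112) (ZMod 2)
  | .x => ux
  | .y => uy
  | .t => ut

/-- Letters as units. -/
noncomputable def letter : ℕ → GL (Fin 112) (ZMod 2)
  | 0 => ux
  | 1 => uy
  | 2 => ut
  | _ => uy⁻¹

theorem letter_val : ∀ g, g < 4 → ((letter g : GL (Fin 112) (ZMod 2)) :
    Matrix (Fin 112) (Fin 112) (ZMod 2)) = dec 112 (mat g) := by
  intro g hg
  interval_cases g <;> rfl

theorem val_prod (w : List ℕ) (hw : ∀ g ∈ w, g < 4) :
    (((w.map letter).prod : GL (Fin 112) (ZMod 2)) : Matrix (Fin 112) (Fin 112) (ZMod 2)) =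
      prodOf w := by
  induction w with
  | nil => simp [prodOf]
  | cons g w ih =>
    rw [List.map_cons, List.prod_cons, Units.val_mul,
      ih (fun a ha => hw a (List.mem_cons_of_mem _ ha)), letter_val g (hw g List.mem_cons_self)]
    simp only [prodOf, List.map_cons, List.prod_cons]

theorem letter_one {w : List ℕ} (hw : ∀ g ∈ w, g < 4) (h : prodOf w = 1) :
    (w.map letter).prod = 1 :=
  Units.ext (by rw [val_prod w hw, h, Units.val_one])

/-- A power of a word whose product is a stored matrix. -/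
theorem letter_pow_one {w : List ℕ} {j k : ℕ} (hw : ∀ g ∈ w, g < 4)
    (hd : prodOf w = dec 112 (mat j)) (h : prodOf (List.replicate k j) = 1) :
    (w.map letter).prod ^ k = 1 := by
  refine Units.ext ?_
  rw [Units.val_pow_eq_pow_val, val_prod w hw, hd, Units.val_one]
  rw [prodOf, List.map_replicate, List.prod_replicate] at h
  exact h

set_option maxHeartbeats 1000000 in
theorem rels : ∀ r ∈ Cfsg.Spor.coxRelators Cfsg.Spor.J4.edges ∪ {r | r ∈ Cfsg.Spor.J4.extra},
    FreeGroup.lift img r = 1 := by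
  have hi := ux_inv
  have ht := ut_inv
  have e2 := letter_pow_one (w := [0, 1]) (k := 23) (by decide) def4 one_r2
  have e3 := letter_pow_one (w := [0, 3, 0, 1]) (k := 12) (by decide) def5 one_r3
  have e4 := letter_pow_one (w := [0, 3, 0, 3, 0, 1, 0, 1]) (k := 5) (by decide) def6 one_r4
  have e5 := letter_pow_one (k := 4) (by decide) def7 one_r5
  have e6 := letter_one (by decide) one_r6
  have e8 := letter_one (by decide) one_r8
  have e9 := letter_one (by decide) one_r9
  have e10 := letter_pow_one (k := 3) (by decide) def8 one_r10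
  have e11 := letter_pow_one (k := 2) (by decide) def9 one_r11
  rintro r (⟨a, ha, -⟩ | hr)
  · simp [Cfsg.Spor.J4.edges, Cfsg.Spor.coxNodes] at ha
  · simp only [Cfsg.Spor.J4.extra, Set.mem_ofPred_eq, List.mem_cons, List.not_mem_nil, or_false] at hr
    simp only [List.map_cons, List.map_nil, List.prod_cons, List.prod_nil, mul_one, letter] at e2 e3 e4 e5 e6 e8 e9 e10 e11
    rcases hr with rfl | rfl | rfl | rfl | rfl | rfl | rfl | rfl | rfl | rfl | rfl | rfl <;>
      simp only [map_mul, map_pow, map_inv, FreeGroup.lift_apply_of, img,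
        Cfsg.Spor.J4.x, Cfsg.Spor.J4.y, Cfsg.Spor.J4.t]
    · rw [pow_two]; exact Units.ext (by simpa [prodOf, ux] using one_r0)
    · rw [pow_three]; exact Units.ext (by simpa [prodOf, uy] using one_r1)
    · exact e2
    · simpa only [hi, mul_assoc] using e3
    · simpa only [hi, mul_inv_rev, mul_assoc] using e4
    · simpa only [hi, pow_succ, pow_zero, one_mul, mul_assoc] using e5
    · simpa only [hi, pow_succ, pow_zero, one_mul, mul_assoc] using e6
    · rw [pow_two]; exact Units.ext (by simpa [prodOf, ut] using one_r7)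
    · simpa only [hi, ht, inv_inv, mul_inv_rev, pow_succ, pow_zero, one_mul, mul_assoc] using e8
    · simpa only [hi, ht, mul_assoc] using e9
    · simpa only [hi, ht, inv_inv, mul_inv_rev, pow_succ, pow_zero, one_mul, mul_assoc] using e10
    · simpa only [hi, ht, inv_inv, mul_inv_rev, pow_succ, pow_zero, one_mul, mul_assoc] using e11

/-- The representation of the presented group. -/
noncomputable def rep : Cfsg.Spor.J4 →* GL (Fin 112) (ZMod 2) := PresentedGroup.toGroup rels

theorem rep_x : rep (PresentedGroup.of Cfsg.Spor.J4.Gen.x) = ux := PresentedGroup.toGroup.of rels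

theorem rep_y : rep (PresentedGroup.of Cfsg.Spor.J4.Gen.y) = uy := PresentedGroup.toGroup.of rels

theorem ux_ne : ux ≠ 1 := by
  intro h
  have h1 : fitsP 112 (mat 0) = true := by decide +kernel
  have h2 : fitsP 112 (oneP 112) = true := by decide +kernel
  have h3 : eqP (mat 0) (oneP 112) = false := by decide +kernel
  have he : mat 0 = oneP 112 := dec_inj h1 h2 (by
    rw [dec_oneP]; simpa [ux] using congrArg Units.val h)
  rw [he] at h3
  revert h3
  decide +kernel

theorem x_ne_one : PresentedGroup.of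
    (rels := Cfsg.Spor.coxRelators Cfsg.Spor.J4.edges ∪ {r | r ∈ Cfsg.Spor.J4.extra})
    Cfsg.Spor.J4.Gen.x ≠ 1 := by
  intro h
  exact ux_ne (by rw [← rep_x, h, map_one])

end Cfsg.Agent.Presented.J4Rep
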