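import Mathlib

/-!
# Small integer vectors packed into natural numbers

A vector with entries of absolute value below 512 is stored in fields of 17 bits, each entry raised by
512.  Sums of at most 127 such numbers have no carries.
-/

set_option autoImplicit false

namespace Cfsg.Agent.Presented.PackedVec

/-- Field number `k`. -/
def dig (U k : ℕ) : ℕ := U / 2 ^ (17 * k) % 2 ^ 17

theorem dig_succ (U k : ℕ) : dig U (k + 1) = dig (U / 2 ^ 17) k := by
  rw [dig, dig, Nat.div_div_eq_div_mul, ← pow_add, show 17 + 17 * k = 17 * (k + 1) by ring]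

theorem dig_zero (U : ℕ) : dig U 0 = U % 2 ^ 17 := by simp [dig]

theorem dig_add : ∀ (k a b : ℕ), (∀ i ≤ k, dig a i + dig b i < 2 ^ 17) → dig (a + b) k = dig a k + dig b k := by
  intro k
  induction k with
  | zero =>
    intro a b h
    have h0 := h 0 le_rfl
    rw [dig_zero, dig_zero] at h0
    rw [dig_zero, dig_zero, dig_zero]
    omega
  | succ k ih =>
    intro a b h
    have h0 := h 0 (Nat.zero_le _)
    rw [dig_zero, dig_zero] at h0
    rw [dig_succ, dig_succ, dig_succ,
      show (a + b) / 2 ^ 17 = a / 2 ^ 17 + b / 2 ^ 17 by omega]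
    refine ih _ _ fun i hi => ?_
    have := h (i + 1) (by omega)
    rwa [dig_succ, dig_succ] at this

/-- All fields are below 1024. -/
def Small (U : ℕ) : Prop := ∀ k, dig U k < 2 ^ 10

theorem dig_sum : ∀ (L : List ℕ), L.length ≤ 127 → (∀ U ∈ L, Small U) → ∀ k,
    dig L.sum k = (L.map fun U => dig U k).sum ∧ dig L.sum k ≤ L.length * 2 ^ 10 := by
  intro L
  induction L with
  | nil => intro _ _ k; simp [dig]
  | cons U L ih =>
    intro hl hs k
    simp only [List.length_cons] at hl
    have ih' := ih (by omega) (fun V hV => hs V (List.mem_cons_of_mem _ hV))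
    have hadd : dig (U + L.sum) k = dig U k + dig L.sum k := by
      refine dig_add k U L.sum fun i _ => ?_
      have h1 := hs U List.mem_cons_self i
      have h2 := (ih' i).2
      omega
    rw [List.sum_cons, hadd, (ih' k).1, List.map_cons, List.sum_cons, List.length_cons]
    refine ⟨rfl, ?_⟩
    have h1 := hs U List.mem_cons_self k
    have h2 := (ih' k).2
    rw [(ih' k).1] at h2
    rw [Nat.succ_mul]
    omega

/-- The mask of the high bits of `n` fields. -/
noncomputable def mask (n : ℕ) : ℕ :=
  Nat.rec 0 (fun _ ih => Nat.add (Nat.shiftLeft ih 17) 130048) n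

/-- The mask is right at every field. -/
noncomputable def maskOK (n : ℕ) : Bool :=
  (List.range n).all fun k => Nat.beq (dig (mask n) k) 130048

/-- The fields below `n` are small and the others vanish. -/
noncomputable def smallB (n M U : ℕ) : Bool :=
  Nat.beq (Nat.land U M) 0 && Nat.blt U (Nat.pow 2 (17 * n))

theorem dig_land (U M k : ℕ) : dig (U &&& M) k = dig U k &&& dig M k := by
  refine Nat.eq_of_testBit_eq fun i => ?_
  simp only [dig, Nat.testBit_and, Nat.testBit_mod_two_pow, Nat.testBit_div_two_pow]
  cases decide (i < 17) <;> simp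

theorem small_of_smallB {n U : ℕ} (hm : maskOK n = true) (h : smallB n (mask n) U = true) :
    Small U ∧ ∀ k, n ≤ k → dig U k = 0 := by
  simp only [smallB, Bool.and_eq_true, Nat.beq_eq, Nat.blt_eq] at h
  have hzero : ∀ k, n ≤ k → dig U k = 0 := by
    intro k hk
    have : U / 2 ^ (17 * k) = 0 :=
      Nat.div_eq_of_lt (h.2.trans_le (Nat.pow_le_pow_right (by norm_num) (by omega)))
    simp [dig, this]
  refine ⟨fun k => ?_, hzero⟩
  by_cases hk : k < n
  · have h1 : dig U k &&& 130048 = 0 := by
      simp only [maskOK, List.all_eq_true, Nat.beq_eq] at hm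
      rw [← hm k (List.mem_range.mpr hk), ← dig_land, show U &&& mask n = 0 from h.1]
      simp [dig]
    refine Nat.lt_pow_two_of_testBit _ fun i hi => ?_
    by_cases hi' : i < 17
    · have h2 := congrArg (fun x => Nat.testBit x i) h1
      simp only [Nat.testBit_and, Nat.zero_testBit] at h2
      have h3 : Nat.testBit 130048 i = true := by interval_cases i <;> decide
      rw [h3, Bool.and_true] at h2
      exact h2
    · exact Nat.testBit_lt_two_pow
        ((Nat.mod_lt _ (Nat.two_pow_pos _)).trans_le (Nat.pow_le_pow_right (by norm_num) (by omega)))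
  · rw [hzero k (by omega)]; norm_num

/-- The packed zero vector of length `n`. -/
noncomputable def zeroV (n : ℕ) : ℕ :=
  Nat.rec 0 (fun _ ih => Nat.add (Nat.shiftLeft ih 17) 512) n

/-- The packed unit vector. -/
noncomputable def unitV (n i : ℕ) : ℕ := Nat.add (zeroV n) (Nat.pow 2 (17 * i))

/-- The zero and unit vectors are right at every field. -/
noncomputable def basisOK (n : ℕ) : Bool :=
  smallB n (mask n) (zeroV n) &&
    ((List.range n).all fun k => Nat.beq (dig (zeroV n) k) 512) &&
      (List.range n).all fun i => smallB n (mask n) (unitV n i) &&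
        (List.range n).all fun k => Nat.beq (dig (unitV n i) k) (if Nat.beq i k then 513 else 512)

section

variable {A : Type*} [CommGroup A]

/-- The element of `A` described by an integer vector. -/
def phi {n : ℕ} (c : Fin n → A) (v : Fin n → ℤ) : A := ∏ k, c k ^ v k

theorem phi_zero {n : ℕ} (c : Fin n → A) : phi c 0 = 1 := by simp [phi]

theorem phi_add {n : ℕ} (c : Fin n → A) (v w : Fin n → ℤ) : phi c (v + w) = phi c v * phi c w := by
  simp [phi, zpow_add, Finset.prod_mul_distrib]

theorem phi_smul {n : ℕ} (c : Fin n → A) (z : ℤ) (v : Fin n → ℤ) : phi c (z • v) = phi c v ^ z := by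
  simp only [phi, Pi.smul_apply, smul_eq_mul, ← Finset.prod_zpow, ← zpow_mul, mul_comm]

theorem phi_sum {n : ℕ} (c : Fin n → A) {ι : Type*} (t : Finset ι) (f : ι → Fin n → ℤ) :
    phi c (∑ i ∈ t, f i) = ∏ i ∈ t, phi c (f i) := by
  classical
  induction t using Finset.induction with
  | empty => simp [phi_zero]
  | insert a t ha ih => rw [Finset.sum_insert ha, Finset.prod_insert ha, phi_add, ih]

theorem phi_single {n : ℕ} (c : Fin n → A) (i : Fin n) :
    phi c (fun k => if i = k then 1 else 0) = c i := by
  rw [phi, Finset.prod_eq_single i]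
  · simp
  · intro b _ hb; simp [Ne.symm hb]
  · simp

/-- The vector of a packed number. -/
def vecOf (n U : ℕ) : Fin n → ℤ := fun k => (dig U k : ℤ) - 512

/-- The element described by a packed number. -/
def psi {n : ℕ} (c : Fin n → A) (U : ℕ) : A := phi c (vecOf n U)

/-- The vector of a list of packed numbers. -/
def vecList (n : ℕ) (L : List ℕ) : Fin n → ℤ := fun k => ((L.map fun U => dig U k).sum : ℤ) - 512 * L.length

theorem prod_psi {n : ℕ} (c : Fin n → A) : ∀ L : List ℕ, (L.map (psi c)).prod = phi c (vecList n L) := by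
  intro L
  induction L with
  | nil =>
    rw [List.map_nil, List.prod_nil, ← phi_zero c]
    congr 1
  | cons U L ih =>
    rw [List.map_cons, List.prod_cons, ih, psi, ← phi_add]
    congr 1
    funext k
    simp only [Pi.add_apply, vecOf, vecList, List.map_cons, List.sum_cons, List.length_cons]
    push_cast
    ring

theorem prod_psi_eq {n : ℕ} (c : Fin n → A) {L M : List ℕ} (hlen : L.length = M.length) (h63 : L.length ≤ 127)
    (hL : ∀ U ∈ L, Small U) (hM : ∀ U ∈ M, Small U) (h : L.sum = M.sum) :
    (L.map (psi c)).prod = (M.map (psi c)).prod := by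
  rw [prod_psi, prod_psi]
  congr 1
  funext k
  have h1 := (dig_sum L h63 hL k).1
  have h2 := (dig_sum M (hlen ▸ h63) hM k).1
  rw [h] at h1
  simp only [vecList, hlen]
  rw [← h1, ← h2]

theorem psi_zeroV {n : ℕ} (h : basisOK n = true) (c : Fin n → A) : psi c (zeroV n) = 1 := by
  simp only [basisOK, Bool.and_eq_true, List.all_eq_true, Nat.beq_eq] at h
  rw [psi, ← phi_zero c]
  congr 1
  funext k
  simp [vecOf, h.1.2 k (List.mem_range.mpr k.2)]

theorem psi_unitV {n : ℕ} (h : basisOK n = true) (c : Fin n → A) (i : Fin n) :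
    psi c (unitV n i) = c i := by
  simp only [basisOK, Bool.and_eq_true, List.all_eq_true, Nat.beq_eq] at h
  rw [psi, ← phi_single c i]
  congr 1
  funext k
  rw [vecOf, (h.2 i (List.mem_range.mpr i.2)).2 k (List.mem_range.mpr k.2)]
  by_cases hik : i = k
  · subst hik; simp
  · simp [hik, Fin.val_ne_of_ne hik]

theorem small_zeroV {n : ℕ} (hm : maskOK n = true) (h : basisOK n = true) : Small (zeroV n) := by
  simp only [basisOK, Bool.and_eq_true] at h
  exact (small_of_smallB hm h.1.1).1

theorem small_unitV {n : ℕ} (hm : maskOK n = true) (h : basisOK n = true) {i : ℕ} (hi : i < n) :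
    Small (unitV n i) := by
  simp only [basisOK, Bool.and_eq_true, List.all_eq_true] at h
  exact (small_of_smallB hm (h.2 i (List.mem_range.mpr hi)).1).1

end

end Cfsg.Agent.Presented.PackedVec
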