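import Cfsg.Agent.Lib.Presented.LinCert

/-!
# Linear coset-table certificates allowing a kernel of order two

As `LinCert.exact_lifts`, but the rescaled relators are combinations of the selected equations and of
the rescaled value of one relator, twice which is itself such a combination.
-/

set_option autoImplicit false

namespace Cfsg.Agent.Presented

open PackedVec

namespace LinCert

/-- Every rescaled relator vector is a combination of the selected equations and of that of relator
`kill`, twice which is a combination of the equations. -/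
def checkMod (L : LinCert) (kill : ℕ) (fs : List ℤ) (co2 : List ℤ) : Bool :=
  ((List.range L.D.m).all fun j => (List.range L.n).all fun k =>
    Nat.blt k L.nc || decide ((L.u.getD j []).getD k 0 = 0)) &&
  ((List.range L.nc).all fun r => ((L.cws.getD r []).all fun g => Nat.blt g L.D.m) &&
    (List.range L.n).all fun k => decide (L.target r k - fs.getD r 0 * L.target kill k =
      ((List.range L.sel.length).map fun t => (L.coef.getD r []).getD t 0 * (L.evec.getD t []).getD k 0).sum)) &&
  Nat.ble L.nc L.n && Nat.blt kill L.nc &&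
  ((List.range L.n).all fun k => decide (2 * L.target kill k =
      ((List.range L.sel.length).map fun t => co2.getD t 0 * (L.evec.getD t []).getD k 0).sum))

/-- A combination of vectors of length `n`. -/
def linComb (n : ℕ) : List ℤ → List (List ℤ) → List ℤ
  | c :: cs, v :: vs => List.zipWith (fun a b => a + c * b) (linComb n cs vs) v
  | _, _ => List.replicate n 0

theorem linComb_length (n : ℕ) : ∀ (cs : List ℤ) (vs : List (List ℤ)), (∀ v ∈ vs, v.length = n) →
    (linComb n cs vs).length = n := by
  intro cs
  induction cs with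
  | nil => intro vs _; simp [linComb]
  | cons c cs ih =>
    intro vs h
    cases vs with
    | nil => simp [linComb]
    | cons v vs =>
      simp [linComb, ih vs fun w hw => h w (List.mem_cons_of_mem _ hw), h v List.mem_cons_self]

theorem linComb_getD (n : ℕ) : ∀ (cs : List ℤ) (vs : List (List ℤ)), (∀ v ∈ vs, v.length = n) →
    ∀ k, k < n → (linComb n cs vs).getD k 0 =
      ((List.range vs.length).map fun t => cs.getD t 0 * (vs.getD t []).getD k 0).sum := by
  intro cs
  induction cs with
  | nil => intro vs _ k hk; simp [linComb, hk]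
  | cons c cs ih =>
    intro vs h k hk
    cases vs with
    | nil => simp [linComb, hk]
    | cons v vs =>
      have hv := h v List.mem_cons_self
      have hl := linComb_length n cs vs fun w hw => h w (List.mem_cons_of_mem _ hw)
      rw [List.length_cons, List.range_succ_eq_map, List.map_cons, List.sum_cons, List.map_map, linComb,
        List.getD_eq_getElem _ _ (by simp [hl, hv, hk]), List.getElem_zipWith,
        ← List.getD_eq_getElem _ (0 : ℤ) (by omega : k < (linComb n cs vs).length),
        ← List.getD_eq_getElem _ (0 : ℤ) (by omega : k < v.length),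
        ih vs (fun w hw => h w (List.mem_cons_of_mem _ hw)) k hk, add_comm]
      rfl

/-- The multiplicities of the generators in word `r`. -/
def counts (L : LinCert) (r : ℕ) : List ℤ :=
  (List.range L.D.m).map fun j => ((L.cws.getD r []).count j : ℤ)

/-- The rescaled vector of relator `r`. -/
def targetList (L : LinCert) (r : ℕ) : List ℤ :=
  List.zipWith (fun a b => a - b) ((List.range L.n).map fun k => if r = k then 1 else 0)
    (linComb L.n (counts L r) L.u)

/-- Relator `r` passes the check of `checkMod`. -/
def modRowOK (L : LinCert) (tk fs : List ℤ) (r : ℕ) : Bool :=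
  ((L.cws.getD r []).all fun g => Nat.blt g L.D.m) &&
  List.zipWith (fun a b => a - fs.getD r 0 * b) (targetList L r) tk ==
    linComb L.n (L.coef.getD r []) L.evec

/-- The remaining part of the check. -/
def modShapeOK (L : LinCert) (kill : ℕ) (co2 : List ℤ) : Bool :=
  ((List.range L.D.m).all fun j => (List.range L.n).all fun k =>
    Nat.blt k L.nc || decide ((L.u.getD j []).getD k 0 = 0)) &&
  Nat.ble L.nc L.n && Nat.blt kill L.nc &&
  Nat.beq L.u.length L.D.m && Nat.beq L.evec.length L.sel.length &&
  (L.u.all fun v => Nat.beq v.length L.n) && (L.evec.all fun v => Nat.beq v.length L.n) &&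
  List.map (fun a => 2 * a) (targetList L kill) == linComb L.n co2 L.evec

theorem targetList_spec {L : LinCert} (hu : ∀ v ∈ L.u, v.length = L.n) (hm : L.u.length = L.D.m) (r : ℕ) :
    (targetList L r).length = L.n ∧ ∀ k, k < L.n → (targetList L r).getD k 0 = L.target r k := by
  have hl := linComb_length L.n (counts L r) L.u hu
  refine ⟨by simp [targetList, hl], fun k hk => ?_⟩
  rw [List.getD_eq_getElem _ _ (by simp [targetList, hl, hk])]
  simp only [targetList, List.getElem_zipWith, List.getElem_map, List.getElem_range]
  rw [← List.getD_eq_getElem _ (0 : ℤ) (by omega : k < (linComb L.n (counts L r) L.u).length),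
    linComb_getD _ _ _ hu k hk, hm, target]
  congr 2
  refine List.map_congr_left fun j hj => ?_
  rw [List.mem_range] at hj
  rw [counts, List.getD_eq_getElem _ _ (by simpa using hj), List.getElem_map, List.getElem_range]

/-- `checkMod` from the row checks. -/
theorem checkMod_of_rows {L : LinCert} {kill : ℕ} {fs co2 tk : List ℤ}
    (hs : modShapeOK L kill co2 = true) (htk : targetList L kill = tk)
    (hrows : ∀ r, r < L.nc → modRowOK L tk fs r = true) : checkMod L kill fs co2 = true := by
  simp only [modShapeOK, Bool.and_eq_true, List.all_eq_true, List.mem_range, Nat.beq_eq, Nat.ble_eq,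
    Nat.blt_eq, beq_iff_eq, Bool.or_eq_true, decide_eq_true_eq] at hs
  obtain ⟨⟨⟨⟨⟨⟨⟨hu, hn⟩, hk⟩, hm⟩, hev⟩, hul⟩, hel⟩, htwo⟩ := hs
  simp only [checkMod, Bool.and_eq_true, List.all_eq_true, List.mem_range, Nat.ble_eq, Nat.blt_eq,
    Bool.or_eq_true, decide_eq_true_eq]
  refine ⟨⟨⟨⟨hu, fun r hr => ?_⟩, hn⟩, hk⟩, fun k hkn => ?_⟩
  · have h := hrows r hr
    simp only [modRowOK, Bool.and_eq_true, List.all_eq_true, Nat.blt_eq, beq_iff_eq] at h
    refine ⟨h.1, fun k hkn => ?_⟩
    have h2 := congrArg (fun l => l.getD k 0) h.2
    obtain ⟨l1, t1⟩ := targetList_spec hul hm r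
    obtain ⟨l2, t2⟩ := targetList_spec hul hm kill
    rw [← htk] at h2
    simp only [linComb_getD _ _ _ hel k hkn, hev] at h2
    have hz : k < (List.zipWith (fun a b => a - fs.getD r 0 * b) (targetList L r) (targetList L kill)).length := by
      rw [List.length_zipWith, l1, l2, min_self]; exact hkn
    rw [List.getD_eq_getElem _ _ hz, List.getElem_zipWith] at h2
    rw [← h2, ← t1 k hkn, ← t2 k hkn,
      List.getD_eq_getElem _ _ (l1.symm ▸ hkn : k < (targetList L r).length),
      List.getD_eq_getElem _ _ (l2.symm ▸ hkn : k < (targetList L kill).length)]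
  · have h2 := congrArg (fun l => l.getD k 0) htwo
    obtain ⟨l2, t2⟩ := targetList_spec hul hm kill
    simp only [linComb_getD _ _ _ hel k hkn, hev] at h2
    have hz : k < (List.map (fun a => 2 * a) (targetList L kill)).length := by
      rw [List.length_map, l2]; exact hkn
    rw [List.getD_eq_getElem _ _ hz, List.getElem_map] at h2
    rw [← h2, ← t2 k hkn, List.getD_eq_getElem _ _ (l2.symm ▸ hkn : k < (targetList L kill).length)]

section

variable {L : LinCert} {Γ G : Type*} [Group Γ] [Group G] (σ : Γ →* G)

/-- Lifts satisfying all relators up to one central element of order at most two. -/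
theorem lifts_mod (hsurj : Function.Surjective σ) (hc : σ.ker ≤ Subgroup.center Γ)
    (hedge : L.D.edgesOK = true) (hnode : L.D.nodesOK = true) (hlab : L.labelsOK = true) (hpack : L.packOK = true)
    (hsel : L.checkSel = true) (kill : ℕ) (fs : List ℤ) (co2 : List ℤ) (hcomb : checkMod L kill fs co2 = true)
    {s : ℕ → G} {H : Subgroup G} (e : Fin L.D.N ≃ G ⧸ H)
    (he0 : ∀ i : Fin L.D.N, (i : ℕ) = 0 → e i = QuotientGroup.mk 1)
    (he : ∀ g (hgm : g < L.D.m) (i : Fin L.D.N),
      s g • e i = e ⟨L.D.actOf i g, CosetCert.actOf_lt hedge hnode i.2 hgm⟩)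
    (hrels : ∀ r, r < L.nc → wval s (L.cws.getD r []) = 1)
    {A : Type*} [CommGroup A] (τ : H.comap σ →* A)
    (hτ : ∀ x : H.comap σ, σ x = 1 → τ x = 1 → (x : Γ) = 1) :
    ∃ (X : ℕ → Γ) (z₀ : Γ), z₀ ∈ Subgroup.center Γ ∧ σ z₀ = 1 ∧ z₀ * z₀ = 1 ∧ (∀ g, σ (X g) = s g) ∧
      ∀ r, r < L.nc → wval X (L.cws.getD r []) ∈ Subgroup.zpowers z₀ := by
  classical
  choose X hX using fun g => hsurj (s g)
  have hσw : ∀ w, σ (wval X w) = wval s w := fun w => by rw [wval_map]; simp only [hX]
  have hn := hnode
  simp only [CosetCert.nodesOK, Bool.and_eq_true, Nat.blt_eq] at hn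
  obtain ⟨⟨hn0, hN⟩, hm⟩ := hn
  have hparent : ∀ j, 0 < j → j < L.D.N → L.D.par.get L.D.pw j / L.D.m < j ∧
      L.D.par.get L.D.pw j % L.D.m < L.D.m ∧
      L.D.actOf (L.D.par.get L.D.pw j / L.D.m) (L.D.par.get L.D.pw j % L.D.m) = j := by
    intro j h0 hj
    have h := checkBelow_spec hn0 j hj
    simp only [CosetCert.checkNode, force_eq, Bool.or_eq_true, Bool.and_eq_true, Nat.blt_eq,
      Nat.beq_eq] at h
    rcases h with h | h
    · omega
    · refine ⟨h.1.1, Nat.mod_lt _ hm, ?_⟩
      rw [CosetCert.actOf, mul_comm, Nat.div_add_mod]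
      exact h.2
  -- lifts of the representatives
  obtain ⟨T, hT0, hT⟩ : ∃ T : ℕ → Γ, T 0 = 1 ∧ ∀ j, 0 < j → j < L.D.N →
      T j = X (L.D.par.get L.D.pw j % L.D.m) * T (L.D.par.get L.D.pw j / L.D.m) := by
    refine ⟨fun j => WellFounded.fix Nat.lt_wfRel.wf (fun j rec =>
      if h : 0 < j ∧ j < L.D.N then
        X (L.D.par.get L.D.pw j % L.D.m) * rec _ (hparent j h.1 h.2).1
      else 1) j, ?_, fun j h0 hj => ?_⟩
    · simp only; rw [WellFounded.fix_eq]; simp
    · simp only
      conv_lhs => rw [WellFounded.fix_eq]
      rw [dif_pos ⟨h0, hj⟩]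
  have hTe : ∀ j (hj : j < L.D.N), (QuotientGroup.mk (σ (T j)) : G ⧸ H) = e ⟨j, hj⟩ := by
    intro j
    induction j using Nat.strong_induction_on with
    | _ j ih =>
      intro hj
      rcases Nat.eq_zero_or_pos j with h0 | h0
      · subst h0; rw [hT0, map_one, he0 ⟨0, hj⟩ rfl]
      · obtain ⟨h1, h2, h3⟩ := hparent j h0 hj
        rw [hT j h0 hj, map_mul, hX]
        have := he _ h2 ⟨_, h1.trans hj⟩
        rw [← ih _ h1 (h1.trans hj)] at this
        refine this.trans ?_
        exact congrArg e (Fin.ext h3)
  let τ' : Γ → A := fun x => if h : x ∈ (H.comap σ) then τ ⟨x, h⟩ else 1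
  have hτmul : ∀ x y, x ∈ (H.comap σ) → y ∈ (H.comap σ) → τ' (x * y) = τ' x * τ' y := fun x y hx hy => by
    simp only [τ', dif_pos hx, dif_pos hy, dif_pos (mul_mem hx hy), ← map_mul]; rfl
  have hker : ∀ x, σ x = 1 → x ∈ (H.comap σ) := fun x hx => by
    rw [Subgroup.mem_comap, hx]; exact one_mem H
  -- loops along words
  let el : List ℕ → ℕ → Γ := fun w i => (T (L.D.path w i))⁻¹ * wval X w * T i
  have helP : ∀ w, (∀ g ∈ w, g < L.D.m) → ∀ i, i < L.D.N → el w i ∈ (H.comap σ) := by
    intro w hw i hi
    have h := CosetCert.smul_path hedge hnode e he w hw ⟨i, hi⟩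
    have hlt := CosetCert.path_lt hedge hnode w hw hi
    rw [← hTe i hi, ← hTe _ hlt, MulAction.Quotient.smul_mk, QuotientGroup.eq] at h
    rw [Subgroup.mem_comap]
    simp only [el, map_mul, map_inv, hσw]
    rw [show (σ (T (L.D.path w i)))⁻¹ * wval s w * σ (T i) = ((wval s w • σ (T i))⁻¹ * σ (T (L.D.path w i)))⁻¹
      by simp [smul_eq_mul, mul_assoc]]
    exact inv_mem h
  let lam : ℕ → A := fun ed => τ' (el [ed % L.D.m] (ed / L.D.m))
  have hloop : ∀ w, (∀ g ∈ w, g < L.D.m) → ∀ i, i < L.D.N →
      τ' (el w i) = ((L.edges w i).map lam).prod := by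
    intro w
    induction w with
    | nil =>
      intro _ i _
      simp only [el, wval, CosetCert.path_nil, mul_one, inv_mul_cancel, edges, List.map_nil, List.prod_nil]
      simp [τ', one_mem]
      exact map_one τ
    | cons g w ih =>
      intro hw i hi
      have hg : g < L.D.m := hw g List.mem_cons_self
      have hw' : ∀ a ∈ w, a < L.D.m := fun a ha => hw a (List.mem_cons_of_mem _ ha)
      have hj := CosetCert.actOf_lt hedge hnode hi hg
      have hmul : el (g :: w) i = el w (L.D.actOf i g) * el [g] i := by
        simp only [el, wval, CosetCert.path_cons, CosetCert.path_nil, one_mul]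
        group
      have hd := L.D.div_mod_edge (i := i) hg
      rw [hmul, hτmul _ _ (helP w hw' _ hj) (helP [g] (by simpa using hg) i hi), ih hw' _ hj,
        edges, List.map_cons, List.prod_cons, mul_comm]
      simp only [lam, hd.1, hd.2]
  -- the constants
  let c : Fin L.n → A := fun k => τ' (wval X (L.cws.getD k []))
  have hpack' := hpack
  simp only [packOK, Bool.and_eq_true] at hpack'
  obtain ⟨hmask, hbasis⟩ := hpack'
  have hcwm : ∀ g, g < L.D.m → L.cws.getD g [] = [g, g] := fun g hg => by
    rw [cws, List.getD_append _ _ _ _ (by simpa using hg), List.getD_eq_getElem _ _ (by simpa using hg),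
      List.getElem_map, List.getElem_range]
  have hcwr : ∀ r, L.cws.getD (L.D.m + r) [] = L.D.words.getD r [] := fun r => by
    rw [cws, List.getD_append_right _ _ _ _ (by simp), List.length_map, List.length_range,
      Nat.add_sub_cancel_left]
  have hnlen : L.n = L.D.m + L.D.words.length := by simp [n, cws]
  -- a closed walk
  have hclosed : ∀ (k : Fin L.n) i, i < L.D.N → (k.1 < L.nc ∨ i = 0) →
      (∀ g ∈ L.cws.getD k [], g < L.D.m) → L.D.path (L.cws.getD k []) i = i →
      ((L.edges (L.cws.getD k []) i).map lam).prod = c k := by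
    intro k i hi hcase hlt hpath
    rw [← hloop _ hlt i hi]
    simp only [el, c, hpath]
    rcases hcase with hk | rfl
    · have h1 : σ (wval X (L.cws.getD k [])) = 1 := by rw [hσw, hrels k hk]
      have hz : Commute (wval X (L.cws.getD k [])) (T i) :=
        (Subgroup.mem_center_iff.mp (hc h1) (T i)).symm
      rw [mul_assoc, hz.eq, inv_mul_cancel_left]
    · rw [hT0, inv_one, one_mul, mul_one]
  -- every label is right
  have hlabel : ∀ b ed, ed < L.D.N * L.D.m → L.D.rank.get L.D.rw ed < b →
      lam ed = psi c (L.lab ed) ∧ Small (L.lab ed) := by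
    intro b
    induction b with
    | zero => intros; omega
    | succ b ih =>
      intro ed hed hrk
      obtain ⟨i, g, hi, hg, rfl⟩ : ∃ i g, i < L.D.N ∧ g < L.D.m ∧ ed = i * L.D.m + g :=
        ⟨ed / L.D.m, ed % L.D.m, Nat.div_lt_of_lt_mul (by rwa [mul_comm]), Nat.mod_lt _ hm,
          by rw [mul_comm, Nat.div_add_mod]⟩
      have hd := L.D.div_mod_edge (i := i) hg
      have h := checkBelow_spec hlab _ hed
      simp only [checkLabel, force_eq, hd.1, hd.2, Bool.and_eq_true] at h
      obtain ⟨hs, h⟩ := h
      have hsmall := (small_of_smallB hmask hs).1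
      refine ⟨?_, hsmall⟩
      have hE := checkBelow_spec hedge _ hed
      simp only [CosetCert.checkEdge, force_eq, hd.1, hd.2, Bool.and_eq_true, Nat.blt_eq, Nat.beq_eq] at hE
      obtain ⟨⟨hj, hinv⟩, hE⟩ := hE
      change L.D.actOf i g < L.D.N at hj
      change L.D.actOf (L.D.actOf i g) g = i at hinv
      by_cases h0 : L.D.just.get L.D.jw (i * L.D.m + g) % 4 = 0
      · simp only [h0, Nat.beq_refl, cond_true, Bool.and_eq_true, Nat.blt_eq, Nat.beq_eq] at h hE
        change i < L.D.actOf i g ∧ L.D.par.get L.D.pw (L.D.actOf i g) = _ at hE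
        rw [h, psi_zeroV hbasis]
        simp only [lam, hd.1, hd.2, el, wval, one_mul, CosetCert.path_cons, CosetCert.path_nil]
        rw [hT (L.D.actOf i g) (by omega) hj, hE.2, hd.1, hd.2, mul_inv_rev, mul_assoc, mul_assoc,
          inv_mul_cancel_left, inv_mul_cancel]
        simp [τ', one_mem]
        exact map_one τ
      · rw [show Nat.beq (L.D.just.get L.D.jw (i * L.D.m + g) % 4) 0 = false by
          simpa [Bool.eq_false_iff, Nat.beq_eq] using h0, cond_false] at h hE
        by_cases h1 : L.D.just.get L.D.jw (i * L.D.m + g) % 4 = 1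
        · simp only [h1, Nat.beq_refl, cond_true, Nat.blt_eq, Nat.beq_eq] at h hE
          change L.D.rankOf (L.D.actOf i g) g < L.D.rankOf i g at hE
          have hm' := ih _ (L.D.edge_lt hj hg) (lt_of_lt_of_le hE (Nat.lt_succ_iff.mp hrk))
          have hgn : g < L.n := by omega
          have hs' := hclosed ⟨g, hgn⟩ i hi (Or.inl (by simp [nc]; omega))
            (by simp only [hcwm g hg]; simpa using hg) (by simp only [hcwm g hg]; simpa using hinv)
          simp only [hcwm g hg, edges, List.map_cons, List.map_nil, List.prod_cons, List.prod_nil,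
            mul_one] at hs'
          have hp := prod_psi_eq c (L := [L.lab (i * L.D.m + g), L.lab (L.D.actOf i g * L.D.m + g)])
            (M := [unitV L.n g, zeroV L.n]) rfl (by simp)
            (by simp only [List.mem_cons, List.not_mem_nil, or_false, forall_eq_or_imp, forall_eq]
                exact ⟨hsmall, hm'.2⟩)
            (by simp only [List.mem_cons, List.not_mem_nil, or_false, forall_eq_or_imp, forall_eq]
                exact ⟨small_unitV hmask hbasis hgn, small_zeroV hmask hbasis⟩)
            (by simpa using h)
          simp only [List.map_cons, List.map_nil, List.prod_cons, List.prod_nil, mul_one,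
            psi_unitV hbasis c ⟨g, hgn⟩, psi_zeroV hbasis] at hp
          rw [hm'.1, ← hp] at hs'
          exact mul_right_cancel hs'
        · rw [show Nat.beq (L.D.just.get L.D.jw (i * L.D.m + g) % 4) 1 = false by
            simpa [Bool.eq_false_iff, Nat.beq_eq] using h1, cond_false] at h hE
          simp only [Bool.and_eq_true, Bool.or_eq_true, Nat.blt_eq, Nat.beq_eq, Nat.ble_eq] at h hE
          obtain ⟨⟨⟨⟨⟨hst, hr⟩, hsub'⟩, hg'⟩, hA⟩, hB⟩ := hE
          obtain ⟨h63, hsum⟩ := h
          generalize L.D.just.get L.D.jw (i * L.D.m + g) / 4 % 1024 = r at *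
          generalize L.D.just.get L.D.jw (i * L.D.m + g) / 4096 % 1024 = k at *
          generalize L.D.just.get L.D.jw (i * L.D.m + g) / 4194304 = st at *
          have hk : k < (L.D.words.getD r []).length := by
            by_contra hk
            rw [List.getD_eq_default _ _ (Nat.le_of_not_lt hk)] at hg'
            omega
          have hsplit : L.D.words.getD r [] = (L.D.words.getD r []).take k ++
              g :: (L.D.words.getD r []).drop (k + 1) := by
            conv_lhs => rw [← List.take_append_drop k (L.D.words.getD r [])]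
            rw [List.drop_eq_getElem_cons hk, ← List.getD_eq_getElem _ L.D.m hk, hg']
          obtain ⟨ha1, ha2, ha3⟩ := walk_edges hedge hnode _ _ hA hi
          change L.D.walk _ _ (L.D.actOf i g) = st at hB
          obtain ⟨hb1, hb2, hb3⟩ := walk_edges hedge hnode _ _ hB hst
          have hrn : L.D.m + r < L.n := by omega
          have hclose := hclosed ⟨L.D.m + r, hrn⟩ st hst
            (hsub'.imp (fun h => by simp [nc]; omega) id)
            (by
              simp only [hcwr]
              intro a ha
              rw [hsplit, List.mem_append, List.mem_cons] at ha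
              rcases ha with ha | rfl | ha
              · exact ha3 a ha
              · exact hg
              · exact hb3 a ha)
            (by
              simp only [hcwr]
              rw [hsplit, path_append, ha1, CosetCert.path_cons, hb1])
          simp only [hcwr] at hclose
          rw [hsplit, edges_append, ha1] at hclose
          simp only [edges, List.map_append, List.map_cons, List.prod_append, List.prod_cons] at hclose
          set LA := L.edges ((L.D.words.getD r []).take k) st with hLA
          set LB := L.edges ((L.D.words.getD r []).drop (k + 1)) (L.D.actOf i g) with hLB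
          have hold : ∀ ed ∈ LA ++ LB, lam ed = psi c (L.lab ed) ∧ Small (L.lab ed) := by
            intro ed hed'
            rcases List.mem_append.mp hed' with h' | h'
            · exact ih ed (ha2 ed h').1 (lt_of_lt_of_le (ha2 ed h').2 (Nat.lt_succ_iff.mp hrk))
            · exact ih ed (hb2 ed h').1 (lt_of_lt_of_le (hb2 ed h').2 (Nat.lt_succ_iff.mp hrk))
          have hlen : (LA ++ (i * L.D.m + g) :: LB).length = (L.D.words.getD r []).length := by
            rw [hLA, hLB, List.length_append, List.length_cons, edges_length, edges_length,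
              List.length_take, List.length_drop]
            omega
          have hp := prod_psi_eq c (L := (LA ++ (i * L.D.m + g) :: LB).map L.lab)
            (M := unitV L.n (L.D.m + r) :: List.replicate ((L.D.words.getD r []).length - 1) (zeroV L.n))
            (by rw [List.length_map, hlen, List.length_cons, List.length_replicate]; omega)
            (by rw [List.length_map, hlen]; exact h63)
            (by
              intro U hU
              obtain ⟨ed, hed', rfl⟩ := List.mem_map.mp hU
              rcases List.mem_append.mp hed' with h' | h'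
              · exact (hold ed (List.mem_append.mpr (Or.inl h'))).2
              · rcases List.mem_cons.mp h' with rfl | h'
                · exact hsmall
                · exact (hold ed (List.mem_append.mpr (Or.inr h'))).2)
            (by
              intro U hU
              rcases List.mem_cons.mp hU with rfl | hU
              · exact small_unitV hmask hbasis hrn
              · rw [List.eq_of_mem_replicate hU]; exact small_zeroV hmask hbasis)
            (by
              rw [List.sum_cons, List.sum_replicate, smul_eq_mul, List.map_append, List.map_cons,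
                List.sum_append, List.sum_cons, hLA, hLB, ← sumAlong_eq, ← sumAlong_eq]
              exact hsum)
          rw [List.map_map, List.map_cons, List.prod_cons, List.map_replicate, List.prod_replicate,
            psi_zeroV hbasis, one_pow, mul_one, psi_unitV hbasis c ⟨L.D.m + r, hrn⟩, ← hclose,
            List.map_append, List.map_cons, List.prod_append, List.prod_cons] at hp
          have hA' : (LA.map (psi c ∘ L.lab)).prod = (LA.map lam).prod :=
            congrArg List.prod (List.map_congr_left fun ed h' => ((hold ed (List.mem_append.mpr (Or.inl h'))).1).symm)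
          have hB' : (LB.map (psi c ∘ L.lab)).prod = (LB.map lam).prod :=
            congrArg List.prod (List.map_congr_left fun ed h' => ((hold ed (List.mem_append.mpr (Or.inr h'))).1).symm)
          rw [hA', hB'] at hp
          exact (mul_right_cancel (mul_left_cancel hp)).symm
  -- the selected equations
  let ev : ℕ → Fin L.n → ℤ := fun t k => (L.evec.getD t []).getD k 0
  simp only [checkSel, List.all_eq_true, List.mem_range, Bool.and_eq_true, Bool.or_eq_true, Nat.blt_eq,
    Nat.beq_eq, Nat.ble_eq, decide_eq_true_eq] at hsel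
  have heq : ∀ t, t < L.sel.length → phi c (ev t) = 1 := by
    intro t ht
    obtain ⟨⟨⟨⟨⟨⟨hw, hs⟩, hcase⟩, hlt⟩, h63⟩, hpath⟩, hvec⟩ := hsel t ht
    generalize (L.sel.getD t (0, 0)).1 = w at *
    generalize (L.sel.getD t (0, 0)).2 = st at *
    have hclose := hclosed ⟨w, hw⟩ st hs hcase hlt hpath
    have hmem : ∀ ed ∈ L.edges (L.cws.getD w []) st, ed < L.D.N * L.D.m :=
      edges_lt hedge hnode _ hlt hs
    have hrw : ((L.edges (L.cws.getD w []) st).map lam) =
        ((L.edges (L.cws.getD w []) st).map L.lab).map (psi c) := by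
      rw [List.map_map]
      exact List.map_congr_left fun ed hed => (hlabel _ ed (hmem ed hed) (Nat.lt_succ_self _)).1
    rw [hrw, prod_psi] at hclose
    have hv : ev t = vecList L.n ((L.edges (L.cws.getD w []) st).map L.lab) +
        (-1 : ℤ) • (fun k => if (⟨w, hw⟩ : Fin L.n) = k then 1 else 0) := by
      funext k
      have hds := (dig_sum ((L.edges (L.cws.getD w []) st).map L.lab)
        (by rw [List.length_map, edges_length]; exact h63)
        (fun U hU => by
          obtain ⟨ed, hed, rfl⟩ := List.mem_map.mp hU
          exact (hlabel _ ed (hmem ed hed) (Nat.lt_succ_self _)).2) k).1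
      rw [← sumAlong_eq] at hds
      simp only [ev, hvec k k.2, hds, Pi.add_apply, Pi.smul_apply, vecList, List.length_map, edges_length,
        Fin.ext_iff]
      split <;> simp <;> ring
    rw [hv, phi_add, phi_smul, phi_single, hclose, zpow_neg_one, mul_inv_cancel]
  -- rescaling
  letI : CommGroup (Subgroup.center Γ) :=
    { (inferInstance : Group (Subgroup.center Γ)) with mul_comm := fun a b => Subtype.ext (Subgroup.mem_center_iff.mp b.2 a) }
  simp only [checkMod, List.all_eq_true, List.mem_range, Bool.and_eq_true, Bool.or_eq_true, Nat.blt_eq,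
    decide_eq_true_eq, Nat.ble_eq] at hcomb
  obtain ⟨⟨⟨⟨hu, hrel⟩, hncn⟩, hkill⟩, htwo⟩ := hcomb
  have hcwk : ∀ k : Fin L.n, k.1 < L.nc → wval X (L.cws.getD k []) ∈ σ.ker := fun k hk => by
    rw [MonoidHom.mem_ker, hσw, hrels k hk]
  let z : Fin L.n → (Subgroup.center Γ) := fun k =>
    if hk : k.1 < L.nc then ⟨wval X (L.cws.getD k []), hc (hcwk k hk)⟩ else 1
  have hzσ : ∀ v : Fin L.n → ℤ, σ (phi z v : (Subgroup.center Γ)) = 1 := by
    intro v
    have : ∀ k, ((z k : (Subgroup.center Γ)) : Γ) ∈ σ.ker := fun k => by
      by_cases hk : k.1 < L.nc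
      · simp only [z, dif_pos hk]; exact hcwk k hk
      · simp only [z, dif_neg hk]; exact one_mem _
    have hmem : ((phi z v : (Subgroup.center Γ)) : Γ) ∈ σ.ker := by
      have : (phi z v : (Subgroup.center Γ)) ∈ σ.ker.subgroupOf (Subgroup.center Γ) :=
        Subgroup.prod_mem _ fun k _ => zpow_mem (this k) _
      exact this
    exact hmem
  let ζ : ℕ → (Subgroup.center Γ) := fun j => phi z (fun k => (L.u.getD j []).getD k 0)
  let X' : ℕ → Γ := fun g => ((ζ g : (Subgroup.center Γ)) : Γ)⁻¹ * X g
  have hscale : ∀ w, wval X' w =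
      (((w.map ζ).prod : (Subgroup.center Γ)) : Γ)⁻¹ * wval X w := by
    intro w
    induction w with
    | nil => simp [wval]
    | cons a w ih =>
      rw [wval, wval, ih, show X' a = ((ζ a : (Subgroup.center Γ)) : Γ)⁻¹ * X a from rfl, List.map_cons, List.prod_cons, Subgroup.coe_mul, mul_inv_rev]
      have hz : Commute (wval X w) ((ζ a : (Subgroup.center Γ)) : Γ)⁻¹ := Subgroup.mem_center_iff.mp (inv_mem (ζ a).2) _
      rw [mul_assoc, ← mul_assoc (wval X w), hz.eq]
      simp only [mul_assoc]
  have hvalue : ∀ r, r < L.nc →
      wval X' (L.cws.getD r []) = ((phi z fun k : Fin L.n => L.target r k : (Subgroup.center Γ)) : Γ) := by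
    intro r hr
    rw [hscale]
    obtain ⟨hlt, -⟩ := hrel r hr
    set w := L.cws.getD r [] with hw
    have hcount : (w.map ζ).prod = phi z (fun k => ((List.range L.D.m).map fun j =>
        (w.count j : ℤ) * (L.u.getD j []).getD k 0).sum) := by
      have h1 : (fun k : Fin L.n => ((List.range L.D.m).map fun j =>
          (w.count j : ℤ) * (L.u.getD j []).getD k 0).sum) =
          ∑ j ∈ Finset.range L.D.m, (w.count j : ℤ) • (fun k : Fin L.n => (L.u.getD j []).getD k 0) := by
        funext k
        rw [list_sum_eq_finset, Finset.sum_apply]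
        rfl
      rw [h1, phi_sum, Finset.prod_list_map_count]
      simp only [phi_smul, zpow_natCast]
      refine Finset.prod_subset (fun a ha => Finset.mem_range.mpr (hlt a (List.mem_toFinset.mp ha))) ?_
      intro a _ ha
      rw [List.count_eq_zero_of_not_mem (by simpa using ha), pow_zero]
    have hrn : r < L.n := lt_of_lt_of_le hr hncn
    have hzr : ((phi z (fun k => if (⟨r, hrn⟩ : Fin L.n) = k then 1 else 0) : (Subgroup.center Γ)) : Γ) = wval X w := by
      rw [phi_single]; simp only [z, dif_pos hr]; rfl
    rw [hcount, ← hzr, ← Subgroup.coe_inv, ← Subgroup.coe_mul, ← zpow_neg_one, ← phi_smul, ← phi_add]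
    congr 2
    funext k
    simp only [Pi.add_apply, Pi.smul_apply, target, ← hw, Fin.ext_iff]
    simp [sub_eq_add_neg, add_comm]
  have hsupp : ∀ r, r < L.nc → ∀ k : Fin L.n, ¬ k.1 < L.nc → L.target r k = 0 := by
    intro r hr k hk
    have hrk : ¬ r = k.1 := fun h => hk (h ▸ hr)
    simp only [target, if_neg hrk, zero_sub, neg_eq_zero]
    refine List.sum_eq_zero fun x hx => ?_
    obtain ⟨j, hj, rfl⟩ := List.mem_map.mp hx
    rw [(hu j (List.mem_range.mp hj) k k.2).resolve_left hk, mul_zero]
  let τZ : (σ.ker.subgroupOf (Subgroup.center Γ)) →* A :=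
    { toFun := fun x => τ' ((x : (Subgroup.center Γ)) : Γ)
      map_one' := by simp only [OneMemClass.coe_one, τ', dif_pos (one_mem (H.comap σ))]; exact map_one τ
      map_mul' := fun x y => hτmul _ _ (hker _ x.2) (hker _ y.2) }
  have hzmem : ∀ k, z k ∈ σ.ker.subgroupOf (Subgroup.center Γ) := fun k => by
    by_cases hk : k.1 < L.nc
    · simp only [z, dif_pos hk]; exact hcwk k hk
    · simp only [z, dif_neg hk]; exact one_mem _
  have hspan : ∀ (q : Fin L.n → ℤ) (co : List ℤ), (∀ k : Fin L.n, ¬ k.1 < L.nc → q k = 0) →
      (∀ k : Fin L.n, q k = ((List.range L.sel.length).map fun t => co.getD t 0 * (L.evec.getD t []).getD k 0).sum) →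
      phi z q = 1 := by
    intro q co hq0 hqs
    have hqc : phi c q = 1 := by
      have hsum : q = ∑ t ∈ Finset.range L.sel.length, co.getD t 0 • ev t := by
        funext k
        rw [hqs, Finset.sum_apply, list_sum_eq_finset]
        rfl
      rw [hsum, phi_sum]
      exact Finset.prod_eq_one fun t ht => by rw [phi_smul, heq t (Finset.mem_range.mp ht), one_zpow]
    have hτq : τ' ((phi z q : (Subgroup.center Γ)) : Γ) = 1 := by
      rw [← hqc]
      have h1 : phi z q = ((∏ k, (⟨z k, hzmem k⟩ : σ.ker.subgroupOf (Subgroup.center Γ)) ^ q k : σ.ker.subgroupOf (Subgroup.center Γ)) : (Subgroup.center Γ)) := by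
        simp [phi]
      rw [h1]
      show τZ _ = _
      rw [map_prod, phi]
      refine Finset.prod_congr rfl fun k _ => ?_
      rw [map_zpow]
      by_cases hk : k.1 < L.nc
      · show τ' ((z k : (Subgroup.center Γ)) : Γ) ^ q k = _
        simp only [z, dif_pos hk, c]
      · have : q k = 0 := hq0 k hk
        rw [this, zpow_zero, zpow_zero]
    refine Subtype.ext (hτ ⟨_, hker _ (hzσ q)⟩ (hzσ q) ?_)
    simpa only [τ', dif_pos (hker _ (hzσ q))] using hτq
  refine ⟨X', ((phi z fun k : Fin L.n => L.target kill k : (Subgroup.center Γ)) : Γ),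
    (phi z fun k : Fin L.n => L.target kill k : (Subgroup.center Γ)).2, hzσ _, ?_, fun g => ?_, fun r hr => ?_⟩
  · have h := hspan (fun k => 2 * L.target kill k) co2
      (fun k hk => by rw [hsupp kill hkill k hk, mul_zero]) (fun k => htwo k k.2)
    rw [← Subgroup.coe_mul, ← phi_add]
    rw [show (fun k : Fin L.n => 2 * L.target kill k) =
      (fun k : Fin L.n => L.target kill k) + (fun k : Fin L.n => L.target kill k) by
        funext k; simp [two_mul]] at h
    rw [h]; rfl
  · rw [map_mul, map_inv, hzσ, inv_one, one_mul, hX]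
  · refine Subgroup.mem_zpowers_iff.mpr ⟨fs.getD r 0, ?_⟩
    have h := hspan (fun k => L.target r k - fs.getD r 0 * L.target kill k) (L.coef.getD r [])
      (fun k hk => by rw [hsupp r hr k hk, hsupp kill hkill k hk, mul_zero, sub_zero])
      (fun k => (hrel r hr).2 k k.2)
    rw [show (fun k : Fin L.n => L.target r k - fs.getD r 0 * L.target kill k) =
      (fun k : Fin L.n => L.target r k) + (-(fs.getD r 0)) • (fun k : Fin L.n => L.target kill k) by
        funext k; simp [sub_eq_add_neg], phi_add, phi_smul, zpow_neg, mul_inv_eq_one] at h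
    rw [hvalue r hr, h, Subgroup.coe_zpow]

end

end LinCert

end Cfsg.Agent.Presented
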