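import Cfsg.Agent.Lib.Presented.LinCertMod

/-!
# Fast checks of linear certificates

Vectors of small integers are compared through their value at a large odd base.
-/

set_option autoImplicit false

namespace Cfsg.Agent.Presented

open PackedVec

namespace LinCert

/-- `n` digits of `P` to the base `b`, centred. -/
noncomputable def unI (b n P : ℕ) : List ℤ :=
  Nat.rec (motive := fun _ => ℕ → List ℤ) (fun _ => [])
    (fun _ ih P => Int.subNatNat (Nat.mod P b) (Nat.div b 2) :: ih (Nat.div P b)) n P

/-- The value of a vector at a large odd base. -/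
def packI : List ℤ → ℤ
  | [] => 0
  | x :: v => x + 18446744073709551629 * packI v

/-- A combination of packed vectors. -/
def combI : List ℤ → List ℤ → ℤ
  | c :: cs, p :: ps => combI cs ps + c * p
  | _, _ => 0

/-- The sum of the absolute values. -/
def absSum : List ℤ → ℕ
  | [] => 0
  | x :: v => x.natAbs + absSum v

theorem packI_replicate : ∀ n, packI (List.replicate n (0 : ℤ)) = 0
  | 0 => rfl
  | n + 1 => by simp [List.replicate_succ, packI, packI_replicate n]

theorem packI_zipWith (c : ℤ) : ∀ a b : List ℤ, a.length = b.length →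
    packI (List.zipWith (fun x y => x + c * y) a b) = packI a + c * packI b
  | [], [], _ => by simp [packI]
  | [], _ :: _, h => by simp at h
  | _ :: _, [], h => by simp at h
  | x :: a, y :: b, h => by
    simp only [List.zipWith_cons_cons, packI, packI_zipWith c a b (by simpa using h)]
    ring

theorem packI_linComb (n : ℕ) : ∀ (cs : List ℤ) (vs : List (List ℤ)), (∀ v ∈ vs, v.length = n) →
    packI (linComb n cs vs) = combI cs (vs.map packI) := by
  intro cs
  induction cs with
  | nil => intro vs _; simp [linComb, combI, packI_replicate]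
  | cons c cs ih =>
    intro vs h
    cases vs with
    | nil => simp [linComb, combI, packI_replicate]
    | cons v vs =>
      have h' : ∀ w ∈ vs, w.length = n := fun w hw => h w (List.mem_cons_of_mem _ hw)
      rw [linComb, packI_zipWith c _ _ (by rw [linComb_length n cs vs h', h v List.mem_cons_self]),
        List.map_cons, combI, ih vs h']

theorem packI_inj : ∀ a b : List ℤ, a.length = b.length → (∀ x ∈ a, x.natAbs < 4611686018427387904) →
    (∀ x ∈ b, x.natAbs < 4611686018427387904) → packI a = packI b → a = b
  | [], [], _, _, _, _ => rfl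
  | [], _ :: _, h, _, _, _ => by simp at h
  | _ :: _, [], h, _, _, _ => by simp at h
  | x :: a, y :: b, h, ha, hb, he => by
    simp only [packI] at he
    have hx := ha x List.mem_cons_self
    have hy := hb y List.mem_cons_self
    have hxy : x = y := by omega
    subst hxy
    rw [packI_inj a b (by simpa using h) (fun z hz => ha z (List.mem_cons_of_mem _ hz))
      (fun z hz => hb z (List.mem_cons_of_mem _ hz)) (by omega)]

theorem linComb_bound (n B : ℕ) : ∀ (cs : List ℤ) (vs : List (List ℤ)),
    (∀ v ∈ vs, ∀ x ∈ v, x.natAbs ≤ B) → ∀ z ∈ linComb n cs vs, z.natAbs ≤ absSum cs * B := by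
  intro cs
  induction cs with
  | nil => intro vs _ z hz; simp [linComb] at hz; simp [hz]
  | cons c cs ih =>
    intro vs h z hz
    cases vs with
    | nil => simp [linComb] at hz; simp [hz]
    | cons v vs =>
      rw [linComb] at hz
      obtain ⟨i, hi, rfl⟩ := List.mem_iff_getElem.mp hz
      rw [List.getElem_zipWith]
      have hi' := hi
      rw [List.length_zipWith, lt_min_iff] at hi'
      have h1 := ih vs (fun w hw => h w (List.mem_cons_of_mem _ hw)) _ (List.getElem_mem hi'.1)
      have h2 := h v List.mem_cons_self _ (List.getElem_mem hi'.2)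
      refine (Int.natAbs_add_le _ _).trans ?_
      rw [Int.natAbs_mul, absSum]
      have h3 := Nat.mul_le_mul_left c.natAbs h2
      rw [add_mul]
      omega

/-- The listed packed vectors are those of the equations, whose entries are at most `B`. -/
def packedOK (L : LinCert) (pk : List ℤ) (B : ℕ) : Bool :=
  (L.evec.map packI == pk) &&
  (L.evec.all fun v => Nat.beq v.length L.n && v.all fun x => Nat.ble x.natAbs B) &&
  (L.u.all fun v => Nat.beq v.length L.n) && Nat.beq L.u.length L.D.m

/-- Row check through packed values. -/
def fastRowOK (L : LinCert) (pk tk fs : List ℤ) (B r : ℕ) : Bool :=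
  ((L.cws.getD r []).all fun g => Nat.blt g L.D.m) && Nat.beq tk.length L.n &&
  ((List.zipWith (fun a b => a - fs.getD r 0 * b) (targetList L r) tk).all fun x =>
    Nat.blt x.natAbs 4611686018427387904) &&
  Nat.blt (absSum (L.coef.getD r []) * B) 4611686018427387904 &&
  packI (List.zipWith (fun a b => a - fs.getD r 0 * b) (targetList L r) tk) == combI (L.coef.getD r []) pk

theorem modRowOK_of_fast {L : LinCert} {pk tk fs : List ℤ} {B r : ℕ} (hp : packedOK L pk B = true)
    (hr : fastRowOK L pk tk fs B r = true) : modRowOK L tk fs r = true := by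
  simp only [packedOK, Bool.and_eq_true, List.all_eq_true, Nat.beq_eq, Nat.ble_eq, beq_iff_eq] at hp
  obtain ⟨⟨⟨hpk, hev⟩, hu⟩, hm⟩ := hp
  simp only [fastRowOK, Bool.and_eq_true, List.all_eq_true, Nat.beq_eq, Nat.blt_eq, beq_iff_eq] at hr
  obtain ⟨⟨⟨⟨hw, htl⟩, hbd⟩, hsum⟩, heq⟩ := hr
  simp only [modRowOK, Bool.and_eq_true, List.all_eq_true, Nat.blt_eq, beq_iff_eq]
  refine ⟨hw, packI_inj _ _ ?_ hbd ?_ ?_⟩
  · rw [List.length_zipWith, (targetList_spec hu hm r).1, htl, min_self,
      linComb_length _ _ _ fun v hv => (hev v hv).1]
  · intro z hz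
    exact lt_of_le_of_lt (linComb_bound _ B _ _ (fun v hv => (hev v hv).2) z hz) hsum
  · rw [heq, packI_linComb _ _ _ fun v hv => (hev v hv).1, hpk]

/-- `checkSel` with each sum computed once. -/
noncomputable def fastSel (L : LinCert) : Bool :=
  (List.range L.sel.length).all fun t =>
    let w := (L.sel.getD t (0, 0)).1
    let s := (L.sel.getD t (0, 0)).2
    let word := L.cws.getD w []
    Nat.blt w L.n && Nat.blt s L.D.N && (Nat.blt w L.nc || Nat.beq s 0) &&
      (word.all fun g => Nat.blt g L.D.m) && Nat.ble word.length 127 && Nat.beq (L.D.path word s) s &&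
        force (L.sumAlong word s) fun U => (L.evec.getD t []) ==
          (List.range L.n).map fun k => (dig U k : ℤ) - 512 * word.length - (if w = k then 1 else 0)

theorem checkSel_of_fast {L : LinCert} (h : fastSel L = true) : L.checkSel = true := by
  simp only [fastSel, checkSel, force_eq, Bool.and_eq_true, List.all_eq_true, List.mem_range,
    beq_iff_eq, decide_eq_true_eq] at h ⊢
  intro t ht
  refine ⟨(h t ht).1, fun k hk => ?_⟩
  rw [(h t ht).2, List.getD_eq_getElem _ _ (by simpa using hk), List.getElem_map, List.getElem_range]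

end LinCert

end Cfsg.Agent.Presented
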