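import Cfsg.Agent.Lib.Presented.LinCert
import Cfsg.Agent.Lib.Presented.Index
import Cfsg.Prelude.Def_KGroupFacts

/-!
# Sections of central extensions from lifts satisfying the relators

* `exists_section_of_lifts`: lifts of the generators that satisfy every relator give a section.
* `ker_eq_bot_of_section`: a stem extension with a section is injective.
* `exists_tau_of_section`, `exists_tau_of_cyclic`: the two ways used here to find, on the preimage of a
  subgroup, a homomorphism to an abelian group that is injective on the kernel.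
-/

set_option autoImplicit false

namespace Cfsg.Agent.Presented

open Cfsg.Spor
open scoped commutatorElement

/-- `w` is empty or arises from a listed word by rotation or reversal. -/
def relFromBase (base : List (List ℕ)) (w : List ℕ) : Bool :=
  w.isEmpty || base.any fun b => (b.length == w.length) && (List.range b.length).any fun i =>
    (b.drop i ++ b.take i == w) || (b.drop i ++ b.take i == w.reverse)

theorem wval_reverse_eq_inv {Γ : Type*} [Group Γ] {s : ℕ → Γ} (hs : ∀ g, s g * s g = 1) :
    ∀ w : List ℕ, wval s w.reverse = (wval s w)⁻¹ := by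
  intro w
  induction w with
  | nil => simp [wval]
  | cons g w ih =>
    rw [List.reverse_cons, wval_append, ih, show wval s [g] = s g by simp [wval],
      show wval s (g :: w) = wval s w * s g from rfl, mul_inv_rev, inv_eq_of_mul_eq_one_right (hs g)]

theorem wval_relFromBase {Γ : Type*} [Group Γ] {s : ℕ → Γ} (hs : ∀ g, s g * s g = 1)
    {base : List (List ℕ)} (hb : ∀ b ∈ base, wval s b = 1) {w : List ℕ}
    (h : relFromBase base w = true) : wval s w = 1 := by
  have hrot : ∀ (b : List ℕ) (i : ℕ), wval s b = 1 → wval s (b.drop i ++ b.take i) = 1 := by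
    intro b i hb'
    rw [← List.take_append_drop i b, wval_append] at hb'
    rw [wval_append]
    exact mul_eq_one_comm.mp hb'
  simp only [relFromBase, Bool.or_eq_true, List.isEmpty_iff, List.any_eq_true, Bool.and_eq_true,
    beq_iff_eq] at h
  rcases h with rfl | ⟨b, hbm, -, i, -, h | h⟩
  · rfl
  · rw [← h]; exact hrot b i (hb b hbm)
  · rw [← w.reverse_reverse, ← h, wval_reverse_eq_inv hs, hrot b i (hb b hbm), inv_one]

theorem wval_congr_lt {Γ : Type*} [Group Γ] {s t : ℕ → Γ} {n : ℕ} (h : ∀ g, g < n → s g = t g) :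
    ∀ w : List ℕ, (∀ g ∈ w, g < n) → wval s w = wval t w := by
  intro w
  induction w with
  | nil => intro _; rfl
  | cons a w ih =>
    intro hw
    simp only [wval, h a (hw a List.mem_cons_self), ih fun g hg => hw g (List.mem_cons_of_mem _ hg)]

/-- Lifts of the generators that satisfy every relator give a section. -/
theorem exists_section_of_lifts {α : Type*} [DecidableEq α] {gens : List α}
    {edges : List (α × ℕ × α)} {extra : List (FreeGroup α)} (hall : ∀ x, x ∈ gens)
    {Γ : Type*} [Group Γ] (σ : Γ →* CoxPresented α edges extra) (X : ℕ → Γ)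
    (hX : ∀ g, σ (X g) = genFun gens edges extra g) {base : List (List ℕ)}
    (hbase : ∀ b ∈ base, wval X b = 1)
    (hsq : ((List.range gens.length).all fun g => base.contains [g, g]) = true)
    (hlt : (base.all fun b => b.all fun g => Nat.blt g gens.length) = true)
    (hcov : (((relList gens edges extra).map (letters gens)).all fun w => relFromBase base w) = true) :
    ∃ φ : CoxPresented α edges extra →* Γ, ∀ y, σ (φ y) = y := by
  simp only [List.all_eq_true, List.mem_range, List.contains_eq_mem, decide_eq_true_eq,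
    Nat.blt_eq] at hsq hlt
  let s : ℕ → Γ := fun g => if g < gens.length then X g else 1
  have hsX : ∀ w : List ℕ, (∀ g ∈ w, g < gens.length) → wval s w = wval X w :=
    wval_congr_lt fun g hg => if_pos hg
  have hs : ∀ g, s g * s g = 1 := by
    intro g
    by_cases hg : g < gens.length
    · simp only [s, if_pos hg]
      simpa [wval] using hbase _ (hsq g hg)
    · simp [s, hg]
  have hb : ∀ b ∈ base, wval s b = 1 := fun b hbm => by rw [hsX b (hlt b hbm)]; exact hbase b hbm
  have hr : ∀ r ∈ coxRelators edges ∪ {r | r ∈ extra},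
      FreeGroup.lift (fun x => s (gens.idxOf x)) r = 1 := by
    intro r hr
    rw [lift_eq_wval _ (fun x => hs _) hall s (fun _ => rfl)]
    exact wval_relFromBase hs hb
      (List.all_eq_true.mp hcov _ (List.mem_map.mpr ⟨r, mem_relList hall hr, rfl⟩))
  refine ⟨PresentedGroup.toGroup hr, fun y => ?_⟩
  have hid : σ.comp (PresentedGroup.toGroup hr) = MonoidHom.id _ := by
    refine PresentedGroup.ext fun x => ?_
    have hx : gens.idxOf x < gens.length := List.idxOf_lt_length_of_mem (hall x)
    rw [MonoidHom.comp_apply, PresentedGroup.toGroup.of]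
    simp only [s, if_pos hx, hX]
    exact genFun_idxOf hall x
  exact DFunLike.congr_fun hid y

variable {Γ G : Type*} [Group Γ] [Group G] (σ : Γ →* G)

/-- The defect of a section is central. -/
theorem section_defect (hc : σ.ker ≤ Subgroup.center Γ) (φ : G →* Γ) (hφ : ∀ y, σ (φ y) = y) (a x : Γ) :
    Commute (a * (φ (σ a))⁻¹) x :=
  (Subgroup.mem_center_iff.mp (hc (by
    rw [MonoidHom.mem_ker, map_mul, map_inv, hφ, mul_inv_cancel])) x).symm

/-- A stem extension with a section has trivial kernel. -/
theorem ker_eq_bot_of_section (hc : σ.ker ≤ Subgroup.center Γ) (hcomm : σ.ker ≤ commutator Γ)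
    (φ : G →* Γ) (hφ : ∀ y, σ (φ y) = y) : σ.ker = ⊥ := by
  have hle : commutator Γ ≤ φ.range := by
    rw [commutator_def, Subgroup.commutator_le]
    intro a _ b _
    refine ⟨⁅σ a, σ b⁆, ?_⟩
    rw [map_commutatorElement]
    have hz := section_defect σ hc φ hφ
    conv_rhs => rw [← inv_mul_cancel_right a (φ (σ a)), ← inv_mul_cancel_right b (φ (σ b))]
    generalize hA : a * (φ (σ a))⁻¹ = p
    generalize hB : b * (φ (σ b))⁻¹ = q
    have hp : ∀ x, Commute p x := fun x => hA ▸ hz a x
    have hq : ∀ x, Commute q x := fun x => hB ▸ hz b x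
    generalize φ (σ a) = u
    generalize φ (σ b) = v
    simp only [commutatorElement_def, mul_inv_rev]
    symm
    calc p * u * (q * v) * (u⁻¹ * p⁻¹) * (v⁻¹ * q⁻¹)
        = p * (u * q) * (v * u⁻¹ * p⁻¹) * (v⁻¹ * q⁻¹) := by group
      _ = p * (q * (u * v * u⁻¹)) * p⁻¹ * (v⁻¹ * q⁻¹) := by rw [← (hq u).eq]; group
      _ = q * (u * v * u⁻¹) * (v⁻¹ * q⁻¹) := by rw [(hp _).eq, mul_inv_cancel_right]
      _ = q * (u * v * u⁻¹ * v⁻¹) * q⁻¹ := by group
      _ = u * v * u⁻¹ * v⁻¹ := by rw [(hq _).eq, mul_inv_cancel_right]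
  rw [eq_bot_iff]
  intro x hx
  obtain ⟨y, rfl⟩ := hle (hcomm hx)
  rw [MonoidHom.mem_ker, hφ] at hx
  rw [hx, map_one]
  exact one_mem _

/-- A section over a subgroup gives a homomorphism of its preimage into an abelian group, injective on
the kernel. -/
theorem exists_tau_of_section (hc : σ.ker ≤ Subgroup.center Γ) (H : Subgroup G) (ψ : H →* Γ)
    (hψ : ∀ h : H, σ (ψ h) = h) :
    ∃ τ : H.comap σ →* Subgroup.center Γ, ∀ x : H.comap σ, σ x = 1 → τ x = 1 → (x : Γ) = 1 := by
  let π : H.comap σ →* H := (σ.comp (H.comap σ).subtype).codRestrict H fun x => x.2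
  have hπ : ∀ x : H.comap σ, (π x : G) = σ x := fun x => rfl
  have hmem : ∀ x : H.comap σ, (x : Γ) * (ψ (π x))⁻¹ ∈ Subgroup.center Γ := fun x => hc (by
    rw [MonoidHom.mem_ker, map_mul, map_inv, hψ, hπ, mul_inv_cancel])
  refine ⟨{ toFun := fun x => ⟨_, hmem x⟩, map_one' := by ext; simp, map_mul' := fun x y => ?_ }, ?_⟩
  · apply Subtype.ext
    have hy := Subgroup.mem_center_iff.mp (hmem y) (ψ (π x))⁻¹
    show (x : Γ) * y * (ψ (π (x * y)))⁻¹ = (x : Γ) * (ψ (π x))⁻¹ * ((y : Γ) * (ψ (π y))⁻¹)
    rw [mul_assoc (x : Γ) (ψ (π x))⁻¹, hy, map_mul, map_mul, mul_inv_rev]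
    group
  · intro x h1 h2
    have h := congrArg Subtype.val h2
    change (x : Γ) * (ψ (π x))⁻¹ = 1 at h
    have hx : π x = 1 := Subtype.ext h1
    simpa [hx] using h

/-- The preimage of a cyclic subgroup in a central extension is abelian. -/
theorem commute_of_zpowers (hc : σ.ker ≤ Subgroup.center Γ) (hsurj : Function.Surjective σ) {t : G}
    {H : Subgroup G} (hH : H ≤ Subgroup.zpowers t) {x y : Γ} (hx : σ x ∈ H) (hy : σ y ∈ H) :
    Commute x y := by
  obtain ⟨T, rfl⟩ := hsurj t
  have key : ∀ x, σ x ∈ H → ∃ (k : ℤ) (z : Γ), z ∈ Subgroup.center Γ ∧ x = z * T ^ k := by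
    intro x hx
    obtain ⟨k, hk⟩ := Subgroup.mem_zpowers_iff.mp (hH hx)
    refine ⟨k, x * (T ^ k)⁻¹, hc ?_, by rw [inv_mul_cancel_right]⟩
    rw [MonoidHom.mem_ker, map_mul, map_inv, map_zpow, hk, mul_inv_cancel]
  obtain ⟨a, p, hp, rfl⟩ := key x hx
  obtain ⟨b, q, hq, rfl⟩ := key y hy
  have hp' : ∀ g, Commute p g := fun g => (Subgroup.mem_center_iff.mp hp g).symm
  have hq' : ∀ g, Commute q g := fun g => (Subgroup.mem_center_iff.mp hq g).symm
  exact (hp' _).mul_left ((hq' _).symm.mul_right (((Commute.refl T).zpow_zpow a b)))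

end Cfsg.Agent.Presented
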