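import Cfsg.Agent.S2038
import Cfsg.Agent.Lib.Schur.Basic
import Cfsg.Agent.Lib.Mathieu.Rigid
import Cfsg.Agent.Lib.Mathieu.Generators
import Cfsg.Agent.Lib.Presented.Data.M24Triv
import Cfsg.Agent.Lib.Presented.Data.M24SubChecks
import Cfsg.Agent.Lib.Presented.Data.M24Axiom
import Cfsg.Agent.Lib.Presented.Data.M24TableChecks

/-!
# A presentation of M₂₄ on two generators

The seven `x, y` relators of the presented Janko group J₄ present M₂₄: a tower of checked enumerations
bounds the order by `3 * |M₂₄|`, and the group is perfect with a homomorphism onto M₂₄, whose kernel is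
then central and, M₂₄ having trivial multiplier, trivial.

A letter is `0 = x`, `1 = y` or `2 = y⁻¹`.
-/

set_option autoImplicit false
set_option maxRecDepth 20000

namespace Cfsg.Agent.Presented.M24Pres

open Cfsg Cfsg.Agent.Mathieu InvCert

/-! ### Reduced words -/

/-- Prepend a letter to a reduced word of the free product of cyclic groups of orders two and three. -/
def push (g : ℕ) : List ℕ → List ℕ
  | [] => [g]
  | h :: t =>
    if g = 0 then (if h = 0 then t else g :: h :: t)
    else if h = 0 then g :: h :: t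
    else if (g + h) % 3 = 0 then t else (g + h) % 3 :: t

/-- The reduced word. -/
def red (w : List ℕ) : List ℕ := w.foldr push []

/-- All letters are below three. -/
def small (w : List ℕ) : Bool := w.all fun g => decide (g < 3)

/-- The letters. -/
def sOf {G : Type*} [Group G] (a b : G) : ℕ → G
  | 0 => a
  | 1 => b
  | _ => b⁻¹

section
variable {G : Type*} [Group G] {a b : G}

theorem pv_push (ha : a * a = 1) (hb : b * b * b = 1) :
    ∀ (g : ℕ) (w : List ℕ), g < 3 → small w = true →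
      pv (sOf a b) (push g w) = sOf a b g * pv (sOf a b) w ∧ small (push g w) = true := by
  intro g w hg hw
  cases w with
  | nil => simp [push, pv, small, hg]
  | cons h t =>
    simp only [small, List.all_cons, Bool.and_eq_true, decide_eq_true_eq] at hw
    obtain ⟨hh, ht⟩ := hw
    have hbb : b * b = b⁻¹ := mul_eq_one_iff_eq_inv.mp hb
    have hbi : b⁻¹ * b⁻¹ = b := by rw [← mul_inv_rev, hbb, inv_inv]
    interval_cases g <;> interval_cases h <;>
      simp [push, pv_cons, sOf, small, ht, ← mul_assoc, ha, hbb, hbi]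

theorem pv_red (ha : a * a = 1) (hb : b * b * b = 1) :
    ∀ w : List ℕ, small w = true → pv (sOf a b) (red w) = pv (sOf a b) w ∧ small (red w) = true := by
  intro w
  induction w with
  | nil => intro _; exact ⟨rfl, rfl⟩
  | cons g w ih =>
    intro hw
    simp only [small, List.all_cons, Bool.and_eq_true, decide_eq_true_eq] at hw
    obtain ⟨h1, h2⟩ := ih hw.2
    obtain ⟨h3, h4⟩ := pv_push ha hb g (red w) hw.1 h2
    exact ⟨by rw [red, List.foldr_cons, ← red, h3, h1, pv_cons], h4⟩

end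

theorem pv_flatMap {G : Type*} [Group G] (s : ℕ → G) (f : ℕ → List ℕ) (w : List ℕ) :
    pv s (w.flatMap f) = pv (fun k => pv s (f k)) w := by
  induction w with
  | nil => rfl
  | cons g w ih => rw [List.flatMap_cons, pv_append, ih, pv_cons]

theorem map_pv {G H : Type*} [Group G] [Group H] (φ : G →* H) (s : ℕ → G) (w : List ℕ) :
    φ (pv s w) = pv (fun k => φ (s k)) w := by
  induction w with
  | nil => simp [pv]
  | cons g w ih => simp [pv_cons, ih]

theorem map_sOf {G H : Type*} [Group G] [Group H] (φ : G →* H) (a b : G) (k : ℕ) :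
    φ (sOf a b k) = sOf (φ a) (φ b) k := by
  rcases k with _ | _ | k <;> simp [sOf]

/-! ### The presented group -/

/-- The relators. -/
def R : List (List ℕ) := [
  [0, 0],
  [1, 1, 1],
  [0, 1, 0, 1, 0, 1, 0, 1, 0, 1, 0, 1, 0, 1, 0, 1, 0, 1, 0, 1, 0, 1, 0, 1, 0, 1, 0, 1, 0, 1, 0, 1, 0, 1, 0, 1, 0, 1, 0, 1, 0, 1, 0, 1, 0, 1],
  [0, 2, 0, 1, 0, 2, 0, 1, 0, 2, 0, 1, 0, 2, 0, 1, 0, 2, 0, 1, 0, 2, 0, 1, 0, 2, 0, 1, 0, 2, 0, 1, 0, 2, 0, 1, 0, 2, 0, 1, 0, 2, 0, 1, 0, 2, 0, 1],
  [0, 2, 0, 2, 0, 1, 0, 1, 0, 2, 0, 2, 0, 1, 0, 1, 0, 2, 0, 2, 0, 1, 0, 1, 0, 2, 0, 2, 0, 1, 0, 1, 0, 2, 0, 2, 0, 1, 0, 1],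
  [0, 1, 0, 1, 0, 2, 0, 1, 0, 2, 0, 1, 0, 2, 0, 1, 0, 1, 0, 2, 0, 1, 0, 2, 0, 1, 0, 2, 0, 1, 0, 1, 0, 2, 0, 1, 0, 2, 0, 1, 0, 2, 0, 1, 0, 1, 0, 2, 0, 1, 0, 2, 0, 1, 0, 2],
  [0, 1, 0, 1, 0, 2, 0, 1, 0, 1, 0, 2, 0, 1, 0, 1, 0, 2, 0, 1, 0, 2, 0, 2, 0, 1, 0, 2, 0, 2, 0, 1, 0, 2, 0, 2]]

/-- The letters in the free group. -/
def fs : ℕ → FreeGroup (Fin 2) := sOf (FreeGroup.of 0) (FreeGroup.of 1)

/-- The relators in the free group. -/
def rels : Set (FreeGroup (Fin 2)) := {r | r ∈ R.map (pv fs)}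

/-- The presented group. -/
abbrev P : Type := PresentedGroup rels

/-- The generator of order two. -/
def ga : P := PresentedGroup.of 0

/-- The generator of order three. -/
def gb : P := PresentedGroup.of 1

/-- The letters in `P`. -/
def s : ℕ → P := sOf ga gb

theorem pv_rel {w : List ℕ} (hw : w ∈ R) : pv s w = 1 := by
  have h : PresentedGroup.mk rels (pv fs w) = 1 :=
    PresentedGroup.one_of_mem (List.mem_map.mpr ⟨w, hw, rfl⟩)
  rw [map_pv] at h
  rw [← h]
  congr 1
  funext k
  rw [fs, map_sOf]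
  rfl

theorem a_sq : ga * ga = 1 := by
  simpa [pv, s, sOf] using pv_rel (show [0, 0] ∈ R by decide +kernel)

theorem b_cube : gb * gb * gb = 1 := by
  simpa [pv, s, sOf, mul_assoc] using pv_rel (show [1, 1, 1] ∈ R by decide +kernel)

/-- The word is small and its reduced form is empty or that of one of `L`. -/
def trivOK (L : List (List ℕ)) (w : List ℕ) : Bool :=
  small w && L.all small && ((red w).isEmpty || L.any fun r => red r == red w)

theorem pv_of_trivOK {L : List (List ℕ)} {w : List ℕ} (h : trivOK L w = true)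
    (hL : ∀ r ∈ L, pv s r = 1) : pv s w = 1 := by
  simp only [trivOK, Bool.and_eq_true, Bool.or_eq_true, List.all_eq_true, List.any_eq_true,
    List.isEmpty_iff, beq_iff_eq] at h
  obtain ⟨⟨hw, hs⟩, h⟩ := h
  rw [s, ← (pv_red a_sq b_cube w hw).1]
  rcases h with h | ⟨r, hr, hrw⟩
  · rw [h]; rfl
  · rw [← hrw, (pv_red a_sq b_cube r (hs r hr)).1]
    exact hL r hr

/-- The rules in new letters `k`, each standing for `f k`: trivial ones by reduction to `L`,
the others listed in `Ks`. -/
def rulesB (f : ℕ → List ℕ) (L Ks : List (List ℕ)) (Rs : List Rule) : Bool :=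
  Rs.all fun r => bif r.2.2.2 then trivOK L ((ruleWord r).flatMap f) else Ks.contains (ruleWord r)

/-- The new letters are closed under inversion. -/
def invB (f : ℕ → List ℕ) (m : ℕ) (inv : ℕ → ℕ) : Bool :=
  (List.range m).all fun g => decide (inv g < m) && trivOK [] (f (inv g) ++ f g)

/-- The new letters. -/
def sv (f : ℕ → List ℕ) : ℕ → P := fun k => pv s (f k)

theorem rulesOK_of {f : ℕ → List ℕ} {L Ks : List (List ℕ)} {Rs : List Rule} {H : Subgroup P}
    (h : rulesB f L Ks Rs = true) (hL : ∀ r ∈ L, pv s r = 1) (hK : ∀ w ∈ Ks, pv (sv f) w ∈ H) :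
    RulesOK (sv f) H Rs := by
  intro r hr
  have := List.all_eq_true.mp h r hr
  cases hb : r.2.2.2 with
  | true =>
    rw [hb, cond_true] at this
    rw [if_pos rfl, show pv (sv f) (ruleWord r) = pv s ((ruleWord r).flatMap f) from
      (pv_flatMap s f _).symm]
    exact pv_of_trivOK this hL
  | false =>
    rw [hb, cond_false, List.contains_iff_mem] at this
    rw [if_neg (by simp)]
    exact hK _ this

theorem invOK_of {f : ℕ → List ℕ} {m : ℕ} {inv : ℕ → ℕ} (h : invB f m inv = true) :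
    InvOK (sv f) m inv := by
  intro g hg
  have := List.all_eq_true.mp h g (List.mem_range.mpr hg)
  rw [Bool.and_eq_true, decide_eq_true_eq] at this
  exact ⟨this.1, by rw [sv, sv, ← pv_append]; exact pv_of_trivOK this.2 (by simp)⟩

/-- The letters themselves. -/
def top : ℕ → List ℕ := fun k => [k]

/-- The two generators of the intermediate subgroup, and their inverses. -/
def sub : ℕ → List ℕ
  | 0 => [1]
  | 1 => [2]
  | 2 => [0, 1, 0, 1, 0, 2, 0]
  | _ => [0, 1, 0, 2, 0, 2, 0]

theorem sv_top (k : ℕ) : sv top k = s k := by simp [sv, top, pv]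

theorem pv_top (w : List ℕ) : pv (sv top) w = pv s w := by
  rw [show sv top = s from funext sv_top]

/-- Two further relators. -/
noncomputable def Q : List (List ℕ) := M24Triv.log.loops.map Prod.fst

theorem pv_extra : ∀ r ∈ R ++ Q, pv s r = 1 := by
  intro r hr
  rcases List.mem_append.mp hr with hr | hr
  · exact pv_rel hr
  have hI : invB top M24Triv.log.m M24Triv.log.inv = true := by decide +kernel
  have hR : rulesB top R [] M24Triv.log.rules = true := by decide +kernel
  have := Log.loops_mem (H := (⊥ : Subgroup P)) M24Triv.log_factsOK M24Triv.log_loopsOK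
    (invOK_of hI) (rulesOK_of hR (fun r hr => pv_rel hr) (by simp)) r hr
  rw [Subgroup.mem_bot, pv_top] at this
  exact this

/-- The intermediate subgroup. -/
def K : Subgroup P := Subgroup.closure (sv sub '' {g | g < 4})

theorem K_le : OrderLE K 17280 := by
  have hI : invB sub M24Sub.table.m M24Sub.table.inv = true := by decide +kernel
  have hR : rulesB sub (R ++ Q) [[0]] M24Sub.table.rules = true := by decide +kernel
  have h3 : OrderLE (Subgroup.zpowers gb) 3 := by
    have hp : gb ^ 3 = 1 := by rw [pow_succ, pow_two]; exact b_cube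
    have hf : IsOfFinOrder gb := isOfFinOrder_iff_pow_eq_one.mpr ⟨3, by norm_num, hp⟩
    refine ⟨(finite_zpowers.mpr hf).to_subtype, ?_⟩
    rw [Nat.card_zpowers]
    exact Nat.le_of_dvd (by norm_num) (orderOf_dvd_of_pow_eq_one hp)
  have h := Table.closure_card_le M24Sub.table_edgesOK (by decide +kernel) (invOK_of hI)
    (rulesOK_of hR pv_extra (H := Subgroup.zpowers gb) (by
      intro w hw
      rw [List.mem_singleton.mp hw]
      simpa [pv, sv, sub, s, sOf] using Subgroup.mem_zpowers gb)) h3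
  rw [show M24Sub.table.m = 4 by rfl] at h
  exact ⟨h.1, h.2.trans (le_of_eq (by decide +kernel))⟩

theorem gens_mem : ∀ w ∈ [sub 0, sub 2], pv (sv top) w ∈ K := by
  intro w hw
  rw [pv_top]
  simp only [List.mem_cons, List.not_mem_nil, or_false] at hw
  rcases hw with rfl | rfl
  · exact Subgroup.subset_closure ⟨0, by simp, rfl⟩
  · exact Subgroup.subset_closure ⟨2, by simp, rfl⟩

theorem axiom_mem : ∀ w ∈ [sub 0, sub 2] ++ M24Axiom.log.loops.map Prod.fst, pv (sv top) w ∈ K := by
  intro w hw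
  rcases List.mem_append.mp hw with hw | hw
  · exact gens_mem w hw
  have hI : invB top M24Axiom.log.m M24Axiom.log.inv = true := by decide +kernel
  have hR : rulesB top (R ++ Q) [sub 0, sub 2] M24Axiom.log.rules = true := by decide +kernel
  exact Log.loops_mem M24Axiom.log_factsOK M24Axiom.log_loopsOK
    (invOK_of hI) (rulesOK_of hR pv_extra gens_mem) w hw

theorem closure_s : Subgroup.closure (sv top '' {g | g < 3}) = ⊤ := by
  rw [eq_top_iff, ← PresentedGroup.closure_range_of, Subgroup.closure_le]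
  rintro _ ⟨x, rfl⟩
  refine Subgroup.subset_closure ⟨x.val, show x.val < 3 by omega, ?_⟩
  rw [sv_top]
  fin_cases x <;> rfl

theorem card_le : Finite P ∧ Nat.card P ≤ 42504 * 17280 := by
  have hI : invB top M24Table.table.m M24Table.table.inv = true := by decide +kernel
  have hR : rulesB top (R ++ Q) ([sub 0, sub 2] ++ M24Axiom.log.loops.map Prod.fst)
      M24Table.table.rules = true := by decide +kernel
  have h := Table.closure_card_le M24Table.table_edgesOK (by decide +kernel) (invOK_of hI)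
    (rulesOK_of hR pv_extra axiom_mem) K_le
  rw [show M24Table.table.m = 3 by rfl, closure_s] at h
  haveI := h.1
  refine ⟨Finite.of_equiv _ Subgroup.topEquiv.toEquiv, ?_⟩
  rw [← Subgroup.card_top]
  exact h.2.trans (le_of_eq (by decide +kernel))

theorem perfect : commutator P = ⊤ := by
  have h1 := a_sq
  have h2 := b_cube
  have h3 := pv_rel (show (List.replicate 23 [0, 1]).flatten ∈ R by decide +kernel)
  let q : P →* Abelianization P := Abelianization.of
  have e1 : q ga ^ 2 = 1 := by rw [pow_two, ← map_mul, h1, map_one]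
  have e2 : q gb ^ 3 = 1 := by rw [pow_succ, pow_two, ← map_mul, ← map_mul, h2, map_one]
  have e3 : (q ga * q gb) ^ 23 = 1 := by
    rw [← map_mul, ← map_pow, ← map_one q, ← h3]
    congr 1
  have ea : q ga ^ 23 = q ga := by
    rw [show 23 = 2 * 11 + 1 by norm_num, pow_succ, pow_mul, e1, one_pow, one_mul]
  have eb : q gb ^ 23 = q gb ^ 2 := by
    rw [show 23 = 3 * 7 + 2 by norm_num, pow_add, pow_mul, e2, one_pow, one_mul]
  rw [mul_pow, ea, eb] at e3
  have hab : q ga = q gb := by
    calc q ga = q ga * q gb ^ 3 := by rw [e2, mul_one]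
      _ = (q ga * q gb ^ 2) * q gb := by rw [pow_succ _ 2, mul_assoc]
      _ = q gb := by rw [e3, one_mul]
  have hb1 : q gb = 1 := by
    rw [hab] at e1
    rwa [pow_succ, e1, one_mul] at e2
  rw [← Abelianization.ker_of, eq_top_iff, ← PresentedGroup.closure_range_of, Subgroup.closure_le]
  rintro _ ⟨x, rfl⟩
  fin_cases x
  · exact hab.trans hb1
  · exact hb1

/-! ### The map onto M₂₄ -/

/-- The packed images of the three letters. -/
def pk : ℕ → ℕ
  | 0 => 0xb10110a010315160d0c0f0e171404020500070912081306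
  | 1 => 0x1706151404110516020e0d0b03000a08131012070c010f09
  | _ => 0x1710151407051206010e0d030c090008041611130b0f020a

/-- The packed image of a word. -/
def wordPack (w : List ℕ) : ℕ := w.foldr (fun g acc => packMulS 24 (pk g) acc) (packId 24)

theorem exists_perms : ∃ a b : M24, ∀ w : List ℕ,
    Rep ptEnc ((pv (sOf a b) w : M24) : Equiv.Perm GolayPt) (wordPack w) := by
  obtain ⟨a, ha⟩ := exists_rep (e := ptEnc) (l := pk 0) (by decide +kernel)
  obtain ⟨b, hb⟩ := exists_rep (e := ptEnc) (l := pk 1) (by decide +kernel)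
  obtain ⟨c, hc⟩ := exists_rep (e := ptEnc) (l := pk 2) (by decide +kernel)
  have hcb : c = b⁻¹ :=
    eq_inv_of_mul_eq_one_right ((rep_packMul hb hc).eq_one (by decide +kernel))
  refine ⟨⟨a, mem_M24_of_rep ha (by decide +kernel)⟩, ⟨b, mem_M24_of_rep hb (by decide +kernel)⟩, ?_⟩
  intro w
  induction w with
  | nil => exact rep_packId (by norm_num)
  | cons g w ih =>
    rw [pv_cons, Subgroup.coe_mul, wordPack, List.foldr_cons, packMulS_eq]
    refine rep_packMul ?_ ih
    rcases g with _ | _ | g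
    · exact ha
    · exact hb
    · show Rep ptEnc ((⟨b, _⟩⁻¹ : M24) : Equiv.Perm GolayPt) _
      rw [Subgroup.coe_inv, ← hcb]
      exact hc

/-- Words for the three named generators. -/
def namedWords : List (List ℕ) :=
  [[2, 0, 2, 0, 1, 0, 2, 0, 1, 0, 2, 0, 2, 0, 1, 0, 2, 0, 1, 0, 2, 0, 2, 0, 2, 0, 2, 0, 2, 0, 1, 0, 2,
      0, 2, 0, 1, 0, 2, 0, 1, 0, 1, 0, 1, 0, 1, 0],
    [1, 0, 2, 0, 1, 0, 2, 0, 1, 0, 1, 0, 1, 0, 1, 0, 2, 0, 1, 0, 1, 0, 1, 0, 2, 0, 2, 0, 1, 0, 1, 0, 1,
      0, 2, 0, 2, 0, 1, 0, 1, 0, 1, 0, 2, 0, 1, 0, 1, 0, 2, 0, 1],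
    [0, 2, 0, 2, 0, 1, 0, 1, 0, 1, 0, 2, 0, 1, 0, 2, 0, 1, 0, 1, 0, 2, 0, 2, 0, 2, 0, 1, 0, 2, 0, 2, 0,
      2, 0, 2, 0, 2, 0, 2, 0, 2, 0, 2, 0, 2, 0, 1, 0, 2]]

theorem exists_hom : ∃ ψ : P →* M24, Function.Surjective ψ := by
  obtain ⟨a, b, hab⟩ := exists_perms
  let f : Fin 2 → M24 := ![a, b]
  have hf : (fun k => FreeGroup.lift f (fs k)) = sOf a b := by
    funext k; rw [fs, map_sOf]; simp [f]
  have hrel : ∀ r ∈ rels, FreeGroup.lift f r = 1 := by
    intro r hr
    obtain ⟨w, hw, rfl⟩ := List.mem_map.mp hr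
    rw [map_pv, hf]
    refine Subtype.ext ((hab w).eq_one ?_)
    have hall : (R.all fun w => isIdS 24 (wordPack w)) = true := by decide +kernel
    simpa [isIdS, Mathieu.force_eq] using List.all_eq_true.mp hall w hw
  refine ⟨PresentedGroup.toGroup hrel, ?_⟩
  have hs : (fun k => PresentedGroup.toGroup hrel (s k)) = sOf a b := by
    funext k; rw [s, map_sOf, ga, gb, PresentedGroup.toGroup.of, PresentedGroup.toGroup.of]; rfl
  intro g
  have hmem : ∀ (i : ℕ), i < 3 → ∀ σ : Equiv.Perm GolayPt,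
      Rep ptEnc σ (wordPack (namedWords.getD i [])) →
        σ ∈ (PresentedGroup.toGroup hrel).range.map M24.subtype := fun i _ σ hσ =>
    ⟨_, ⟨pv s (namedWords.getD i []), rfl⟩, by
      rw [map_pv, hs]; exact ((hab _).unique hσ)⟩
  have hle : M24 ≤ (PresentedGroup.toGroup hrel).range.map M24.subtype := by
    conv_lhs => rw [← M24_eq_closure]
    rw [Subgroup.closure_le]
    rintro σ (rfl | rfl | rfl)
    · exact hmem 0 (by norm_num) _ (by decide +kernel)
    · exact hmem 1 (by norm_num) _ (by decide +kernel)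
    · exact hmem 2 (by norm_num) _ (by decide +kernel)
  obtain ⟨x, hx, hxg⟩ := hle g.2
  obtain ⟨p, rfl⟩ := hx
  exact ⟨p, Subtype.ext hxg⟩

/-- The relators present M₂₄. -/
theorem iso : Nonempty (P ≃* M24) := by
  obtain ⟨ψ, hψ⟩ := exists_hom
  obtain ⟨hfin, hcard⟩ := card_le
  have hker : Nat.card ψ.ker ≤ 3 := by
    have h1 := Subgroup.card_eq_card_quotient_mul_card_subgroup ψ.ker
    rw [Nat.card_congr (QuotientGroup.quotientKerEquivOfSurjective ψ hψ).toEquiv,
      Mathieu.card_M24] at h1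
    omega
  have hpos : 0 < Nat.card ψ.ker := Nat.card_pos
  have hcyc : IsCyclic ψ.ker := by
    interval_cases hk : Nat.card ψ.ker
    · haveI : Subsingleton ψ.ker := (Nat.card_eq_one_iff_unique.mp hk).1
      infer_instance
    · exact isCyclic_of_prime_card hk
    · exact isCyclic_of_prime_card hk
  have hcomm : ∀ φ χ : MulAut ψ.ker, φ * χ = χ * φ := by
    intro φ χ
    obtain ⟨m, hm⟩ := MonoidHom.map_cyclic φ.toMonoidHom
    obtain ⟨n, hn⟩ := MonoidHom.map_cyclic χ.toMonoidHom
    apply MulEquiv.ext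
    intro g
    change φ (χ g) = χ (φ g)
    simp only [MulEquiv.toMonoidHom_eq_coe, MonoidHom.coe_coe] at hm hn
    rw [hn, hm, hm, hn, ← zpow_mul, ← zpow_mul, mul_comm]
  have hc : commutator P ≤ (MulAut.conjNormal : P →* MulAut ψ.ker).ker := by
    rw [commutator_def, Subgroup.commutator_le]
    intro p _ q _
    rw [MonoidHom.mem_ker, map_commutatorElement, commutatorElement_eq_one_iff_mul_comm]
    exact hcomm _ _
  rw [perfect, top_le_iff] at hc
  have hz : ψ.ker ≤ Subgroup.center P := by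
    intro k hk
    rw [Subgroup.mem_center_iff]
    intro g
    have hg : g ∈ (MulAut.conjNormal : P →* MulAut ψ.ker).ker := by rw [hc]; trivial
    rw [MonoidHom.mem_ker] at hg
    have := congrArg (fun e : MulAut ψ.ker => (e ⟨k, hk⟩ : P)) hg
    simp only [MulAut.conjNormal_apply, MulAut.one_apply] at this
    exact mul_inv_eq_iff_eq_mul.mp this
  have h := Schur.ker_inf_commutator_eq_bot Cfsg.Agent.S2038.result ψ hψ hz
  rw [perfect, inf_top_eq] at h
  exact ⟨MulEquiv.ofBijective ψ ⟨(MonoidHom.ker_eq_bot_iff ψ).mp h, hψ⟩⟩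

end Cfsg.Agent.Presented.M24Pres
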