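import Cfsg.Agent.Lib.Presented.PackedVec

/-!
# Packed square matrices over the field of seven elements

A matrix is the list of its rows, a row is a natural number with the entries in fields of 17 bits.
-/

set_option autoImplicit false

namespace Cfsg.Agent.Presented.MatSeven

open PackedVec

/-- The combination of the rows of `B` with coefficients the fields of `r`. -/
noncomputable def comb (B : List ℕ) : ℕ → ℕ :=
  List.rec (motive := fun _ => ℕ → ℕ) (fun _ => 0)
    (fun b _ ih r => Nat.add (Nat.mul (r % 2 ^ 17) b) (ih (r / 2 ^ 17))) B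

/-- Reduce the first `n` fields modulo 7 and drop the others. -/
noncomputable def norm (n : ℕ) : ℕ → ℕ :=
  Nat.rec (motive := fun _ => ℕ → ℕ) (fun _ => 0)
    (fun _ ih U => Nat.add (U % 2 ^ 17 % 7) (Nat.mul (2 ^ 17) (ih (U / 2 ^ 17)))) n

theorem norm_succ (n U : ℕ) : norm (n + 1) U = U % 2 ^ 17 % 7 + 2 ^ 17 * norm n (U / 2 ^ 17) := rfl

theorem dig_norm : ∀ (n U j : ℕ), dig (norm n U) j = if j < n then dig U j % 7 else 0 := by
  intro n
  induction n with
  | zero => intro U j; simp [norm, dig]
  | succ n ih =>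
    intro U j
    have h7 : U % 2 ^ 17 % 7 < 2 ^ 17 := (Nat.mod_le _ _).trans_lt (Nat.mod_lt _ (by norm_num))
    rcases j with _ | j
    · rw [norm_succ, dig_zero, dig_zero, if_pos n.succ_pos, Nat.add_mul_mod_self_left, Nat.mod_eq_of_lt h7]
    · rw [norm_succ, dig_succ, Nat.add_mul_div_left _ _ (by norm_num), Nat.div_eq_of_lt h7, zero_add, ih,
        dig_succ]
      simp only [Nat.succ_lt_succ_iff]

theorem dig_mul : ∀ (j b c : ℕ), (∀ i, dig b i < 7) → c < 7 → dig (c * b) j = c * dig b j := by
  intro j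
  induction j with
  | zero =>
    intro b c hb hc
    have h0 := hb 0
    rw [dig_zero] at h0
    rw [dig_zero, dig_zero, Nat.mul_mod, Nat.mod_eq_of_lt (show c < 2 ^ 17 by omega), Nat.mod_eq_of_lt]
    nlinarith
  | succ j ih =>
    intro b c hb hc
    have h0 := hb 0
    rw [dig_zero] at h0
    have hlt : c * (b % 2 ^ 17) < 2 ^ 17 := by nlinarith
    have hdiv : c * b / 2 ^ 17 = c * (b / 2 ^ 17) := by
      conv_lhs => rw [← Nat.mod_add_div b (2 ^ 17), mul_add, ← mul_assoc, mul_comm c (2 ^ 17), mul_assoc]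
      rw [Nat.add_mul_div_left _ _ (by norm_num), Nat.div_eq_of_lt hlt, zero_add]
    rw [dig_succ, dig_succ, hdiv]
    exact ih _ _ (fun i => by rw [← dig_succ]; exact hb _) hc

theorem dig_comb : ∀ (B : List ℕ), B.length ≤ 127 → (∀ b ∈ B, ∀ i, dig b i < 7) → ∀ r,
    (∀ i, dig r i < 7) → ∀ j, dig (comb B r) j = ∑ k : Fin B.length, dig r k * dig (B.getD k 0) j ∧
      dig (comb B r) j ≤ B.length * 49 := by
  intro B
  induction B with
  | nil => intro _ _ r _ j; simp [comb, dig]
  | cons b B ih =>
    intro hl hB r hr j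
    simp only [List.length_cons] at hl
    have hr' : ∀ i, dig (r / 2 ^ 17) i < 7 := fun i => by rw [← dig_succ]; exact hr _
    have ih' := ih (by omega) (fun x hx => hB x (List.mem_cons_of_mem _ hx)) (r / 2 ^ 17) hr'
    have h0 : r % 2 ^ 17 = dig r 0 := (dig_zero r).symm
    have hb := hB b List.mem_cons_self
    show dig (r % 2 ^ 17 * b + comb B (r / 2 ^ 17)) j = _ ∧ dig (r % 2 ^ 17 * b + comb B (r / 2 ^ 17)) j ≤ _
    have hterm : ∀ i, dig (r % 2 ^ 17 * b) i ≤ 49 := fun i => by
      rw [h0, dig_mul _ _ _ hb (hr 0)]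
      exact Nat.mul_le_mul (hr 0).le (hb i).le
    rw [dig_add j _ _ fun i _ => by
      have h1 := hterm i
      have h2 := (ih' i).2
      omega]
    refine ⟨?_, ?_⟩
    · rw [h0, dig_mul _ _ _ hb (hr 0), (ih' j).1]
      rw [show (∑ k : Fin (b :: B).length, dig r k * dig ((b :: B).getD k 0) j) =
        dig r 0 * dig b j + ∑ k : Fin B.length, dig r (k + 1) * dig (B.getD k 0) j from by
          rw [List.length_cons, Fin.sum_univ_succ]; rfl]
      simp only [dig_succ]
    · have h1 := hterm j
      have h2 := (ih' j).2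
      rw [List.length_cons]
      omega

/-- The rows are reduced. -/
noncomputable def fits (n : ℕ) (A : List ℕ) : Bool :=
  Nat.beq A.length n && A.all fun r => Nat.beq (norm n r) r

theorem dig_lt_of_fits {n : ℕ} {A : List ℕ} (h : fits n A = true) : ∀ r ∈ A, ∀ i, dig r i < 7 := by
  intro r hr i
  simp only [fits, Bool.and_eq_true, List.all_eq_true, Nat.beq_eq] at h
  rw [← h.2 r hr, dig_norm]
  split
  · exact Nat.mod_lt _ (by norm_num)
  · norm_num

/-- The product of packed matrices. -/
noncomputable def mulP (n : ℕ) (A B : List ℕ) : List ℕ := A.map fun r => norm n (comb B r)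

theorem fits_mulP {n : ℕ} {A : List ℕ} (B : List ℕ) (hA : A.length = n) : fits n (mulP n A B) = true := by
  simp only [fits, Bool.and_eq_true, Nat.beq_eq, List.all_eq_true, mulP, List.length_map, hA, List.mem_map]
  refine ⟨trivial, ?_⟩
  rintro _ ⟨r, -, rfl⟩
  have : ∀ m U, norm m (norm m U) = norm m U := by
    intro m
    induction m with
    | zero => intro U; rfl
    | succ m ih =>
      intro U
      have h7 : U % 2 ^ 17 % 7 < 2 ^ 17 := (Nat.mod_le _ _).trans_lt (Nat.mod_lt _ (by norm_num))
      rw [norm_succ m (norm (m + 1) U)]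
      conv_lhs => rw [norm_succ m U, Nat.add_mul_mod_self_left, Nat.mod_eq_of_lt h7, Nat.mod_mod,
        Nat.add_mul_div_left _ _ (by norm_num : (0:ℕ) < 2 ^ 17), Nat.div_eq_of_lt h7, zero_add, ih]
      rfl
  exact this _ _

/-- The matrix of a list of rows. -/
def dec (n : ℕ) (A : List ℕ) : Matrix (Fin n) (Fin n) (ZMod 7) := fun i j => (dig (A.getD i 0) j : ZMod 7)

theorem dec_mulP {n : ℕ} (hn : n ≤ 127) {A B : List ℕ} (hA : fits n A = true) (hB : fits n B = true) :
    dec n (mulP n A B) = dec n A * dec n B := by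
  have hA' := hA
  have hB' := hB
  simp only [fits, Bool.and_eq_true, Nat.beq_eq] at hA' hB'
  obtain ⟨hlA, -⟩ := hA'
  obtain ⟨hlB, -⟩ := hB'
  subst hlB
  funext i j
  rw [Matrix.mul_apply]
  have hi : (i : ℕ) < A.length := lt_of_lt_of_eq i.2 hlA.symm
  have hmem : A.getD i 0 ∈ A := by rw [List.getD_eq_getElem _ _ hi]; exact List.getElem_mem _
  have h1 : (mulP B.length A B).getD i 0 = norm B.length (comb B (A.getD i 0)) := by
    rw [mulP, List.getD_eq_getElem _ _ (by rw [List.length_map]; exact hi), List.getElem_map,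
      List.getD_eq_getElem _ _ hi]
  simp only [dec]
  rw [h1, dig_norm, if_pos j.2, ZMod.natCast_mod,
    (dig_comb B hn (dig_lt_of_fits hB) _ (dig_lt_of_fits hA _ hmem) j).1, Nat.cast_sum]
  exact Finset.sum_congr rfl fun k _ => by push_cast; rfl

/-- The scalar matrix. -/
noncomputable def scalP (n c : ℕ) : List ℕ := (List.range n).map fun i => c * 2 ^ (17 * i)

/-- Equality of lists of numbers, for evaluation by the kernel. -/
noncomputable def eqP (A : List ℕ) : List ℕ → Bool :=
  List.rec (motive := fun _ => List ℕ → Bool) (fun B => B.isEmpty)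
    (fun a _ ih B => List.rec (motive := fun _ => Bool) false (fun b B _ => Nat.beq a b && ih B) B) A

theorem eq_of_eqP : ∀ {A B : List ℕ}, eqP A B = true → A = B := by
  intro A
  induction A with
  | nil => intro B h; cases B with
    | nil => rfl
    | cons b B => simp [eqP] at h
  | cons a A ih =>
    intro B h
    cases B with
    | nil => simp [eqP] at h
    | cons b B =>
      have h' : Nat.beq a b = true ∧ eqP A B = true := by simpa [eqP] using h
      rw [Nat.beq_eq.mp h'.1, ih h'.2]

end Cfsg.Agent.Presented.MatSeven
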