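import Cfsg.Agent.Lib.Presented.ONOrder
import Cfsg.Agent.Lib.Presented.ON.L37Data
import Cfsg.Agent.Lib.AutPSL.Basic
import Cfsg.Agent.Lib.GL.PSLOrders
import Cfsg.Agent.Lib.GL.Basic

/-!
# The subgroup `L₃(7):2` of the presented O'Nan group

The six generators satisfy a presentation of order at most `3753792`, which maps onto the subgroup and onto
`PSL₃(7):2`; both maps are bijective by counting.
-/

set_option autoImplicit false

namespace Cfsg.Agent.Presented.ONL37

open Cfsg.Spor ONIndex ONOrder L37 Matrix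

/-- The field of seven elements. -/
abbrev F : Type := ZMod 7

instance : Fact (Nat.Prime 7) := ⟨by norm_num⟩

/-- `PSL₃(7)`. -/
abbrev L : Type := ProjectiveSpecialLinearGroup (Fin 3) F

/-- The quotient map. -/
noncomputable abbrev mkL : SpecialLinearGroup (Fin 3) F →* L := QuotientGroup.mk' _

theorem gen_ok (i : ℕ) : (matA i).det = 1 ∧ (matB i).det = 1 ∧ matA i * matB i = 1 ∧
    (matB i).transpose = matB i ∧ matB i * matA i = 1 := by
  by_cases h : i < 7
  · have := List.all_eq_true.mp gens_ok i (List.mem_range.mpr h)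
    simp only [Bool.and_eq_true, decide_eq_true_eq] at this
    obtain ⟨⟨⟨⟨h1, h2⟩, h3⟩, h4⟩, h5⟩ := this
    exact ⟨h1, h2, h3, h4, h5⟩
  · obtain ⟨n, rfl⟩ : ∃ n, i = n + 7 := ⟨i - 7, by omega⟩
    simp [matA, matB]

/-- The matrix of a generator, in `SL₃(7)`. -/
noncomputable def slA (i : ℕ) : SpecialLinearGroup (Fin 3) F := ⟨matA i, (gen_ok i).1⟩

/-- The inverse matrix of a generator, in `SL₃(7)`. -/
noncomputable def slB (i : ℕ) : SpecialLinearGroup (Fin 3) F := ⟨matB i, (gen_ok i).2.1⟩

theorem slA_inv (i : ℕ) : (slA i)⁻¹ = slB i :=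
  inv_eq_of_mul_eq_one_right (Subtype.ext (gen_ok i).2.2.1)

theorem invP_slA (i : ℕ) : (AutPSL.invP : MulAut L) (mkL (slA i)) = mkL (slB i) := by
  show (AutPSL.invP : MulAut L) (QuotientGroup.mk (slA i)) = QuotientGroup.mk (slB i)
  rw [AutPSL.invP_mk]
  congr 1
  apply Subtype.ext
  rw [AutPSL.invT_coe, slA_inv]
  exact (gen_ok i).2.2.2.1

/-- The graph automorphism as an action of a group of order two. -/
noncomputable def twist : Multiplicative (ZMod 2) →* MulAut L where
  toFun x := if x = 1 then 1 else AutPSL.invP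
  map_one' := if_pos rfl
  map_mul' x y := by
    rcases (show ∀ z : Multiplicative (ZMod 2), z = 1 ∨ z = Multiplicative.ofAdd 1 by decide) x with rfl | rfl <;>
      rcases (show ∀ z : Multiplicative (ZMod 2), z = 1 ∨ z = Multiplicative.ofAdd 1 by decide) y with rfl | rfl
    · simp
    · simp
    · simp
    · rw [if_pos (by decide), if_neg (by decide), AutPSL.invP_mul_self]

/-- `PSL₃(7):2`. -/
abbrev W : Type := L ⋊[twist] Multiplicative (ZMod 2)

/-- The six involutions of the model. -/
noncomputable def wGen (i : ℕ) : W :=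
  if 1 ≤ i ∧ i ≤ 6 then ⟨mkL (slA i), Multiplicative.ofAdd 1⟩ else 1

theorem wGen_mul {x y : ℕ} (hx : 1 ≤ x ∧ x ≤ 6) (hy : 1 ≤ y ∧ y ≤ 6) :
    wGen y * wGen x = SemidirectProduct.inl (mkL (slA y * slB x)) := by
  rw [wGen, wGen, if_pos hy, if_pos hx]
  refine SemidirectProduct.ext ?_ ((show Multiplicative.ofAdd (1 : ZMod 2) * Multiplicative.ofAdd 1 = 1 by decide))
  rw [SemidirectProduct.mul_left, SemidirectProduct.left_inl, map_mul]
  congr 1
  show (if (Multiplicative.ofAdd (1 : ZMod 2)) = 1 then (1 : MulAut L) else AutPSL.invP) (mkL (slA x)) = _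
  rw [if_neg (by decide), invP_slA]

theorem wGen_mul_self (i : ℕ) : wGen i * wGen i = 1 := by
  by_cases h : 1 ≤ i ∧ i ≤ 6
  · rw [wGen_mul h h, show slA i * slB i = 1 from Subtype.ext (gen_ok i).2.2.1, map_one, map_one]
  · simp [wGen, h]

/-- The element of `SL₃(7)` of a word of even length. -/
noncomputable def pairV : List ℕ → SpecialLinearGroup (Fin 3) F
  | [] => 1
  | [_] => 1
  | x :: y :: w => pairV w * (slA y * slB x)

theorem coe_pairV : ∀ w, ((pairV w : SpecialLinearGroup (Fin 3) F) : M3) = pairM w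
  | [] => rfl
  | [_] => rfl
  | x :: y :: w => by
    rw [pairM, norm_eq, norm_eq, norm_eq, ← coe_pairV w]
    rfl

theorem wval_pairs : ∀ w : List ℕ, (∀ g ∈ w, 1 ≤ g ∧ g ≤ 6) → w.length % 2 = 0 →
    wval wGen w = SemidirectProduct.inl (mkL (pairV w))
  | [], _, _ => by simp [wval, pairV]
  | [_], _, h => by simp at h
  | x :: y :: w, hw, h => by
    rw [wval, wval, mul_assoc, wGen_mul (hw x List.mem_cons_self) (hw y (by simp)),
      wval_pairs w (fun g hg => hw g (by simp [hg])) (by simpa [Nat.add_assoc] using h), pairV,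
      ← map_mul, ← map_mul]

theorem mkL_eq_one_of_scalar {g : SpecialLinearGroup (Fin 3) F} (h : isScalar (g : M3) = true) : mkL g = 1 := by
  simp only [isScalar, List.any_eq_true, decide_eq_true_eq] at h
  obtain ⟨k, -, hk⟩ := h
  have := (GL.psl_pow_eq_one_iff g 1).mpr ⟨(k : F), by rw [pow_one]; exact hk⟩
  simpa using this

theorem wGen_rel {w : List ℕ} (hw : w ∈ rels) : wval wGen w = 1 := by
  have h := List.all_eq_true.mp rels_ok w hw
  simp only [Bool.and_eq_true, Nat.beq_eq] at h
  have hr := (List.mem_filter.mp hw).2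
  simp only [List.all_eq_true, Bool.and_eq_true, Nat.ble_eq] at hr
  rw [wval_pairs w hr h.1, mkL_eq_one_of_scalar (by rw [coe_pairV]; exact h.2), map_one]

/-- A letter as a free generator. -/
def kLetter (i : ℕ) : FreeGroup (Fin 6) :=
  if h : 1 ≤ i ∧ i ≤ 6 then FreeGroup.of ⟨i - 1, by omega⟩ else 1

/-- The relations of `L₃(7):2`. -/
def kRels : Set (FreeGroup (Fin 6)) :=
  {r | ∃ w ∈ rels ++ [[1, 1], [2, 2], [3, 3], [4, 4], [5, 5], [6, 6]], r = wval kLetter w}

/-- The group presented by the relations of `L₃(7):2`. -/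
abbrev K : Type := PresentedGroup kRels

/-- Its generators by number. -/
noncomputable def kGen (i : ℕ) : K := PresentedGroup.mk kRels (kLetter i)

theorem kGen_rel {w : List ℕ} (hw : w ∈ rels ++ [[1, 1], [2, 2], [3, 3], [4, 4], [5, 5], [6, 6]]) :
    wval kGen w = 1 := by
  show wval (fun i => PresentedGroup.mk kRels (kLetter i)) w = 1
  rw [← wval_map]
  exact PresentedGroup.one_of_mem ⟨w, hw, rfl⟩

theorem kGen_mul_self (i : ℕ) : kGen i * kGen i = 1 := by
  by_cases h : 1 ≤ i ∧ i ≤ 6
  · have := kGen_rel (w := [i, i]) (List.mem_append_right _ (by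
      obtain ⟨h1, h6⟩ := h; interval_cases i <;> simp))
    simpa [wval] using this
  · simp [kGen, kLetter, h]

theorem closure_kGen : Subgroup.closure ((fun i => kGen (i + 1)) '' {g | g < 6}) = ⊤ := by
  rw [eq_top_iff, ← PresentedGroup.closure_range_of, Subgroup.closure_le]
  rintro _ ⟨x, rfl⟩
  refine Subgroup.subset_closure ⟨x.val, x.isLt, ?_⟩
  have h : 1 ≤ x.val + 1 ∧ x.val + 1 ≤ 6 := ⟨by omega, by omega⟩
  simp only [kGen, kLetter, dif_pos h]
  rfl

theorem card_K_le : Finite K ∧ Nat.card K ≤ 26068 * 144 := by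
  have h := six_card_le kGen_mul_self fun w hw hr =>
    kGen_rel (List.mem_append_left _ (List.mem_filter.mpr ⟨hw, by simpa using hr⟩))
  rw [closure_kGen] at h
  have := h.1
  have hf : Finite K := Finite.of_equiv _ Subgroup.topEquiv.toEquiv
  exact ⟨hf, by rw [← Subgroup.card_top]; exact h.2⟩

/-- A map of the presented group given by the images of the six generators. -/
theorem exists_kHom {G : Type*} [Group G] (s : ℕ → G) (hs : ∀ i, 1 ≤ i ∧ i ≤ 6 → s i * s i = 1)
    (hout : ∀ i, ¬(1 ≤ i ∧ i ≤ 6) → s i = 1) (hr : ∀ w ∈ rels, wval s w = 1) :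
    ∃ f : K →* G, ∀ i, f (kGen i) = s i := by
  have key : ∀ i, FreeGroup.lift (fun j : Fin 6 => s (j.val + 1)) (kLetter i) = s i := by
    intro i
    by_cases h : 1 ≤ i ∧ i ≤ 6
    · rw [kLetter, dif_pos h, FreeGroup.lift_apply_of]
      show s (i - 1 + 1) = s i
      rw [Nat.sub_add_cancel h.1]
    · rw [kLetter, dif_neg h, map_one, hout i h]
  have hrel : ∀ r ∈ kRels, FreeGroup.lift (fun j : Fin 6 => s (j.val + 1)) r = 1 := by
    rintro _ ⟨w, hw, rfl⟩
    rw [wval_map, show (fun i => FreeGroup.lift (fun j : Fin 6 => s (j.val + 1)) (kLetter i)) = s from funext key]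
    rcases List.mem_append.mp hw with hw | hw
    · exact hr w hw
    · simp only [List.mem_cons, List.not_mem_nil, or_false] at hw
      rcases hw with rfl | rfl | rfl | rfl | rfl | rfl <;> simp only [wval, one_mul] <;>
        exact hs _ ⟨by norm_num, by norm_num⟩
  exact ⟨PresentedGroup.toGroup hrel, fun i => key i⟩

/-- The generators inside the subgroup. -/
noncomputable def hGen (i : ℕ) : hSub := if h : 1 ≤ i ∧ i ≤ 6 then ⟨gen i, gen_mem h.1 h.2⟩ else 1

theorem coe_wval_hGen {w : List ℕ} (hw : ∀ g ∈ w, 1 ≤ g ∧ g ≤ 6) : ((wval hGen w : hSub) : ON) = wval gen w := by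
  induction w with
  | nil => rfl
  | cons g w ih =>
    rw [wval, wval, Subgroup.coe_mul, ih fun x hx => hw x (List.mem_cons_of_mem _ hx), hGen,
      dif_pos (hw g List.mem_cons_self)]

theorem exists_iso : ∃ π : K →* hSub, Function.Bijective π := by
  obtain ⟨π, hπ⟩ := exists_kHom hGen
    (fun i h => Subtype.ext (by rw [Subgroup.coe_mul, hGen, dif_pos h]; exact gen_mul_self i))
    (fun i h => dif_neg h)
    (fun w hw => by
      obtain ⟨hm, hr⟩ := List.mem_filter.mp hw
      simp only [List.all_eq_true, Bool.and_eq_true, Nat.ble_eq] at hr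
      exact Subtype.ext ((coe_wval_hGen hr).trans (wval_relWords w hm)))
  have hsurj : Function.Surjective π := by
    rintro ⟨x, hx⟩
    have hle : hSub ≤ π.range.map hSub.subtype := by
      conv_lhs => rw [hSub_eq]
      rw [Subgroup.closure_le]
      rintro _ ⟨i, hi, rfl⟩
      refine ⟨π (kGen i), ⟨_, rfl⟩, ?_⟩
      rw [hπ, hGen, dif_pos (show 1 ≤ i ∧ i ≤ 6 from hi)]
      rfl
    obtain ⟨y, ⟨k, rfl⟩, hy⟩ := hle hx
    exact ⟨k, Subtype.ext hy⟩
  have := card_K_le.1
  refine ⟨π, (Nat.bijective_iff_surjective_and_card π).mpr ⟨hsurj, ?_⟩⟩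
  refine le_antisymm (card_K_le.2.trans (le_of_eq ?_)) (Nat.card_le_card_of_surjective _ hsurj)
  rw [card_hSub]

theorem card_L : Nat.card L = 1876896 := by
  rw [GL.card_PSL_eq 3 (by norm_num), GL.card_SL_prod, ZMod.card,
    show Finset.Ico 2 (3 + 1) = ({2, 3} : Finset ℕ) from rfl, Finset.prod_pair (by norm_num)]
  rfl

theorem exists_model : ∃ ψ : hSub →* W, Function.Bijective ψ := by
  obtain ⟨π, hπ⟩ := exists_iso
  obtain ⟨ψ, hψ⟩ := exists_kHom wGen (fun i _ => wGen_mul_self i) (fun i h => if_neg h) (fun w hw => wGen_rel hw)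
  let e := MulEquiv.ofBijective π hπ
  refine ⟨ψ.comp e.symm.toMonoidHom, ?_⟩
  suffices Function.Bijective ψ from this.comp e.symm.bijective
  have hgen : ∀ i, wGen i ∈ ψ.range := fun i => ⟨kGen i, hψ i⟩
  have hwval : ∀ w : List ℕ, wval wGen w ∈ ψ.range := by
    intro w
    induction w with
    | nil => exact ψ.range.one_mem
    | cons g w ih => exact ψ.range.mul_mem ih (hgen g)
  have hT : (ψ.range.comap (SemidirectProduct.inl.comp mkL) : Subgroup (SpecialLinearGroup (Fin 3) F)) = ⊤ := by
    refine GL.SL_eq_top_of_transvection_mem fun i j hij c => ?_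
    have hw := List.all_eq_true.mp (Bool.and_eq_true_iff.mp (elemWord_ok i j)).1
    have he := Nat.beq_eq.mp (Bool.and_eq_true_iff.mp (elemWord_ok i j)).2
    set w := (List.replicate (-c).val (elemWord i j)).flatten with hwdef
    have hletters : ∀ g ∈ w, 1 ≤ g ∧ g ≤ 6 := by
      intro g hg
      rw [hwdef, List.mem_flatten] at hg
      obtain ⟨l, hl, hgl⟩ := hg
      rw [List.eq_of_mem_replicate hl] at hgl
      have := hw g hgl
      simpa [Nat.ble_eq] using this
    have hlen : w.length % 2 = 0 := by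
      rw [hwdef, List.length_flatten, List.map_replicate, List.sum_replicate, smul_eq_mul, Nat.mul_mod, he]
      simp
    have hs := elem_ok i j (-c) hij
    rw [neg_neg, norm_eq, ← coe_pairV] at hs
    have h1 : mkL (pairV w * SpecialLinearGroup.transvection hij c) = 1 :=
      mkL_eq_one_of_scalar (by
        show isScalar ((pairV w).1 * (SpecialLinearGroup.transvection hij c).1) = true
        exact hs)
    rw [map_mul] at h1
    show SemidirectProduct.inl (mkL (SpecialLinearGroup.transvection hij c)) ∈ ψ.range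
    rw [← inv_eq_of_mul_eq_one_right h1, map_inv, ← wval_pairs w hletters hlen]
    exact ψ.range.inv_mem (hwval w)
  have hL : ∀ x : L, SemidirectProduct.inl x ∈ ψ.range := by
    intro x
    induction x using QuotientGroup.induction_on with
    | H g =>
      show g ∈ ψ.range.comap (SemidirectProduct.inl.comp mkL)
      rw [hT]
      exact Subgroup.mem_top g
  have hsurj : Function.Surjective ψ := by
    intro x
    show x ∈ ψ.range
    rcases (show ∀ z : Multiplicative (ZMod 2), z = 1 ∨ z = Multiplicative.ofAdd 1 by decide) x.right with h | h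
    · rw [show x = SemidirectProduct.inl x.left from SemidirectProduct.ext rfl h]
      exact hL _
    · rw [show x = SemidirectProduct.inl (x.left * (mkL (slA 1))⁻¹) * wGen 1 by
        rw [wGen, if_pos (by norm_num)]
        refine SemidirectProduct.ext ?_ ?_
        · simp
        · simp [h]]
      exact ψ.range.mul_mem (hL _) (hgen 1)
  have := card_K_le.1
  refine (Nat.bijective_iff_surjective_and_card ψ).mpr ⟨hsurj, le_antisymm (card_K_le.2.trans ?_)
    (Nat.card_le_card_of_surjective _ hsurj)⟩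
  rw [SemidirectProduct.card, card_L, Nat.card_eq_fintype_card, Fintype.card_multiplicative, ZMod.card]

theorem exists_psl_subgroup : ∃ N : Subgroup hSub, N.Normal ∧ N.index = 2 ∧ Nonempty (N ≃* L) := by
  obtain ⟨ψ, hψ⟩ := exists_model
  let e : hSub ≃* W := MulEquiv.ofBijective ψ hψ
  refine ⟨((SemidirectProduct.inl : L →* W).range).comap e.toMonoidHom, ?_, ?_, ⟨?_⟩⟩
  · rw [SemidirectProduct.range_inl_eq_ker_rightHom]
    infer_instance
  · rw [Subgroup.index_comap_of_surjective (f := e.toMonoidHom) _ e.surjective, SemidirectProduct.range_inl_eq_ker_rightHom,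
      Subgroup.index_ker, MonoidHom.range_eq_top.mpr SemidirectProduct.rightHom_surjective, Subgroup.card_top,
      Nat.card_eq_fintype_card, Fintype.card_multiplicative, ZMod.card]
  · exact ((MulEquiv.subgroupCongr
        (Subgroup.comap_equiv_eq_map_symm e (SemidirectProduct.inl : L →* W).range)).trans
      (Subgroup.equivMapOfInjective _ e.symm.toMonoidHom e.symm.injective).symm).trans
      (MonoidHom.ofInjective SemidirectProduct.inl_injective).symm

end Cfsg.Agent.Presented.ONL37
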