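import Cfsg.Agent.Lib.Presented.ONRigid.Agree
import Cfsg.Agent.Lib.Presented.Rigid
import Cfsg.Agent.Lib.Presented.ONOrder

/-!
# The presented O'Nan group on its coset table

The proved table gives a bijection between the points below `122760` and the cosets of `hSub`, carrying the
walks of the table to the action of the seven involutions.
-/

set_option autoImplicit false
set_option maxRecDepth 20000

namespace Cfsg.Agent.Presented.ONRigid

open Cfsg.Spor ONIndex

theorem closure_gen_cert : Subgroup.closure (gen '' {g | g < cert.m}) = ⊤ := closure_gen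

theorem exists_model : ∃ pt : ℕ → ON ⧸ hSub, Model cert gen pt ∧ pt 0 = QuotientGroup.mk 1 ∧
    ∀ x : ON ⧸ hSub, ∃ i, i < cert.N ∧ pt i = x := by
  have hK : ∀ w ∈ ([[1], [2], [3], [4], [5], [6]] : List (List ℕ)) ++ ONTable.subWords,
      wval gen w ∈ hSub := by
    intro w hw
    rcases List.mem_append.mp hw with hw | hw
    · exact ONOrder.hSub_singles w hw
    · exact wval_subWords w hw
  obtain ⟨c, hc0, hc⟩ := EdgeCert.exists_closed (s := gen) hSub ONTable.edges_all ONTable.nodes_all
    ecert_rulesOK (fun g _ => gen_mul_self g) wval_relWords hK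
  have hact : ∀ i g, i < cert.N → g < cert.m →
      cert.actOf i g < cert.N ∧ gen g • c i = c (cert.actOf i g) := by
    intro i g hi hg
    have he : i * cert.m + g < cert.N * cert.m := cert.edge_lt hi hg
    have h := Nat.eq_of_beq_eq_true (agree_all _ he)
    rw [CosetCert.actOf, h]
    exact hc i g hi hg
  have step : ∀ w : List ℕ, (∀ g ∈ w, g < cert.m) → ∀ i, i < cert.N →
      cert.path w i < cert.N ∧ wval gen w • c i = c (cert.path w i) := by
    intro w
    induction w with
    | nil => intro _ i hi; exact ⟨hi, one_smul _ _⟩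
    | cons g w ih =>
      intro hw i hi
      obtain ⟨h1, h2⟩ := hact i g hi (hw g List.mem_cons_self)
      rw [CosetCert.path_cons, wval, mul_smul, h2]
      exact ih (fun x hx => hw x (List.mem_cons_of_mem _ hx)) _ h1
  have inv : ∀ a : ON, ∀ i, i < cert.N → ∃ j, j < cert.N ∧ a • c i = c j := by
    intro a
    have ha : a ∈ Subgroup.closure (gen '' {g | g < cert.m}) := closure_gen_cert ▸ Subgroup.mem_top a
    induction ha using Subgroup.closure_induction'' with
    | one => exact fun i hi => ⟨i, hi, one_smul _ _⟩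
    | mem x hx =>
      obtain ⟨g, hg, rfl⟩ := hx
      exact fun i hi => ⟨_, hact i g hi hg⟩
    | inv_mem x hx =>
      obtain ⟨g, hg, rfl⟩ := hx
      intro i hi
      rw [inv_eq_of_mul_eq_one_right (gen_mul_self g)]
      exact ⟨_, hact i g hi hg⟩
    | mul x y _ _ ihx ihy =>
      intro i hi
      obtain ⟨j, hj, hy'⟩ := ihy i hi
      obtain ⟨k, hk, hx'⟩ := ihx j hj
      exact ⟨k, hk, by rw [mul_smul, hy', hx']⟩
  have h0 : 0 < cert.N := show 0 < 122760 by norm_num
  have hsurj : ∀ x : ON ⧸ hSub, ∃ i, i < cert.N ∧ c i = x := by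
    intro x
    induction x using QuotientGroup.induction_on with
    | H a =>
      obtain ⟨j, hj, hj'⟩ := inv a 0 h0
      refine ⟨j, hj, ?_⟩
      rw [← hj', hc0, MulAction.Quotient.smul_mk, smul_eq_mul, mul_one]
  have hcard : Nat.card (ON ⧸ hSub) = cert.N := hSub_index
  have hbij : Function.Bijective fun i : Fin cert.N => c i := by
    have hs : Function.Surjective fun i : Fin cert.N => c i := fun x => by
      obtain ⟨i, hi, he⟩ := hsurj x
      exact ⟨⟨i, hi⟩, he⟩
    exact hs.bijective_of_nat_card_le (le_of_eq ((Nat.card_fin _).trans hcard.symm))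
  refine ⟨c, ⟨fun i j hi hj h => ?_, step, gen_mul_self⟩, hc0, hsurj⟩
  exact congrArg Fin.val (hbij.1 (a₁ := ⟨i, hi⟩) (a₂ := ⟨j, hj⟩) h)

theorem card_quotient : Nat.card (ON ⧸ hSub) = 122760 := hSub_index

theorem card_le {ls : List RLevel} (h : rsize ls = 3753792) :
    Nat.card ON ≤ rsize ls * Nat.card (ON ⧸ hSub) := by
  rw [ONOrder.card_on, h, card_quotient]

end Cfsg.Agent.Presented.ONRigid
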