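import Cfsg.Agent.Lib.Presented.Rigid
import Cfsg.Agent.Lib.Presented.Count
import Mathlib.GroupTheory.GroupAction.Transitive
import Mathlib.GroupTheory.GroupAction.Quotient

/-!
# Searches below a point stabiliser

For a transitive action on many points only the stabiliser of one point `b₀` gets a chain.  If `u`
fixes `b₀`, every `g` with `g * u = v * g` sends `b₀` to one of the few fixed points of `v`; if `u`
also fixes the next base point, its image is restricted in the same way.
-/

set_option autoImplicit false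

namespace Cfsg.Agent.Presented

variable {G : Type*} [Group G] {s : ℕ → G} {D : CosetCert} {X : Type*} [MulAction G X] {pt : ℕ → X}

theorem rchainOK_mono : ∀ (ls : List RLevel) (ps ps' : List ℕ), (∀ p ∈ ps', p ∈ ps) →
    rchainOK D ls ps = true → rchainOK D ls ps' = true
  | [], _, _, _, _ => rfl
  | l :: ls, ps, ps', hsub, h => by
    simp only [rchainOK, rlevelOK, Bool.and_eq_true, List.all_eq_true] at h ⊢
    refine ⟨⟨h.1.1, fun t ht => ⟨(h.1.2 t ht).1, fun p hp => (h.1.2 t ht).2 p (hsub p hp)⟩⟩,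
      rchainOK_mono ls _ _ ?_ h.2⟩
    intro p hp
    rcases List.mem_cons.1 hp with rfl | hp
    exacts [List.mem_cons_self, List.mem_cons_of_mem _ (hsub p hp)]

/-- A chain with as many elements as a point stabiliser lists it. -/
theorem stab_mem_rvals [Finite G] [MulAction.IsPretransitive G X] (M : Model D s pt) {b₀ : ℕ}
    {ls : List RLevel} (h : rchainOK D ls [b₀] = true)
    (hcard : Nat.card G ≤ rsize ls * Nat.card X) {g : G} (hg : g • pt b₀ = pt b₀) :
    g ∈ rvals s ls := by
  classical
  have hsub : (↑(rvals s ls) : Set G) ⊆ (MulAction.stabilizer G (pt b₀) : Set G) := fun r hr =>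
    rvals_fix M ls _ h r hr b₀ List.mem_cons_self
  have hidx : (MulAction.stabilizer G (pt b₀)).index = Nat.card X :=
    MulAction.index_stabilizer_of_transitive G (pt b₀)
  have hmul := (MulAction.stabilizer G (pt b₀)).card_mul_index
  rw [hidx] at hmul
  have hle : Nat.card (MulAction.stabilizer G (pt b₀)) ≤ rsize ls := by
    refine Nat.le_of_mul_le_mul_right (hmul ▸ hcard) ?_
    rw [← hidx]
    exact Nat.pos_of_ne_zero Subgroup.index_ne_zero_of_finite
  have hn : (↑(rvals s ls) : Set G).ncard = rsize ls := by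
    rw [Set.ncard_coe_finset, card_rvals M ls _ h]
  have heq := Set.eq_of_subset_of_ncard_le hsub
    (le_trans (le_of_eq (Nat.card_coe_set_eq _).symm) (hle.trans (le_of_eq hn.symm)))
  exact Finset.mem_coe.1 (heq ▸ hg)

/-- The points of the chain and `b₀` determine the elements. -/
theorem isBaseFor_stab [Finite G] [MulAction.IsPretransitive G X] (M : Model D s pt) {b₀ : ℕ}
    {ls : List RLevel} (h : rchainOK D ls [b₀] = true)
    (hcard : Nat.card G ≤ rsize ls * Nat.card X) : IsBaseFor pt G (b₀ :: rbase ls) := by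
  intro g g' hgg
  have h0 : (g⁻¹ * g') • pt b₀ = pt b₀ := by
    rw [mul_smul, ← hgg b₀ List.mem_cons_self, inv_smul_smul]
  have h1 : g⁻¹ * g' = 1 := by
    refine rvals_eq_of_base M ls [b₀] h _ (stab_mem_rvals M h hcard h0) _
      (stab_mem_rvals M h hcard (one_smul G _)) fun p hp => ?_
    rw [one_smul, mul_smul, ← hgg p (List.mem_cons_of_mem _ hp), inv_smul_smul]
  exact inv_mul_eq_one.1 h1

/-- The search split along the first level, for a listed element. -/
theorem exists_solution_slices_of_mem (M : Model D s pt) {bs : List ℕ} (hb : ∀ p ∈ bs, p < D.N)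
    {l₀ : RLevel × ℕ} {rest : List (RLevel × ℕ)} {u v : List ℕ}
    (hls : rchainOK D ((l₀ :: rest).map Prod.fst) [] = true) (himg : imagesOK D u (l₀ :: rest) = true)
    (hv : lettersOK D v = true) {K : ℕ} (hK : 0 < K) {g : G}
    (hg : g ∈ rvals s ((l₀ :: rest).map Prod.fst)) (h : g * wval s u = wval s v * g) :
    ∃ k, k * K < l₀.1.2.length ∧
      ∃ l ∈ solutions D bs (slice (l₀ :: rest) (k * K) K) u v, lettersOK D l = true ∧ wval s l = g := by
  obtain ⟨⟨b, ts⟩, ub⟩ := l₀
  classical
  rw [List.map_cons, rvals, Finset.mem_image₂] at hg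
  obtain ⟨t, ht, r, hr, hgr⟩ := hg
  obtain ⟨i, hi, hti⟩ := List.mem_iff_getElem.1 (List.mem_toFinset.1 ht)
  have hi' : i < ts.length := hi
  refine ⟨i / K, lt_of_le_of_lt (Nat.div_mul_le_self i K) hi', ?_⟩
  refine exists_solution_of_mem M hb (rchainOK_slice hls _ _) (imagesOK_slice himg _ _) hv ?_ h
  rw [slice, List.map_cons, rvals, Finset.mem_image₂]
  refine ⟨t, List.mem_toFinset.2 ?_, r, hr, hgr⟩
  have h1 : i % K < K := Nat.mod_lt _ hK
  have h2 : i / K * K + i % K = i := by rw [Nat.mul_comm]; exact Nat.div_add_mod i K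
  rw [List.mem_iff_getElem?]
  refine ⟨i % K, ?_⟩
  rw [List.getElem?_take_of_lt h1, List.getElem?_drop, h2, List.getElem?_eq_getElem hi']
  exact congrArg some hti

/-- Solutions inside the stabiliser of `b₀`, by slices. -/
theorem exists_solution_stab [Finite G] [MulAction.IsPretransitive G X] (M : Model D s pt)
    {bs : List ℕ} (hb : ∀ p ∈ bs, p < D.N) {b₀ : ℕ} {l₀ : RLevel × ℕ} {rest : List (RLevel × ℕ)}
    {u v : List ℕ} (hls : rchainOK D ((l₀ :: rest).map Prod.fst) [b₀] = true)
    (hcard : Nat.card G ≤ rsize ((l₀ :: rest).map Prod.fst) * Nat.card X)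
    (himg : imagesOK D u (l₀ :: rest) = true) (hv : lettersOK D v = true) {K : ℕ} (hK : 0 < K) {g : G}
    (hg : g • pt b₀ = pt b₀) (h : g * wval s u = wval s v * g) :
    ∃ k, k * K < l₀.1.2.length ∧
      ∃ l ∈ solutions D bs (slice (l₀ :: rest) (k * K) K) u v, lettersOK D l = true ∧ wval s l = g :=
  exists_solution_slices_of_mem M hb (rchainOK_mono _ _ _ (fun _ hp => nomatch hp) hls) himg hv hK
    (stab_mem_rvals M hls hcard hg) h

/-- The listed points contain the fixed points of a word in a range. -/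
noncomputable def fixRangeOK (D : CosetCert) (v F : List ℕ) (lo d n : ℕ) : Bool :=
  checkFast (fun i => force (lo + i) fun p =>
    !(Nat.beq (D.path v p) p) || F.any fun f => Nat.beq f p) d n

theorem mem_of_fixRangeOK {v F : List ℕ} {lo d n : ℕ} (h : fixRangeOK D v F lo d n = true) {i : ℕ}
    (hi : i < n) (hfix : D.path v (lo + i) = lo + i) : lo + i ∈ F := by
  rw [fixRangeOK, ← checkBelow_fast] at h
  have := checkBelow_spec h i hi
  simpa [force_eq, hfix] using this

/-- A point moved by `u` as by the element is fixed by `v` when `u` fixes it. -/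
theorem smul_fixed (M : Model D s pt) {u v : List ℕ} (hu : lettersOK D u = true) {b : ℕ}
    (hb : b < D.N) (hub : D.path u b = b) {g : G} (h : g * wval s u = wval s v * g) :
    wval s v • g • pt b = g • pt b := by
  rw [← mul_smul, ← h, mul_smul, (M.step u (lettersOK_spec hu) b hb).2, hub]

/-- The points contain every place where fixed points can land. -/
noncomputable def landsOK (D : CosetCert) (top : RLevel) (P : List ℕ) : Bool :=
  top.2.all fun q => top.2.all fun f => force (D.path q.2.reverse f.1) fun z => P.any fun p => Nat.beq p z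

/-- The entries of a level at the given points. -/
noncomputable def midLevel (P : List ℕ) (mid : RLevel) : RLevel :=
  (mid.1, mid.2.filter fun t => P.any fun p => Nat.beq p t.1)

/-- All solutions when `u` fixes `b₀` and the first point of the chain. -/
theorem exists_solution_fix [Finite G] [MulAction.IsPretransitive G X] (M : Model D s pt)
    (hsurj : ∀ x : X, ∃ i, i < D.N ∧ pt i = x) {bs : List ℕ} (hb : ∀ p ∈ bs, p < D.N)
    {top : RLevel} {mid : RLevel} {rest : List (RLevel × ℕ)} {u v : List ℕ}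
    (htop : rlevelOK D [] top = true)
    (hls : rchainOK D (mid :: rest.map Prod.fst) [top.1] = true)
    (hcard : Nat.card G ≤ rsize (mid :: rest.map Prod.fst) * Nat.card X)
    (himg : imagesOK D u ((top, top.1) :: (mid, mid.1) :: rest) = true)
    (hv : lettersOK D v = true) {P : List ℕ} (hP : landsOK D top P = true)
    (hfix : ∀ i, i < D.N → D.path v i = i → i ∈ top.2.map Prod.fst) {g : G}
    (h : g * wval s u = wval s v * g) :
    ∃ l ∈ solutions D bs ((top, top.1) :: (midLevel P mid, mid.1) :: rest) u v,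
      lettersOK D l = true ∧ wval s l = g := by
  classical
  have himg' := himg
  simp only [imagesOK, Bool.and_eq_true, List.all_cons, Nat.beq_eq] at himg
  obtain ⟨hu, hu0, hu1, hurest⟩ := himg
  have htop' := htop
  simp only [rlevelOK, Bool.and_eq_true, List.all_eq_true, Nat.blt_eq, Nat.beq_eq] at htop
  obtain ⟨⟨hb0, -⟩, htops⟩ := htop
  have hls' := hls
  simp only [rchainOK, rlevelOK, Bool.and_eq_true, List.all_eq_true, Nat.blt_eq, Nat.beq_eq] at hls
  obtain ⟨⟨⟨hb1, hincr⟩, hmids⟩, hrest⟩ := hls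
  have hfixpt : ∀ b, b < D.N → D.path u b = b → ∃ i, i < D.N ∧ g • pt b = pt i ∧
      i ∈ top.2.map Prod.fst := by
    intro b hbN hub
    obtain ⟨i, hi, he⟩ := hsurj (g • pt b)
    refine ⟨i, hi, he.symm, hfix i hi (M.inj _ _ (M.step v (lettersOK_spec hv) i hi).1 hi ?_)⟩
    rw [← (M.step v (lettersOK_spec hv) i hi).2, he]
    exact smul_fixed M hu hbN hub h
  obtain ⟨i, hiN, hgi, hmem⟩ := hfixpt top.1 hb0 hu0
  obtain ⟨q, hq, rfl⟩ := List.mem_map.1 hmem
  obtain ⟨⟨hqw, hqimg⟩, -⟩ := htops q hq
  have hqv : wval s q.2 • pt top.1 = pt q.1 := by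
    rw [(M.step _ (lettersOK_spec hqw) top.1 hb0).2, hqimg]
  have hr0 : ((wval s q.2)⁻¹ * g) • pt top.1 = pt top.1 := by
    rw [mul_smul, hgi, ← hqv, inv_smul_smul]
  have hmemr := stab_mem_rvals M hls' hcard hr0
  rw [rvals, Finset.mem_image₂] at hmemr
  obtain ⟨t, ht, r, hr, htr⟩ := hmemr
  obtain ⟨⟨htw, htimg⟩, -⟩ := hmids t (List.mem_toFinset.1 ht)
  have hrfix := rvals_fix M _ _ hrest r hr mid.1 List.mem_cons_self
  obtain ⟨f, hfN, hgf, hfmem⟩ := hfixpt mid.1 hb1 hu1
  obtain ⟨e, he, rfl⟩ := List.mem_map.1 hfmem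
  have hkey : D.path q.2.reverse e.1 = t.1 := by
    refine M.inj _ _ (M.step _ (lettersOK_spec (lettersOK_reverse hqw)) e.1 hfN).1
      (htimg ▸ (M.step _ (lettersOK_spec htw) mid.1 hb1).1) ?_
    rw [← (M.step _ (lettersOK_spec (lettersOK_reverse hqw)) e.1 hfN).2, wval_reverse M.sq, ← hgf,
      ← mul_smul, ← htr, mul_smul, hrfix, (M.step _ (lettersOK_spec htw) mid.1 hb1).2, htimg]
  have htmem : t ∈ (midLevel P mid).2 := by
    refine List.mem_filter.2 ⟨List.mem_toFinset.1 ht, ?_⟩
    simp only [landsOK, force_eq, List.all_eq_true, List.any_eq_true, Nat.beq_eq] at hP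
    obtain ⟨p, hp, hpe⟩ := hP q hq e he
    exact List.any_eq_true.2 ⟨p, hp, by rw [hpe, hkey]; simp⟩
  refine exists_solution_of_mem M hb ?_ ?_ hv ?_ h
  · have hsub : ((midLevel P mid).2).Sublist mid.2 := List.filter_sublist
    simp only [List.map_cons, rchainOK, Bool.and_eq_true]
    refine ⟨htop', ?_, hrest⟩
    simp only [rlevelOK, midLevel, Bool.and_eq_true, List.all_eq_true, Nat.blt_eq, Nat.beq_eq]
    exact ⟨⟨hb1, incr_of_pairwise ((incr_spec hincr).sublist (hsub.map _))⟩,
      fun t' ht' => hmids t' (hsub.subset ht')⟩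
  · simpa [imagesOK, midLevel] using himg'
  · simp only [List.map_cons, rvals, Finset.mem_image₂]
    refine ⟨q, List.mem_toFinset.2 hq, (wval s q.2)⁻¹ * g, ⟨t, List.mem_toFinset.2 htmem, r, hr, htr⟩,
      mul_inv_cancel_left _ _⟩

/-- An endomorphism fixing a normalised pair is outer if it moves something. -/
theorem exists_outer_of_fixes [Finite G] [IsSimpleGroup G] (f : G →* G) {x y t : G} {p r : ℕ}
    (hp : p.Prime) (hord : orderOf x = p) (hyx : y * x = x ^ r * y) (hr : ¬ r % p = 1)
    (hC : ∀ g, g * x = x * g → ∃ k, k < p ∧ g = x ^ k)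
    (hfx : f x = x) (hfy : f y = y) (hft : f t ≠ t) : ∃ c : Cfsg.Out G, c ≠ 1 := by
  have hx : x ≠ 1 := fun h => hp.ne_one (by rw [← hord, h, orderOf_one])
  have hker : f.ker = ⊥ := by
    rcases IsSimpleGroup.eq_bot_or_eq_top_of_normal f.ker inferInstance with h | h
    · exact h
    · exact absurd ((hfx.symm.trans (MonoidHom.mem_ker.1 (h ▸ Subgroup.mem_top x)))) hx
  have hinj : Function.Injective f := (MonoidHom.ker_eq_bot_iff f).1 hker
  let φ : MulAut G := MulEquiv.ofBijective f ⟨hinj, Finite.injective_iff_surjective.1 hinj⟩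
  refine ⟨(φ : Cfsg.Out G), fun h => ?_⟩
  obtain ⟨g, hg⟩ := (QuotientGroup.eq_one_iff φ).1 h
  have hf : ∀ z, g * z * g⁻¹ = f z := fun z => by rw [← MulAut.conj_apply, hg]; rfl
  have hgx : g * x = x * g := by
    have := hf x; rw [hfx] at this; exact mul_inv_eq_iff_eq_mul.1 this
  have hgy : g * y = y * g := by
    have := hf y; rw [hfy] at this; exact mul_inv_eq_iff_eq_mul.1 this
  obtain ⟨k, hk, rfl⟩ := hC g hgx
  have hconj : y * x ^ k = x ^ (r * k) * y := by
    have hs : SemiconjBy y x (x ^ r) := hyx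
    have := hs.pow_right k
    rwa [← pow_mul] at this
  rw [← hgy, mul_right_cancel_iff, pow_inj_mod, hord, Nat.mod_eq_of_lt hk] at hconj
  have hk0 : k = 0 := by
    by_contra hne
    apply hr
    have h1 : r * k ≡ 1 * k [MOD p] := by
      rw [one_mul, Nat.ModEq, ← hconj, Nat.mod_eq_of_lt hk]
    have h2 := Nat.ModEq.cancel_right_of_coprime
      ((hp.coprime_iff_not_dvd.2 fun hd => hne (Nat.eq_zero_of_dvd_of_lt hd hk))) h1
    rwa [Nat.ModEq, Nat.mod_eq_of_lt hp.one_lt] at h2
  refine hft ?_
  rw [← hf t, hk0, pow_zero, one_mul, inv_one, mul_one]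

end Cfsg.Agent.Presented
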