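import Cfsg.Agent.Lib.Presented.ONModel
import Cfsg.Agent.Lib.Presented.RigidStab
import Cfsg.Agent.Lib.Presented.ONRigid.ChainX
import Cfsg.Agent.Lib.Presented.ONRigid.ChainY
import Cfsg.Agent.Lib.Presented.ONRigid.FixX
import Cfsg.Agent.Lib.Presented.ONRigid.FixY
import Cfsg.Agent.Lib.Presented.ONRigid.Cent
import Cfsg.Agent.Lib.Presented.ONRigid.Sol
import Cfsg.Agent.Lib.Presented.ONRigid.Cand

/-!
# The outer automorphism group of the presented O'Nan group has order two

An automorphism is normalised to carry an element `x` of order 19 to a power and to fix an element `y`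
normalising `⟨x⟩`; the image of a third element then lies in the centraliser of `y`, and relations leave two
possibilities.  The second one is an endomorphism by the relators, and it is not inner.
-/

set_option autoImplicit false
set_option maxRecDepth 20000

namespace Cfsg.Agent.Presented.ONRigid

open Cfsg.Spor ONIndex

theorem bs_lt : ∀ p ∈ data.bs, p < cert.N := by decide +kernel

theorem x_images : imagesOK cert xWord XChain = true := by decide +kernel

theorem y_images : imagesOK cert yWord ((topY, topY.1) :: (YLev0, YLev0.1) :: YRest) = true := by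
  decide +kernel

theorem x_base : 0 :: rbase (XChain.map Prod.fst) = data.bs := by decide +kernel

theorem top_ok : rlevelOK cert [] topY = true := by decide +kernel

theorem basic_ok : data.basicOK cert = true := by decide +kernel

theorem words_ok : ((List.range cert.m).all fun g => sameOn cert data.bs [g]
    (subst [data.x, data.x.reverse, data.t, data.t.reverse, data.y, data.y.reverse]
      (data.words.getD g []))) = true := by
  decide +kernel

theorem x_letters : lettersOK cert xWord = true := by decide +kernel

theorem y_letters : lettersOK cert (rep data.j yWord) = true := by decide +kernel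

theorem imgs_squares : ((List.range 7).all fun i =>
    sameOn cert data.bs (imgs.getD i [] ++ imgs.getD i []) []) = true := by
  decide +kernel

theorem imgs_rels : ((ONIndex.relList.map ONIndex.substW).all fun w => sameOn cert data.bs (subst imgs w) []) = true := by
  decide +kernel

theorem image_x : sameOn cert data.bs (subst imgs xWord) xWord = true := by decide +kernel

theorem image_y : sameOn cert data.bs (subst imgs yWord) yWord = true := by decide +kernel

theorem image_t : sameOn cert data.bs (subst imgs tWord) tWord1 = true := by decide +kernel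

theorem image_ne : sameOn cert data.bs tWord1 tWord = false := by decide +kernel

/-- The endomorphism given by the images. -/
theorem exists_image_map {pt : ℕ → ON ⧸ hSub} (M : Model cert gen pt)
    (hB : IsBaseFor pt ON data.bs) :
    ∃ f : ON →* ON, ∀ w : List ℕ, (∀ g ∈ w, g < cert.m) →
      f (wval gen w) = wval gen (subst imgs w) := by
  let s' : ℕ → ON := fun i => wval gen (imgs.getD i [])
  have hs : ∀ i, s' i * s' i = 1 := by
    intro i
    by_cases hi : i < 7
    · have := eq_of_sameOn M hB (List.all_eq_true.mp imgs_squares i (List.mem_range.mpr hi))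
      rwa [wval_append] at this
    · have hlen : imgs.length = 7 := rfl
      simp only [s']
      rw [List.getD_eq_default _ _ (by omega : imgs.length ≤ i)]
      simp [wval]
  let im : ON.Gen → ON := fun x =>
    match x with
    | .g => wval s' [3, 4, 3, 4, 0]
    | .a => s' 1
    | .b => s' 2
    | .c => s' 3
    | .d => s' 4
    | .e => s' 5
    | .f => s' 6
  have hrels : ∀ r ∈ coxRelators ON.edges ∪ {r | r ∈ ON.extra}, FreeGroup.lift im r = 1 := by
    intro r hr
    rw [lift_eq hs im rfl rfl rfl rfl rfl rfl rfl, ← wval_subst, eq_of_sameOn M hB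
      (List.all_eq_true.mp imgs_rels _ (List.mem_map_of_mem ((mem_rels_iff r).mp hr)))]
    rfl
  refine ⟨PresentedGroup.toGroup hrels, fun w hw => ?_⟩
  have hof : ∀ x, PresentedGroup.toGroup hrels (PresentedGroup.of x : ON) = im x := fun x =>
    PresentedGroup.toGroup.of hrels
  rw [wval_subst, wval_map, wval_eq_prod, wval_eq_prod]
  congr 2
  refine List.map_congr_left fun g hg => ?_
  have hlt : g < 7 := hw g hg
  show PresentedGroup.toGroup hrels (gen g) = s' g
  interval_cases g
  · have hi : ∀ i, (s' i)⁻¹ = s' i := fun i => inv_eq_of_mul_eq_one_right (hs i)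
    show PresentedGroup.toGroup hrels tGen = s' 0
    rw [tGen, map_mul, map_pow, map_mul, hof, hof, hof]
    show wval s' [3, 4, 3, 4, 0] * (s' 3 * s' 4) ^ 2 = s' 0
    rw [show wval s' [3, 4, 3, 4, 0] = s' 0 * ((s' 3 * s' 4) ^ 2)⁻¹ by
      simp [wval, pow_two, mul_inv_rev, hi, mul_assoc], inv_mul_cancel_right]
  all_goals exact hof _

theorem mem_singleton_of_path_x {i : ℕ} (hi : i < cert.N) (h : cert.path xWord i = i) : i = 0 := by
  simpa using mem_of_fixX (i := i) hi h

theorem mem_top_of_path_y {i : ℕ} (hi : i < cert.N) (h : cert.path (rep data.j yWord) i = i) :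
    i ∈ topY.2.map Prod.fst := by
  rw [show rep data.j yWord = yWord by simp [rep, data]] at h
  exact mem_of_fixY (i := i) hi h

attribute [local irreducible] rsize rlevelOK solutions midLevel slice in
theorem out_card : Nat.card (Cfsg.Out ON) = 2 := by
  obtain ⟨pt, M, -, hsurj⟩ := exists_model
  haveI : Finite ON := ONOrder.finite_on
  haveI := ONOrder.simple_on
  have hXc := card_le XChain_size
  have hB := isBaseFor_stab M XChain_ok hXc
  rw [x_base] at hB
  have hp : data.p.Prime := by show Nat.Prime 19; norm_num
  have hp2 : ¬ data.p ^ 2 ∣ Nat.card ON := by rw [ONOrder.card_on]; decide +kernel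
  have hC : ∀ g, g * wval gen data.x = wval gen data.x * g →
      ∃ k, k < data.p ∧ g = wval gen data.x ^ k := by
    intro g hg
    have h0 : 0 < cert.N := show 0 < 122760 by norm_num
    have hfix : g • pt 0 = pt 0 := by
      obtain ⟨i, hi, he⟩ := hsurj (g • pt 0)
      have hx0 : cert.path xWord 0 = 0 := by decide +kernel
      have h1 := smul_fixed M x_letters h0 hx0 hg
      have h2 := M.step xWord (lettersOK_spec x_letters) i hi
      change wval gen xWord • g • pt 0 = g • pt 0 at h1
      rw [← he, h2.2] at h1
      rw [← he, mem_singleton_of_path_x hi (M.inj _ _ h2.1 hi h1)]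
    obtain ⟨k, hk, l, hl, -, rfl⟩ := exists_solution_stab M bs_lt (K := 1397) XChain_ok hXc x_images
      x_letters (by norm_num) hfix hg
    have hk4 : k < 4 := by
      have : XLev0.2.length = 5586 := by decide +kernel
      change k * 1397 < XLev0.2.length at hk
      omega
    have key : ((List.range 19).any fun i => sameOn cert data.bs l (rep i xWord)) = true := by
      interval_cases k
      · exact List.all_eq_true.1 cent0 l hl
      · exact List.all_eq_true.1 cent1 l hl
      · exact List.all_eq_true.1 cent2 l hl
      · exact List.all_eq_true.1 cent3 l hl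
    obtain ⟨i, hi, h⟩ := List.any_eq_true.1 key
    exact ⟨i, List.mem_range.1 hi, (eq_of_sameOn M hB h).trans (wval_rep _ _)⟩
  have hcands : ∀ g, g * wval gen data.y = wval gen data.y ^ data.j * g →
      ∃ l ∈ data.cands, lettersOK cert l = true ∧ wval gen l = g := by
    intro g hg
    rw [← wval_rep] at hg
    obtain ⟨l, hl, hl', hv⟩ := exists_solution_fix M hsurj bs_lt (top := topY) (mid := YLev0) top_ok
      YChain_ok (card_le YChain_size) y_images y_letters lands_ok (fun i => mem_top_of_path_y) hg
    exact ⟨l, (congrArg (l ∈ ·) sol_ok).mp hl, hl', hv⟩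
  have hok : ∀ a ∈ data.R, ∀ l ∈ data.cands, data.candOK cert a l = true := by
    intro a ha l hl
    change a ∈ [1, 2, 4] at ha
    simp only [List.mem_cons, List.not_mem_nil, or_false] at ha
    rcases ha with rfl | rfl | rfl
    · exact List.all_eq_true.1 cand1 l hl
    · exact List.all_eq_true.1 cand2 l hl
    · exact List.all_eq_true.1 cand4 l hl
  obtain ⟨hfin, hle⟩ := outer_finite_card_le M closure_gen_cert data hB bs_lt hp hp2 basic_ok words_ok
    hC hcands hok
  have hlen : data.allowed.length = 2 := rfl
  have hb := basic_ok
  simp only [RigidCert.basicOK, Bool.and_eq_true, Bool.not_eq_true'] at hb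
  obtain ⟨⟨⟨⟨⟨⟨⟨⟨⟨-, hxp⟩, hx1⟩, hyx⟩, -⟩, -⟩, -⟩, hyl⟩, htl⟩, -⟩ := hb
  have hord : orderOf (wval gen data.x) = 19 := by
    have := Fact.mk (show Nat.Prime 19 by norm_num)
    refine orderOf_eq_prime ?_ fun h => ?_
    · rw [← wval_rep]; exact (eq_of_sameOn M hB hxp).trans rfl
    · change isOne cert data.bs xWord = false at hx1
      rw [isOne_of_eq M x_letters bs_lt h] at hx1
      exact absurd hx1 (by simp)
  have hyx' : wval gen data.y * wval gen data.x = wval gen data.x ^ data.r * wval gen data.y := by
    have := eq_of_sameOn M hB hyx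
    rwa [wval_append, wval_append, wval_rep] at this
  obtain ⟨f, hf⟩ := exists_image_map M hB
  have hft : f (wval gen data.t) ≠ wval gen data.t := by
    intro h
    rw [hf _ (lettersOK_spec htl)] at h
    replace h : wval gen tWord1 = wval gen tWord := (eq_of_sameOn M hB image_t).symm.trans h
    have := sameOn_of_eq M (u := tWord1) (v := tWord) (by decide +kernel) htl bs_lt h
    rw [image_ne] at this
    exact Bool.noConfusion this
  obtain ⟨c, hc⟩ := exists_outer_of_fixes f (show Nat.Prime 19 by norm_num) hord hyx'
    (by decide +kernel) hC ((hf _ (lettersOK_spec x_letters)).trans (eq_of_sameOn M hB image_x))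
    ((hf _ (lettersOK_spec hyl)).trans (eq_of_sameOn M hB image_y)) hft
  have : Nontrivial (Cfsg.Out ON) := ⟨⟨c, 1, hc⟩⟩
  have := (Finite.one_lt_card_iff_nontrivial (α := Cfsg.Out ON)).2 inferInstance
  omega

end Cfsg.Agent.Presented.ONRigid
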