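import Cfsg.Agent.Lib.Presented.Order

/-!
# Simplicity from a table and the suborbits of a subgroup of the point stabiliser
-/

set_option autoImplicit false

namespace Cfsg.Agent.Presented

variable {G : Type*} [Group G] {s : ℕ → G}

section

variable {D : CosetCert} (he : D.edgesOK = true) (hn : D.nodesOK = true) {H : Subgroup G}
  (e : Fin D.N ≃ G ⧸ H) (he0 : ∀ i : Fin D.N, (i : ℕ) = 0 → e i = QuotientGroup.mk 1)
  (hequiv : ∀ g (hg : g < D.m) (i : Fin D.N),
    s g • e i = e ⟨D.actOf i g, CosetCert.actOf_lt he hn i.2 hg⟩)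
include he0 hequiv

/-- Simplicity from a checked table, with suborbits of some subgroup of the stabiliser. -/
theorem isSimpleGroup_of_table_le [Finite G] (hgen : Subgroup.closure (s '' {g | g < D.m}) = ⊤)
    (hd : D.N < 2 ^ D.depth) {ls : List Level} (hls : chainOK D ls [] = true)
    (hcard : Nat.card G ≤ (ls.map Level.size).prod) (hN : 1 < D.N)
    {Ks : List (List ℕ)} (hKH : wordSub s Ks ≤ H) {ts : List (ℕ × NTree)}
    (hblock : blockOK D ts Ks = true)
    {q : ℕ} (hq : Nat.Coprime q (Nat.card H))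
    (fs : List (List (List ℕ))) (hlen : fs.length = D.m)
    (hpow : (fs.all fun f => f.all (powOK D (ls.map Level.pt) q)) = true)
    (hsame : ((List.range D.m).all fun g => sameOK D (ls.map Level.pt) [g] (fs.getD g []).flatten) = true) :
    IsSimpleGroup G := by
  have h0 : 0 < D.N := by omega
  set x₀ := e ⟨0, h0⟩ with hx₀
  have hx₀' : x₀ = QuotientGroup.mk 1 := he0 _ rfl
  simp only [blockOK, Bool.and_eq_true, List.all_eq_true] at hblock
  obtain ⟨⟨horbs, hcov⟩, hsel⟩ := hblock
  have hfaith := eq_of_paths he hn e hequiv hd hls hcard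
  haveI : Nontrivial G := by
    by_contra hnt
    rw [not_nontrivial_iff_subsingleton] at hnt
    have h1 : (G ⧸ H) → True := fun _ => trivial
    have := Nat.card_congr e
    rw [Nat.card_fin] at this
    have h2 : Nat.card (G ⧸ H) ≤ 1 := Finite.card_le_one_iff_subsingleton.mpr
      ⟨fun a b => by
        induction a using QuotientGroup.induction_on with
        | H a => induction b using QuotientGroup.induction_on with
          | H b => rw [Subsingleton.elim a b]⟩
    omega
  constructor
  intro N hNn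
  by_cases hbot : N = ⊥
  · exact Or.inl hbot
  right
  set B := MulAction.orbit N x₀ with hB
  -- `B` is a block invariant under the stabiliser
  have hblk : MulAction.IsBlock G B := MulAction.IsBlock.orbit_of_normal x₀
  haveI : MulAction.IsPretransitive G (G ⧸ H) := inferInstance
  haveI : Finite (G ⧸ H) := Finite.of_equiv _ e
  have hdvd : B.ncard ∣ D.N := by
    have := hblk.ncard_dvd_card ⟨x₀, MulAction.mem_orbit_self _⟩
    rwa [← Nat.card_congr e, Nat.card_fin] at this
  have hinv : ∀ h ∈ H, ∀ x, h • x ∈ B → x ∈ B := by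
    intro h hh x hx
    obtain ⟨⟨n, hn'⟩, hn''⟩ := hx
    change n • x₀ = h • x at hn''
    refine ⟨⟨h⁻¹ * n * h, by simpa using hNn.conj_mem n hn' h⁻¹⟩, ?_⟩
    show (h⁻¹ * n * h) • x₀ = x
    have hfix : h • x₀ = x₀ := by
      rw [hx₀', MulAction.Quotient.smul_mk, smul_eq_mul, mul_one, QuotientGroup.eq, mul_one]
      exact inv_mem hh
    rw [mul_smul, mul_smul, hfix, hn'', inv_smul_smul]
  have horbB : ∀ t ∈ ts, ∀ i : Fin D.N, CosetCert.inOrbit t.2 i.1 = true →
      ∀ hr : t.1 < D.N, (e i ∈ B ↔ e ⟨t.1, hr⟩ ∈ B) := by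
    intro t ht i hi hr
    have himg := CosetCert.orbit_eq_image he hn e hequiv (A := wordSub s Ks) rfl hr (horbs t ht)
    have hmem : e i ∈ MulAction.orbit (wordSub s Ks) (e ⟨t.1, hr⟩) := by rw [himg]; exact ⟨i, hi, rfl⟩
    obtain ⟨⟨h, hhK⟩, hh'⟩ := hmem
    have hh := hKH hhK
    change h • e ⟨t.1, hr⟩ = e i at hh'
    constructor
    · intro hb; exact hinv h hh _ (by rw [hh']; exact hb)
    · intro hb
      exact hinv h⁻¹ (inv_mem hh) _ (by rw [← hh', inv_smul_smul]; exact hb)
  classical
  let sel := ts.filter fun t => decide (∃ hr : t.1 < D.N, e ⟨t.1, hr⟩ ∈ B)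
  have hBset : B = e '' {i : Fin D.N | inUnion (sel.map Prod.snd) i.1 = true} := by
    ext x
    obtain ⟨i, rfl⟩ := e.surjective x
    constructor
    · intro hb
      refine ⟨i, ?_, rfl⟩
      have hc := checkBelow_spec hcov i.1 i.2
      simp only [inUnion, Bool.or_eq_true, List.any_eq_true, List.mem_map] at hc
      simp only [Set.mem_ofPred_eq, inUnion, Bool.or_eq_true, List.any_eq_true, List.mem_map]
      rcases hc with hc | ⟨_, ⟨t, ht, rfl⟩, hti⟩
      · exact Or.inl hc
      · have hr : t.1 < D.N := by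
          have := horbs t ht
          simp only [CosetCert.orbitOK, Bool.and_eq_true, Nat.blt_eq] at this
          exact this.1.1.1
        refine Or.inr ⟨_, ⟨t, ?_, rfl⟩, hti⟩
        rw [List.mem_filter, decide_eq_true_eq]
        exact ⟨ht, hr, (horbB t ht i hti hr).mp hb⟩
    · rintro ⟨j, hj, hji⟩
      obtain rfl : j = i := e.injective hji
      simp only [Set.mem_ofPred_eq, inUnion, Bool.or_eq_true, List.any_eq_true, List.mem_map] at hj
      rcases hj with hj | ⟨_, ⟨t, ht, rfl⟩, hti⟩
      · rw [he0 j (Nat.beq_eq.mp hj), ← hx₀']; exact MulAction.mem_orbit_self _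
      · rw [List.mem_filter, decide_eq_true_eq] at ht
        obtain ⟨ht, hr, hb⟩ := ht
        exact (horbB t ht j hti hr).mpr hb
  have hcount : B.ncard = countBelow (inUnion (sel.map Prod.snd)) D.depth D.N := by
    rw [hBset, Set.ncard_image_of_injective _ e.injective, countBelow_spec _ hd, ← Nat.card_coe_set_eq]
    rfl
  have htrans : ∀ x : G ⧸ H, ∃ n ∈ N, n • x₀ = x := by
    have hs := hsel sel (List.mem_sublists.mpr List.filter_sublist)
    simp only [Bool.or_eq_true, List.isEmpty_iff, Nat.beq_eq, Bool.not_eq_true'] at hs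
    rcases hs with (hs | hs) | hs
    · -- `B` is the single point, so `N` fixes everything
      exfalso
      apply hbot
      rw [eq_bot_iff]
      intro n hn'
      rw [Subgroup.mem_bot]
      refine hfaith n 1 fun p _ hp => ?_
      generalize (⟨p, hp⟩ : Fin D.N) = i
      rw [one_smul]
      obtain ⟨a, ha⟩ := MulAction.exists_smul_eq G x₀ (e i)
      have hb : (a⁻¹ * n * a) • x₀ ∈ B := ⟨⟨a⁻¹ * n * a, by simpa using hNn.conj_mem n hn' a⁻¹⟩, rfl⟩
      rw [hBset, hs] at hb
      obtain ⟨j, hj, hj'⟩ := hb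
      simp only [Set.mem_ofPred_eq, inUnion, List.map_nil, List.any_nil, Bool.or_false,
        Nat.beq_eq] at hj
      rw [show j = (⟨0, h0⟩ : Fin D.N) from Fin.ext hj, ← hx₀, mul_smul, mul_smul, ha,
        eq_inv_smul_iff, ha] at hj'
      exact hj'.symm
    · intro x
      have hall : sel = ts := List.filter_sublist.eq_of_length hs
      have : x ∈ B := by
        rw [hBset, hall]
        obtain ⟨i, rfl⟩ := e.surjective x
        exact ⟨i, checkBelow_spec hcov i.1 i.2, rfl⟩
      obtain ⟨⟨n, hn'⟩, hx⟩ := this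
      exact ⟨n, hn', hx⟩
    · exfalso
      rw [← hcount, Nat.dvd_iff_mod_eq_zero.mp hdvd] at hs
      simp at hs
  -- so `G = N H` and every element of order prime to `|H|` lies in `N`
  have hpowN : ∀ g : G, g ^ q = 1 → g ∈ N := by
    intro g hg
    have hsurj : Function.Surjective (fun h : H => ((h : G) : G ⧸ N)) := by
      intro y
      induction y using QuotientGroup.induction_on with
      | H a =>
        obtain ⟨n, hn', hna⟩ := htrans (QuotientGroup.mk a)
        rw [hx₀', MulAction.Quotient.smul_mk, smul_eq_mul, mul_one, QuotientGroup.eq] at hna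
        refine ⟨⟨_, hna⟩, ?_⟩
        show ((n⁻¹ * a : G) : G ⧸ N) = (a : G ⧸ N)
        rw [QuotientGroup.mk_mul, (QuotientGroup.eq_one_iff _).mpr (inv_mem hn'), one_mul]
    have hdvdH : Nat.card (G ⧸ N) ∣ Nat.card H :=
      Subgroup.card_dvd_of_surjective ((QuotientGroup.mk' N).comp H.subtype) hsurj
    rw [← QuotientGroup.eq_one_iff, ← orderOf_eq_one_iff]
    refine Nat.eq_one_of_dvd_coprimes hq ?_ ((orderOf_dvd_natCard _).trans hdvdH)
    apply orderOf_dvd_of_pow_eq_one
    rw [← QuotientGroup.mk_pow, hg, QuotientGroup.mk_one]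
  -- every generator is a product of such elements
  rw [eq_top_iff, ← hgen, Subgroup.closure_le]
  rintro _ ⟨g, hg, rfl⟩
  change g < D.m at hg
  have hs := List.all_eq_true.mp hsame g (List.mem_range.mpr hg)
  simp only [sameOK, Bool.and_eq_true, List.all_eq_true, Nat.blt_eq] at hs
  obtain ⟨⟨hu, hv⟩, hpath⟩ := hs
  rw [List.getD_eq_getElem _ _ (by omega)] at hv hpath
  generalize hf : fs[g]'(by omega) = f at hv hpath
  have heq : s g = wval s f.flatten := by
    rw [show s g = wval s [g] by simp [wval]]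
    refine hfaith _ _ fun p hpm hp => ?_
    rw [CosetCert.smul_path he hn e hequiv _ hu ⟨p, hp⟩, CosetCert.smul_path he hn e hequiv _ hv ⟨p, hp⟩]
    exact congrArg e (Fin.ext (Nat.beq_eq.mp (hpath p hpm)))
  have hfmem : ∀ u ∈ f, wval s u ∈ N := by
    intro u hu'
    apply hpowN
    have hp := List.all_eq_true.mp (List.all_eq_true.mp hpow f (hf ▸ List.getElem_mem (by omega))) u hu'
    simp only [powOK, Bool.and_eq_true, List.all_eq_true, Nat.blt_eq] at hp
    obtain ⟨hlt, hp⟩ := hp
    rw [← wval_replicate]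
    refine hfaith _ _ fun p hpm hp' => ?_
    have hlt' : ∀ a ∈ (List.replicate q u).flatten, a < D.m := by
      intro a ha
      simp only [List.mem_flatten, List.mem_replicate] at ha
      obtain ⟨l, ⟨-, rfl⟩, hal⟩ := ha
      exact hlt a hal
    rw [CosetCert.smul_path he hn e hequiv _ hlt' ⟨p, hp'⟩, one_smul]
    exact congrArg e (Fin.ext (Nat.beq_eq.mp (hp p hpm)))
  rw [SetLike.mem_coe, heq]
  clear heq hv hpath hf
  induction f with
  | nil => simp [wval, N.one_mem]
  | cons u f ih =>
    rw [List.flatten_cons, wval_append]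
    exact N.mul_mem (ih fun v hv => hfmem v (List.mem_cons_of_mem _ hv)) (hfmem u List.mem_cons_self)

end

end Cfsg.Agent.Presented
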