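import Cfsg.Agent.Lib.Presented.Words

/-!
# A presentation of the Rudvalis group on five involutions

The relators are words in walk order (first letter acts first) that hold in the permutation group of
degree 4060; those avoiding the last generator present the Tits group.
-/

set_option autoImplicit false

namespace Cfsg.Agent.Presented.RuPres

open Cfsg.Spor Cfsg.Agent.Presented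

/-- The relator of a word in walk order. -/
def relOf {α : Type*} (f : ℕ → α) (w : List ℕ) : FreeGroup α :=
  (w.reverse.map fun g => FreeGroup.of (f g)).prod

/-- The generators of the presentation of the group `Tits`. -/
def gens4 : List (Fin 4) := [0, 1, 2, 3]

/-- The orders of the products of two generators. -/
def edges4 : List (Fin 4 × ℕ × Fin 4) := [(0, 13, 1), (0, 3, 2), (0, 4, 3), (1, 3, 2), (1, 3, 3), (2, 4, 3)]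

/-- The further relators. -/
def words4 : List (List ℕ) :=
   [[0, 1, 0, 1, 0, 1, 2, 0, 1, 0, 1, 0, 1, 2, 0, 1, 2, 0, 1, 0, 1, 2, 0, 1, 2],
    [0, 1, 0, 2, 1, 0, 2, 1, 0, 2, 1, 0, 1, 2, 0, 1, 2, 0, 1, 2],
    [0, 1, 0, 1, 3, 0, 1, 0, 1, 3, 0, 2, 1, 0, 1, 3, 0, 2, 1, 0, 1, 3],
    [0, 1, 0, 2, 3, 1, 3, 0, 3, 1, 2, 1, 3, 0, 3, 1, 3, 2, 0, 1, 0, 3],
    [0, 1, 0, 1, 2, 0, 2, 1, 2, 3, 2, 1, 3, 0, 3, 1, 2, 0, 3, 1, 0, 1, 3],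
    [0, 1, 0, 1, 3, 0, 2, 0, 1, 3, 0, 1, 0, 3, 2, 0, 3, 1, 2, 0, 1, 3, 2],
    [0, 1, 0, 1, 0, 2, 0, 2, 3, 0, 2, 1, 0, 1, 0, 3, 2, 1, 3, 0, 3, 1, 2, 3],
    [0, 1, 3, 0, 2, 3, 1, 0, 1, 3, 1, 0, 1, 3, 2, 0, 3, 1, 0, 2],
    [0, 2, 1, 3, 2, 1, 3, 0, 2, 1, 3, 2, 1, 3, 0, 2, 1, 3, 2, 1, 3],
    [0, 1, 0, 1, 2, 3, 2, 0, 1, 0, 2, 0, 1, 3, 2, 0, 3, 1, 2, 3, 1, 2],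
    [0, 2, 1, 3, 1, 2, 1, 3, 2, 3, 1, 2, 3, 1, 2, 0, 3, 0, 2, 3, 2, 0, 3],
    [0, 1, 0, 1, 0, 2, 0, 1, 3, 0, 1, 0, 3, 2, 0, 1, 0, 1, 2, 0, 3, 0, 2, 3],
    [0, 1, 0, 1, 0, 1, 0, 2, 1, 0, 3, 0, 2, 0, 3, 2, 3, 0, 2, 3, 0, 1, 2],
    [0, 1, 0, 2, 0, 1, 0, 2, 3, 2, 0, 1, 0, 2, 0, 1, 0, 3, 2, 3, 0, 3, 2, 3],
    [0, 1, 3, 2, 1, 3, 2, 1, 3, 2, 0, 3, 2, 0, 3, 0, 3, 2, 1, 3, 2],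
    [0, 1, 0, 2, 0, 1, 2, 0, 3, 2, 0, 3, 1, 0, 1, 3, 1, 2, 3, 1, 0, 1, 2, 3],
    [0, 1, 0, 1, 2, 0, 3, 0, 1, 3, 0, 3, 2, 0, 1, 3, 0, 2, 1, 3, 2, 1, 0, 3],
    [0, 1, 0, 1, 3, 2, 0, 1, 0, 3, 1, 0, 2, 0, 3, 0, 3, 2, 1, 0, 3, 2, 3],
    [0, 1, 0, 1, 2, 3, 1, 0, 1, 3, 0, 2, 0, 1, 3, 0, 1, 2, 1, 3, 2, 3, 1, 3],
    [0, 1, 0, 1, 2, 3, 0, 1, 2, 3, 0, 3, 2, 3, 0, 1, 2, 1, 0, 1, 3, 1, 2, 1, 3],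
    [0, 1, 0, 1, 3, 0, 3, 1, 2, 1, 3, 2, 1, 3, 0, 1, 2, 3, 0, 1, 0, 2, 1, 3]]

/-- The further relators, in the free group. -/
def extra4 : List (FreeGroup (Fin 4)) := words4.map (relOf (Fin.ofNat 4))

/-- The presented group `Tits`. -/
abbrev G4 : Type := CoxPresented (Fin 4) edges4 extra4

theorem gens4_all (x : Fin 4) : x ∈ gens4 := by revert x; decide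

theorem gens4_nodup : gens4.Nodup := by decide

theorem gens4_ok : gensOK gens4 edges4 = true := by decide +kernel

/-- The generators by number. -/
abbrev gen4 : ℕ → G4 := genFun gens4 edges4 extra4

/-- The words generating the point stabiliser. -/
def stab4 : List (List ℕ) :=
   [[0, 1, 0, 3, 1, 0, 3, 1],
    [0, 2, 3, 1, 2, 1, 3, 1],
    [1, 2, 0, 3, 2, 0, 2, 1],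
    [1, 3, 0, 1, 3, 0, 1, 0],
    [2, 0, 1, 2, 0, 2, 1, 0, 2],
    [2, 1, 0, 1, 0, 1, 0, 3, 2],
    [2, 3, 2, 1, 0, 2, 1, 3, 0],
    [2, 3, 2, 1, 3, 1, 2, 3, 2],
    [3, 1, 2, 3, 0, 2, 3, 2],
    [1, 3, 0, 1, 0, 2, 0, 3, 0, 1],
    [0, 1, 2, 3, 0, 2, 0, 3, 0],
    [0, 1, 3, 0, 2, 3, 2, 0, 1, 0],
    [1, 2, 0, 2, 1, 2, 0, 2, 1],
    [1, 3, 1, 0, 2, 3, 0, 1, 0, 2],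
    [3, 0, 1, 2, 3, 1, 2, 0, 3, 1],
    [3, 0, 2, 3, 0, 2, 0, 3, 1, 2],
    [3, 1, 0, 2, 3, 0, 1, 2, 0, 2]]

/-- The point stabiliser's generators, in the free group. -/
def hGens4 : List (FreeGroup (Fin 4)) := stab4.map (relOf (Fin.ofNat 4))

/-- The generators of the presentation of the group `Ru`. -/
def gens5 : List (Fin 5) := [0, 1, 2, 3, 4]

/-- The orders of the products of two generators. -/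
def edges5 : List (Fin 5 × ℕ × Fin 5) := [(0, 13, 1), (0, 3, 2), (0, 4, 3), (0, 6, 4), (1, 3, 2), (1, 3, 3), (1, 4, 4), (2, 4, 3), (2, 4, 4), (3, 2, 4)]

/-- The further relators. -/
def words5 : List (List ℕ) :=
   [[0, 1, 0, 1, 0, 1, 2, 0, 1, 0, 1, 0, 1, 2, 0, 1, 2, 0, 1, 0, 1, 2, 0, 1, 2],
    [0, 1, 0, 2, 1, 0, 2, 1, 0, 2, 1, 0, 1, 2, 0, 1, 2, 0, 1, 2],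
    [0, 1, 0, 1, 3, 0, 1, 0, 1, 3, 0, 2, 1, 0, 1, 3, 0, 2, 1, 0, 1, 3],
    [0, 1, 0, 2, 3, 1, 3, 0, 3, 1, 2, 1, 3, 0, 3, 1, 3, 2, 0, 1, 0, 3],
    [0, 1, 0, 1, 2, 0, 2, 1, 2, 3, 2, 1, 3, 0, 3, 1, 2, 0, 3, 1, 0, 1, 3],
    [0, 1, 0, 1, 3, 0, 2, 0, 1, 3, 0, 1, 0, 3, 2, 0, 3, 1, 2, 0, 1, 3, 2],
    [0, 1, 0, 1, 0, 2, 0, 2, 3, 0, 2, 1, 0, 1, 0, 3, 2, 1, 3, 0, 3, 1, 2, 3],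
    [0, 1, 3, 0, 2, 3, 1, 0, 1, 3, 1, 0, 1, 3, 2, 0, 3, 1, 0, 2],
    [0, 2, 1, 3, 2, 1, 3, 0, 2, 1, 3, 2, 1, 3, 0, 2, 1, 3, 2, 1, 3],
    [0, 1, 0, 1, 2, 3, 2, 0, 1, 0, 2, 0, 1, 3, 2, 0, 3, 1, 2, 3, 1, 2],
    [0, 2, 1, 3, 1, 2, 1, 3, 2, 3, 1, 2, 3, 1, 2, 0, 3, 0, 2, 3, 2, 0, 3],
    [0, 1, 0, 1, 0, 2, 0, 1, 3, 0, 1, 0, 3, 2, 0, 1, 0, 1, 2, 0, 3, 0, 2, 3],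
    [0, 1, 0, 1, 0, 1, 0, 2, 1, 0, 3, 0, 2, 0, 3, 2, 3, 0, 2, 3, 0, 1, 2],
    [0, 1, 0, 2, 0, 1, 0, 2, 3, 2, 0, 1, 0, 2, 0, 1, 0, 3, 2, 3, 0, 3, 2, 3],
    [0, 1, 3, 2, 1, 3, 2, 1, 3, 2, 0, 3, 2, 0, 3, 0, 3, 2, 1, 3, 2],
    [0, 1, 0, 2, 0, 1, 2, 0, 3, 2, 0, 3, 1, 0, 1, 3, 1, 2, 3, 1, 0, 1, 2, 3],
    [0, 1, 0, 1, 2, 0, 3, 0, 1, 3, 0, 3, 2, 0, 1, 3, 0, 2, 1, 3, 2, 1, 0, 3],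
    [0, 1, 0, 1, 3, 2, 0, 1, 0, 3, 1, 0, 2, 0, 3, 0, 3, 2, 1, 0, 3, 2, 3],
    [0, 1, 0, 1, 2, 3, 1, 0, 1, 3, 0, 2, 0, 1, 3, 0, 1, 2, 1, 3, 2, 3, 1, 3],
    [0, 1, 0, 1, 2, 3, 0, 1, 2, 3, 0, 3, 2, 3, 0, 1, 2, 1, 0, 1, 3, 1, 2, 1, 3],
    [0, 1, 0, 1, 3, 0, 3, 1, 2, 1, 3, 2, 1, 3, 0, 1, 2, 3, 0, 1, 0, 2, 1, 3],
    [2, 3, 2, 4, 2, 3, 2, 4],
    [1, 3, 1, 4, 1, 3, 4, 1, 4],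
    [0, 1, 4, 0, 2, 4, 3, 2, 3, 0, 4, 1, 0, 2, 3, 4, 2, 3],
    [0, 1, 0, 3, 0, 1, 0, 4, 0, 3, 1, 2, 3, 4, 2, 1, 3, 0, 4],
    [4, 1, 2, 1, 0, 3, 0, 3, 1, 0, 3, 1, 4, 0, 1, 3, 2, 0, 3, 0, 2, 1, 0, 1, 0, 2],
    [4, 0, 2, 1, 0, 2, 3, 0, 2, 3, 0, 4, 1, 0, 1, 3, 2, 3, 1, 0, 3, 1, 0, 3, 2, 1, 3],
    [4, 2, 1, 3, 0, 1, 3, 1, 0, 1, 3, 1, 2, 4, 1, 0, 3, 0, 1, 0, 3, 2, 3, 0, 2, 0, 3, 1, 0],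
    [4, 0, 1, 2, 0, 1, 0, 2, 3, 0, 1, 3, 0, 4, 3, 0, 3, 2, 1, 3, 0, 1, 2, 0, 3, 2, 1, 3, 1, 0],
    [4, 1, 0, 3, 0, 1, 2, 1, 0, 2, 1, 3, 1, 4, 2, 0, 3, 1, 2, 3, 0, 3, 2, 3, 0, 3, 1, 0, 3, 1],
    [4, 3, 1, 2, 0, 1, 2, 3, 2, 1, 0, 2, 1, 4, 2, 3, 0, 2, 0, 3, 1, 2, 3, 0, 3, 2, 0, 1, 3, 1, 2],
    [0, 1, 3, 2, 0, 3, 1, 2, 0, 2, 1, 3, 0, 2, 3, 1, 0, 1, 4, 3, 4, 1],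
    [4, 0, 1, 2, 3, 2, 3, 1, 0, 1, 3, 2, 1, 4, 0, 3, 0, 1, 3, 0, 3, 0, 1, 0, 3, 0],
    [4, 2, 0, 4, 0, 2, 1, 3, 0, 4, 3, 1, 0, 2, 0, 3, 2, 0, 1, 3, 1, 0, 1, 3, 1, 0, 3],
    [4, 0, 1, 0, 3, 0, 1, 2, 0, 1, 3, 1, 0, 4, 1, 0, 1, 2, 0, 1, 3, 2, 0, 3, 2, 1, 3, 0],
    [4, 0, 2, 1, 0, 4, 3, 0, 1, 2, 0, 4, 2, 3, 1, 2, 3, 2, 1, 0, 1, 2, 3, 2, 1, 3, 2],
    [4, 0, 3, 2, 1, 4, 1, 2, 3, 0, 4, 1, 3, 2, 1, 0, 2, 1, 3, 0, 3, 1, 2, 3, 1, 0, 3, 2],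
    [4, 0, 1, 0, 2, 0, 3, 2, 0, 3, 2, 1, 4, 1, 2, 3, 0, 3, 2, 0, 3, 2, 1, 0, 2, 0, 3, 0, 2],
    [4, 2, 1, 0, 4, 1, 4, 0, 1, 2, 4, 1, 2, 0, 1, 0, 3, 1, 0, 2, 0, 1, 3, 0, 1, 0, 2, 1],
    [4, 1, 2, 0, 3, 0, 2, 3, 1, 2, 3, 0, 2, 4, 1, 3, 0, 3, 0, 1, 3, 0, 1, 3, 2, 0, 1, 0, 2],
    [4, 1, 3, 0, 2, 3, 2, 3, 1, 2, 3, 2, 1, 4, 0, 3, 2, 0, 1, 3, 2, 3, 2, 1, 0, 2, 1, 3, 2],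
    [4, 0, 3, 1, 0, 1, 4, 1, 2, 1, 0, 4, 0, 1, 0, 1, 0, 3, 1, 2, 0, 3, 2, 3, 2, 0, 3, 1, 0],
    [4, 1, 2, 3, 1, 2, 4, 0, 3, 0, 1, 4, 1, 2, 3, 1, 0, 3, 2, 0, 1, 0, 2, 3, 1, 0, 2, 3, 1],
    [4, 0, 3, 1, 0, 1, 0, 3, 0, 2, 0, 1, 3, 4, 2, 1, 0, 3, 2, 0, 1, 0, 3, 2, 3, 1, 2, 0, 1, 3, 2, 1],
    [4, 0, 1, 4, 0, 4, 1, 2, 0, 4, 1, 2, 4, 3, 2, 0, 3, 2, 1, 0, 1, 0, 3, 1, 2, 3, 0, 2, 3],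
    [4, 0, 3, 2, 4, 0, 1, 0, 2, 3, 0, 4, 3, 2, 3, 2, 1, 0, 3, 2, 3, 2, 0, 1, 0, 2, 1, 3, 0, 2],
    [4, 1, 3, 0, 2, 3, 0, 2, 1, 0, 3, 0, 2, 4, 1, 2, 0, 1, 3, 2, 0, 1, 3, 2, 1, 0, 1, 2, 1, 3],
    [4, 1, 2, 3, 2, 0, 1, 0, 2, 3, 2, 1, 4, 0, 2, 3, 0, 1, 3, 2, 0, 1, 0, 2, 3, 1, 0, 3, 2, 0],
    [4, 1, 2, 0, 3, 0, 1, 3, 1, 0, 1, 0, 2, 4, 0, 3, 1, 0, 2, 3, 2, 1, 0, 3, 2, 1, 3, 0, 3, 0],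
    [4, 0, 2, 3, 2, 0, 3, 0, 2, 3, 2, 0, 4, 1, 2, 0, 3, 0, 1, 0, 1, 0, 1, 0, 3, 0, 2, 1],
    [4, 0, 1, 2, 3, 1, 4, 2, 0, 1, 2, 1, 4, 2, 3, 0, 2, 1, 0, 2, 3, 1, 2, 0, 1, 3, 2, 1, 3, 1],
    [4, 0, 2, 3, 4, 1, 3, 0, 3, 2, 3, 1, 4, 3, 2, 0, 3, 1, 2, 3, 2, 0, 1, 0, 1, 0, 1, 3, 0, 2],
    [4, 0, 1, 2, 1, 3, 0, 3, 1, 2, 1, 0, 3, 4, 0, 3, 1, 2, 0, 1, 3, 2, 3, 1, 0, 1, 2, 0, 3, 2, 3],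
    [4, 0, 2, 3, 2, 1, 0, 1, 2, 3, 0, 2, 1, 4, 3, 0, 1, 0, 2, 1, 3, 0, 1, 2, 1, 3, 2, 0, 3, 2, 0],
    [4, 2, 1, 0, 1, 2, 3, 0, 1, 2, 0, 4, 1, 3, 0, 1, 0, 3, 0, 1, 3, 2, 1, 3, 2, 3, 0, 3, 1],
    [4, 3, 2, 0, 3, 1, 0, 1, 3, 2, 0, 4, 3, 0, 3, 1, 0, 3, 2, 3, 2, 0, 1, 0, 3, 0, 1, 3, 2]]

/-- The further relators, in the free group. -/
def extra5 : List (FreeGroup (Fin 5)) := words5.map (relOf (Fin.ofNat 5))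

/-- The presented group `Ru`. -/
abbrev G5 : Type := CoxPresented (Fin 5) edges5 extra5

theorem gens5_all (x : Fin 5) : x ∈ gens5 := by revert x; decide

theorem gens5_nodup : gens5.Nodup := by decide

theorem gens5_ok : gensOK gens5 edges5 = true := by decide +kernel

/-- The generators by number. -/
abbrev gen5 : ℕ → G5 := genFun gens5 edges5 extra5

/-- The words generating the point stabiliser. -/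
def stab5 : List (List ℕ) :=
   [[0],
    [1],
    [2],
    [3],
    [4, 2, 4, 1, 2, 3, 1, 4, 2, 4],
    [4, 0, 1, 0, 4, 0, 1, 0, 4],
    [4, 0, 1, 4, 2, 4, 1, 0, 4],
    [4, 0, 1, 3, 2, 3, 4, 1, 2, 3, 1, 4],
    [4, 0, 1, 3, 4, 0, 3, 2, 3, 0, 1, 4],
    [4, 0, 1, 4, 1, 4, 0, 3, 1, 0, 2, 4],
    [4, 0, 3, 0, 2, 3, 2, 4, 0, 3, 0, 4],
    [4, 0, 4, 0, 1, 4, 0, 4, 0, 2, 1, 4],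
    [4, 0, 4, 0, 3, 2, 1, 4, 2, 1, 2, 4],
    [4, 0, 4, 2, 4, 0, 4, 0, 1, 4, 2, 4],
    [4, 1, 0, 4, 0, 2, 0, 4, 0, 1, 4],
    [4, 1, 3, 0, 4, 0, 3, 1, 2, 0, 2, 4],
    [4, 2, 0, 1, 4, 1, 0, 4, 3, 0, 2, 4],
    [4, 2, 0, 3, 4, 2, 4, 3, 0, 2, 4],
    [4, 2, 4, 0, 1, 0, 4, 3, 1, 4, 2, 4],
    [4, 2, 4, 1, 4, 2, 4, 3, 1, 4, 2, 4],
    [4, 0, 1, 0, 1, 0, 2, 4, 3, 0, 2, 3, 1, 4],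
    [4, 0, 1, 2, 0, 2, 4, 3, 1, 0, 1, 0, 1, 4],
    [4, 0, 1, 0, 2, 3, 1, 2, 1, 3, 2, 0, 2, 4],
    [4, 0, 1, 0, 3, 0, 4, 2, 0, 1, 4, 1, 2, 4],
    [4, 0, 1, 2, 0, 1, 3, 0, 2, 4, 0, 3, 1, 4],
    [4, 0, 1, 2, 0, 1, 4, 1, 0, 4, 0, 1, 2, 4],
    [4, 0, 1, 2, 0, 3, 0, 4, 0, 2, 1, 0, 2, 4],
    [4, 0, 1, 2, 0, 3, 2, 4, 3, 1, 4, 0, 1, 4],
    [4, 0, 1, 2, 0, 3, 4, 0, 2, 1, 4, 2, 0, 4],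
    [4, 0, 2, 1, 2, 0, 4, 2, 1, 3, 0, 3, 1, 4],
    [4, 0, 2, 1, 2, 3, 2, 0, 4, 2, 1, 0, 4],
    [4, 0, 1, 2, 3, 1, 0, 2, 4, 0, 2, 3, 0, 4],
    [4, 0, 1, 2, 3, 1, 2, 3, 1, 4, 2, 0, 1, 4],
    [4, 0, 1, 2, 4, 0, 3, 0, 4, 3, 2, 1, 0, 4],
    [4, 0, 1, 2, 4, 1, 0, 1, 4, 2, 1, 0, 4],
    [4, 0, 1, 3, 0, 1, 2, 3, 1, 0, 3, 1, 0, 4],
    [4, 0, 1, 3, 0, 3, 2, 0, 4, 3, 0, 4, 2, 4],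
    [4, 0, 3, 1, 3, 4, 2, 0, 3, 1, 0, 1, 4],
    [4, 0, 1, 3, 2, 0, 4, 1, 2, 0, 1, 4, 2, 4],
    [4, 1, 3, 2, 1, 4, 1, 4, 2, 3, 0, 1, 4],
    [4, 0, 1, 4, 0, 2, 4, 1, 0, 4, 1, 0, 1, 4],
    [4, 0, 1, 4, 0, 3, 1, 2, 3, 1, 4, 1, 0, 4],
    [4, 0, 1, 4, 0, 3, 4, 0, 4, 1, 0, 4, 2, 4],
    [4, 0, 1, 4, 0, 4, 0, 1, 4, 2, 1, 0, 2, 4],
    [4, 0, 1, 4, 1, 0, 4, 1, 2, 0, 1, 0, 1, 4],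
    [4, 0, 1, 4, 1, 2, 4, 2, 1, 2, 3, 2, 0, 4],
    [4, 2, 0, 2, 1, 0, 2, 4, 0, 1, 2, 0, 2, 4],
    [4, 2, 0, 2, 3, 0, 2, 0, 1, 4, 0, 1, 4],
    [4, 2, 0, 2, 3, 0, 4, 0, 1, 4, 0, 1, 4],
    [4, 2, 0, 2, 4, 2, 1, 4, 0, 3, 2, 1, 4],
    [4, 0, 2, 1, 0, 1, 2, 0, 4, 3, 2, 0, 4],
    [4, 0, 2, 3, 1, 3, 2, 0, 4, 0, 1, 3, 0, 4],
    [4, 0, 2, 3, 1, 3, 4, 0, 2, 4, 0, 1, 2, 4],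
    [4, 0, 2, 1, 4, 0, 2, 4, 0, 2, 1, 0, 2, 4],
    [4, 0, 2, 1, 4, 1, 0, 2, 1, 2, 0, 2, 1, 4],
    [4, 0, 2, 1, 4, 1, 3, 2, 0, 1, 0, 1, 2, 4],
    [4, 0, 2, 3, 0, 1, 2, 4, 1, 0, 4, 3, 0, 4],
    [4, 0, 2, 3, 0, 1, 4, 2, 1, 0, 4, 3, 0, 4],
    [4, 0, 2, 3, 0, 4, 1, 0, 1, 3, 2, 3, 0, 4],
    [4, 0, 2, 3, 0, 4, 2, 1, 3, 2, 0, 1, 4],
    [4, 0, 2, 4, 0, 1, 2, 1, 3, 0, 1, 3, 0, 4],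
    [4, 0, 2, 4, 0, 1, 4, 2, 3, 0, 1, 4, 0, 4],
    [4, 0, 2, 4, 0, 3, 0, 1, 2, 4, 3, 0, 1, 4],
    [4, 0, 2, 4, 0, 3, 2, 1, 0, 1, 2, 3, 1, 4],
    [4, 0, 2, 4, 1, 2, 3, 2, 1, 2, 3, 0, 2, 4]]

/-- The point stabiliser's generators, in the free group. -/
def hGens5 : List (FreeGroup (Fin 5)) := stab5.map (relOf (Fin.ofNat 5))

end Cfsg.Agent.Presented.RuPres
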