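import Cfsg.Agent.Lib.Presented.Index
import Cfsg.Agent.Lib.Presented.Order
import Cfsg.Agent.Lib.Presented.RuPres
import Cfsg.Agent.Lib.Presented.Data.RuC4060Checks
import Cfsg.Agent.Lib.Presented.Data.RuC1755

/-!
# The actions of the presented groups Ru and Tits on 4060 and 1755 cosets
-/

set_option autoImplicit false
set_option maxRecDepth 20000

namespace Cfsg.Agent.Presented.RuIndex

open Cfsg.Spor Cfsg.Agent.Presented RuPres

/-- The point stabiliser in `G5`. -/
def hSub5 : Subgroup G5 :=
  (Subgroup.closure {x | x ∈ hGens5}).map (PresentedGroup.mk (coxRelators edges5 ∪ {r | r ∈ extra5}))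

/-- The point stabiliser in `G4`. -/
def hSub4 : Subgroup G4 :=
  (Subgroup.closure {x | x ∈ hGens4}).map (PresentedGroup.mk (coxRelators edges4 ∪ {r | r ∈ extra4}))

theorem stab5_letters : hGens5.map (letters gens5) = stab5 := by decide +kernel

theorem stab4_letters : hGens4.map (letters gens4) = stab4 := by decide +kernel

theorem exists_table5 : ∃ e : Fin RuC4060.cert.N ≃ G5 ⧸ hSub5,
    (∀ i : Fin RuC4060.cert.N, (i : ℕ) = 0 → e i = QuotientGroup.mk 1) ∧
    ∀ g (hgm : g < RuC4060.cert.m) (i : Fin RuC4060.cert.N),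
      gen5 g • e i = e ⟨RuC4060.cert.actOf i g,
        CosetCert.actOf_lt RuC4060.cert_edgesOK RuC4060.cert_nodesOK i.2 hgm⟩ := by
  have h2 : relsOK gens5 edges5 extra5 (RuC4060.cert.words.take RuC4060.cert.nR) = true := by
    decide +kernel
  have h1 : (RuC4060.cert.words.drop RuC4060.cert.nR) = stab5 := by decide +kernel
  have hlen : hGens5.length = stab5.length := by rw [← stab5_letters, List.length_map]
  exact indexCert gens5_all gens5_ok rfl RuC4060.cert_edgesOK RuC4060.cert_nodesOK
    RuC4060.cert_wordsOK RuC4060.cert_subOK h2 gens5_nodup hGens5 hSub5 rfl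
    (by rw [h1, hlen, List.take_length, stab5_letters])
    (fun w hw => by rw [h1, hlen, List.drop_length] at hw; simp at hw)

theorem exists_table4 : ∃ e : Fin RuC1755.cert.N ≃ G4 ⧸ hSub4,
    (∀ i : Fin RuC1755.cert.N, (i : ℕ) = 0 → e i = QuotientGroup.mk 1) ∧
    ∀ g (hgm : g < RuC1755.cert.m) (i : Fin RuC1755.cert.N),
      gen4 g • e i = e ⟨RuC1755.cert.actOf i g,
        CosetCert.actOf_lt RuC1755.cert_edgesOK RuC1755.cert_nodesOK i.2 hgm⟩ := by
  have h2 : relsOK gens4 edges4 extra4 (RuC1755.cert.words.take RuC1755.cert.nR) = true := by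
    decide +kernel
  have h1 : (RuC1755.cert.words.drop RuC1755.cert.nR) = stab4 := by decide +kernel
  have hlen : hGens4.length = stab4.length := by rw [← stab4_letters, List.length_map]
  exact indexCert gens4_all gens4_ok rfl RuC1755.cert_edgesOK RuC1755.cert_nodesOK
    RuC1755.cert_wordsOK RuC1755.cert_subOK h2 gens4_nodup hGens4 hSub4 rfl
    (by rw [h1, hlen, List.take_length, stab4_letters])
    (fun w hw => by rw [h1, hlen, List.drop_length] at hw; simp at hw)

theorem wordSub_le {α : Type*} [DecidableEq α] {gens : List α} {edges : List (α × ℕ × α)}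
    {extra : List (FreeGroup α)} (hall : ∀ x, x ∈ gens) (hg : gensOK gens edges = true)
    {Hgens : List (FreeGroup α)} {S K : List (List ℕ)} (hS : Hgens.map (letters gens) = S)
    (hK : ∀ k ∈ K, k ∈ S) :
    wordSub (genFun gens edges extra) K ≤
      (Subgroup.closure {x | x ∈ Hgens}).map (PresentedGroup.mk (coxRelators edges ∪ {r | r ∈ extra})) := by
  rw [map_closure_eq_wval hall hg, hS, wordSub]
  exact Subgroup.closure_mono fun x ⟨k, hk, hx⟩ => ⟨k, hK k hk, hx⟩

end Cfsg.Agent.Presented.RuIndex
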