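import Cfsg.Agent.Lib.Presented.Tower
import Cfsg.Agent.Lib.Presented.RuPres
import Cfsg.Agent.Lib.Presented.Data.RuT26
import Cfsg.Agent.Lib.Presented.Data.RuT300
import Cfsg.Agent.Lib.Presented.Data.RuT2304
import Cfsg.Agent.Lib.Presented.Data.RuT8120

/-!
# Upper bounds for the orders of the presented groups Ru and Tits
-/

set_option autoImplicit false
set_option maxRecDepth 20000

namespace Cfsg.Agent.Presented.RuTower

open Cfsg.Spor Cfsg.Agent.Presented RuPres

/-- A step of a tower whose table has no further subgroup words. -/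
theorem step_closed {α : Type*} [DecidableEq α] {gens : List α} {edges : List (α × ℕ × α)}
    {extra : List (FreeGroup α)} (hall : ∀ x, x ∈ gens) (hg : gensOK gens edges = true) {π : List ℕ}
    {D : CosetCert} (he : D.edgesOK = true) (hn : D.nodesOK = true) (hm : D.m = π.length)
    (hR : stepRelsOK gens edges extra π [] (D.words.take D.nR) = true) (nK : ℕ) {Kprev : List (List ℕ)}
    (hK : ((D.words.drop D.nR).map fun w => w.map fun g => π.getD g 0) = Kprev)
    (hnK : (D.words.drop D.nR).length ≤ nK) {n : ℕ}
    (hprev : OrderLE (wordSub (genFun gens edges extra) Kprev) n) :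
    OrderLE (wordSub (genFun gens edges extra) (π.map fun g => [g])) (D.N * n) := by
  refine step_le hall hg (ex := []) (by simp) he hn hm hR nK (Kprev := Kprev) ?_ hprev ?_
  · rw [List.take_of_length_le hnK, hK]; exact fun k hk => hk
  · rw [List.drop_eq_nil_of_le hnK]; simp

theorem bound26 : OrderLE (wordSub gen5 [[0], [1]]) 26 :=
  step_closed gens5_all gens5_ok (π := [0, 1]) RuT26.cert_edgesOK RuT26.cert_nodesOK rfl
    (by decide +kernel) 0 (Kprev := []) (by decide +kernel) (by decide +kernel) (orderLE_nil gen5)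

theorem bound7800 : OrderLE (wordSub gen5 [[0], [1], [2]]) (300 * 26) :=
  step_closed gens5_all gens5_ok (π := [0, 1, 2]) RuT300.cert_edgesOK RuT300.cert_nodesOK rfl
    (by decide +kernel) 2 (Kprev := [[0], [1]]) (by decide +kernel) (by decide +kernel) bound26

theorem boundTits5 : OrderLE (wordSub gen5 [[0], [1], [2], [3]]) (2304 * (300 * 26)) :=
  step_closed gens5_all gens5_ok (π := [0, 1, 2, 3]) RuT2304.cert_edgesOK RuT2304.cert_nodesOK rfl
    (by decide +kernel) 3 (Kprev := [[0], [1], [2]]) (by decide +kernel) (by decide +kernel) bound7800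

theorem boundRu : OrderLE (wordSub gen5 [[0], [1], [2], [3], [4]]) (8120 * (2304 * (300 * 26))) :=
  step_closed gens5_all gens5_ok (π := [0, 1, 2, 3, 4]) RuT8120.cert_edgesOK RuT8120.cert_nodesOK rfl
    (by decide +kernel) 4 (Kprev := [[0], [1], [2], [3]]) (by decide +kernel) (by decide +kernel)
    boundTits5

theorem bound26' : OrderLE (wordSub gen4 [[0], [1]]) 26 :=
  step_closed gens4_all gens4_ok (π := [0, 1]) RuT26.cert_edgesOK RuT26.cert_nodesOK rfl
    (by decide +kernel) 0 (Kprev := []) (by decide +kernel) (by decide +kernel) (orderLE_nil gen4)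

theorem bound7800' : OrderLE (wordSub gen4 [[0], [1], [2]]) (300 * 26) :=
  step_closed gens4_all gens4_ok (π := [0, 1, 2]) RuT300.cert_edgesOK RuT300.cert_nodesOK rfl
    (by decide +kernel) 2 (Kprev := [[0], [1]]) (by decide +kernel) (by decide +kernel) bound26'

theorem boundTits : OrderLE (wordSub gen4 [[0], [1], [2], [3]]) (2304 * (300 * 26)) :=
  step_closed gens4_all gens4_ok (π := [0, 1, 2, 3]) RuT2304.cert_edgesOK RuT2304.cert_nodesOK rfl
    (by decide +kernel) 3 (Kprev := [[0], [1], [2]]) (by decide +kernel) (by decide +kernel) bound7800'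

theorem wordSub_gens_eq_top {α : Type*} [DecidableEq α] {gens : List α} {edges : List (α × ℕ × α)}
    {extra : List (FreeGroup α)} (hall : ∀ x, x ∈ gens) {K : List (List ℕ)}
    (hK : K = (List.range gens.length).map fun g => [g]) :
    wordSub (genFun gens edges extra) K = ⊤ := by
  rw [eq_top_iff, ← PresentedGroup.closure_range_of, Subgroup.closure_le]
  rintro _ ⟨x, rfl⟩
  refine Subgroup.subset_closure ⟨[gens.idxOf x], ?_, ?_⟩
  · rw [hK, List.mem_map]
    exact ⟨_, List.mem_range.mpr (List.idxOf_lt_length_of_mem (hall x)), rfl⟩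
  · rw [← genFun_idxOf hall x]; simp [wval]

theorem finite_card {G : Type*} [Group G] {H : Subgroup G} {n : ℕ} (h : OrderLE H n) (ht : H = ⊤) :
    Finite G ∧ Nat.card G ≤ n := by
  subst ht
  haveI := h.1
  exact ⟨Finite.of_equiv _ Subgroup.topEquiv.toEquiv, Subgroup.card_top (G := G) ▸ h.2⟩

theorem finite_ru : Finite G5 :=
  (finite_card boundRu (wordSub_gens_eq_top gens5_all (by decide))).1

theorem card_ru_le : Nat.card G5 ≤ 145926144000 :=
  (finite_card boundRu (wordSub_gens_eq_top gens5_all (by decide))).2.trans (by decide +kernel)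

theorem finite_tits : Finite G4 :=
  (finite_card boundTits (wordSub_gens_eq_top gens4_all (by decide))).1

theorem card_tits_le : Nat.card G4 ≤ 17971200 :=
  (finite_card boundTits (wordSub_gens_eq_top gens4_all (by decide))).2.trans (by decide +kernel)

end Cfsg.Agent.Presented.RuTower
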