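import Cfsg.Agent.Lib.Presented.OrderLE
import Cfsg.Agent.Lib.Presented.RuTower
import Cfsg.Agent.Lib.Presented.RuIndex
import Cfsg.Agent.Lib.Presented.Data.RuChain
import Cfsg.Agent.Lib.Presented.Data.RuTChain
import Cfsg.Prelude.Def_SporadicB
import Cfsg.Prelude.Def_Sporadic
import Cfsg.Prelude.Def_Exceptional

/-!
# The Rudvalis group on 4060 points
-/

set_option autoImplicit false
set_option maxRecDepth 20000

namespace Cfsg.Agent.Presented.RuGroup

open Cfsg.Spor Cfsg.Agent.Presented RuPres RuIndex

theorem closure_gen5 : Subgroup.closure (gen5 '' {g | g < RuC4060.cert.m}) = ⊤ := by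
  rw [eq_top_iff, ← PresentedGroup.closure_range_of, Subgroup.closure_le]
  rintro _ ⟨x, rfl⟩
  exact Subgroup.subset_closure
    ⟨gens5.idxOf x, List.idxOf_lt_length_of_mem (gens5_all x), genFun_idxOf gens5_all x⟩

theorem closure_gen4 : Subgroup.closure (gen4 '' {g | g < RuC1755.cert.m}) = ⊤ := by
  rw [eq_top_iff, ← PresentedGroup.closure_range_of, Subgroup.closure_le]
  rintro _ ⟨x, rfl⟩
  exact Subgroup.subset_closure
    ⟨gens4.idxOf x, List.idxOf_lt_length_of_mem (gens4_all x), genFun_idxOf gens4_all x⟩

theorem card_ru : Nat.card G5 = 145926144000 := by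
  obtain ⟨e, -, he⟩ := exists_table5
  haveI := RuTower.finite_ru
  refine le_antisymm RuTower.card_ru_le ?_
  have h := chain_card_le RuC4060.cert_edgesOK RuC4060.cert_nodesOK e he (by decide +kernel)
    RuChain.chain [] RuChain.chain_ok
  rw [RuChain.chain_prod] at h
  refine le_trans ?_ (h.trans ?_)
  · exact Nat.le_mul_of_pos_right _ Nat.card_pos
  · exact Nat.card_le_card_of_injective _ Subtype.val_injective

theorem card_hSub5 : Nat.card hSub5 = 35942400 := by
  obtain ⟨e, -, -⟩ := exists_table5
  have h := hSub5.index_mul_card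
  rw [card_quotient_of_equiv e, card_ru, show RuC4060.cert.N = 4060 from rfl] at h
  omega

theorem card_tits : Nat.card G4 = 17971200 := by
  obtain ⟨e, -, he⟩ := exists_table4
  haveI := RuTower.finite_tits
  refine le_antisymm RuTower.card_tits_le ?_
  have h := chain_card_le RuC1755.cert_edgesOK RuC1755.cert_nodesOK e he (by decide +kernel)
    RuTChain.chain [] RuTChain.chain_ok
  rw [RuTChain.chain_prod] at h
  refine le_trans ?_ (h.trans ?_)
  · exact Nat.le_mul_of_pos_right _ Nat.card_pos
  · exact Nat.card_le_card_of_injective _ Subtype.val_injective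

theorem card_hSub4 : Nat.card hSub4 = 10240 := by
  obtain ⟨e, -, -⟩ := exists_table4
  have h := hSub4.index_mul_card
  rw [card_quotient_of_equiv e, card_tits, show RuC1755.cert.N = 1755 from rfl] at h
  omega

theorem simple_ru : IsSimpleGroup G5 := by
  obtain ⟨e, he0, he⟩ := exists_table5
  haveI := RuTower.finite_ru
  exact isSimpleGroup_of_table_le RuC4060.cert_edgesOK RuC4060.cert_nodesOK e he0 he closure_gen5
    (by decide +kernel) RuChain.chain_ok (by rw [RuChain.chain_prod, card_ru]) (by decide +kernel)
    (Ks := RuChain.stabGens)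
    (wordSub_le gens5_all gens5_ok stab5_letters (by decide +kernel)) RuChain.block_ok
    (q := 29) (by rw [card_hSub5]; decide +kernel) RuChain.factors (by decide +kernel)
    (by decide +kernel) (by decide +kernel)

theorem simple_tits : IsSimpleGroup G4 := by
  obtain ⟨e, he0, he⟩ := exists_table4
  haveI := RuTower.finite_tits
  exact isSimpleGroup_of_table_le RuC1755.cert_edgesOK RuC1755.cert_nodesOK e he0 he closure_gen4
    (by decide +kernel) RuTChain.chain_ok (by rw [RuTChain.chain_prod, card_tits]) (by decide +kernel)
    (Ks := RuTChain.stabGens)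
    (wordSub_le gens4_all gens4_ok stab4_letters (by decide +kernel)) RuTChain.block_ok
    (q := 13) (by rw [card_hSub4]; decide +kernel) RuTChain.factors (by decide +kernel)
    (by decide +kernel) (by decide +kernel)

theorem titsRels_ok :
    rotOK gens5 edges5 extra5 ((relList gens4 edges4 extra4).map (letters gens4)) = true := by
  decide +kernel

/-- The inclusion of the presented Tits group. -/
def titsHom : G4 →* G5 :=
  PresentedGroup.toGroup (f := fun x => gen5 (gens4.idxOf x)) (fun r hr => by
    rw [lift_eq_wval (fun x => gen5 (gens4.idxOf x)) (fun x => genFun_mul_self gens5_all gens5_ok _)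
      gens4_all gen5 (fun x => rfl) r]
    exact wval_rot gens5_all gens5_ok titsRels_ok _
      (List.mem_map.mpr ⟨r, mem_relList gens4_all hr, rfl⟩))

theorem titsHom_gen (x : Fin 4) : titsHom (PresentedGroup.of x) = gen5 (gens4.idxOf x) :=
  PresentedGroup.toGroup.of _

/-- A homomorphism on a simple group with a nontrivial value is injective. -/
theorem injective_of_simple {A B : Type*} [Group A] [Group B] [IsSimpleGroup A] (f : A →* B) {a : A}
    (ha : f a ≠ 1) : Function.Injective f := by
  rw [← MonoidHom.ker_eq_bot_iff]
  refine f.normal_ker.eq_bot_or_eq_top.resolve_right fun h => ha ?_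
  exact MonoidHom.mem_ker.mp (h ▸ Subgroup.mem_top a)

theorem realization : ∃ H : Subgroup (Equiv.Perm (Fin 4060)), Cfsg.IsRu H ∧
    MulAction.IsPretransitive H (Fin 4060) ∧
    Nat.card (MulAction.stabilizer H (0 : Fin 4060)) = 35942400 ∧
    ∃ T : Subgroup (MulAction.stabilizer H (0 : Fin 4060)), Cfsg.IsTits T := by
  obtain ⟨e₀, he0, he⟩ := exists_table5
  have hN : RuC4060.cert.N = 4060 := by decide +kernel
  let e : Fin 4060 ≃ G5 ⧸ hSub5 := (finCongr hN.symm).trans e₀
  let φ : G5 →* Equiv.Perm (Fin 4060) :=
    (Equiv.permCongrHom e.symm).toMonoidHom.comp (MulAction.toPermHom G5 (G5 ⧸ hSub5))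
  have happ : ∀ (a : G5) (i : Fin 4060), φ a i = e.symm (a • e i) := fun a i => rfl
  have hact : ∀ g (hg : g < RuC4060.cert.m) (i : Fin 4060),
      (φ (gen5 g) i : ℕ) = RuC4060.cert.actOf i g := by
    intro g hg i
    rw [happ]
    simp only [e, Equiv.symm_trans_apply, Equiv.trans_apply, finCongr_symm]
    rw [he g hg, Equiv.symm_apply_apply]
    simp [finCongr_apply]
  haveI := simple_ru
  have hmove : φ (gen5 4) ≠ 1 := by
    intro h
    have h1 := hact 4 (by decide +kernel) 0
    rw [h] at h1
    revert h1
    decide +kernel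
  have hinj := injective_of_simple φ hmove
  have hcard : Nat.card φ.range = 145926144000 := by
    rw [← card_ru]; exact (Nat.card_congr (MonoidHom.ofInjective hinj).toEquiv).symm
  haveI hsimple : IsSimpleGroup φ.range := (MonoidHom.ofInjective hinj).symm.isSimpleGroup

  haveI htrans : MulAction.IsPretransitive φ.range (Fin 4060) := by
    refine ⟨fun i j => ?_⟩
    obtain ⟨a, ha⟩ := MulAction.exists_smul_eq G5 (e i) (e j)
    refine ⟨⟨φ a, a, rfl⟩, ?_⟩
    show φ a i = j
    rw [happ, ha, Equiv.symm_apply_apply]
  refine ⟨φ.range, ⟨hsimple, hcard⟩, htrans, ?_, ?_⟩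
  · have h := (MulAction.stabilizer φ.range (0 : Fin 4060)).index_mul_card
    rw [MulAction.index_stabilizer_of_transitive, Nat.card_fin, hcard] at h
    omega
  · haveI := simple_tits
    have hfix : ∀ a : G4, φ (titsHom a) 0 = 0 := by
      intro a
      induction a using PresentedGroup.induction_on with
      | _ z =>
        induction z using FreeGroup.induction_on with
        | C1 => rw [map_one, map_one, map_one]; rfl
        | of x =>
          show φ (titsHom (PresentedGroup.of x)) 0 = 0
          rw [titsHom_gen]
          apply Fin.ext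
          rw [hact _ (lt_trans (List.idxOf_lt_length_of_mem (gens4_all x)) (by decide +kernel))]
          revert x
          decide +kernel
        | inv_of x ih =>
          simp only [map_inv] at ih ⊢
          rw [Equiv.Perm.inv_eq_iff_eq]
          exact ih.symm
        | mul a b iha ihb =>
          simp only [map_mul, Equiv.Perm.mul_apply] at iha ihb ⊢
          rw [ihb, iha]
    let ψ : G4 →* MulAction.stabilizer φ.range (0 : Fin 4060) :=
      MonoidHom.codRestrict (φ.rangeRestrict.comp titsHom) _
        fun a => MulAction.mem_stabilizer_iff.mpr (hfix a)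
    have hψ : ψ (PresentedGroup.of 0) ≠ 1 := by
      intro h
      have h' : φ (titsHom (PresentedGroup.of 0)) = 1 := congrArg Subtype.val (congrArg Subtype.val h)
      rw [titsHom_gen] at h'
      have hm := hact (gens4.idxOf (0 : Fin 4)) (by decide +kernel) 1
      rw [h'] at hm
      revert hm
      decide +kernel
    have hψinj := injective_of_simple ψ hψ
    haveI hs : IsSimpleGroup ψ.range := (MonoidHom.ofInjective hψinj).symm.isSimpleGroup
    refine ⟨ψ.range, hs, ?_⟩
    rw [← card_tits]
    exact (Nat.card_congr (MonoidHom.ofInjective hψinj).toEquiv).symm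

end Cfsg.Agent.Presented.RuGroup
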