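import Cfsg.Agent.Lib.RuAut.Perms
import Cfsg.Agent.Lib.Presented.Data.RuC4060
import Cfsg.Agent.Lib.Presented.Data.RuIsoData

/-!
# The two numberings of the 4060 points agree with the generating automorphisms
-/

set_option autoImplicit false
set_option maxRecDepth 20000

namespace Cfsg.Agent.Presented.RuIso

/-- The line of point `i`. -/
noncomputable def lineOf (i : ℕ) : ℕ := toLine.get 12 i

/-- The point of line `j`. -/
noncomputable def pointOf (j : ℕ) : ℕ := toPoint.get 12 j

/-- The numberings are mutually inverse at `i`. -/
noncomputable def bijChk (i : ℕ) : Bool :=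
  force (lineOf i) fun j => force (pointOf i) fun k =>
    Nat.blt j 4060 && Nat.beq (pointOf j) i && Nat.blt k 4060 && Nat.beq (lineOf k) i

/-- Word `t` moves point `i` as generator `t` moves its line. -/
noncomputable def wordChk (t i : ℕ) : Bool :=
  force (lineOf i) fun j => force (RuC4060.cert.path (words.getD t []) i) fun p =>
    Nat.beq (Nat.div (RuAut.pImg t (Nat.mul 4 j)) 4) (lineOf p)

theorem bij_all : checkBelow bijChk 12 4060 = true := by decide +kernel

theorem words_ok : (words.all fun w => w.all fun g => Nat.blt g RuC4060.cert.m) = true ∧ words.length = 2 := by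
  decide +kernel

theorem word0 : checkBelow (wordChk 0) 12 4060 = true := by decide +kernel

theorem word1 : checkBelow (wordChk 1) 12 4060 = true := by decide +kernel

end Cfsg.Agent.Presented.RuIso
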