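import Cfsg.Agent.Lib.Presented.RuGroup
import Cfsg.Agent.Lib.Presented.RuIsoChecks
import Cfsg.Agent.Lib.RuAut.Simple

/-!
# The presented Rudvalis group is the lattice group Ru
-/

set_option autoImplicit false
set_option maxRecDepth 20000

namespace Cfsg.Agent.Presented.RuIso

open Cfsg.Spor Cfsg.Agent.Presented RuPres RuIndex RuGroup

attribute [local irreducible] lineOf pointOf

theorem bij_spec {i : ℕ} (hi : i < 4060) :
    lineOf i < 4060 ∧ pointOf (lineOf i) = i ∧ pointOf i < 4060 ∧ lineOf (pointOf i) = i := by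
  have h := checkBelow_spec bij_all i hi
  simp only [bijChk, force_eq, Bool.and_eq_true, Nat.blt_eq, Nat.beq_eq] at h
  exact ⟨h.1.1.1, h.1.1.2, h.1.2, h.2⟩

/-- The renumbering of the points. -/
noncomputable def renum : Fin 4060 ≃ Fin 4060 where
  toFun i := ⟨lineOf i, (bij_spec i.2).1⟩
  invFun j := ⟨pointOf j, (bij_spec j.2).2.2.1⟩
  left_inv i := Fin.ext (bij_spec i.2).2.1
  right_inv j := Fin.ext (bij_spec j.2).2.2.2

theorem exists_iso : Nonempty (G5 ≃* Cfsg.Spor.Ru) := by
  obtain ⟨e₀, he0, he⟩ := exists_table5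
  have hN : RuC4060.cert.N = 4060 := by decide +kernel
  let e : Fin 4060 ≃ G5 ⧸ hSub5 := (finCongr hN.symm).trans e₀
  let ψ : G5 →* Equiv.Perm (Fin 4060) :=
    (Equiv.permCongrHom (e.symm.trans renum)).toMonoidHom.comp (MulAction.toPermHom G5 (G5 ⧸ hSub5))
  have happ : ∀ (a : G5) (j : Fin 4060), ψ a j = renum (e.symm (a • e (renum.symm j))) := fun a j => rfl
  have hgen : ∀ t, t < 2 → ψ (wval gen5 (words.getD t [])) = RuAut.ruHom (RuAut.toRu (RuAut.pg t)) := by
    intro t ht
    have hw := words_ok
    simp only [List.all_eq_true, Nat.blt_eq] at hw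
    have hwt : ∀ g ∈ words.getD t [], g < RuC4060.cert.m := by
      rw [List.getD_eq_getElem _ _ (by omega)]
      exact hw.1 _ (List.getElem_mem _)
    refine Equiv.ext fun j => ?_
    obtain ⟨i, rfl⟩ := renum.surjective j
    rw [happ, Equiv.symm_apply_apply]
    have hpath := CosetCert.smul_path RuC4060.cert_edgesOK RuC4060.cert_nodesOK e₀ he _ hwt (finCongr hN.symm i)
    have hlhs : (e.symm (wval gen5 (words.getD t []) • e i) : ℕ) = RuC4060.cert.path (words.getD t []) i := by
      show (e.symm (wval gen5 (words.getD t []) • e₀ (finCongr hN.symm i)) : ℕ) = _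
      rw [hpath]
      simp only [e, Equiv.symm_trans_apply, finCongr_symm, Equiv.symm_apply_apply]
      rfl
    have hj : lineOf i < 4060 := (bij_spec i.2).1
    have hchk : Nat.beq (RuAut.pImg t (4 * lineOf i) / 4)
        (lineOf (RuC4060.cert.path (words.getD t []) i)) = true := by
      have h : wordChk t i = true := by
        rcases (by omega : t = 0 ∨ t = 1) with rfl | rfl
        · exact checkBelow_spec word0 i i.2
        · exact checkBelow_spec word1 i i.2
      simp only [wordChk, force_eq] at h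
      exact h
    have hx : 4 * lineOf i < 16240 := by omega
    have hr : renum i = RuAut.ln (4 * lineOf i) := (RuAut.ln_surj (renum i)).symm
    show _ = RuAut.lineHom (RuAut.pg t) (renum i)
    rw [hr, RuAut.lineHom_ln _ hx, RuAut.pImg_spec (by omega) hx]
    apply Fin.ext
    show lineOf (e.symm _ : ℕ) = _
    rw [hlhs, RuAut.ln_val (by rw [← RuAut.pImg_spec (by omega : t < 4) hx]; exact RuAut.move_lt _ hx)]
    exact (Nat.eq_of_beq_eq_true hchk).symm
  have hle : RuAut.ruHom.range ≤ ψ.range := by
    rw [MonoidHom.range_eq_map, ← RuAut.ru_generated, MonoidHom.map_closure, Subgroup.closure_le]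
    rintro _ ⟨x, rfl | rfl, rfl⟩
    · exact ⟨_, hgen 0 (by norm_num)⟩
    · exact ⟨_, hgen 1 (by norm_num)⟩
  haveI := RuAut.finite_Ru
  haveI := RuTower.finite_ru
  haveI := simple_ru
  have hne : ψ (wval gen5 (words.getD 0 [])) ≠ 1 := by
    rw [hgen 0 (by norm_num)]
    intro h
    have h1 : RuAut.toRu (RuAut.pg 0) = 1 := RuAut.ruHom_injective (h.trans (map_one RuAut.ruHom).symm)
    have htop := RuAut.ru_generated
    rw [h1, Set.pair_comm] at htop
    -- otherwise one involution would generate the group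
    have h2 : (Subgroup.zpowers (RuAut.toRu (RuAut.pg 1))) = ⊤ := by
      rw [eq_top_iff, ← htop, Subgroup.closure_le]
      rintro x (rfl | rfl)
      · exact Subgroup.mem_zpowers _
      · exact one_mem _
    have h3 : orderOf (RuAut.toRu (RuAut.pg 1)) ∣ 2 :=
      orderOf_dvd_of_pow_eq_one (by rw [pow_two, ← map_mul, RuAut.V_sq, map_one])
    have h4 := Nat.card_zpowers (RuAut.toRu (RuAut.pg 1))
    rw [h2, Subgroup.card_top, RuAut.card_Ru] at h4
    have h5 := Nat.le_of_dvd (by norm_num) h3
    rw [← h4] at h5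
    revert h5
    norm_num
  have hinj := injective_of_simple ψ hne
  have hcard : Nat.card ψ.range ≤ Nat.card RuAut.ruHom.range := by
    rw [← Nat.card_congr (MonoidHom.ofInjective hinj).toEquiv,
      ← Nat.card_congr (MonoidHom.ofInjective RuAut.ruHom_injective).toEquiv, card_ru, RuAut.card_Ru]
  have heq := Subgroup.eq_of_le_of_card_ge hle hcard
  exact ⟨(MonoidHom.ofInjective hinj).trans
    ((MulEquiv.subgroupCongr heq.symm).trans (MonoidHom.ofInjective RuAut.ruHom_injective).symm)⟩

end Cfsg.Agent.Presented.RuIso
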