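import Cfsg.Agent.Lib.Presented.TitsMult
import Cfsg.Agent.Lib.Presented.Data.RuMultSel
import Cfsg.Agent.Lib.Presented.Data.RuMultEdges
import Cfsg.Agent.Lib.Presented.Data.RuMultComb
import Cfsg.Agent.Lib.Presented.Data.RuMultChecks

/-!
# The Schur multiplier of the presented Rudvalis group has order at most two

Over the point stabiliser, which has the Tits group as a subgroup of index two, the preimage in a
central extension has an abelian quotient containing the kernel; the coset table on 4060 points then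
carries a linear certificate with one element of order two left over.
-/

set_option autoImplicit false
set_option maxRecDepth 20000

namespace Cfsg.Agent.Presented.RuMultUpper

open Cfsg.Spor Cfsg.Agent.Presented RuPres RuIndex RuGroup
open scoped commutatorElement

theorem titsHom_injective : Function.Injective titsHom := by
  haveI := simple_tits
  refine injective_of_simple titsHom (a := PresentedGroup.of 0) fun h => ?_
  rw [titsHom_gen] at h
  obtain ⟨e, -, he⟩ := exists_table5
  have h1 := he (gens4.idxOf (0 : Fin 4)) (by decide +kernel) ⟨1, by decide +kernel⟩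
  rw [h, one_smul] at h1
  have h2 := congrArg Fin.val (e.injective h1)
  revert h2
  decide +kernel

theorem range_le : titsHom.range ≤ hSub5 := by
  rw [MonoidHom.range_eq_map, ← PresentedGroup.closure_range_of, MonoidHom.map_closure, Subgroup.closure_le]
  rintro _ ⟨_, ⟨x, rfl⟩, rfl⟩
  rw [titsHom_gen]
  show _ ∈ hSub5
  rw [hSub5, map_closure_eq_wval gens5_all gens5_ok, stab5_letters]
  refine Subgroup.subset_closure ⟨[gens4.idxOf x], ?_, by simp [wval]⟩
  revert x
  decide +kernel

theorem index_two : (titsHom.range.subgroupOf hSub5).index = 2 := by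
  have h := (titsHom.range.subgroupOf hSub5).index_mul_card
  rw [Nat.card_congr (Subgroup.subgroupOfEquivOfLe range_le).toEquiv, card_hSub5,
    ← Nat.card_congr (MonoidHom.ofInjective titsHom_injective).toEquiv, card_tits] at h
  refine Nat.eq_of_mul_eq_mul_right (m := 17971200) (by norm_num) ?_
  rw [h]

variable {Γ : Type*} [Group Γ] (σ : Γ →* G5)

/-- The preimage of the point stabiliser has an abelian quotient that is faithful on the kernel. -/
theorem exists_tau (hsurj : Function.Surjective σ) (hc : σ.ker ≤ Subgroup.center Γ) :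
    ∃ (N : Subgroup (hSub5.comap σ)) (_ : N.Normal), (∀ x y : hSub5.comap σ, ⁅x, y⁆ ∈ N) ∧
      ∀ x : hSub5.comap σ, σ x = 1 → x ∈ N → (x : Γ) = 1 := by
  let iso : G4 ≃* titsHom.range := MonoidHom.ofInjective titsHom_injective
  let π : titsHom.range.comap σ →* titsHom.range :=
    (σ.comp (titsHom.range.comap σ).subtype).codRestrict titsHom.range fun x => x.2
  let σT : titsHom.range.comap σ →* G4 := iso.symm.toMonoidHom.comp π
  have hσT : ∀ x, titsHom (σT x) = σ x := fun x => by
    show (iso (iso.symm (π x)) : G5) = σ x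
    rw [MulEquiv.apply_symm_apply]; rfl
  obtain ⟨φ₀, hφ₀⟩ := TitsMult.exists_section σT
    (fun y => by
      obtain ⟨x, hx⟩ := hsurj (titsHom y)
      refine ⟨⟨x, by show σ x ∈ titsHom.range; rw [hx]; exact ⟨y, rfl⟩⟩, titsHom_injective ?_⟩
      rw [hσT]; exact hx)
    (fun x hx => by
      rw [Subgroup.mem_center_iff]
      intro y
      have h1 : σ (x : Γ) = 1 := by rw [← hσT, MonoidHom.mem_ker.mp hx, map_one]
      exact Subtype.ext (Subgroup.mem_center_iff.mp (hc h1) y))
  let φ : G4 →* Γ := (titsHom.range.comap σ).subtype.comp φ₀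
  have hφ : ∀ a, σ (φ a) = titsHom a := fun a => by
    show σ (φ₀ a : Γ) = _
    rw [← hσT, hφ₀]
  have hφP : ∀ a, φ a ∈ hSub5.comap σ := fun a => by
    show σ (φ a) ∈ hSub5
    rw [hφ]; exact range_le ⟨a, rfl⟩
  -- conjugates by elements of the preimage
  haveI hTn : (titsHom.range.subgroupOf hSub5).Normal := Subgroup.normal_of_index_eq_two index_two
  have hconjT : ∀ p ∈ hSub5.comap σ, ∀ a, ∃ b z, z ∈ Subgroup.center Γ ∧ p * φ a * p⁻¹ = z * φ b := by
    intro p hp a
    have h := hTn.conj_mem ⟨titsHom a, range_le ⟨a, rfl⟩⟩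
      (Subgroup.mem_subgroupOf.mpr ⟨a, rfl⟩) ⟨σ p, hp⟩
    obtain ⟨b, hb⟩ := Subgroup.mem_subgroupOf.mp h
    refine ⟨b, p * φ a * p⁻¹ * (φ b)⁻¹, hc ?_, by rw [inv_mul_cancel_right]⟩
    simp only [MonoidHom.mem_ker, map_mul, map_inv, hφ, hb]
    simp
  have hperf : commutator G4 = ⊤ := by
    haveI := simple_tits
    rcases Subgroup.Normal.eq_bot_or_eq_top (inferInstance : (commutator G4).Normal) with h | h
    · exfalso
      rw [commutator_def, Subgroup.commutator_eq_bot_iff_le_centralizer] at h
      have h2 : ∀ a b : G4, a * b = b * a := fun a b =>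
        (Subgroup.mem_centralizer_iff.mp (h (Subgroup.mem_top a)) b (Subgroup.mem_top b)).symm
      haveI := RuTower.finite_tits
      letI : CommGroup G4 := { (inferInstance : Group G4) with mul_comm := h2 }
      have hp := IsSimpleGroup.prime_card (α := G4)
      rw [card_tits] at hp
      revert hp
      norm_num
    · exact h
  have hnorm : ∀ p ∈ hSub5.comap σ, ∀ a, p * φ a * p⁻¹ ∈ φ.range := by
    intro p hp
    have hle : commutator G4 ≤ φ.range.comap ((MulAut.conj p).toMonoidHom.comp φ) := by
      rw [commutator_def, Subgroup.commutator_le]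
      intro a _ b _
      obtain ⟨a', za, hza, ha⟩ := hconjT p hp a
      obtain ⟨b', zb, hzb, hb⟩ := hconjT p hp b
      refine ⟨⁅a', b'⁆, ?_⟩
      simp only [MonoidHom.comp_apply, map_commutatorElement]
      show _ = ⁅p * φ a * p⁻¹, p * φ b * p⁻¹⁆
      rw [ha, hb]
      have hA : ∀ x, za * x = x * za := fun x => (Subgroup.mem_center_iff.mp hza x).symm
      have hB : ∀ x, zb * x = x * zb := fun x => (Subgroup.mem_center_iff.mp hzb x).symm
      simp only [commutatorElement_def, mul_inv_rev]
      generalize φ a' = u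
      generalize φ b' = v
      symm
      calc za * u * (zb * v) * (u⁻¹ * za⁻¹) * (v⁻¹ * zb⁻¹)
          = za * (u * zb) * v * u⁻¹ * za⁻¹ * v⁻¹ * zb⁻¹ := by group
        _ = za * (zb * u * v * u⁻¹) * za⁻¹ * v⁻¹ * zb⁻¹ := by rw [← hB u]; group
        _ = zb * u * v * u⁻¹ * v⁻¹ * zb⁻¹ := by rw [hA, mul_inv_cancel_right]
        _ = zb * (u * v * u⁻¹ * v⁻¹) * zb⁻¹ := by group
        _ = u * v * u⁻¹ * v⁻¹ := by rw [hB, mul_inv_cancel_right]
    intro a
    exact hle (hperf ▸ Subgroup.mem_top a)
  have hN : (φ.range.subgroupOf (hSub5.comap σ)).Normal := ⟨fun x hx p => by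
    obtain ⟨a, ha⟩ := Subgroup.mem_subgroupOf.mp hx
    rw [Subgroup.mem_subgroupOf]
    show (p : Γ) * x * (p : Γ)⁻¹ ∈ φ.range
    rw [← ha]
    exact hnorm p p.2 a⟩
  haveI := hN
  refine ⟨φ.range.subgroupOf (hSub5.comap σ), hN, fun x y => ?_, fun x hx h => ?_⟩
  · -- every element of the smaller preimage is central times a value of the section
    have hsplit : ∀ r : hSub5.comap σ, σ r ∈ titsHom.range →
        ∀ q : hSub5.comap σ, ⁅r, q⁆ ∈ φ.range.subgroupOf (hSub5.comap σ) := by
      intro r ⟨a, ha⟩ q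
      have hz : (r : Γ) * (φ a)⁻¹ ∈ Subgroup.center Γ := hc (by
        rw [MonoidHom.mem_ker, map_mul, map_inv, hφ, ha, mul_inv_cancel])
      rw [Subgroup.mem_subgroupOf]
      show (r : Γ) * q * (r : Γ)⁻¹ * (q : Γ)⁻¹ ∈ φ.range
      have hr : (r : Γ) = (r : Γ) * (φ a)⁻¹ * φ a := by rw [inv_mul_cancel_right]
      have hA : ∀ x, (r : Γ) * (φ a)⁻¹ * x = x * ((r : Γ) * (φ a)⁻¹) := fun x =>
        (Subgroup.mem_center_iff.mp hz x).symm
      rw [hr]
      generalize hz' : (r : Γ) * (φ a)⁻¹ = z at hA
      have : z * φ a * q * (z * φ a)⁻¹ * (q : Γ)⁻¹ = φ a * ((q : Γ) * φ a⁻¹ * (q : Γ)⁻¹) := by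
        rw [map_inv, mul_inv_rev]
        calc z * φ a * q * ((φ a)⁻¹ * z⁻¹) * (q : Γ)⁻¹
            = z * (φ a * q * (φ a)⁻¹) * z⁻¹ * (q : Γ)⁻¹ := by group
          _ = φ a * (q * (φ a)⁻¹ * (q : Γ)⁻¹) := by rw [hA, mul_inv_cancel_right]; group
      rw [this]
      exact mul_mem ⟨a, rfl⟩ (hnorm q q.2 _)
    by_cases hx : σ x ∈ titsHom.range
    · exact hsplit x hx y
    by_cases hy : σ y ∈ titsHom.range
    · rw [← commutatorElement_inv]; exact inv_mem (hsplit y hy x)
    have hr : σ (x⁻¹ * y : hSub5.comap σ) ∈ titsHom.range := by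
      have := (Subgroup.mul_mem_iff_of_index_two index_two (a := (⟨σ x, x.2⟩ : hSub5)⁻¹)
        (b := ⟨σ y, y.2⟩)).mpr (by
          rw [inv_mem_iff, Subgroup.mem_subgroupOf, Subgroup.mem_subgroupOf]
          exact iff_of_false hx hy)
      rw [Subgroup.mem_subgroupOf] at this
      simpa using this
    have h := (hN.conj_mem _ (inv_mem (hsplit _ hr x)) x)
    convert h using 1
    simp only [commutatorElement_def]
    group
  · obtain ⟨a, ha⟩ := Subgroup.mem_subgroupOf.mp h
    rw [← ha, hφ] at hx
    rw [← ha, titsHom_injective (hx.trans (map_one titsHom).symm), map_one]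

/-- The words of the relators in the certificate. -/
noncomputable def base : List (List ℕ) :=
  (List.range RuMult.lin.nc).map fun r => RuMult.lin.cws.getD r []

/-- The kernel of a stem extension is generated by an element of order at most two. -/
theorem ker_cyclic (hσ : Cfsg.IsStemExtension σ) :
    ∃ z : Γ, z * z = 1 ∧ σ.ker = Subgroup.zpowers z := by
  obtain ⟨hsurj, hc, hcomm⟩ := hσ
  obtain ⟨e, he0, he⟩ := exists_table5
  obtain ⟨N, hN, habel, hfaith⟩ := exists_tau σ hsurj hc
  letI : CommGroup (hSub5.comap σ ⧸ N) :=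
    { (inferInstance : Group (hSub5.comap σ ⧸ N)) with
      mul_comm := fun a b => by
        induction a using QuotientGroup.induction_on with
        | _ x =>
          induction b using QuotientGroup.induction_on with
          | _ y =>
            rw [← QuotientGroup.mk_mul, ← QuotientGroup.mk_mul, QuotientGroup.eq]
            convert habel y⁻¹ x⁻¹ using 1
            simp only [commutatorElement_def]
            group }
  have hbase : ∀ b ∈ base, wval gen5 b = 1 :=
    wval_rot gens5_all gens5_ok (extra := extra5) (ws := base) (by decide +kernel)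
  obtain ⟨X, z₀, hz₀, hσz, hzz, hX, hrel⟩ := LinCert.lifts_mod (L := RuMult.lin) σ hsurj hc
    RuMult.cert_edgesOK RuMult.cert_nodesOK RuMult.labelsOK RuMult.packOK RuMult.checkSel RuMult.kill
    RuMult.fs RuMult.coTwo RuMult.checkMod e he0 he
    (fun r hr => hbase _ (List.mem_map.mpr ⟨r, List.mem_range.mpr hr, rfl⟩))
    (QuotientGroup.mk' N) (fun x h1 h2 => hfaith x h1 ((QuotientGroup.eq_one_iff x).mp h2))
  refine ⟨z₀, hzz, le_antisymm ?_ (Subgroup.zpowers_le.mpr hσz)⟩
  haveI hZn : (Subgroup.zpowers z₀).Normal := ⟨fun x hx g => by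
    rw [Subgroup.mem_center_iff.mp (Subgroup.zpowers_le.mpr hz₀ hx) g, mul_inv_cancel_right]; exact hx⟩
  have hker : Subgroup.zpowers z₀ ≤ σ.ker := Subgroup.zpowers_le.mpr hσz
  let σ' : Γ ⧸ Subgroup.zpowers z₀ →* G5 := QuotientGroup.lift _ σ hker
  have hc' : σ'.ker ≤ Subgroup.center _ := by
    intro x hx
    induction x using QuotientGroup.induction_on with
    | _ a =>
      rw [Subgroup.mem_center_iff]
      intro y
      induction y using QuotientGroup.induction_on with
      | _ b => exact congrArg QuotientGroup.mk (Subgroup.mem_center_iff.mp (hc hx) b)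
  have hcomm' : σ'.ker ≤ commutator _ := by
    intro x hx
    induction x using QuotientGroup.induction_on with
    | _ a =>
      have h := Subgroup.mem_map_of_mem (QuotientGroup.mk' (Subgroup.zpowers z₀)) (hcomm hx)
      refine (show (commutator Γ).map (QuotientGroup.mk' (Subgroup.zpowers z₀)) ≤ _ from ?_) h
      rw [commutator_def, commutator_def, Subgroup.map_commutator]
      exact Subgroup.commutator_mono le_top le_top
  obtain ⟨φ, hφ⟩ := exists_section_of_lifts gens5_all σ' (fun g => QuotientGroup.mk (X g))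
    (fun g => hX g) (base := base)
    (fun b hb => by
      obtain ⟨r, hr, rfl⟩ := List.mem_map.mp hb
      show wval (fun g => QuotientGroup.mk' (Subgroup.zpowers z₀) (X g)) _ = 1
      rw [← wval_map (QuotientGroup.mk' (Subgroup.zpowers z₀))]
      exact (QuotientGroup.eq_one_iff _).mpr (hrel r (List.mem_range.mp hr)))
    (by decide +kernel) (by decide +kernel) (by decide +kernel)
  have hbot := ker_eq_bot_of_section σ' hc' hcomm' φ hφ
  intro x hx
  have h : (QuotientGroup.mk x : Γ ⧸ Subgroup.zpowers z₀) ∈ σ'.ker := hx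
  rw [hbot, Subgroup.mem_bot] at h
  exact (QuotientGroup.eq_one_iff x).mp h

/-- The kernel of a stem extension is an image of the group of order two. -/
theorem exists_surjection (hσ : Cfsg.IsStemExtension σ) :
    ∃ π : Multiplicative (ZMod 2) →* σ.ker, Function.Surjective π := by
  obtain ⟨z, hzz, hz⟩ := ker_cyclic σ hσ
  have hzk : z ∈ σ.ker := hz ▸ Subgroup.mem_zpowers z
  let f : ℤ →+ Additive σ.ker := zmultiplesHom _ (Additive.ofMul (⟨z, hzk⟩ : σ.ker))
  have hf : f (2 : ℕ) = 0 := by
    simp only [f, zmultiplesHom_apply, natCast_zsmul, two_nsmul]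
    exact Subtype.ext hzz
  refine ⟨AddMonoidHom.toMultiplicativeLeft (ZMod.lift 2 ⟨f, hf⟩), fun x => ?_⟩
  obtain ⟨k, hk⟩ := Subgroup.mem_zpowers_iff.mp (show (x : Γ) ∈ Subgroup.zpowers z from hz ▸ x.2)
  refine ⟨Multiplicative.ofAdd (k : ZMod 2), ?_⟩
  show Additive.toMul (ZMod.lift 2 ⟨f, hf⟩ (k : ZMod 2)) = x
  rw [ZMod.lift_coe]
  apply Subtype.ext
  show ((Additive.toMul (k • Additive.ofMul (⟨z, hzk⟩ : σ.ker))) : σ.ker).1 = x
  rw [toMul_zsmul, toMul_ofMul, Subgroup.coe_zpow]
  exact hk

end Cfsg.Agent.Presented.RuMultUpper
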