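import Cfsg.Agent.Lib.ClassicalSimple.SympMatrix
import Cfsg.Agent.Lib.Forms.Symp
import Cfsg.Agent.Lib.AutPSp.Card
import Cfsg.Agent.Lib.Presented.E7Bound
import Cfsg.Agent.Lib.Presented.Data.E7Sp6

/-!
# Seven transvections generating the symplectic group of dimension six over the field with two elements
-/

set_option autoImplicit false
set_option maxRecDepth 10000

namespace Cfsg.Agent.Presented.Sp6

open scoped Matrix
open Cfsg.Spor ClassicalSimple

/-- The coordinates. -/
abbrev Ix := Fin 3 ⊕ Fin 3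

/-- The symplectic group. -/
abbrev G := ↥(Matrix.symplecticGroup (Fin 3) (ZMod 2))

/-- Position of an index. -/
def pos : Ix → ℕ
  | .inl i => i.1
  | .inr i => 3 + i.1

/-- The vector with a given code. -/
def vec (n : ℕ) : Ix → ZMod 2 := fun j => (n / 2 ^ pos j % 2 : ℕ)

theorem exists_code : ∀ v : Ix → ZMod 2, ∃ n : Fin 64, vec n.1 = v := by decide +kernel

/-- The code of a sum. -/
def addN (a b : ℕ) : ℕ :=
  (a % 2 + b % 2) % 2 + 2 * ((a / 2 % 2 + b / 2 % 2) % 2) + 4 * ((a / 4 % 2 + b / 4 % 2) % 2) +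
  8 * ((a / 8 % 2 + b / 8 % 2) % 2) + 16 * ((a / 16 % 2 + b / 16 % 2) % 2) +
  32 * ((a / 32 % 2 + b / 32 % 2) % 2)

/-- The form on codes. -/
def formN (a b : ℕ) : ℕ :=
  ((a % 2) * (b / 8 % 2) + (a / 2 % 2) * (b / 16 % 2) + (a / 4 % 2) * (b / 32 % 2) +
    (a / 8 % 2) * (b % 2) + (a / 16 % 2) * (b / 2 % 2) + (a / 32 % 2) * (b / 4 % 2)) % 2

/-- The code of the image of a code under a transvection. -/
def stepN (k n : ℕ) : ℕ :=
  bif Nat.beq (formN n (E7Sp6.vecs.getD k 0)) 1 then addN n (E7Sp6.vecs.getD k 0) else n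

/-- A transvection. -/
def tr (v : Ix → ZMod 2) : G := sympTransvectionElt v 1

/-- The seven transvections. -/
def t (k : ℕ) : G := tr (vec (E7Sp6.vecs.getD k 0))

/-- The action. -/
def act (g : G) (v : Ix → ZMod 2) : Ix → ZMod 2 := g.1 *ᵥ v

theorem act_mul (a b : G) (v : Ix → ZMod 2) : act (a * b) v = act a (act b v) := by
  show (a.1 * b.1) *ᵥ v = _
  rw [← Matrix.mulVec_mulVec]; rfl

theorem act_one (v : Ix → ZMod 2) : act 1 v = v := Matrix.one_mulVec v

theorem act_ext {a b : G} (h : ∀ v, act a v = act b v) : a = b :=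
  Subtype.ext (Matrix.ext_iff_mulVec.2 h)

theorem act_tr (v x : Ix → ZMod 2) : act (tr v) x = x + sympBilin 3 (ZMod 2) x v • v := by
  show sympTransvection 3 v 1 *ᵥ x = _
  rw [sympTransvection_mulVec, one_mul]

theorem form_eq (a b : Fin 64) :
    sympBilin 3 (ZMod 2) (vec a.1) (vec b.1) = ((formN a.1 b.1 : ℕ) : ZMod 2) := by
  rw [formN, ZMod.natCast_mod]
  simp only [sympBilin_apply, sympForm, Matrix.J, Matrix.fromBlocks_mulVec, dotProduct,
    Fintype.sum_sum_type, Sum.elim_inl, Sum.elim_inr, Function.comp_apply, Matrix.zero_mulVec,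
    Matrix.neg_mulVec, Matrix.one_mulVec, Pi.add_apply, Pi.zero_apply, Pi.neg_apply, Fin.sum_univ_three,
    vec, pos, Fin.val_zero, Fin.val_one, Fin.val_two, Nat.cast_add, Nat.cast_mul, zero_add, add_zero,
    CharTwo.neg_eq, Nat.reduceAdd, pow_succ, pow_zero, one_mul, Nat.reduceMul, Nat.div_one]
  ring

theorem dig_addN (a b : ℕ) : ∀ j, j < 6 → addN a b / 2 ^ j % 2 = (a / 2 ^ j % 2 + b / 2 ^ j % 2) % 2 := by
  intro j hj
  have h0 : (a % 2 + b % 2) % 2 < 2 := Nat.mod_lt _ (by norm_num)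
  have h1 : (a / 2 % 2 + b / 2 % 2) % 2 < 2 := Nat.mod_lt _ (by norm_num)
  have h2 : (a / 4 % 2 + b / 4 % 2) % 2 < 2 := Nat.mod_lt _ (by norm_num)
  have h3 : (a / 8 % 2 + b / 8 % 2) % 2 < 2 := Nat.mod_lt _ (by norm_num)
  have h4 : (a / 16 % 2 + b / 16 % 2) % 2 < 2 := Nat.mod_lt _ (by norm_num)
  have h5 : (a / 32 % 2 + b / 32 % 2) % 2 < 2 := Nat.mod_lt _ (by norm_num)
  rw [addN]
  interval_cases j <;>
    simp only [pow_succ, pow_zero, one_mul, Nat.reduceMul, Nat.div_one] <;>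
    generalize (a % 2 + b % 2) % 2 = x0 at * <;>
    generalize (a / 2 % 2 + b / 2 % 2) % 2 = x1 at * <;>
    generalize (a / 4 % 2 + b / 4 % 2) % 2 = x2 at * <;>
    generalize (a / 8 % 2 + b / 8 % 2) % 2 = x3 at * <;>
    generalize (a / 16 % 2 + b / 16 % 2) % 2 = x4 at * <;>
    generalize (a / 32 % 2 + b / 32 % 2) % 2 = x5 at * <;>
    omega

theorem pos_lt (j : Ix) : pos j < 6 := by rcases j with i | i <;> simp [pos] <;> omega

theorem add_eq (a b : Fin 64) : vec a.1 + vec b.1 = vec (addN a.1 b.1) := by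
  funext j
  simp only [Pi.add_apply, vec]
  rw [dig_addN _ _ _ (pos_lt j)]
  push_cast [ZMod.natCast_mod]
  ring

theorem step_spec : ∀ k : Fin 7, ∀ n : Fin 64, stepN k.1 n.1 < 64 ∧ E7Sp6.vecs.getD k.1 0 < 64 := by
  decide +kernel

theorem act_t {k : ℕ} (hk : k < 7) {n : ℕ} (hn : n < 64) : act (t k) (vec n) = vec (stepN k n) := by
  have hv := (step_spec ⟨k, hk⟩ ⟨n, hn⟩).2
  rw [t, act_tr, form_eq ⟨n, hn⟩ ⟨_, hv⟩, stepN]
  have hlt : formN n (E7Sp6.vecs.getD k 0) < 2 := Nat.mod_lt _ (by norm_num)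
  rcases (show formN n (E7Sp6.vecs.getD k 0) = 0 ∨ formN n (E7Sp6.vecs.getD k 0) = 1 by omega) with h | h
  · simp only [h, Nat.cast_zero, zero_smul, add_zero]; rfl
  · simp only [h, Nat.cast_one, one_smul, Nat.beq_refl, cond_true]
    exact add_eq ⟨n, hn⟩ ⟨_, hv⟩

/-- Run a word on a code, first letter first. -/
def run : List ℕ → ℕ → ℕ
  | [], n => n
  | g :: w, n => run w (stepN g n)

theorem act_wval : ∀ (w : List ℕ), (∀ g ∈ w, g < 7) → ∀ {n : ℕ}, n < 64 →
    act (wval t w) (vec n) = vec (run w n) := by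
  intro w
  induction w with
  | nil => intro _ n _; exact act_one _
  | cons g w ih =>
    intro hw n hn
    have hg := hw g List.mem_cons_self
    rw [wval, act_mul, act_t hg hn, ih (fun x hx => hw x (List.mem_cons_of_mem _ hx))
      (step_spec ⟨g, hg⟩ ⟨n, hn⟩).1]
    rfl

/-- Two words act alike on all codes. -/
def sameOK (u v : List ℕ) : Bool :=
  (u.all fun g => Nat.blt g 7) && (v.all fun g => Nat.blt g 7) &&
    (List.range 64).all fun n => run u n == run v n

theorem eq_of_same {u v : List ℕ} (h : sameOK u v = true) : wval t u = wval t v := by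
  simp only [sameOK, Bool.and_eq_true, List.all_eq_true, Nat.blt_eq, List.mem_range, beq_iff_eq] at h
  refine act_ext fun x => ?_
  obtain ⟨n, rfl⟩ := exists_code x
  rw [act_wval u h.1.1 n.2, act_wval v h.1.2 n.2, h.2 n.1 n.2]

theorem tr_conj (g : G) (v : Ix → ZMod 2) : g * tr v * g⁻¹ = tr (act g v) := by
  refine act_ext fun x => ?_
  have hx : act g (act g⁻¹ x) = x := by rw [← act_mul, mul_inv_cancel, act_one]
  have hlin : ∀ (a : ZMod 2) (y z : Ix → ZMod 2), act g (y + a • z) = act g y + a • act g z :=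
    fun a y z => by simp [act, Matrix.mulVec_add, Matrix.mulVec_smul]
  have hform : sympBilin 3 (ZMod 2) (act g⁻¹ x) v = sympBilin 3 (ZMod 2) x (act g v) := by
    rw [← mem_symplecticGroup_iff_form.1 g.2 (act g⁻¹ x) v]
    exact congrArg (fun y => sympBilin 3 (ZMod 2) y (act g v)) hx
  rw [act_mul, act_mul, act_tr, act_tr, hlin, hx, hform]

theorem t_sq (k : Fin 7) : t k.1 * t k.1 = 1 := by
  have h : ∀ k : Fin 7, sameOK [k.1, k.1] [] = true := by decide +kernel
  simpa [wval] using eq_of_same (h k)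

theorem t_braid (i j : Fin 7) (h : coxLabel E7.edges7 i j = 3) :
    t j.1 * t i.1 * t j.1 = t i.1 * t j.1 * t i.1 := by
  have hd : ∀ i j : Fin 7, coxLabel E7.edges7 i j = 3 →
      sameOK [j.1, i.1, j.1] [i.1, j.1, i.1] = true := by decide +kernel
  simpa [wval] using eq_of_same (hd i j h)

theorem t_comm (i j : Fin 7) (h : coxLabel E7.edges7 i j = 2) :
    t i.1 * t j.1 = t j.1 * t i.1 := by
  have hd : ∀ i j : Fin 7, coxLabel E7.edges7 i j = 2 →
      sameOK [j.1, i.1] [i.1, j.1] = true := by decide +kernel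
  simpa [wval] using eq_of_same (hd i j h)

theorem commutator_top : commutator G = ⊤ := symplectic_commutator_eq_top (Or.inl le_rfl)

theorem card_G : Nat.card G = 1451520 := by
  rw [Forms.card_symplecticGroup, ZMod.card]
  decide

theorem center_bot : Subgroup.center G = ⊥ := by
  refine Subgroup.eq_bot_of_card_eq _ ?_
  rw [AutPSp.card_center (show 2 ≤ 3 by norm_num)]
  simp

theorem wval_mem (H : Subgroup G) (h : ∀ k, k < 7 → t k ∈ H) :
    ∀ w : List ℕ, (∀ g ∈ w, g < 7) → wval t w ∈ H := by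
  intro w
  induction w with
  | nil => intro _; exact one_mem _
  | cons g w ih =>
    intro hw
    exact mul_mem (ih fun x hx => hw x (List.mem_cons_of_mem _ hx)) (h g (hw g List.mem_cons_self))

theorem orbit_ok : (E7Sp6.words.all fun w => w.all fun g => Nat.blt g 7) = true ∧
    ∀ n : Fin 64, n.1 = 0 ∨
      (n.1 - 1 < E7Sp6.words.length ∧ run (E7Sp6.words.getD (n.1 - 1) []) (E7Sp6.vecs.getD 0 0) = n.1) := by
  decide +kernel

/-- The seven transvections generate. -/
theorem closure_t : Subgroup.closure (Set.range fun k : Fin 7 => t k.1) = ⊤ := by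
  set H := Subgroup.closure (Set.range fun k : Fin 7 => t k.1)
  rw [eq_top_iff, ← closure_sympTransvectionSet, Subgroup.closure_le]
  rintro A ⟨w, c, hA⟩
  have hA' : A = sympTransvectionElt w c := Subtype.ext hA
  rcases (show ∀ c : ZMod 2, c = 0 ∨ c = 1 by decide) c with rfl | rfl
  · rw [hA', show sympTransvectionElt w (0 : ZMod 2) = 1 from
      Subtype.ext (by simp [sympTransvectionElt, sympTransvection])]
    exact one_mem H
  · obtain ⟨n, hn⟩ := exists_code w
    rw [hA', show sympTransvectionElt w (1 : ZMod 2) = tr w from rfl, ← hn]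
    rcases orbit_ok.2 n with h0 | ⟨hlen, hrun⟩
    · have hz : vec n.1 = 0 := by rw [h0]; funext j; simp [vec]
      rw [hz, show tr (0 : Ix → ZMod 2) = 1 from act_ext fun x => by rw [act_tr, smul_zero, add_zero, act_one]]
      exact one_mem H
    · have hw : ∀ g ∈ E7Sp6.words.getD (n.1 - 1) [], g < 7 := by
        intro g hg
        rw [List.getD_eq_getElem _ _ hlen] at hg
        have h := orbit_ok.1
        simp only [List.all_eq_true, Nat.blt_eq] at h
        exact h _ (List.getElem_mem hlen) g hg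
      have h0 : t 0 ∈ H := Subgroup.subset_closure ⟨0, rfl⟩
      have hmem := wval_mem H (fun k hk => Subgroup.subset_closure ⟨⟨k, hk⟩, rfl⟩) _ hw
      have := mul_mem (mul_mem hmem h0) (inv_mem hmem)
      rwa [t, tr_conj, act_wval _ hw (by decide), hrun] at this

theorem pair_ok : ∀ i j : Fin 7, coxLabel E7.edges7 i j = 2 → i.1 < j.1 → E7Sp6.pairWords.any (fun p =>
    p.1 == i.1 && p.2.1 == j.1 && (p.2.2.all fun g => Nat.blt g 7) &&
      run p.2.2 (E7Sp6.vecs.getD 0 0) == E7Sp6.vecs.getD i.1 0 &&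
      run p.2.2 (E7Sp6.vecs.getD 2 0) == E7Sp6.vecs.getD j.1 0) = true := by
  decide +kernel

/-- The commuting pairs are conjugate to the pair `0, 2`. -/
theorem exists_pair_conj (i j : Fin 7) (h : coxLabel E7.edges7 i j = 2) (hij : i.1 < j.1) :
    ∃ g : G, g * t 0 * g⁻¹ = t i.1 ∧ g * t 2 * g⁻¹ = t j.1 := by
  obtain ⟨⟨a, b, w⟩, -, hp⟩ := List.any_eq_true.mp (pair_ok i j h hij)
  simp only [Bool.and_eq_true, beq_iff_eq, List.all_eq_true, Nat.blt_eq] at hp
  obtain ⟨⟨⟨-, hw⟩, h1⟩, h2⟩ := hp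
  refine ⟨wval t w, ?_, ?_⟩
  · rw [t, tr_conj, act_wval w hw (by decide), h1]; rfl
  · rw [t, tr_conj, act_wval w hw (by decide), h2]; rfl

end Cfsg.Agent.Presented.Sp6
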