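import Cfsg.Prelude.Def_KGroupFacts
import Cfsg.Agent.Lib.Presented.Sp6Model
import Cfsg.Agent.Lib.Presented.Data.E7Cliff
import Cfsg.Agent.Lib.Schur.Basic

/-!
# The Schur multiplier of the symplectic group of dimension six over the field with two elements
-/

set_option autoImplicit false
set_option maxRecDepth 10000

namespace Cfsg.Agent.Presented.Sp6Mult

open Cfsg.Spor E7 Sp6
open scoped commutatorElement Matrix

/-- Central factors do not change commutators. -/
theorem comm_central {Γ : Type*} [Group Γ] (a b q q' : Γ) (c1 : ∀ y, y * q = q * y)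
    (c2 : ∀ y, y * q' = q' * y) : ⁅a * q, b * q'⁆ = ⁅a, b⁆ := by
  rw [commutatorElement_def, commutatorElement_def, mul_inv_rev, mul_inv_rev]
  calc a * q * (b * q') * (q⁻¹ * a⁻¹) * (q'⁻¹ * b⁻¹)
      = a * (q * (b * q') * q⁻¹) * (a⁻¹ * q'⁻¹) * b⁻¹ := by simp only [mul_assoc]
    _ = a * (b * q') * (a⁻¹ * q'⁻¹) * b⁻¹ := by rw [← c1, mul_inv_cancel_right]
    _ = a * b * (q' * a⁻¹ * q'⁻¹) * b⁻¹ := by simp only [mul_assoc]
    _ = _ := by rw [← c2, mul_inv_cancel_right]

/-- Lifts of the transvections along the tree, all conjugate. -/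
theorem exists_lifts {Γ : Type*} [Group Γ] (σ : Γ →* G) (hσ : Function.Surjective σ)
    (hz : σ.ker ≤ Subgroup.center Γ) :
    ∃ (x : Fin 7 → Γ) (c : Γ), c ∈ σ.ker ∧ (∀ i, σ (x i) = t i.1) ∧ (∀ i, x i * x i = c) ∧
      ∀ i j, coxLabel edges7 i j = 3 → x j * x i * x j = x i * x j * x i := by
  have hc : ∀ {z : Γ}, z ∈ σ.ker → ∀ g, g * z = z * g := fun h g => Subgroup.mem_center_iff.mp (hz h) g
  choose y hy using fun i : Fin 7 => hσ (t i.1)
  let nxt : Γ → Fin 7 → Γ := fun p q => p * y q * p * (p * y q)⁻¹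
  have key : ∀ (p : Γ) (i j : Fin 7), coxLabel edges7 i j = 3 → σ p = t i.1 → p * p = y 0 * y 0 →
      σ (nxt p j) = t j.1 ∧ nxt p j * nxt p j = y 0 * y 0 ∧
        nxt p j * p * nxt p j = p * nxt p j * p := by
    intro p i j hij hp hp2
    have hker : (y 0 * y 0) ∈ σ.ker := by
      rw [MonoidHom.mem_ker, map_mul, hy]; exact t_sq 0
    have h1 : σ (nxt p j) = t j.1 := by
      simp only [nxt, map_mul, map_inv, hp, hy]
      rw [mul_inv_eq_iff_eq_mul, ← mul_assoc, t_braid i j hij]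
    refine ⟨h1, ?_, ?_⟩
    · show p * y j * p * (p * y j)⁻¹ * (p * y j * p * (p * y j)⁻¹) = _
      calc p * y j * p * (p * y j)⁻¹ * (p * y j * p * (p * y j)⁻¹)
          = p * y j * (p * p) * (p * y j)⁻¹ := by group
        _ = _ := by rw [hp2, hc hker, mul_inv_cancel_right]
    · have hd : (y j)⁻¹ * nxt p j ∈ σ.ker := by
        rw [MonoidHom.mem_ker, map_mul, map_inv, h1, hy, inv_mul_cancel]
      have e1 : nxt p j * (p * y j) = p * y j * p := by
        simp only [nxt]; group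
      have e2 : nxt p j = y j * ((y j)⁻¹ * nxt p j) := by group
      calc nxt p j * p * nxt p j
          = nxt p j * p * (y j * ((y j)⁻¹ * nxt p j)) := by rw [← e2]
        _ = (nxt p j * (p * y j)) * ((y j)⁻¹ * nxt p j) := by simp only [mul_assoc]
        _ = p * y j * (p * ((y j)⁻¹ * nxt p j)) := by rw [e1]; simp only [mul_assoc]
        _ = p * (y j * ((y j)⁻¹ * nxt p j)) * p := by rw [hc hd p]; simp only [mul_assoc]
        _ = _ := by rw [← e2]
  let a0 := y 0
  let a1 := nxt a0 1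
  let a2 := nxt a1 2
  let a3 := nxt a2 3
  let a4 := nxt a3 4
  let a5 := nxt a4 5
  let a6 := nxt a2 6
  obtain ⟨s1, q1, b1⟩ := key a0 0 1 (by decide +kernel) (hy 0) rfl
  obtain ⟨s2, q2, b2⟩ := key a1 1 2 (by decide +kernel) s1 q1
  obtain ⟨s3, q3, b3⟩ := key a2 2 3 (by decide +kernel) s2 q2
  obtain ⟨s4, q4, b4⟩ := key a3 3 4 (by decide +kernel) s3 q3
  obtain ⟨s5, q5, b5⟩ := key a4 4 5 (by decide +kernel) s4 q4
  obtain ⟨s6, q6, b6⟩ := key a2 2 6 (by decide +kernel) s2 q2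
  refine ⟨![a0, a1, a2, a3, a4, a5, a6], y 0 * y 0, ?_, ?_, ?_, ?_⟩
  · rw [MonoidHom.mem_ker, map_mul, hy]; exact t_sq 0
  · intro i; fin_cases i
    exacts [hy 0, s1, s2, s3, s4, s5, s6]
  · intro i; fin_cases i
    exacts [rfl, q1, q2, q3, q4, q5, q6]
  · have hedge : ∀ i j : Fin 7, coxLabel edges7 i j = 3 →
        (i, j) ∈ [((0 : Fin 7), (1 : Fin 7)), (1, 2), (2, 3), (3, 4), (4, 5), (2, 6),
          (1, 0), (2, 1), (3, 2), (4, 3), (5, 4), (6, 2)] := by decide +kernel
    intro i j hij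
    have h := hedge i j hij
    simp only [List.mem_cons, List.not_mem_nil, or_false, Prod.mk.injEq] at h
    rcases h with h | h | h | h | h | h | h | h | h | h | h | h <;> obtain ⟨rfl, rfl⟩ := h
    exacts [b1, b2, b3, b4, b5, b6, b1.symm, b2.symm, b3.symm, b4.symm, b5.symm, b6.symm]

/-- Subgroups covering `G` modulo a central kernel contain the commutators. -/
theorem commutator_le_of_map_top {Γ : Type*} [Group Γ] (σ : Γ →* G) (hz : σ.ker ≤ Subgroup.center Γ)
    (K : Subgroup Γ) (hK : K.map σ = ⊤) : commutator Γ ≤ (⁅K, K⁆ : Subgroup Γ) := by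
  have hd : ∀ g : Γ, ∃ k ∈ K, ∃ z ∈ σ.ker, g = k * z := fun g => by
    obtain ⟨k, hk, hk'⟩ := show σ g ∈ K.map σ by rw [hK]; trivial
    exact ⟨k, hk, k⁻¹ * g, by rw [MonoidHom.mem_ker, map_mul, map_inv, hk', inv_mul_cancel],
      (mul_inv_cancel_left k g).symm⟩
  rw [commutator_def, Subgroup.commutator_le]
  intro a _ b _
  obtain ⟨k, hk, z, hz', rfl⟩ := hd a
  obtain ⟨k', hk', z', hz'', rfl⟩ := hd b
  have c1 : ∀ y, y * z = z * y := fun y => Subgroup.mem_center_iff.mp (hz hz') y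
  have c2 : ∀ y, y * z' = z' * y := fun y => Subgroup.mem_center_iff.mp (hz hz'') y
  have : ⁅k * z, k' * z'⁆ = ⁅k, k'⁆ := by
    rw [commutatorElement_def, commutatorElement_def, mul_inv_rev, mul_inv_rev]
    calc k * z * (k' * z') * (z⁻¹ * k⁻¹) * (z'⁻¹ * k'⁻¹)
        = k * (z * (k' * z') * z⁻¹) * (k⁻¹ * z'⁻¹) * k'⁻¹ := by simp only [mul_assoc]
      _ = k * (k' * z') * (k⁻¹ * z'⁻¹) * k'⁻¹ := by rw [← c1, mul_inv_cancel_right]
      _ = k * k' * (z' * k⁻¹ * z'⁻¹) * k'⁻¹ := by simp only [mul_assoc]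
      _ = _ := by rw [← c2, mul_inv_cancel_right]
  rw [this]
  exact Subgroup.commutator_mem_commutator hk hk'

/-- The commutator of two lifts depends only on their images. -/
theorem comm_transport {Γ : Type*} [Group Γ] (σ : Γ →* G) (hz : σ.ker ≤ Subgroup.center Γ) (u a b a' b' : Γ)
    (ha : σ (u * a * u⁻¹) = σ a') (hb : σ (u * b * u⁻¹) = σ b') (hab : ⁅a, b⁆ ∈ σ.ker) :
    ⁅a', b'⁆ = ⁅a, b⁆ := by
  have hd : ∀ {p q : Γ}, σ p = σ q → ∃ z ∈ σ.ker, q = p * z := fun {p q} h =>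
    ⟨p⁻¹ * q, by rw [MonoidHom.mem_ker, map_mul, map_inv, h, inv_mul_cancel], (mul_inv_cancel_left p q).symm⟩
  obtain ⟨z, hz', rfl⟩ := hd ha
  obtain ⟨z', hz'', rfl⟩ := hd hb
  have c1 : ∀ y, y * z = z * y := fun y => Subgroup.mem_center_iff.mp (hz hz') y
  have c2 : ∀ y, y * z' = z' * y := fun y => Subgroup.mem_center_iff.mp (hz hz'') y
  have hcz : ∀ y, y * ⁅a, b⁆ = ⁅a, b⁆ * y := fun y => Subgroup.mem_center_iff.mp (hz hab) y
  have e : ∀ k k' : Γ, ⁅k * z, k' * z'⁆ = ⁅k, k'⁆ := fun k k' => by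
    rw [commutatorElement_def, commutatorElement_def, mul_inv_rev, mul_inv_rev]
    calc k * z * (k' * z') * (z⁻¹ * k⁻¹) * (z'⁻¹ * k'⁻¹)
        = k * (z * (k' * z') * z⁻¹) * (k⁻¹ * z'⁻¹) * k'⁻¹ := by simp only [mul_assoc]
      _ = k * (k' * z') * (k⁻¹ * z'⁻¹) * k'⁻¹ := by rw [← c1, mul_inv_cancel_right]
      _ = k * k' * (z' * k⁻¹ * z'⁻¹) * k'⁻¹ := by simp only [mul_assoc]
      _ = _ := by rw [← c2, mul_inv_cancel_right]
  rw [e, ← conjugate_commutatorElement, hcz, mul_inv_cancel_right]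

/-- The kernel of a stem extension lies in a cyclic subgroup of order at most two. -/
theorem stem_ker {Γ : Type*} [Group Γ] (σ : Γ →* G) (h : Cfsg.IsStemExtension σ) :
    ∃ e : Γ, e ^ 2 = 1 ∧ σ.ker ≤ Subgroup.zpowers e := by
  obtain ⟨hσ, hz, hcom⟩ := h
  obtain ⟨x, c, hc, hx, hsq, hbr⟩ := exists_lifts σ hσ hz
  have hcc : ∀ g, g * c = c * g := fun g => Subgroup.mem_center_iff.mp (hz hc) g
  set e := ⁅x 0, x 2⁆ with he_def
  have hek : ∀ i j, coxLabel edges7 i j = 2 → ⁅x i, x j⁆ ∈ σ.ker := fun i j hij => by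
    rw [MonoidHom.mem_ker, map_commutatorElement, hx, hx, commutatorElement_eq_one_iff_mul_comm]
    exact t_comm i j hij
  have he : e ∈ σ.ker := hek 0 2 (by decide +kernel)
  have hec : ∀ g, g * e = e * g := fun g => Subgroup.mem_center_iff.mp (hz he) g
  have he2 : e ^ 2 = 1 := by
    have h1 : x 0 * x 2 = e * (x 2 * x 0) := by
      rw [he_def, commutatorElement_def]; group
    have h2 : x 0 * x 0 * x 2 = e * e * (x 2 * (x 0 * x 0)) := by
      rw [mul_assoc, h1, ← mul_assoc (x 0) e, hec, mul_assoc e, ← mul_assoc (x 0) (x 2), h1]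
      simp only [mul_assoc]
    rw [hsq, ← hcc] at h2
    rw [pow_two]
    calc e * e = e * e * (x 2 * c) * (x 2 * c)⁻¹ := by rw [mul_inv_cancel_right]
      _ = 1 := by rw [← h2, mul_inv_cancel]
  refine ⟨e, he2, ?_⟩
  haveI : (Subgroup.zpowers e).Normal := by
    constructor
    intro n hn g
    obtain ⟨k, rfl⟩ := Subgroup.mem_zpowers_iff.mp hn
    rw [← ((show Commute e g from (hec g).symm).zpow_left k).eq, mul_inv_cancel_right]
    exact Subgroup.zpow_mem_zpowers e k
  let π : Γ →* Γ ⧸ Subgroup.zpowers e := QuotientGroup.mk' _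
  have hinv : e⁻¹ = e := inv_eq_of_mul_eq_one_right (by rw [← pow_two, he2])
  have hcm : ∀ i j, coxLabel edges7 i j = 2 → π (x i) * π (x j) = π (x j) * π (x i) := by
    intro i j hij
    have hmem : ⁅x i, x j⁆ ∈ Subgroup.zpowers e := by
      rcases Nat.lt_trichotomy i.1 j.1 with hlt | heq | hgt
      · obtain ⟨g, hg0, hg2⟩ := exists_pair_conj i j hij hlt
        obtain ⟨u, rfl⟩ := hσ g
        rw [comm_transport σ hz u (x 0) (x 2) (x i) (x j) (by simp [hx, hg0]) (by simp [hx, hg2]) he]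
        exact Subgroup.mem_zpowers e
      · rw [Fin.ext heq, commutatorElement_self]; exact one_mem _
      · have hji : coxLabel edges7 j i = 2 := by
          have : ∀ i j : Fin 7, coxLabel edges7 i j = 2 → coxLabel edges7 j i = 2 := by decide +kernel
          exact this i j hij
        obtain ⟨g, hg0, hg2⟩ := exists_pair_conj j i hji hgt
        obtain ⟨u, rfl⟩ := hσ g
        rw [← commutatorElement_inv,
          comm_transport σ hz u (x 0) (x 2) (x j) (x i) (by simp [hx, hg0]) (by simp [hx, hg2]) he,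
          ← he_def, hinv]
        exact Subgroup.mem_zpowers e
    rw [← commutatorElement_eq_one_iff_mul_comm, ← map_commutatorElement]
    exact (QuotientGroup.eq_one_iff _).mpr hmem
  have hπc : π c ∈ Subgroup.center (Γ ⧸ Subgroup.zpowers e) := Subgroup.mem_center_iff.mpr fun y => by
    obtain ⟨g, rfl⟩ := QuotientGroup.mk'_surjective _ y
    rw [← map_mul, ← map_mul, hcc]
  obtain ⟨hfin, hb⟩ := commutator_bound (fun i => π (x i)) (π c) hπc
    (fun i => by rw [← map_mul, hsq]) (fun i j hij => by simp only [← map_mul, hbr i j hij]) hcm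
  set X := Subgroup.closure (Set.range x) with hX
  have hXtop : X.map σ = ⊤ := by
    rw [hX, MonoidHom.map_closure, ← Set.range_comp, ← closure_t]
    rw [show ⇑σ ∘ x = fun i : Fin 7 => t i.1 from funext hx]
  have hperf : commutator Γ = ⊤ := by
    rw [eq_top_iff]
    intro g _
    have h1 : σ g ∈ (commutator Γ).map σ := by
      rw [commutator_def, Subgroup.map_commutator, Subgroup.map_top_of_surjective σ hσ, ← commutator_def,
        commutator_top]
      trivial
    obtain ⟨k, hk, hk'⟩ := h1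
    have h2 : k⁻¹ * g ∈ σ.ker := by rw [MonoidHom.mem_ker, map_mul, map_inv, hk', inv_mul_cancel]
    simpa using mul_mem hk (hcom h2)
  have hXX : (⁅X, X⁆ : Subgroup Γ) = ⊤ :=
    top_unique (hperf ▸ commutator_le_of_map_top σ hz X hXtop)
  have htop : (⁅Subgroup.closure (Set.range fun i => π (x i)),
      Subgroup.closure (Set.range fun i => π (x i))⁆ : Subgroup (Γ ⧸ Subgroup.zpowers e)) = ⊤ := by
    rw [show (fun i => π (x i)) = π ∘ x from rfl, Set.range_comp, ← MonoidHom.map_closure, ← hX,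
      ← Subgroup.map_commutator, hXX, Subgroup.map_top_of_surjective π (QuotientGroup.mk'_surjective _)]
  rw [htop] at hb hfin
  haveI : Finite (Γ ⧸ Subgroup.zpowers e) :=
    Finite.of_equiv _ (Subgroup.topEquiv (G := Γ ⧸ Subgroup.zpowers e)).toEquiv
  rw [Subgroup.card_top] at hb
  have hle : Subgroup.zpowers e ≤ σ.ker := Subgroup.zpowers_le.mpr he
  let τ : Γ ⧸ Subgroup.zpowers e →* G := QuotientGroup.lift _ σ hle
  have hτ : Function.Surjective τ := fun g => by
    obtain ⟨u, hu⟩ := hσ g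
    exact ⟨π u, hu⟩
  have hbij : Function.Bijective τ := hτ.bijective_of_nat_card_le (hb.trans card_G.ge)
  intro g hg
  have h1 : τ (π g) = τ 1 := by rw [map_one]; exact hg
  exact (QuotientGroup.eq_one_iff _).mp (hbij.1 h1)

/-! ### The double cover -/

/-- Matrices of the spin module mod 3. -/
def X (k : ℕ) : Matrix (Fin 8) (Fin 8) (ZMod 3) :=
  Matrix.of fun r j => ((((E7Cliff.rows.getD k []).getD r.1 0) / 3 ^ j.1 % 3 : ℕ) : ZMod 3)

theorem X_sq : ∀ k : Fin 7, X k.1 * X k.1 = -1 := by decide +kernel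

theorem X_braid : ∀ i j : Fin 7, coxLabel edges7 i j = 3 →
    X j.1 * X i.1 * X j.1 = X i.1 * X j.1 * X i.1 := by decide +kernel

theorem X_comm : ∀ i j : Fin 7, coxLabel edges7 i j = 2 → X i.1 * X j.1 = -(X j.1 * X i.1) := by
  decide +kernel

/-- The units. -/
def XU (k : Fin 7) : Matrix.GeneralLinearGroup (Fin 8) (ZMod 3) :=
  ⟨X k.1, -X k.1, by rw [mul_neg, X_sq, neg_neg], by rw [neg_mul, X_sq, neg_neg]⟩

/-- The spin elements paired with the transvections. -/
def h (k : Fin 7) : Matrix.GeneralLinearGroup (Fin 8) (ZMod 3) × G := (XU k, t k.1)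

/-- The central involution. -/
def z0 : Matrix.GeneralLinearGroup (Fin 8) (ZMod 3) × G := (-1, 1)

theorem z0_comm (p : Matrix.GeneralLinearGroup (Fin 8) (ZMod 3) × G) : p * z0 = z0 * p :=
  Prod.ext (Units.ext (show p.1.val * (-1) = (-1) * p.1.val by rw [mul_neg, mul_one, neg_mul, one_mul]))
    ((mul_one _).trans (one_mul _).symm)

theorem z0_sq : z0 * z0 = 1 :=
  Prod.ext (Units.ext (show (-1 : Matrix (Fin 8) (Fin 8) (ZMod 3)) * (-1) = 1 by
    rw [neg_mul, one_mul, neg_neg])) (one_mul 1)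

theorem z0_ne : z0 ≠ 1 := by
  intro h
  have h1 := congrArg (fun p : Matrix.GeneralLinearGroup (Fin 8) (ZMod 3) × G => p.1.val 0 0) h
  simp [z0] at h1
  exact absurd h1 (by decide)

theorem h_sq (k : Fin 7) : h k * h k = z0 := Prod.ext (Units.ext (X_sq k)) (t_sq k)

theorem h_braid (i j : Fin 7) (hij : coxLabel edges7 i j = 3) : h j * h i * h j = h i * h j * h i :=
  Prod.ext (Units.ext (X_braid i j hij)) (t_braid i j hij)

theorem h_comm (i j : Fin 7) (hij : coxLabel edges7 i j = 2) : h i * h j = z0 * (h j * h i) :=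
  Prod.ext (Units.ext (show X i.1 * X j.1 = (-1) * (X j.1 * X i.1) by rw [X_comm i j hij, neg_one_mul]))
    ((t_comm i j hij).trans (one_mul _).symm)

/-- The cover. -/
def Cov : Subgroup (Matrix.GeneralLinearGroup (Fin 8) (ZMod 3) × G) :=
  ⁅Subgroup.closure (Set.range h), Subgroup.closure (Set.range h)⁆

theorem z0_mem : z0 ∈ (⁅Cov, Cov⁆ : Subgroup (Matrix.GeneralLinearGroup (Fin 8) (ZMod 3) × G)) := by
  set H := Subgroup.closure (Set.range h)
  have hmem : ∀ i, h i ∈ H := fun i => Subgroup.subset_closure ⟨i, rfl⟩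
  have conj1 : ∀ i j, coxLabel edges7 i j = 3 → ∃ g ∈ H, h j = g * h i * g⁻¹ := by
    intro i j hij
    refine ⟨h i * h j, mul_mem (hmem i) (hmem j), ?_⟩
    rw [eq_mul_inv_iff_mul_eq, ← mul_assoc, h_braid i j hij]
  have trans' : ∀ {a b c : Matrix.GeneralLinearGroup (Fin 8) (ZMod 3) × G},
      (∃ g ∈ H, b = g * a * g⁻¹) → (∃ g ∈ H, c = g * b * g⁻¹) → ∃ g ∈ H, c = g * a * g⁻¹ := by
    rintro a b c ⟨g, hg, rfl⟩ ⟨g', hg', rfl⟩
    exact ⟨g' * g, mul_mem hg' hg, by group⟩
  have h03 : ∃ g ∈ H, h 3 = g * h 0 * g⁻¹ :=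
    trans' (trans' (conj1 0 1 (by decide +kernel)) (conj1 1 2 (by decide +kernel)))
      (conj1 2 3 (by decide +kernel))
  have h06 : ∃ g ∈ H, h 6 = g * h 0 * g⁻¹ :=
    trans' (trans' (conj1 0 1 (by decide +kernel)) (conj1 1 2 (by decide +kernel)))
      (conj1 2 6 (by decide +kernel))
  have hcz := z0_comm
  have hinCov : ∀ j, (∃ g ∈ H, h j = g * h 0 * g⁻¹) → ∃ u ∈ Cov, h 0 * h j = z0 * u := by
    rintro j ⟨g, hg, hj⟩
    refine ⟨⁅(h 0)⁻¹, g⁆, Subgroup.commutator_mem_commutator (inv_mem (hmem 0)) hg, ?_⟩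
    have h2 : z0 * ⁅(h 0)⁻¹, g⁆ = h 0 * h 0 * ⁅(h 0)⁻¹, g⁆ := by rw [h_sq]
    rw [h2, hj, commutatorElement_def]
    group
  obtain ⟨u, hu, hu'⟩ := hinCov 3 h03
  obtain ⟨v, hv, hv'⟩ := hinCov 6 h06
  have huv : ⁅u, v⁆ = ⁅h 0 * h 3, h 0 * h 6⁆ := by
    rw [hu', hv', ← hcz u, ← hcz v, comm_central u v z0 z0 hcz hcz]
  have hswap : h 0 * h 3 * (h 0 * h 6) = z0 * (h 0 * h 6 * (h 0 * h 3)) := by
    have e30 := h_comm 3 0 (by decide +kernel)
    have e06 := h_comm 0 6 (by decide +kernel)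
    have e36 := h_comm 3 6 (by decide +kernel)
    have e60 := h_comm 6 0 (by decide +kernel)
    have l : h 0 * h 3 * (h 0 * h 6) = z0 * (z0 * (h 3 * h 6)) := by
      calc h 0 * h 3 * (h 0 * h 6) = h 0 * (h 3 * h 0) * h 6 := by simp only [mul_assoc]
        _ = h 0 * z0 * (h 0 * h 3) * h 6 := by rw [e30]; simp only [mul_assoc]
        _ = z0 * ((h 0 * h 0) * (h 3 * h 6)) := by rw [hcz]; simp only [mul_assoc]
        _ = _ := by rw [h_sq]
    have r : h 0 * h 6 * (h 0 * h 3) = z0 * (z0 * (h 6 * h 3)) := by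
      calc h 0 * h 6 * (h 0 * h 3) = h 0 * (h 6 * h 0) * h 3 := by simp only [mul_assoc]
        _ = h 0 * z0 * (h 0 * h 6) * h 3 := by rw [e60]; simp only [mul_assoc]
        _ = z0 * ((h 0 * h 0) * (h 6 * h 3)) := by rw [hcz]; simp only [mul_assoc]
        _ = _ := by rw [h_sq]
    rw [l, r, e36]
  have : ⁅h 0 * h 3, h 0 * h 6⁆ = z0 := by
    rw [commutatorElement_def, show h 0 * h 3 * (h 0 * h 6) * (h 0 * h 3)⁻¹ * (h 0 * h 6)⁻¹ =
      h 0 * h 3 * (h 0 * h 6) * (h 0 * h 6 * (h 0 * h 3))⁻¹ by group, hswap, mul_inv_cancel_right]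
  rw [← this, ← huv]
  exact Subgroup.commutator_mem_commutator hu hv

theorem exists_cover : ∃ (Γ : Type) (_ : Group Γ) (_ : Finite Γ) (σ : Γ →* G),
    Cfsg.IsStemExtension σ ∧ Nonempty (σ.ker ≃* Multiplicative (ZMod 2)) := by
  haveI : Finite G := Nat.finite_of_card_ne_zero (by rw [card_G]; norm_num)
  let σ : Cov →* G := (MonoidHom.snd _ _).comp Cov.subtype
  set H := Subgroup.closure (Set.range h) with hH
  have hHtop : H.map (MonoidHom.snd _ _) = ⊤ := by
    rw [hH, MonoidHom.map_closure, ← Set.range_comp, ← closure_t]; rfl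
  have hσ : Function.Surjective σ := by
    rw [← MonoidHom.range_eq_top, MonoidHom.range_comp, Subgroup.range_subtype, Cov, ← hH,
      Subgroup.map_commutator, hHtop, ← commutator_def, commutator_top]
  haveI hn : (Subgroup.zpowers z0).Normal := by
    constructor
    intro n hn g
    obtain ⟨k, rfl⟩ := Subgroup.mem_zpowers_iff.mp hn
    rw [← ((show Commute z0 g from (z0_comm g).symm).zpow_left k).eq, mul_inv_cancel_right]
    exact Subgroup.zpow_mem_zpowers z0 k
  let π := QuotientGroup.mk' (Subgroup.zpowers z0)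
  have hπz : π z0 = 1 := (QuotientGroup.eq_one_iff _).mpr (Subgroup.mem_zpowers z0)
  obtain ⟨hfin, hb⟩ := commutator_bound (fun i => π (h i)) 1 (one_mem _)
    (fun i => by rw [← map_mul, h_sq, hπz]) (fun i j hij => by simp only [← map_mul, h_braid i j hij])
    (fun i j hij => by rw [← map_mul, h_comm i j hij, map_mul, hπz, one_mul, map_mul])
  have himg : (⁅Subgroup.closure (Set.range fun i => π (h i)),
      Subgroup.closure (Set.range fun i => π (h i))⁆ : Subgroup _) = Cov.map π := by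
    rw [Cov, ← hH, Subgroup.map_commutator, hH, MonoidHom.map_closure, ← Set.range_comp]
    rfl
  rw [himg] at hb hfin
  have hz0 : z0 ∈ Cov := Subgroup.commutator_le_self Cov z0_mem
  set w : Cov := ⟨z0, hz0⟩
  have hker : σ.ker = Subgroup.zpowers w := by
    refine le_antisymm ?_ (Subgroup.zpowers_le.mpr rfl)
    intro g hg
    let τ : Cov →* (Cov.map π : Subgroup _) := π.subgroupMap Cov
    have hτs : Function.Surjective τ := π.subgroupMap_surjective Cov
    have hle : τ.ker ≤ σ.ker := by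
      intro a ha
      have h1 : π a.1 = 1 := congrArg Subtype.val ha
      obtain ⟨k, hk⟩ := Subgroup.mem_zpowers_iff.mp ((QuotientGroup.eq_one_iff _).mp h1)
      show a.1.2 = 1
      rw [← hk, Prod.pow_snd]
      exact one_zpow k
    have heq : τ.ker = σ.ker := by
      refine Subgroup.eq_of_le_of_card_ge hle ?_
      have e1 := Subgroup.card_eq_card_quotient_mul_card_subgroup τ.ker
      have e2 := Subgroup.card_eq_card_quotient_mul_card_subgroup σ.ker
      rw [Nat.card_congr (QuotientGroup.quotientKerEquivOfSurjective τ hτs).toEquiv] at e1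
      rw [Nat.card_congr (QuotientGroup.quotientKerEquivOfSurjective σ hσ).toEquiv, card_G] at e2
      have := Nat.mul_le_mul_right (Nat.card τ.ker) hb
      have h3 : 1451520 * Nat.card σ.ker ≤ 1451520 * Nat.card τ.ker := by omega
      exact Nat.le_of_mul_le_mul_left h3 (by norm_num)
    rw [← heq] at hg
    have h1 : π g.1 = 1 := congrArg Subtype.val hg
    obtain ⟨k, hk⟩ := Subgroup.mem_zpowers_iff.mp ((QuotientGroup.eq_one_iff _).mp h1)
    exact ⟨k, Subtype.ext hk⟩
  have hwc : ∀ y : Cov, y * w = w * y := fun y => Subtype.ext (z0_comm y.1)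
  have hw2 : orderOf w = 2 :=
    orderOf_eq_prime (Subtype.ext (show z0 ^ 2 = 1 by rw [pow_two, z0_sq]))
      (fun h => z0_ne (congrArg Subtype.val h))
  refine ⟨Cov, inferInstance, inferInstance, σ, ⟨hσ, ?_, ?_⟩, ⟨?_⟩⟩
  · rw [hker, Subgroup.zpowers_le]; exact Subgroup.mem_center_iff.mpr hwc
  · rw [hker, Subgroup.zpowers_le]
    have h1 : z0 ∈ (commutator Cov).map Cov.subtype := by
      rw [commutator_def, Subgroup.map_commutator, ← MonoidHom.range_eq_map, Subgroup.range_subtype]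
      exact z0_mem
    obtain ⟨y, hy, hy'⟩ := h1
    rwa [show w = y from Subtype.ext hy'.symm]
  · haveI : IsCyclic σ.ker := by rw [hker]; infer_instance
    refine mulEquivOfCyclicCardEq ?_
    rw [hker, Nat.card_zpowers, hw2]
    exact (Nat.card_zmod 2).symm

theorem result_two : Cfsg.HasCyclicSchurMultiplier G 2 := by
  refine ⟨exists_cover, fun Γ _ _ σ hσ => ?_⟩
  obtain ⟨e, he2, hle⟩ := stem_ker σ hσ
  exact Schur.exists_surjective_zmod_of_le_zpowers σ.ker 2 hle he2

theorem map_mem {R S : Type*} [CommRing R] [CommRing S] (f : R →+* S)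
    (A : Matrix (Fin 3 ⊕ Fin 3) (Fin 3 ⊕ Fin 3) R) (hA : A ∈ Matrix.symplecticGroup (Fin 3) R) :
    A.map f ∈ Matrix.symplecticGroup (Fin 3) S := by
  rw [SymplecticGroup.mem_iff] at hA ⊢
  have hJ : (Matrix.J (Fin 3) R).map f = Matrix.J (Fin 3) S := by
    ext i j
    rcases i with i | i <;> rcases j with j | j <;>
      simp [Matrix.J, Matrix.one_apply, apply_ite f]
  rw [← hJ, ← Matrix.transpose_map, ← Matrix.map_mul, ← Matrix.map_mul, hA]

/-- Change of the field. -/
theorem result_field {F : Type*} [Field F] [Fintype F] (hF : Fintype.card F = 2) :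
    Cfsg.HasCyclicSchurMultiplier (Cfsg.PSp 3 F) 2 := by
  classical
  let ε : ZMod 2 ≃+* F := ZMod.ringEquivOfPrime F Nat.prime_two hF
  let φ : G →* Matrix.symplecticGroup (Fin 3) F :=
    { toFun := fun A => ⟨A.1.map ε, map_mem (ε : ZMod 2 →+* F) A.1 A.2⟩
      map_one' := Subtype.ext (Matrix.map_one ε (map_zero ε) (map_one ε))
      map_mul' := fun A B => Subtype.ext (Matrix.map_mul (L := A.1) (M := B.1) (f := (ε : ZMod 2 →+* F))) }
  have hφ : Function.Bijective φ := by
    constructor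
    · intro A B h
      refine Subtype.ext (Matrix.ext fun i j => ε.injective ?_)
      exact congrFun (congrFun (congrArg Subtype.val h) i) j
    · intro B
      refine ⟨⟨B.1.map ε.symm, map_mem (ε.symm : F →+* ZMod 2) B.1 B.2⟩, Subtype.ext (Matrix.ext fun i j => ?_)⟩
      exact ε.apply_symm_apply _
  have hc : Subgroup.center (Matrix.symplecticGroup (Fin 3) F) = ⊥ := by
    refine Subgroup.eq_bot_of_card_eq _ ?_
    rw [AutPSp.card_center (show 2 ≤ 3 by norm_num), hF]
    rfl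
  let e : G ≃* Cfsg.PSp 3 F := (MulEquiv.ofBijective φ hφ).trans
    ((QuotientGroup.quotientBot.symm).trans (QuotientGroup.quotientMulEquivOfEq hc.symm))
  obtain ⟨⟨Γ, _, _, σ, ⟨h1, h2, h3⟩, ⟨κ⟩⟩, hup⟩ := result_two
  have hk : (e.toMonoidHom.comp σ).ker = σ.ker := by
    ext x
    simp [MonoidHom.mem_ker]
  refine ⟨⟨ULift Γ, inferInstance, inferInstance, (e.toMonoidHom.comp σ).comp (MulEquiv.ulift (α := Γ)).toMonoidHom,
    ⟨(e.surjective.comp h1).comp (MulEquiv.ulift (α := Γ)).surjective, ?_, ?_⟩, ?_⟩, ?_⟩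
  · intro x hx
    have hx' : x.down ∈ σ.ker := by rw [← hk]; exact hx
    exact Subgroup.mem_center_iff.2 fun y => ULift.ext _ _ (Subgroup.mem_center_iff.1 (h2 hx') y.down)
  · intro x hx
    have hx' : x.down ∈ σ.ker := by rw [← hk]; exact hx
    have h := Subgroup.mem_map_of_mem (MulEquiv.ulift (α := Γ)).symm.toMonoidHom (h3 hx')
    rw [commutator_def, Subgroup.map_commutator,
      Subgroup.map_top_of_surjective _ (MulEquiv.ulift (α := Γ)).symm.surjective] at h
    exact h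
  · refine ⟨MulEquiv.trans ?_ κ⟩
    exact
      { toFun := fun x => ⟨x.1.down, by rw [← hk]; exact x.2⟩
        invFun := fun x => ⟨ULift.up x.1, by
          show x.1 ∈ (e.toMonoidHom.comp σ).ker
          rw [hk]; exact x.2⟩
        left_inv := fun _ => rfl
        right_inv := fun _ => rfl
        map_mul' := fun _ _ => rfl }
  · intro Γ' _ _ σ' hσ'
    obtain ⟨g1, g2, g3⟩ := hσ'
    have hk' : (e.symm.toMonoidHom.comp σ').ker = σ'.ker := by
      ext x
      simp [MonoidHom.mem_ker]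
    obtain ⟨ee, he2, hle⟩ := stem_ker (e.symm.toMonoidHom.comp σ')
      ⟨e.symm.surjective.comp g1, hk'.symm ▸ g2, hk'.symm ▸ g3⟩
    rw [hk'] at hle
    exact Schur.exists_surjective_zmod_of_le_zpowers σ'.ker 2 hle he2

end Cfsg.Agent.Presented.Sp6Mult
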