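import Cfsg.Agent.Lib.Presented.SuzHWords

/-!
# The permutations of 1782 points given by the presented Suzuki group
-/

set_option autoImplicit false
set_option maxRecDepth 20000

namespace Cfsg.Agent.Presented.SuzAct

open Cfsg.Spor SuzIndex SuzPoints SuzHWords

local notation "D" => SuzC1782.cert

/-- The permutation action on the table. -/
noncomputable def tabHom : Suz →* Equiv.Perm (Fin (D).N) :=
  (tab.symm.permCongrHom).toMonoidHom.comp (MulAction.toPermHom Suz (Suz ⧸ hSub))

theorem tabHom_apply (x : Suz) (i : Fin (D).N) : tab (tabHom x i) = x • tab i := by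
  simp [tabHom, Equiv.permCongrHom, Equiv.permCongr_apply]

theorem tabHom_wval {w : List ℕ} (hw : ∀ g ∈ w, g < 7) (i : Fin (D).N) :
    ((tabHom (wval gen w) i : Fin (D).N) : ℕ) = (D).path w i := by
  have h := tabHom_apply (wval gen w) i
  rw [smul_word w hw] at h
  exact congrArg Fin.val (tab.injective h)

theorem tabHom_gen {g : ℕ} (hg : g < 7) (i : Fin (D).N) :
    ((tabHom (gen g) i : Fin (D).N) : ℕ) = (D).actOf i g := by
  have h := tabHom_wval (w := [g]) (by simpa using hg) i
  simpa [wval] using h

theorem tabHom_injective : Function.Injective tabHom := by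
  haveI := SuzOrder.simple_suz
  rcases (inferInstance : (tabHom.ker).Normal).eq_bot_or_eq_top with h | h
  · exact (MonoidHom.ker_eq_bot_iff _).1 h
  · exfalso
    have h1 : ∀ i : Fin (D).N, ((tabHom (gen 6) i : Fin (D).N) : ℕ) = i := fun i => by
      rw [MonoidHom.mem_ker.1 (h ▸ Subgroup.mem_top (gen 6))]; rfl
    have h0 := h1 ⟨0, by decide +kernel⟩
    rw [tabHom_gen (by norm_num)] at h0
    exact absurd h0 (by decide +kernel)

/-- The permutations given by `⟨a, …, f⟩`. -/
noncomputable def pi6 : hSub →* Equiv.Perm (Fin (D).N) := tabHom.comp hSub.subtype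

theorem pi6_wval {w : List ℕ} (hw : ∀ g ∈ w, g < 6) (i : Fin (D).N) :
    ((pi6 (wval s6 w) i : Fin (D).N) : ℕ) = (D).path w i := by
  rw [pi6, MonoidHom.comp_apply, Subgroup.coe_subtype, coe_wval hw]
  exact tabHom_wval (fun g hg => (hw g hg).trans (by norm_num)) i

/-- The action of `⟨a, …, f⟩` on the table. -/
@[reducible] noncomputable def act6 : MulAction hSub (Fin (D).N) := MulAction.compHom _ pi6

theorem pi6_zero (h : hSub) (i : Fin (D).N) (hi : (i : ℕ) = 0) : pi6 h i = i := by
  refine tab.injective ?_
  rw [pi6, MonoidHom.comp_apply, tabHom_apply, tab_zero i hi, Subgroup.coe_subtype,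
    MulAction.Quotient.smul_mk, smul_eq_mul, mul_one, QuotientGroup.eq, mul_one]
  exact inv_mem h.2

end Cfsg.Agent.Presented.SuzAct
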