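import Cfsg.Agent.Lib.Presented.SuzOrder
import Cfsg.Agent.Lib.Presented.Data.SuzCentData

/-!
# An involution centraliser in the presented Suzuki group: the upper bound

The generator `a` has at least 4095 conjugates under `G₂(4)` and fixes 54 of the 1782 cosets, so that
its centraliser has at most `54 · 61440 = 3317760` elements.
-/

set_option autoImplicit false
set_option maxRecDepth 20000
set_option linter.style.haveILetI false

namespace Cfsg.Agent.Presented.SuzCent

open Cfsg.Spor Cfsg.Agent.Presented SuzIndex SuzCentData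

/-- The involution. -/
def zinv : Suz := gen 0

/-- The images of the base. -/
noncomputable def keyOf (w : List ℕ) : List ℕ :=
  [SuzC1782.cert.path w 0, SuzC1782.cert.path w 943, SuzC1782.cert.path w 24,
    SuzC1782.cert.path w 8, SuzC1782.cert.path w 14]

/-- The key of a word as a number. -/
noncomputable def numKey (w : List ℕ) : ℕ :=
  SuzC1782.cert.path w 0 + 2048 * (SuzC1782.cert.path w 943 + 2048 * (SuzC1782.cert.path w 24 +
    2048 * (SuzC1782.cert.path w 8 + 2048 * SuzC1782.cert.path w 14)))

/-- A word from its code. -/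
def decW : ℕ → ℕ → List ℕ
  | 0, _ => []
  | k + 1, n => bif Nat.beq n 0 then [] else (Nat.sub (n % 8) 1) :: decW k (n / 8)

/-- The conjugating word number `t`. -/
noncomputable def cw (t : ℕ) : List ℕ := decW 22 (clsWords.get 64 t)

/-- The word of a conjugate. -/
noncomputable def conjW (t : ℕ) : List ℕ := force (clsWords.get 64 t) fun n => (decW 22 n).reverse ++ [0] ++ decW 22 n

/-- The conjugates are in strictly increasing order of their keys, by letters of the subgroup. -/
noncomputable def clsOK (t : ℕ) : Bool :=
  ((cw t).all fun g => Nat.blt g 6) && Nat.blt (numKey (conjW t)) (numKey (conjW (t + 1)))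

theorem cls_0 : checkBlock clsOK 4094 9 0 = true := by decide +kernel
theorem cls_1 : checkBlock clsOK 4094 9 512 = true := by decide +kernel
theorem cls_2 : checkBlock clsOK 4094 9 1024 = true := by decide +kernel
theorem cls_3 : checkBlock clsOK 4094 9 1536 = true := by decide +kernel
theorem cls_4 : checkBlock clsOK 4094 9 2048 = true := by decide +kernel
theorem cls_5 : checkBlock clsOK 4094 9 2560 = true := by decide +kernel
theorem cls_6 : checkBlock clsOK 4094 9 3072 = true := by decide +kernel
theorem cls_7 : checkBlock clsOK 4094 9 3584 = true := by decide +kernel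

theorem cls_check : checkBelow clsOK 12 4094 = true :=
  checkBelow_of_block rfl (checkBlock_join 11 (checkBlock_join 10 (checkBlock_join 9 cls_0 cls_1)
    (checkBlock_join 9 cls_2 cls_3)) (checkBlock_join 10 (checkBlock_join 9 cls_4 cls_5)
    (checkBlock_join 9 cls_6 cls_7)))

theorem cls_last : ((cw 4094).all fun g => Nat.blt g 6) = true := by decide +kernel

theorem cw_lt {t : ℕ} (ht : t < 4095) : ∀ g ∈ cw t, g < 6 := by
  intro g hg
  rcases Nat.lt_or_ge t 4094 with h | h
  · have := checkBelow_spec cls_check t h
    simp only [clsOK, Bool.and_eq_true, List.all_eq_true, Nat.blt_eq] at this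
    exact this.1 g hg
  · obtain rfl : t = 4094 := by omega
    have := cls_last
    simp only [List.all_eq_true, Nat.blt_eq] at this
    exact this g hg

theorem wval_reverse : ∀ w : List ℕ, wval gen w.reverse = (wval gen w)⁻¹
  | [] => by simp [wval]
  | g :: w => by
    rw [List.reverse_cons, wval_append, wval_reverse w]
    show wval gen [g] * (wval gen w)⁻¹ = (wval gen w * gen g)⁻¹
    rw [show wval gen [g] = gen g from one_mul _, mul_inv_rev,
      inv_eq_of_mul_eq_one_right (genFun_mul_self gens_all gens_ok g)]

theorem wval_conj (w u : List ℕ) :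
    wval gen (w.reverse ++ u ++ w) = wval gen w * wval gen u * (wval gen w)⁻¹ := by
  rw [wval_append, wval_append, wval_reverse, mul_assoc]

theorem wval_zero : wval gen [0] = zinv := one_mul _

theorem orderOf_zinv : orderOf zinv = 2 := by
  haveI := Fact.mk Nat.prime_two
  refine orderOf_eq_prime ?_ ?_
  · rw [pow_two]; exact genFun_mul_self gens_all gens_ok 0
  · intro h
    obtain ⟨e, -, he⟩ := exists_table
    have hN : 1781 < SuzC1782.cert.N := by decide +kernel
    have hlt : ∀ g ∈ ([0] : List ℕ), g < SuzC1782.cert.m := by decide +kernel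
    have hm : ∃ i : Fin 1782, SuzC1782.cert.path [0] i.1 ≠ i.1 := by decide +kernel
    obtain ⟨i, hi⟩ := hm
    have h1 := CosetCert.smul_path SuzC1782.cert_edgesOK SuzC1782.cert_nodesOK e he _ hlt
      ⟨i.1, lt_of_le_of_lt (Nat.le_of_lt_succ i.2) hN⟩
    rw [wval_zero, h, one_smul] at h1
    exact hi (congrArg Fin.val (e.injective h1)).symm

theorem zinv_mem : zinv ∈ hSub := by
  rw [hSub_eq_closure]
  exact Subgroup.subset_closure ⟨[0], by simp, wval_zero.symm⟩

theorem word_mem_hSub : ∀ {w : List ℕ}, (∀ g ∈ w, g < 6) → wval gen w ∈ hSub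
  | [], _ => one_mem _
  | g :: w, h => by
    refine mul_mem (word_mem_hSub fun x hx => h x (List.mem_cons_of_mem _ hx)) ?_
    rw [hSub_eq_closure]
    refine Subgroup.subset_closure ⟨[g], ?_, (one_mul _).symm⟩
    have := h g List.mem_cons_self
    interval_cases g <;> decide

theorem centralizer_hSub_le :
    Nat.card (Subgroup.centralizer ({⟨zinv, zinv_mem⟩} : Set hSub)) ≤ 61440 := by
  haveI : Finite Suz := SuzOrder.finite_suz
  obtain ⟨e, -, he⟩ := exists_table
  set d : hSub := ⟨zinv, zinv_mem⟩
  let c : Fin 4095 → hSub := fun t => ⟨wval gen (cw t), word_mem_hSub (cw_lt t.2)⟩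
  have hmono : StrictMono fun t : Fin 4095 => numKey (conjW t) := by
    refine Fin.strictMono_iff_lt_succ.2 fun t => ?_
    have := checkBelow_spec cls_check t t.2
    simp only [clsOK, Bool.and_eq_true, Nat.blt_eq] at this
    simpa using this.2
  have hval : ∀ t : Fin 4095, (((c t * d * (c t)⁻¹ : hSub)) : Suz) = wval gen (conjW t) := by
    intro t
    rw [conjW, force_eq, wval_conj, wval_zero]
    rfl
  have hlt : ∀ t : Fin 4095, ∀ g ∈ conjW t, g < SuzC1782.cert.m := by
    intro t g hg
    rw [conjW, force_eq] at hg
    have hm : SuzC1782.cert.m = 7 := by decide +kernel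
    simp only [List.mem_append, List.mem_reverse, List.mem_singleton] at hg
    rcases hg with (hg | rfl) | hg
    · have := cw_lt t.2 g hg; omega
    · omega
    · have := cw_lt t.2 g hg; omega
  let F : Fin 4095 → hSub ⧸ Subgroup.centralizer ({d} : Set hSub) := fun t => QuotientGroup.mk (c t)
  have hF : Function.Injective F := by
    intro t u htu
    have hq := QuotientGroup.eq.1 htu
    rw [Subgroup.mem_centralizer_singleton_iff] at hq
    have hab : c t * d * (c t)⁻¹ = c u * d * (c u)⁻¹ := by
      calc c t * d * (c t)⁻¹ = c t * (d * ((c t)⁻¹ * c u)) * (c u)⁻¹ := by group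
        _ = c t * (((c t)⁻¹ * c u) * d) * (c u)⁻¹ := by rw [hq]
        _ = c u * d * (c u)⁻¹ := by group
    refine hmono.injective ?_
    have hN : 943 < SuzC1782.cert.N := by decide +kernel
    have key : ∀ p, p ≤ 943 → SuzC1782.cert.path (conjW t) p = SuzC1782.cert.path (conjW u) p := by
      intro p hp
      have h1 := CosetCert.smul_path SuzC1782.cert_edgesOK SuzC1782.cert_nodesOK e he _ (hlt t)
        ⟨p, lt_of_le_of_lt hp hN⟩
      rw [← hval, hab, hval, CosetCert.smul_path SuzC1782.cert_edgesOK SuzC1782.cert_nodesOK e he _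
        (hlt u) ⟨p, lt_of_le_of_lt hp hN⟩] at h1
      exact (congrArg Fin.val (e.injective h1)).symm
    simp only [numKey]
    rw [key 0 (by omega), key 943 le_rfl, key 24 (by omega), key 8 (by omega), key 14 (by omega)]
  have h1 := Nat.card_le_card_of_injective F hF
  rw [Nat.card_eq_fintype_card, Fintype.card_fin] at h1
  have h2 := (Subgroup.centralizer ({d} : Set hSub)).card_mul_index
  rw [SuzOrder.card_hSub] at h2
  have h3 : 4095 ≤ (Subgroup.centralizer ({d} : Set hSub)).index := h1
  nlinarith

theorem fixed_count :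
    countBlock (fun i => Nat.beq (SuzC1782.cert.path [0] i) i) SuzC1782.cert.N 11 0 ≤ 54 := by
  decide +kernel

theorem centralizer_le : Nat.card (Subgroup.centralizer ({zinv} : Set Suz)) ≤ 3317760 := by
  classical
  haveI : Finite Suz := SuzOrder.finite_suz
  obtain ⟨e, -, he⟩ := exists_table
  set C := Subgroup.centralizer ({zinv} : Set Suz)
  set x₀ : Suz ⧸ hSub := QuotientGroup.mk 1
  have hlt : ∀ g ∈ ([0] : List ℕ), g < SuzC1782.cert.m := by decide +kernel
  set S := Finset.univ.filter fun i : Fin SuzC1782.cert.N => SuzC1782.cert.path [0] i = i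
  have hS : S.card ≤ 54 := by
    refine le_trans ?_ fixed_count
    rw [countBlock_spec]
    refine Finset.card_le_card_of_injOn Fin.val ?_ Fin.val_injective.injOn
    intro i hi
    have hN : SuzC1782.cert.N ≤ 2 ^ 11 := by decide +kernel
    simp only [S, Finset.coe_filter, Finset.mem_univ, true_and, Set.mem_setOf_eq] at hi
    simp only [Finset.coe_filter, Finset.mem_Ico, Set.mem_setOf_eq, Nat.beq_eq]
    exact ⟨⟨Nat.zero_le _, lt_of_lt_of_le i.2 (by simpa using hN)⟩, i.2, hi⟩
  have horb : MulAction.orbit C x₀ ⊆ e '' (S : Set (Fin SuzC1782.cert.N)) := by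
    rintro x ⟨⟨g, hg⟩, rfl⟩
    refine ⟨e.symm (g • x₀), ?_, e.apply_symm_apply _⟩
    have h0 : zinv • x₀ = x₀ := by
      show QuotientGroup.mk (zinv * 1) = QuotientGroup.mk 1
      rw [QuotientGroup.eq, mul_one, mul_one]
      exact hSub.inv_mem zinv_mem
    have hfix : zinv • (g • x₀) = g • x₀ := by
      rw [smul_smul, ← Subgroup.mem_centralizer_singleton_iff.1 hg, ← smul_smul, h0]
    have h1 := CosetCert.smul_path SuzC1782.cert_edgesOK SuzC1782.cert_nodesOK e he _ hlt (e.symm (g • x₀))
    rw [wval_zero, e.apply_symm_apply, hfix] at h1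
    simp only [S, Finset.coe_filter, Finset.mem_univ, true_and, Set.mem_setOf_eq]
    have h2 := congrArg e.symm h1
    rw [Equiv.symm_apply_apply] at h2
    exact (congrArg Fin.val h2).symm
  have h54 : Nat.card (MulAction.orbit C x₀) ≤ 54 := by
    rw [Nat.card_coe_set_eq]
    refine (Set.ncard_le_ncard horb).trans ?_
    rw [Set.ncard_image_of_injective _ e.injective, Set.ncard_coe_finset]
    exact hS
  have hst : Nat.card (MulAction.stabilizer C x₀) ≤ 61440 := by
    refine le_trans ?_ centralizer_hSub_le
    have hmem : ∀ a : MulAction.stabilizer C x₀, ((a : C) : Suz) ∈ hSub := fun a => by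
      have h := MulAction.mem_stabilizer_iff.1 a.2
      change QuotientGroup.mk ((((a : C) : Suz)) * 1) = QuotientGroup.mk 1 at h
      rw [QuotientGroup.eq, mul_one, mul_one] at h
      exact inv_mem_iff.1 h
    refine Nat.card_le_card_of_injective (fun a => ⟨⟨_, hmem a⟩, ?_⟩) ?_
    · rw [Subgroup.mem_centralizer_singleton_iff]
      exact Subtype.ext (Subgroup.mem_centralizer_singleton_iff.1 (a : C).2)
    · intro a b hab
      exact Subtype.ext (Subtype.ext (congrArg (fun x => ((x.1 : hSub) : Suz)) hab))
  rw [← Nat.card_congr (MulAction.orbitProdStabilizerEquivGroup C x₀), Nat.card_prod]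
  exact le_trans (Nat.mul_le_mul h54 hst) le_rfl

end Cfsg.Agent.Presented.SuzCent
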