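import Cfsg.Agent.Lib.Presented.SuzJ2
import Cfsg.Agent.Lib.Presented.HeMult
import Cfsg.Agent.Lib.Presented.Data.SuzT416Lin
import Cfsg.Agent.Lib.Presented.Data.SuzC1782Lin
import Cfsg.Agent.Lib.HallJanko.Simple

/-!
# Kernels of stem extensions of the presented Suzuki group have order dividing 6

The derived group of the preimage of `⟨a, …, e⟩ ≅ J₂` meets the kernel in order at most two.  Modulo that,
linear certificates on 416 and 1782 cosets split the preimage of `G₂(4)` and leave a central element of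
exponent three.
-/

set_option autoImplicit false
set_option maxRecDepth 20000

namespace Cfsg.Agent.Presented.SuzMultBound

open Cfsg.Spor SuzIndex
open SuzJ2 (jSub)
open HeMult (fromBase wval_fromBase)
open scoped commutatorElement

/-- A table whose number of cosets is the index is in bijection with the cosets. -/
theorem table_equiv_of_card {G : Type*} [Group G] {s : ℕ → G} {D : CosetCert} (he : D.edgesOK = true)
    (hn : D.nodesOK = true) (H : Subgroup G) (hs : ∀ g, g < D.m → s g * s g = 1)
    (hR : ∀ w ∈ D.words.take D.nR, wval s w = 1) (hK : ∀ w ∈ D.words.drop D.nR, wval s w ∈ H)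
    (hgen : Subgroup.closure (s '' {g | g < D.m}) = ⊤) (hcard : Nat.card (G ⧸ H) = D.N) :
    ∃ e : Fin D.N ≃ G ⧸ H, (∀ i : Fin D.N, (i : ℕ) = 0 → e i = QuotientGroup.mk 1) ∧
      ∀ g (hg : g < D.m) (i : Fin D.N),
        s g • e i = e ⟨D.actOf i g, CosetCert.actOf_lt he hn i.2 hg⟩ := by
  obtain ⟨c, hc0, hc⟩ := CosetCert.exists_cosets (s := s) hn H
  have good : ∀ i g, i < D.N → g < D.m → s g • c i = c (D.actOf i g) := fun i g hi hg =>
    CosetCert.edge_good he hn H hs hR hK hc0 hc _ i g hi hg D.rankOf_lt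
  have hn' := hn
  simp only [CosetCert.nodesOK, Bool.and_eq_true, Nat.blt_eq] at hn'
  have hsurj : Function.Surjective (fun i : Fin D.N => c i) := by
    have key : ∀ a ∈ Subgroup.closure (s '' {g | g < D.m}), ∀ x ∈ Set.range (fun i : Fin D.N => c i),
        a • x ∈ Set.range (fun i : Fin D.N => c i) := by
      intro a ha
      induction ha using Subgroup.closure_induction'' with
      | mem y hy =>
        obtain ⟨g, hg, rfl⟩ := hy
        rintro _ ⟨i, rfl⟩
        exact ⟨⟨D.actOf i g, CosetCert.actOf_lt he hn i.2 hg⟩, (good i g i.2 hg).symm⟩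
      | inv_mem y hy =>
        obtain ⟨g, hg, rfl⟩ := hy
        rintro _ ⟨i, rfl⟩
        rw [inv_eq_of_mul_eq_one_left (hs g hg)]
        exact ⟨⟨D.actOf i g, CosetCert.actOf_lt he hn i.2 hg⟩, (good i g i.2 hg).symm⟩
      | one => intro x hx; rwa [one_smul]
      | mul a b _ _ iha ihb => intro x hx; rw [mul_smul]; exact iha _ (ihb x hx)
    intro x
    induction x using QuotientGroup.induction_on with
    | H a =>
      obtain ⟨i, hi⟩ := key a (hgen ▸ Subgroup.mem_top a) _ ⟨⟨0, hn'.1.2⟩, rfl⟩
      exact ⟨i, hi.trans (by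
        show a • c 0 = _
        rw [hc0, MulAction.Quotient.smul_mk, smul_eq_mul, mul_one])⟩
  have hbij : Function.Bijective (fun i : Fin D.N => c i) :=
    (Nat.bijective_iff_surjective_and_card _).2 ⟨hsurj, by rw [Nat.card_eq_fintype_card, Fintype.card_fin, hcard]⟩
  refine ⟨Equiv.ofBijective _ hbij, fun i hi => ?_, fun g hg i => good i g i.2 hg⟩
  show c i = _
  rw [hi, hc0]

theorem perfect_suz : commutator Suz = ⊤ := by
  haveI := SuzOrder.simple_suz
  rcases (inferInstance : (commutator Suz).Normal).eq_bot_or_eq_top with h | h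
  · exfalso
    haveI : Finite Suz := SuzOrder.finite_suz
    letI : CommGroup Suz := { (inferInstance : Group Suz) with
      mul_comm := fun a b => by
        have hab : ⁅a, b⁆ = (1 : Suz) := by
          rw [← Subgroup.mem_bot, ← h, commutator_def]
          exact Subgroup.commutator_mem_commutator (Subgroup.mem_top a) (Subgroup.mem_top b)
        exact commutatorElement_eq_one_iff_mul_comm.mp hab }
    have hp : (Nat.card Suz).Prime := IsSimpleGroup.prime_card
    rw [SuzOrder.card_suz] at hp
    rcases hp.eq_one_or_self_of_dvd 2 (by norm_num) with h2 | h2 <;> omega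
  · exact h

theorem perfect_q100 : commutator HJ.Q100 = ⊤ := by
  haveI : IsSimpleGroup HJ.P := HJ.isSimple_P
  haveI : IsSimpleGroup HJ.Q100 := by
    haveI : Nontrivial HJ.Q100 := Finite.one_lt_card_iff_nontrivial.mp (by rw [HJ.card_Q100]; norm_num)
    exact IsSimpleGroup.isSimpleGroup_of_surjective HJ.iso100.toMonoidHom HJ.iso100.surjective
  rcases (inferInstance : (commutator HJ.Q100).Normal).eq_bot_or_eq_top with h | h
  · exfalso
    letI : CommGroup HJ.Q100 := { (inferInstance : Group HJ.Q100) with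
      mul_comm := fun a b => by
        have hab : ⁅a, b⁆ = (1 : HJ.Q100) := by
          rw [← Subgroup.mem_bot, ← h, commutator_def]
          exact Subgroup.commutator_mem_commutator (Subgroup.mem_top a) (Subgroup.mem_top b)
        exact commutatorElement_eq_one_iff_mul_comm.mp hab }
    have hp : (Nat.card HJ.Q100).Prime := IsSimpleGroup.prime_card
    rw [HJ.card_Q100] at hp
    rcases hp.eq_one_or_self_of_dvd 2 (by norm_num) with h2 | h2 <;> omega
  · exact h

theorem jSub_le : jSub ≤ hSub := by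
  rw [jSub, Subgroup.closure_le]
  rintro _ ⟨g, hg, rfl⟩
  rw [hSub_eq_closure]
  refine Subgroup.subset_closure ⟨[g], ?_, by simp [wval]⟩
  have hg' : g < 5 := hg
  interval_cases g <;> simp

theorem closure_gen6 : Subgroup.closure (gen '' {g | g < 6}) = hSub := by
  rw [hSub_eq_closure]
  congr 1
  ext x
  constructor
  · rintro ⟨g, hg, rfl⟩
    have hg' : g < 6 := hg
    refine ⟨[g], ?_, by simp [wval]⟩
    interval_cases g <;> simp
  · rintro ⟨k, hk, rfl⟩
    simp only [List.mem_cons, List.not_mem_nil, or_false] at hk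
    obtain ⟨g, hg, rfl⟩ : ∃ g < 6, k = [g] := by
      rcases hk with rfl | rfl | rfl | rfl | rfl | rfl <;> exact ⟨_, by norm_num, rfl⟩
    exact ⟨g, hg, by simp [wval]⟩

theorem map_commutator_eq {Γ G : Type*} [Group Γ] [Group G] {σ : Γ →* G} (hs : Function.Surjective σ)
    {H : Subgroup G} (hH : ⁅H, H⁆ = H) : (⁅H.comap σ, H.comap σ⁆).map σ = H := by
  rw [Subgroup.map_commutator, Subgroup.map_comap_eq_self_of_surjective hs, hH]

theorem commutator_jSub : ⁅jSub, jSub⁆ = jSub := by
  obtain ⟨e⟩ := SuzJ2.exists_equiv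
  have htop : commutator jSub = ⊤ := by
    have h := congrArg (Subgroup.map e.symm.toMonoidHom) perfect_q100
    rw [commutator_def, Subgroup.map_commutator,
      Subgroup.map_top_of_surjective e.symm.toMonoidHom e.symm.surjective] at h
    rwa [commutator_def]
  have h := congrArg (Subgroup.map jSub.subtype) htop
  rwa [commutator_def, Subgroup.map_commutator, ← MonoidHom.range_eq_map, Subgroup.range_subtype] at h

section

variable {Γ : Type} [Group Γ] (σ : Γ →* Suz)

/-- The derived group of the preimage of `J₂`. -/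
def D5 : Subgroup Γ := ⁅jSub.comap σ, jSub.comap σ⁆

theorem card_five [Finite Γ] (hsurj : Function.Surjective σ) (hc : σ.ker ≤ Subgroup.center Γ) :
    Nat.card (D5 σ ⊓ σ.ker : Subgroup Γ) ∣ 2 := by
  obtain ⟨e⟩ := SuzJ2.exists_equiv
  have hmap : (D5 σ).map σ = jSub := map_commutator_eq hsurj commutator_jSub
  have hle : D5 σ ≤ jSub.comap σ := Subgroup.commutator_le_self _
  have hz : ∀ z, σ z = 1 → ∀ x, Commute z x := fun z hz x => (Subgroup.mem_center_iff.mp (hc hz) x).symm
  have hsplit : ∀ x ∈ jSub.comap σ, ∃ d ∈ D5 σ, ∃ z, σ z = 1 ∧ x = d * z := by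
    intro x hx
    have : σ x ∈ (D5 σ).map σ := by rw [hmap]; exact hx
    obtain ⟨d, hd, hdx⟩ := this
    exact ⟨d, hd, d⁻¹ * x, by rw [map_mul, map_inv, hdx, inv_mul_cancel], by rw [mul_inv_cancel_left]⟩
  have hDD : D5 σ ≤ ⁅D5 σ, D5 σ⁆ := by
    show ⁅jSub.comap σ, jSub.comap σ⁆ ≤ _
    rw [Subgroup.commutator_le]
    intro a ha b hb
    obtain ⟨d, hd, z, hz1, rfl⟩ := hsplit a ha
    obtain ⟨d', hd', z', hz1', rfl⟩ := hsplit b hb
    have e : ⁅d * z, d' * z'⁆ = ⁅d, d'⁆ := by
      simp only [commutatorElement_def, mul_inv_rev]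
      calc d * z * (d' * z') * (z⁻¹ * d⁻¹) * (z'⁻¹ * d'⁻¹)
          = d * (z * (d' * z')) * z⁻¹ * d⁻¹ * (z'⁻¹ * d'⁻¹) := by group
        _ = d * d' * (z' * d⁻¹) * z'⁻¹ * d'⁻¹ := by rw [(hz z hz1 _).eq]; group
        _ = d * d' * d⁻¹ * d'⁻¹ := by rw [(hz z' hz1' _).eq]; group
    rw [e]
    exact Subgroup.commutator_mem_commutator hd hd'
  let f : D5 σ →* jSub := (σ.comp (D5 σ).subtype).codRestrict jSub fun d => hmap ▸ Subgroup.mem_map_of_mem σ d.2
  have hfk : ∀ d : D5 σ, (e.toMonoidHom.comp f) d = 1 ↔ σ d = 1 := fun d => by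
    rw [MonoidHom.comp_apply, MulEquiv.coe_toMonoidHom, MulEquiv.map_eq_one_iff, Subtype.ext_iff]; rfl
  have hstem : Cfsg.IsStemExtension (e.toMonoidHom.comp f) := by
    refine ⟨e.surjective.comp ?_, ?_, ?_⟩
    · intro y
      have : (y : Suz) ∈ (D5 σ).map σ := by rw [hmap]; exact y.2
      obtain ⟨d, hd, hdy⟩ := this
      exact ⟨⟨d, hd⟩, Subtype.ext hdy⟩
    · intro d hd
      rw [Subgroup.mem_center_iff]
      intro x
      exact Subtype.ext (hz d ((hfk d).1 hd) x).symm.eq
    · intro d _
      have h : (d : Γ) ∈ (commutator (D5 σ)).map (D5 σ).subtype := by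
        rw [commutator_def, Subgroup.map_commutator, ← MonoidHom.range_eq_map, Subgroup.range_subtype]
        exact hDD d.2
      obtain ⟨d', hd', he⟩ := h
      rwa [← Subtype.ext he]
  obtain ⟨π, hπ⟩ := HJ.stem_le_two (e.toMonoidHom.comp f) hstem
  have hcard : Nat.card (e.toMonoidHom.comp f).ker ∣ 2 := by
    have h := Subgroup.card_dvd_of_surjective π hπ
    simpa using h
  have heq : (e.toMonoidHom.comp f).ker.map (D5 σ).subtype = D5 σ ⊓ σ.ker := by
    ext x
    constructor
    · rintro ⟨d, hd, rfl⟩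
      exact ⟨d.2, (hfk d).1 hd⟩
    · rintro ⟨hx, hx1⟩
      exact ⟨⟨x, hx⟩, (hfk _).2 hx1, rfl⟩
  rwa [← heq, Subgroup.card_map_of_injective (D5 σ).subtype_injective]

end

/-- The words that the lifts must satisfy on the 416 cosets. -/
def base416 : List (List ℕ) :=
  (List.range SuzT416Lin.lin.nc).map fun r => SuzT416Lin.lin.cws.getD r []

section

variable {Γ : Type} [Group Γ] [Finite Γ] (σ : Γ →* Suz)

/-- If the derived group of the preimage of `J₂` meets the kernel trivially, so does that of `G₂(4)`. -/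
theorem six_trivial (hsurj : Function.Surjective σ) (hc : σ.ker ≤ Subgroup.center Γ)
    (h5 : ∀ x ∈ D5 σ, σ x = 1 → x = 1) :
    ∀ x ∈ ⁅hSub.comap σ, hSub.comap σ⁆, σ x = 1 → x = 1 := by
  classical
  haveI : Finite Suz := SuzOrder.finite_suz
  let σ' : hSub.comap σ →* hSub := σ.subgroupComap hSub
  have hsurj' : Function.Surjective σ' := MonoidHom.subgroupComap_surjective_of_surjective σ hSub hsurj
  have hc' : σ'.ker ≤ Subgroup.center (hSub.comap σ) := by
    intro x hx
    rw [Subgroup.mem_center_iff]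
    intro y
    have h1 : σ (x : Γ) = 1 := congrArg Subtype.val hx
    exact Subtype.ext (Subgroup.mem_center_iff.mp (hc h1) y)
  let s : ℕ → hSub := fun g => if hg : g < 6 then
    ⟨gen g, closure_gen6 ▸ Subgroup.subset_closure ⟨g, hg, rfl⟩⟩ else 1
  have hs_val : ∀ g, g < 6 → (s g : Suz) = gen g := fun g hg => by simp only [s, dif_pos hg]
  have hsw : ∀ w : List ℕ, (∀ g ∈ w, g < 6) → ((wval s w : hSub) : Suz) = wval gen w := fun w hw =>
    (wval_map hSub.subtype w).trans (SuzG2.wval_congr fun g hg => hs_val g (hw g hg))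
  have hs2 : ∀ g, s g * s g = 1 := by
    intro g
    by_cases hg : g < 6
    · exact Subtype.ext (by
        show (s g : Suz) * (s g : Suz) = 1
        rw [hs_val g hg]; exact genFun_mul_self gens_all gens_ok g)
    · simp [s, hg]
  let H : Subgroup hSub := jSub.subgroupOf hSub
  have hlt : ((SuzT416.cert.words).all fun w => w.all fun g => Nat.blt g 6) = true := by decide +kernel
  have hlt' : ∀ w ∈ SuzT416.cert.words, ∀ g ∈ w, g < 6 := fun w hw g hg => by
    simpa [Nat.blt_eq] using List.all_eq_true.1 (List.all_eq_true.1 hlt w hw) g hg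
  have hgen : Subgroup.closure (s '' {g | g < SuzT416Lin.tab.m}) = ⊤ := by
    refine Subgroup.map_injective hSub.subtype_injective ?_
    rw [MonoidHom.map_closure, ← MonoidHom.range_eq_map, Subgroup.range_subtype, Set.image_image]
    exact (congrArg Subgroup.closure (Set.image_congr fun g hg => hs_val g hg)).trans closure_gen6
  have hcard : Nat.card (hSub ⧸ H) = SuzT416Lin.tab.N := by
    have h1 := H.card_eq_card_quotient_mul_card_subgroup
    rw [SuzOrder.card_hSub, Nat.card_congr (Subgroup.subgroupOfEquivOfLe jSub_le).toEquiv,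
      SuzJ2.card_jSub] at h1
    show _ = 416
    omega
  have hrot : rotOK gens Suz.edges Suz.extra (SuzT416.cert.words.take SuzT416.cert.nR) = true := by
    decide +kernel
  have hrotE : rotOK gens Suz.edges Suz.extra (SuzT416.deriv.words.take SuzT416.deriv.nR) = true := by
    decide +kernel
  have hR : ∀ w ∈ SuzT416.cert.words.take SuzT416.cert.nR, wval s w = 1 := fun w hw => Subtype.ext (by
    rw [hsw w (hlt' w (List.mem_of_mem_take hw))]
    exact wval_rot gens_all gens_ok hrot w hw)
  have hK : ∀ w ∈ SuzT416.cert.words.drop SuzT416.cert.nR, wval s w ∈ H := by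
    intro w hw
    have hw6 := hlt' w (List.mem_of_mem_drop hw)
    show ((wval s w : hSub) : Suz) ∈ jSub
    rw [hsw w hw6]
    have hgen5 : ∀ v ∈ (List.range 5).map (fun g => [g]), wval gen v ∈ jSub := by
      intro v hv
      obtain ⟨g, hg, rfl⟩ := List.mem_map.1 hv
      exact Subgroup.subset_closure ⟨g, List.mem_range.1 hg, by simp [wval]⟩
    rw [← List.take_append_drop 5 (SuzT416.cert.words.drop SuzT416.cert.nR), List.mem_append] at hw
    rcases hw with hw | hw
    · rw [show (SuzT416.cert.words.drop SuzT416.cert.nR).take 5 = (List.range 5).map fun g => [g] by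
        decide +kernel] at hw
      exact hgen5 w hw
    · rw [show (SuzT416.cert.words.drop SuzT416.cert.nR).drop 5 = SuzT416.deriv.loops.map Prod.fst by
        decide +kernel] at hw
      exact DerivCert.loops_mem SuzT416.deriv _ SuzT416.deriv_factsOK SuzT416.deriv_loopsOK
        (fun g _ => genFun_mul_self gens_all gens_ok g) (wval_rot gens_all gens_ok hrotE)
        (by rw [show SuzT416.deriv.words.drop SuzT416.deriv.nR = (List.range 5).map fun g => [g] by
              decide +kernel]
            exact hgen5) w hw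
  obtain ⟨e, he0, he⟩ := table_equiv_of_card SuzT416Lin.edgesOK SuzT416Lin.nodesOK H (fun g _ => hs2 g)
    hR hK hgen hcard
  have hrels : ∀ r, r < SuzT416Lin.lin.nc → wval s (SuzT416Lin.lin.cws.getD r []) = 1 := by
    intro r hr
    have hall : ((List.range SuzT416Lin.lin.nc).all fun r =>
        (Nat.blt r 6 && (SuzT416Lin.lin.cws.getD r [] == [r, r])) ||
          (SuzT416.cert.words.take SuzT416.cert.nR).contains (SuzT416Lin.lin.cws.getD r [])) = true := by
      decide +kernel
    have h := List.all_eq_true.mp hall r (List.mem_range.mpr hr)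
    simp only [Bool.or_eq_true, Bool.and_eq_true, beq_iff_eq, List.contains_eq_mem, decide_eq_true_eq] at h
    rcases h with ⟨-, h⟩ | h
    · rw [h]; simp only [wval, one_mul]; exact hs2 r
    · exact hR _ h
  let τ := Abelianization.of (G := H.comap σ')
  have hτ : ∀ x : H.comap σ', σ' x = 1 → τ x = 1 → (x : hSub.comap σ) = 1 := by
    intro x h1 h2
    have hx : x ∈ commutator (H.comap σ') := (QuotientGroup.eq_one_iff x).1 h2
    let ι : H.comap σ' →* Γ := (hSub.comap σ).subtype.comp (H.comap σ').subtype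
    have hι : (ι x : Γ) ∈ D5 σ := by
      have h := Subgroup.mem_map_of_mem ι hx
      rw [commutator_def, Subgroup.map_commutator] at h
      refine Subgroup.commutator_mono ?_ ?_ h <;>
        · rintro _ ⟨y, -, rfl⟩
          exact y.2
    exact Subtype.ext (h5 _ hι (congrArg Subtype.val h1))
  obtain ⟨X, hX, hrel⟩ := LinCert.exact_lifts (L := SuzT416Lin.lin) σ' hsurj' hc' SuzT416Lin.edgesOK
    SuzT416Lin.nodesOK SuzT416Lin.labelsOK SuzT416Lin.packOK SuzT416Lin.checkSel SuzT416Lin.checkComb
    e he0 he hrels τ hτ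
  let t : ℕ → hSub.comap σ := fun g => if g < 6 then X g else 1
  have ht2 : ∀ g, t g * t g = 1 := by
    intro g
    by_cases hg : g < 6
    · simp only [t, if_pos hg]
      have hw : ((List.range 6).all fun g => SuzT416Lin.lin.cws.getD g [] == [g, g]) = true := by decide +kernel
      have hnc : 6 ≤ SuzT416Lin.lin.nc := by decide +kernel
      have h := hrel g (by omega)
      rw [beq_iff_eq.1 (List.all_eq_true.mp hw g (List.mem_range.mpr hg))] at h
      simpa [wval] using h
    · simp [t, hg]
  have hbase : ∀ b ∈ base416, wval t b = 1 := by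
    intro b hb
    obtain ⟨r, hr, rfl⟩ := List.mem_map.mp hb
    have hl : ((List.range SuzT416Lin.lin.nc).all fun r =>
        (SuzT416Lin.lin.cws.getD r []).all fun g => Nat.blt g 6) = true := by decide +kernel
    rw [SuzG2.wval_congr (g := X) fun g hg => by
      have h := List.all_eq_true.mp (List.all_eq_true.mp hl r hr) g hg
      rw [Nat.blt_eq] at h
      simp only [t, if_pos h]]
    exact hrel r (List.mem_range.mp hr)
  have hrels6 : ∀ w ∈ SuzG2Data.rels, wval t w = 1 := by
    intro w hw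
    refine wval_fromBase ht2 hbase ?_
    have hall : (SuzG2Data.rels.all fun w => fromBase base416 w) = true := by decide +kernel
    exact List.all_eq_true.mp hall w hw
  obtain ⟨hfin, hle⟩ := SuzG2.bound_closure ht2 hrels6
  set S := Subgroup.closure (t '' {g | g < 6}) with hS
  have hSmap : S.map σ' = ⊤ := by
    rw [hS, MonoidHom.map_closure, Set.image_image, ← hgen]
    exact congrArg Subgroup.closure (Set.image_congr fun g hg => by
      have hg' : g < 6 := hg
      simp only [t, if_pos hg', hX])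
  have hinj : Function.Injective (σ'.subgroupMap S) :=
    ((Nat.bijective_iff_surjective_and_card _).2 ⟨MonoidHom.subgroupMap_surjective _ _, le_antisymm
      (hle.trans (le_of_eq (by rw [hSmap, Subgroup.card_top, SuzOrder.card_hSub])))
      (Nat.card_le_card_of_surjective _ (MonoidHom.subgroupMap_surjective _ _))⟩).1
  intro x hx h1
  have hx6 : x ∈ hSub.comap σ := Subgroup.commutator_le_self _ hx
  have hxS : (⟨x, hx6⟩ : hSub.comap σ) ∈ S := by
    have hsp : ∀ y : hSub.comap σ, ∃ a ∈ S, ∃ z, (∀ u, Commute z u) ∧ y = a * z := by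
      intro y
      have : σ' y ∈ S.map σ' := by rw [hSmap]; trivial
      obtain ⟨a, ha, hay⟩ := this
      refine ⟨a, ha, a⁻¹ * y, fun u => ?_, (mul_inv_cancel_left a y).symm⟩
      exact (Subgroup.mem_center_iff.mp (hc' (show a⁻¹ * y ∈ σ'.ker by
        rw [MonoidHom.mem_ker, map_mul, map_inv, hay, inv_mul_cancel])) u).symm
    have hcomm : commutator (hSub.comap σ) ≤ S := by
      rw [commutator_def, Subgroup.commutator_le]
      intro a _ b _
      obtain ⟨d, hd, z, hz, rfl⟩ := hsp a
      obtain ⟨d', hd', z', hz', rfl⟩ := hsp b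
      have e : ⁅d * z, d' * z'⁆ = ⁅d, d'⁆ := by
        simp only [commutatorElement_def, mul_inv_rev]
        calc d * z * (d' * z') * (z⁻¹ * d⁻¹) * (z'⁻¹ * d'⁻¹)
            = d * (z * (d' * z')) * z⁻¹ * d⁻¹ * (z'⁻¹ * d'⁻¹) := by group
          _ = d * d' * (z' * d⁻¹) * z'⁻¹ * d'⁻¹ := by rw [(hz _).eq]; group
          _ = d * d' * d⁻¹ * d'⁻¹ := by rw [(hz' _).eq]; group
      rw [e, commutatorElement_def]
      exact mul_mem (mul_mem (mul_mem hd hd') (inv_mem hd)) (inv_mem hd')
    refine hcomm ?_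
    have h : x ∈ (commutator (hSub.comap σ)).map (hSub.comap σ).subtype := by
      rw [commutator_def, Subgroup.map_commutator, ← MonoidHom.range_eq_map, Subgroup.range_subtype]
      exact hx
    obtain ⟨y, hy, hyx⟩ := h
    rwa [show (⟨x, hx6⟩ : hSub.comap σ) = y from Subtype.ext hyx.symm]
  have h0 : (⟨⟨x, hx6⟩, hxS⟩ : S) = 1 := hinj (Subtype.ext (Subtype.ext (h1.trans (map_one (σ.comp ((hSub.comap σ).subtype.comp S.subtype))).symm)))
  exact congrArg (fun y : S => ((y : hSub.comap σ) : Γ)) h0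

end

/-- The words that the lifts must satisfy on the 1782 cosets. -/
def base1782 : List (List ℕ) :=
  (List.range SuzC1782Lin.lin.nc).map fun r => SuzC1782Lin.lin.cws.getD r []

section

variable {Γ : Type} [Group Γ] [Finite Γ] (σ : Γ →* Suz)

theorem commutator_eq_top (hσ : Cfsg.IsStemExtension σ) : commutator Γ = ⊤ := by
  obtain ⟨hsurj, -, hcomm⟩ := hσ
  rw [eq_top_iff]
  intro x _
  have hx : σ x ∈ (commutator Γ).map σ := by
    rw [commutator_def, Subgroup.map_commutator, Subgroup.map_top_of_surjective σ hsurj, ← commutator_def,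
      perfect_suz]
    trivial
  obtain ⟨y, hy, hyx⟩ := hx
  have h1 : y⁻¹ * x ∈ σ.ker := by rw [MonoidHom.mem_ker, map_mul, map_inv, hyx, inv_mul_cancel]
  simpa using mul_mem hy (hcomm h1)

/-- Lifts satisfying the relators make a perfect central extension trivial. -/
theorem ker_eq_bot_of_lifts (hperf : commutator Γ = ⊤) (hc : σ.ker ≤ Subgroup.center Γ)
    (t : ℕ → Γ) (ht : ∀ g, g < 7 → σ (t g) = gen g) (ht2 : ∀ g, t g * t g = 1)
    (hbase : ∀ b ∈ base1782, wval t b = 1) : σ.ker = ⊥ := by
  have hr' : ∀ r ∈ coxRelators Suz.edges ∪ {r | r ∈ Suz.extra},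
      FreeGroup.lift (fun x => t (gens.idxOf x)) r = 1 := by
    intro r hr
    rw [lift_eq_wval _ (fun x => ht2 _) gens_all t (fun _ => rfl)]
    refine wval_fromBase ht2 hbase ?_
    have hall : (((relList gens Suz.edges Suz.extra).map (letters gens)).all fun w =>
        fromBase base1782 w) = true := by decide +kernel
    exact List.all_eq_true.mp hall _ (List.mem_map.mpr ⟨r, mem_relList gens_all hr, rfl⟩)
  let φ : Suz →* Γ := PresentedGroup.toGroup hr'
  have hsec : ∀ y, σ (φ y) = y := by
    have hid : σ.comp φ = MonoidHom.id Suz := by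
      refine PresentedGroup.ext fun x => ?_
      have hlt : gens.idxOf x < 7 := List.idxOf_lt_length_of_mem (gens_all x)
      rw [MonoidHom.comp_apply, PresentedGroup.toGroup.of, ht _ hlt]
      exact genFun_idxOf gens_all x
    exact fun y => DFunLike.congr_fun hid y
  have hz : ∀ a x : Γ, Commute (a * (φ (σ a))⁻¹) x := fun a x =>
    (Subgroup.mem_center_iff.mp (hc (by
      rw [MonoidHom.mem_ker, map_mul, map_inv, hsec, mul_inv_cancel])) x).symm
  have htop : φ.range = ⊤ := by
    rw [eq_top_iff, ← hperf, commutator_def, Subgroup.commutator_le]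
    intro a _ b _
    refine ⟨⁅σ a, σ b⁆, ?_⟩
    rw [map_commutatorElement]
    have ha : a = a * (φ (σ a))⁻¹ * φ (σ a) := by rw [inv_mul_cancel_right]
    have hb : b = b * (φ (σ b))⁻¹ * φ (σ b) := by rw [inv_mul_cancel_right]
    conv_rhs => rw [ha, hb]
    generalize hA : a * (φ (σ a))⁻¹ = p
    generalize hB : b * (φ (σ b))⁻¹ = q
    have hp : ∀ x, Commute p x := fun x => hA ▸ hz a x
    have hq : ∀ x, Commute q x := fun x => hB ▸ hz b x
    generalize φ (σ a) = u
    generalize φ (σ b) = v
    simp only [commutatorElement_def, mul_inv_rev]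
    symm
    calc p * u * (q * v) * (u⁻¹ * p⁻¹) * (v⁻¹ * q⁻¹)
        = p * (u * q) * (v * u⁻¹ * p⁻¹) * (v⁻¹ * q⁻¹) := by group
      _ = p * (q * (u * v * u⁻¹)) * p⁻¹ * (v⁻¹ * q⁻¹) := by rw [← (hq u).eq]; group
      _ = q * (u * v * u⁻¹) * (v⁻¹ * q⁻¹) := by rw [(hp _).eq, mul_inv_cancel_right]
      _ = q * (u * v * u⁻¹ * v⁻¹) * q⁻¹ := by group
      _ = u * v * u⁻¹ * v⁻¹ := by rw [(hq _).eq, mul_inv_cancel_right]
  rw [eq_bot_iff]
  intro x hx
  obtain ⟨y, rfl⟩ := MonoidHom.range_eq_top.mp htop x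
  rw [MonoidHom.mem_ker, hsec] at hx
  rw [hx, map_one]
  exact one_mem _

/-- If the derived group of the preimage of `G₂(4)` meets the kernel trivially, the kernel has order
dividing 3. -/
theorem card_ker_three (hsurj : Function.Surjective σ) (hc : σ.ker ≤ Subgroup.center Γ)
    (hperf : commutator Γ = ⊤) (h6 : ∀ x ∈ ⁅hSub.comap σ, hSub.comap σ⁆, σ x = 1 → x = 1) :
    Nat.card σ.ker ∣ 3 := by
  obtain ⟨e, he0, he⟩ := exists_table
  let τ := Abelianization.of (G := hSub.comap σ)
  have hτ : ∀ x : hSub.comap σ, σ x = 1 → τ x = 1 → (x : Γ) = 1 := by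
    intro x h1 h2
    refine h6 x ?_ h1
    have hx : x ∈ commutator (hSub.comap σ) := (QuotientGroup.eq_one_iff x).1 h2
    have h := Subgroup.mem_map_of_mem (hSub.comap σ).subtype hx
    rwa [commutator_def, Subgroup.map_commutator, ← MonoidHom.range_eq_map, Subgroup.range_subtype] at h
  have hrels : ∀ r, r < SuzC1782Lin.lin.nc → wval gen (SuzC1782Lin.lin.cws.getD r []) = 1 := by
    intro r hr
    have h2 : relsOK gens Suz.edges Suz.extra (SuzC1782.cert.words.take SuzC1782.cert.nR) = true := by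
      decide +kernel
    have hall : ((List.range SuzC1782Lin.lin.nc).all fun r =>
        (Nat.blt r 7 && (SuzC1782Lin.lin.cws.getD r [] == [r, r])) ||
          (SuzC1782.cert.words.take SuzC1782.cert.nR).contains (SuzC1782Lin.lin.cws.getD r [])) = true := by
      decide +kernel
    have h := List.all_eq_true.mp hall r (List.mem_range.mpr hr)
    simp only [Bool.or_eq_true, Bool.and_eq_true, beq_iff_eq, List.contains_eq_mem, decide_eq_true_eq] at h
    rcases h with ⟨-, h⟩ | h
    · rw [h]; simp only [wval, one_mul]; exact genFun_mul_self gens_all gens_ok r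
    · exact wval_rels gens_all gens_ok h2 _ h
  obtain ⟨X, w, hw1, hw3, hX, hrel⟩ := LinCert.scaled_lifts (L := SuzC1782Lin.lin) σ hsurj hc
    SuzC1782Lin.edgesOK SuzC1782Lin.nodesOK SuzC1782Lin.labelsOK SuzC1782Lin.packOK SuzC1782Lin.checkSel
    SuzC1782Lin.checkScaled e he0 he hrels τ hτ
  let Z : Subgroup Γ := Subgroup.zpowers w
  have hZ : Z ≤ σ.ker := Subgroup.zpowers_le.2 hw1
  haveI : Z.Normal := ⟨fun z hz g => by
    rw [Subgroup.mem_center_iff.mp (hc (hZ hz)) g, mul_inv_cancel_right]; exact hz⟩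
  let σ₂ : Γ ⧸ Z →* Suz := QuotientGroup.lift Z σ hZ
  have hc₂ : σ₂.ker ≤ Subgroup.center (Γ ⧸ Z) := by
    intro y hy
    obtain ⟨a, rfl⟩ := QuotientGroup.mk_surjective y
    rw [Subgroup.mem_center_iff]
    intro z
    obtain ⟨b, rfl⟩ := QuotientGroup.mk_surjective z
    rw [← QuotientGroup.mk_mul, ← QuotientGroup.mk_mul, Subgroup.mem_center_iff.mp (hc (show a ∈ σ.ker from hy)) b]
  have hperf₂ : commutator (Γ ⧸ Z) = ⊤ := by
    have h := congrArg (Subgroup.map (QuotientGroup.mk' Z)) hperf
    rwa [commutator_def, Subgroup.map_commutator,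
      Subgroup.map_top_of_surjective _ (QuotientGroup.mk'_surjective Z)] at h
  let t : ℕ → Γ ⧸ Z := fun g => if g < 7 then QuotientGroup.mk' Z (X g) else 1
  have hbase0 : ∀ r, r < SuzC1782Lin.lin.nc →
      wval t (SuzC1782Lin.lin.cws.getD r []) = 1 := by
    intro r hr
    have hl : ((List.range SuzC1782Lin.lin.nc).all fun r =>
        (SuzC1782Lin.lin.cws.getD r []).all fun g => Nat.blt g 7) = true := by decide +kernel
    rw [SuzG2.wval_congr (g := fun g => QuotientGroup.mk' Z (X g)) fun g hg => by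
      have h := List.all_eq_true.mp (List.all_eq_true.mp hl r (List.mem_range.mpr hr)) g hg
      rw [Nat.blt_eq] at h
      simp only [t, if_pos h]]
    obtain ⟨i, hi⟩ := hrel r hr
    rw [← wval_map, hi, QuotientGroup.mk'_apply, QuotientGroup.eq_one_iff]
    exact Subgroup.zpow_mem_zpowers w i
  have ht2 : ∀ g, t g * t g = 1 := by
    intro g
    by_cases hg : g < 7
    · have hw : ((List.range 7).all fun g => SuzC1782Lin.lin.cws.getD g [] == [g, g]) = true := by decide +kernel
      have hnc : 7 ≤ SuzC1782Lin.lin.nc := by decide +kernel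
      have h := hbase0 g (by omega)
      rw [beq_iff_eq.1 (List.all_eq_true.mp hw g (List.mem_range.mpr hg))] at h
      simpa [wval] using h
    · simp [t, hg]
  have hbot := ker_eq_bot_of_lifts σ₂ hperf₂ hc₂ t (fun g hg => by
      simp only [t, if_pos hg]; exact hX g) ht2 (fun b hb => by
      obtain ⟨r, hr, rfl⟩ := List.mem_map.mp hb
      exact hbase0 r (List.mem_range.mp hr))
  have hker : σ.ker = Z := le_antisymm (fun x hx => by
    have h : (QuotientGroup.mk x : Γ ⧸ Z) ∈ σ₂.ker := hx
    rw [hbot, Subgroup.mem_bot] at h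
    exact (QuotientGroup.eq_one_iff x).1 h) hZ
  rw [hker, Nat.card_zpowers]
  refine orderOf_dvd_of_pow_eq_one ?_
  simpa using hw3

theorem card_ker (hσ : Cfsg.IsStemExtension σ) : Nat.card σ.ker ∣ 6 := by
  have hperf := commutator_eq_top σ hσ
  obtain ⟨hsurj, hc, -⟩ := hσ
  set K := D5 σ ⊓ σ.ker with hK
  have hK2 : Nat.card K ∣ 2 := card_five σ hsurj hc
  have hKle : K ≤ σ.ker := inf_le_right
  haveI : K.Normal := ⟨fun z hz g => by
    rw [Subgroup.mem_center_iff.mp (hc (hKle hz)) g, mul_inv_cancel_right]; exact hz⟩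
  let σ₁ : Γ ⧸ K →* Suz := QuotientGroup.lift K σ hKle
  have hsurj₁ : Function.Surjective σ₁ := fun y => by
    obtain ⟨a, ha⟩ := hsurj y; exact ⟨QuotientGroup.mk a, ha⟩
  have hc₁ : σ₁.ker ≤ Subgroup.center (Γ ⧸ K) := by
    intro y hy
    obtain ⟨a, rfl⟩ := QuotientGroup.mk_surjective y
    rw [Subgroup.mem_center_iff]
    intro z
    obtain ⟨b, rfl⟩ := QuotientGroup.mk_surjective z
    rw [← QuotientGroup.mk_mul, ← QuotientGroup.mk_mul, Subgroup.mem_center_iff.mp (hc (show a ∈ σ.ker from hy)) b]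
  have hperf₁ : commutator (Γ ⧸ K) = ⊤ := by
    have h := congrArg (Subgroup.map (QuotientGroup.mk' K)) hperf
    rwa [commutator_def, Subgroup.map_commutator,
      Subgroup.map_top_of_surjective _ (QuotientGroup.mk'_surjective K)] at h
  have h5 : ∀ x ∈ D5 σ₁, σ₁ x = 1 → x = 1 := by
    intro x hx h1
    have hmap : D5 σ₁ = (D5 σ).map (QuotientGroup.mk' K) := by
      rw [D5, D5, Subgroup.map_commutator,
        show jSub.comap σ = (jSub.comap σ₁).comap (QuotientGroup.mk' K) from rfl,
        Subgroup.map_comap_eq_self_of_surjective (QuotientGroup.mk'_surjective K)]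
    rw [hmap] at hx
    obtain ⟨d, hd, rfl⟩ := hx
    exact (QuotientGroup.eq_one_iff d).2 ⟨hd, h1⟩
  have h3 := card_ker_three σ₁ hsurj₁ hc₁ hperf₁ (six_trivial σ₁ hsurj₁ hc₁ h5)
  let f : σ.ker →* σ₁.ker := ((QuotientGroup.mk' K).comp σ.ker.subtype).codRestrict σ₁.ker fun x => x.2
  have hf : Function.Surjective f := by
    rintro ⟨y, hy⟩
    obtain ⟨a, rfl⟩ := QuotientGroup.mk_surjective y
    exact ⟨⟨a, hy⟩, Subtype.ext rfl⟩
  have h := Subgroup.card_eq_card_quotient_mul_card_subgroup f.ker
  rw [Nat.card_congr (QuotientGroup.quotientKerEquivOfSurjective f hf).toEquiv] at h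
  have hfk : Nat.card f.ker ∣ Nat.card K := by
    have e : f.ker = K.subgroupOf σ.ker := by
      ext x
      rw [MonoidHom.mem_ker, Subtype.ext_iff, Subgroup.mem_subgroupOf]
      exact QuotientGroup.eq_one_iff (x : Γ)
    rw [e, Nat.card_congr (Subgroup.subgroupOfEquivOfLe hKle).toEquiv]
  rw [h]
  exact (Nat.mul_dvd_mul h3 (hfk.trans hK2)).trans (by norm_num)

theorem kernel_bound (hσ : Cfsg.IsStemExtension σ) :
    ∃ π : Multiplicative (ZMod 6) →* σ.ker, Function.Surjective π := by
  have h6 := card_ker σ hσ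
  have hc : σ.ker ≤ Subgroup.center Γ := hσ.2.1
  haveI : IsCyclic σ.ker := by
    letI : CommGroup σ.ker := { (inferInstance : Group σ.ker) with
      mul_comm := fun a b => Subtype.ext (Subgroup.mem_center_iff.mp (hc b.2) a) }
    have hmem : Nat.card σ.ker ∈ Nat.divisors 6 := Nat.mem_divisors.2 ⟨h6, by norm_num⟩
    rw [show Nat.divisors 6 = {1, 2, 3, 6} by decide +kernel] at hmem
    simp only [Finset.mem_insert, Finset.mem_singleton] at hmem
    rcases hmem with hn | hn | hn | hn
    · haveI : Subsingleton σ.ker := (Nat.card_eq_one_iff_unique.1 hn).1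
      infer_instance
    · haveI : Fact (Nat.Prime 2) := ⟨Nat.prime_two⟩
      exact isCyclic_of_prime_card hn
    · haveI : Fact (Nat.Prime 3) := ⟨Nat.prime_three⟩
      exact isCyclic_of_prime_card hn
    · haveI : Fact (Nat.Prime 2) := ⟨Nat.prime_two⟩
      haveI : Fact (Nat.Prime 3) := ⟨Nat.prime_three⟩
      obtain ⟨a, ha⟩ := exists_prime_orderOf_dvd_card' (G := σ.ker) 2 (by rw [hn]; norm_num)
      obtain ⟨b, hb⟩ := exists_prime_orderOf_dvd_card' (G := σ.ker) 3 (by rw [hn]; norm_num)
      refine isCyclic_of_orderOf_eq_card (a * b) ?_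
      rw [(Commute.all a b).orderOf_mul_eq_mul_orderOf_of_coprime (by rw [ha, hb]; norm_num), ha, hb, hn]
  obtain ⟨c, hcg⟩ := IsCyclic.exists_generator (α := σ.ker)
  refine Schur.exists_surjective_zmod_of_le_zpowers σ.ker 6 (c := (c : Γ)) (fun x hx => ?_) ?_
  · obtain ⟨i, hi⟩ := Subgroup.mem_zpowers_iff.1 (hcg ⟨x, hx⟩)
    exact Subgroup.mem_zpowers_iff.2 ⟨i, by rw [← SubgroupClass.coe_zpow, hi]⟩
  · have : c ^ 6 = 1 := orderOf_dvd_iff_pow_eq_one.1 ((orderOf_dvd_natCard c).trans h6)
    rw [← SubgroupClass.coe_pow, this, OneMemClass.coe_one]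

end

end Cfsg.Agent.Presented.SuzMultBound
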