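import Cfsg.Agent.Lib.Presented.MatSeven
import Cfsg.Agent.Lib.Presented.SuzMultBound
import Cfsg.Agent.Lib.Presented.Data.SuzCoverData

/-!
# A sixfold cover of the presented Suzuki group

Seven matrices of degree 12 over the field of seven elements satisfy the relators up to scalars, one of
them with a scalar of order six; two words with the same letters differ by that scalar.
-/

set_option autoImplicit false
set_option maxRecDepth 20000

namespace Cfsg.Agent.Presented.SuzCover

open Cfsg.Spor SuzIndex MatSeven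
open scoped commutatorElement

/-- Matrices of degree 12 over the field of seven elements. -/
abbrev Mat : Type := Matrix (Fin 12) (Fin 12) (ZMod 7)

/-- The identity rows. -/
noncomputable def oneP : List ℕ := scalP 12 1

/-- The rows of matrix number `g`. -/
noncomputable def X (g : ℕ) : List ℕ := SuzCoverData.mats.getD g oneP

/-- The rows of its inverse. -/
noncomputable def Y (g : ℕ) : List ℕ := mulP 12 (X g) (mulP 12 (X g) (X g))

theorem dec_scal_check : ∀ c : Fin 7, ∀ i j : Fin 12,
    (dec 12 (scalP 12 (c : ℕ)) i j).val = if i = j then (c : ℕ) else 0 := by decide +kernel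

theorem dec_scal {c : ℕ} (hc : c < 7) : dec 12 (scalP 12 c) = Matrix.scalar (Fin 12) (c : ZMod 7) := by
  funext i j
  rw [← ZMod.natCast_zmod_val (dec 12 (scalP 12 c) i j), dec_scal_check ⟨c, hc⟩ i j, Matrix.scalar_apply,
    Matrix.diagonal_apply]
  split <;> simp

theorem dec_one : dec 12 oneP = 1 := by rw [oneP, dec_scal (by norm_num), Nat.cast_one, map_one]

theorem mats_length : SuzCoverData.mats.length = 7 := by decide +kernel

theorem gen_check : ((List.range 8).all fun g => fits 12 (X g) && fits 12 (Y g) &&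
    eqP (mulP 12 (X g) (Y g)) oneP && eqP (mulP 12 (Y g) (X g)) oneP) = true := by decide +kernel

theorem X_eq_of_ge {g : ℕ} (hg : 7 ≤ g) : X g = X 7 := by
  rw [X, X, List.getD_eq_default _ _ (by rw [mats_length]; omega),
    List.getD_eq_default _ _ (by rw [mats_length])]

theorem gen_spec (g : ℕ) : fits 12 (X g) = true ∧ fits 12 (Y g) = true ∧
    mulP 12 (X g) (Y g) = oneP ∧ mulP 12 (Y g) (X g) = oneP := by
  have key : ∀ g < 8, fits 12 (X g) = true ∧ fits 12 (Y g) = true ∧
      mulP 12 (X g) (Y g) = oneP ∧ mulP 12 (Y g) (X g) = oneP := fun g hg => by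
    have h := List.all_eq_true.mp gen_check g (List.mem_range.mpr hg)
    simp only [Bool.and_eq_true] at h
    exact ⟨h.1.1.1, h.1.1.2, eq_of_eqP h.1.2, eq_of_eqP h.2⟩
  by_cases hg : g < 8
  · exact key g hg
  · have e : X g = X 7 := X_eq_of_ge (by omega)
    simpa only [Y, e] using key 7 (by norm_num)

/-- Generator number `g` of the cover. -/
noncomputable def u (g : ℕ) : Matˣ where
  val := dec 12 (X g)
  inv := dec 12 (Y g)
  val_inv := by
    rw [← dec_mulP (by norm_num) (gen_spec g).1 (gen_spec g).2.1, (gen_spec g).2.2.1, dec_one]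
  inv_val := by
    rw [← dec_mulP (by norm_num) (gen_spec g).2.1 (gen_spec g).1, (gen_spec g).2.2.2, dec_one]

/-- A word evaluated on the packed matrices. -/
noncomputable def evalP (w : List ℕ) : List ℕ :=
  List.rec (motive := fun _ => List ℕ) oneP (fun g _ ih => mulP 12 ih (X g)) w

theorem evalP_fits : ∀ w, fits 12 (evalP w) = true := by
  intro w
  induction w with
  | nil => show fits 12 oneP = true; decide +kernel
  | cons g w ih =>
    refine fits_mulP _ ?_
    simp only [fits, Bool.and_eq_true, Nat.beq_eq] at ih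
    exact ih.1

theorem val_wval : ∀ w, ((wval u w : Matˣ) : Mat) = dec 12 (evalP w) := by
  intro w
  induction w with
  | nil => exact dec_one.symm
  | cons g w ih =>
    rw [wval, Units.val_mul, ih]
    exact (dec_mulP (by norm_num) (evalP_fits w) (gen_spec g).1).symm

/-- The cover: the group generated by the seven matrices. -/
def Cov : Subgroup Matˣ := Subgroup.closure (u '' {g | g < 7})

theorem u_mem (g : ℕ) : u g ∈ Cov := by
  by_cases hg : g < 7
  · exact Subgroup.subset_closure ⟨g, hg, rfl⟩
  · have h : u g = 1 := Units.ext (by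
      show dec 12 (X g) = 1
      rw [X, List.getD_eq_default _ _ (by rw [mats_length]; omega), dec_one])
    rw [h]; exact one_mem _

/-- Generator number `g`, in the cover. -/
noncomputable def uC (g : ℕ) : Cov := ⟨u g, u_mem g⟩

theorem coe_wval_uC (w : List ℕ) : (((wval uC w : Cov) : Matˣ) : Mat) = dec 12 (evalP w) := by
  rw [← val_wval w]
  exact congrArg Units.val (wval_map Cov.subtype (s := uC) w)

theorem closure_uC : Subgroup.closure (uC '' {g | g < 7}) = ⊤ := by
  apply Subgroup.map_injective Cov.subtype_injective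
  rw [MonoidHom.map_closure, ← MonoidHom.range_eq_map, Subgroup.range_subtype, Set.image_image]
  rfl

/-- The central element. -/
noncomputable def zeta : Cov := wval uC SuzCoverData.zWord

theorem zWord_check : eqP (evalP SuzCoverData.zWord) (scalP 12 5) = true := by decide +kernel

theorem coe_zeta : (((zeta : Cov) : Matˣ) : Mat) = Matrix.scalar (Fin 12) (5 : ZMod 7) := by
  rw [zeta, coe_wval_uC, eq_of_eqP zWord_check, dec_scal (by norm_num)]
  rfl

theorem coe_pow_zeta (i : ℕ) :
    (((zeta ^ i : Cov) : Matˣ) : Mat) = Matrix.scalar (Fin 12) ((5 : ZMod 7) ^ i) := by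
  rw [SubgroupClass.coe_pow, Units.val_pow_eq_pow_val, coe_zeta, map_pow]

theorem zeta_comm (x : Cov) : Commute zeta x := by
  refine Subtype.ext (Units.ext ?_)
  show ((zeta : Matˣ) : Mat) * ((x : Matˣ) : Mat) = ((x : Matˣ) : Mat) * ((zeta : Matˣ) : Mat)
  rw [coe_zeta]
  exact (Matrix.scalar_commute _ (fun r => Commute.all _ r) _).eq

theorem zeta_pow_eq_one_iff (i : ℕ) : zeta ^ i = 1 ↔ (5 : ZMod 7) ^ i = 1 := by
  constructor
  · intro h
    have h2 := congrArg (fun x : Cov => (((x : Matˣ) : Mat))) h
    simp only [coe_pow_zeta, OneMemClass.coe_one, Units.val_one] at h2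
    rw [← map_one (Matrix.scalar (Fin 12))] at h2
    exact Matrix.scalar_inj.mp h2
  · intro h
    refine Subtype.ext (Units.ext ?_)
    rw [coe_pow_zeta, h, map_one]
    rfl

theorem orderOf_zeta : orderOf zeta = 6 := by
  rw [orderOf_eq_iff (by norm_num)]
  refine ⟨(zeta_pow_eq_one_iff 6).2 (by decide), fun m hm h0 h => ?_⟩
  have h' := (zeta_pow_eq_one_iff m).1 h
  revert h'
  interval_cases m <;> decide

/-- The scalars in the cover. -/
noncomputable abbrev Z : Subgroup Cov := Subgroup.zpowers zeta

theorem z_le_center : Z ≤ Subgroup.center Cov :=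
  Subgroup.zpowers_le.2 (Subgroup.mem_center_iff.2 fun x => (zeta_comm x).symm)

instance z_normal : Z.Normal :=
  ⟨fun z hz g => by rw [Subgroup.mem_center_iff.mp (z_le_center hz) g, mul_inv_cancel_right]; exact hz⟩

theorem mem_Z_of_scal {w : List ℕ}
    (h : ((List.range 6).any fun i => eqP (evalP w) (scalP 12 (5 ^ i % 7))) = true) : wval uC w ∈ Z := by
  simp only [List.any_eq_true, List.mem_range] at h
  obtain ⟨i, -, hi⟩ := h
  refine Subgroup.mem_zpowers_iff.2 ⟨i, Subtype.ext (Units.ext ?_)⟩
  rw [zpow_natCast, coe_pow_zeta, coe_wval_uC, eq_of_eqP hi, dec_scal (Nat.mod_lt _ (by norm_num)),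
    ZMod.natCast_mod, Nat.cast_pow]
  rfl

theorem sq_check : ((List.range 8).all fun g =>
    (List.range 6).any fun i => eqP (evalP [g, g]) (scalP 12 (5 ^ i % 7))) = true := by decide +kernel

/-- The generators modulo scalars. -/
noncomputable def q (g : ℕ) : Cov ⧸ Z := QuotientGroup.mk' _ (uC g)

theorem q_word (w : List ℕ) : wval q w = QuotientGroup.mk' _ (wval uC w) :=
  (wval_map (QuotientGroup.mk' Z) w).symm

theorem q_sq (g : ℕ) : q g * q g = 1 := by
  have key : ∀ g < 8, q g * q g = 1 := fun g hg => by
    have h : QuotientGroup.mk' Z (wval uC [g, g]) = 1 :=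
      (QuotientGroup.eq_one_iff _).2 (mem_Z_of_scal (List.all_eq_true.mp sq_check g (List.mem_range.mpr hg)))
    simpa [wval, q] using h
  by_cases hg : g < 8
  · exact key g hg
  · have e : uC g = uC 7 := Subtype.ext (Units.ext (by
      show dec 12 (X g) = dec 12 (X 7)
      rw [X_eq_of_ge (by omega)]))
    rw [q, e]
    exact key 7 (by norm_num)

set_option maxHeartbeats 0 in
theorem rels_check : (((relList gens Suz.edges Suz.extra).map (letters gens)).all fun w =>
    (List.range 6).any fun i => eqP (evalP w) (scalP 12 (5 ^ i % 7))) = true := by decide +kernel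

theorem q_rels : ∀ r ∈ coxRelators Suz.edges ∪ {r | r ∈ Suz.extra},
    FreeGroup.lift (fun x => q (gens.idxOf x)) r = 1 := by
  intro r hr
  rw [lift_eq_wval _ (fun x => q_sq _) gens_all q (fun _ => rfl), q_word]
  exact (QuotientGroup.eq_one_iff _).2 (mem_Z_of_scal
    (List.all_eq_true.mp rels_check _ (List.mem_map.mpr ⟨r, mem_relList gens_all hr, rfl⟩)))

/-- The map from `Suz` onto the cover modulo scalars. -/
noncomputable def psi : Suz →* Cov ⧸ Z := PresentedGroup.toGroup q_rels

theorem psi_gen {g : ℕ} (hg : g < 7) : psi (gen g) = q g := by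
  have hlt : g < gens.length := hg
  rw [gen, genFun, dif_pos hlt, psi, PresentedGroup.toGroup.of, gens_nodup.idxOf_getElem _ hlt]

theorem psi_surjective : Function.Surjective psi := by
  intro y
  obtain ⟨a, rfl⟩ := QuotientGroup.mk_surjective y
  have ha : a ∈ Subgroup.closure (uC '' {g | g < 7}) := by rw [closure_uC]; trivial
  induction ha using Subgroup.closure_induction with
  | mem b hb =>
    obtain ⟨g, hg, rfl⟩ := hb
    exact ⟨gen g, psi_gen hg⟩
  | one => exact ⟨1, map_one _⟩
  | mul a b _ _ ha hb =>
    obtain ⟨x, hx⟩ := ha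
    obtain ⟨y, hy⟩ := hb
    exact ⟨x * y, by rw [map_mul, hx, hy]; rfl⟩
  | inv a _ ha =>
    obtain ⟨x, hx⟩ := ha
    exact ⟨x⁻¹, by rw [map_inv, hx]; rfl⟩

theorem dig_X0 : ∀ i : Fin 6, ∃ a b : Fin 12,
    (dec 12 (X 0) a b).val ≠ (dec 12 (scalP 12 (5 ^ (i : ℕ) % 7)) a b).val := by decide +kernel

theorem psi_bijective : Function.Bijective psi := by
  refine ⟨?_, psi_surjective⟩
  rw [← MonoidHom.ker_eq_bot_iff]
  haveI := SuzOrder.simple_suz
  refine (inferInstance : psi.ker.Normal).eq_bot_or_eq_top.resolve_right fun h => ?_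
  have h1 : q 0 = 1 := by
    rw [← psi_gen (by norm_num)]
    exact MonoidHom.mem_ker.mp (h ▸ Subgroup.mem_top _)
  rw [q, QuotientGroup.mk'_apply, QuotientGroup.eq_one_iff] at h1
  haveI : Finite Cov := inferInstance
  rw [mem_zpowers_iff_mem_range_orderOf, orderOf_zeta, Finset.mem_image] at h1
  obtain ⟨i, hi, e⟩ := h1
  obtain ⟨a, b, hab⟩ := dig_X0 ⟨i, Finset.mem_range.1 hi⟩
  refine hab (congrArg ZMod.val ?_)
  have e2 := congrArg (fun x : Cov => (((x : Matˣ) : Mat))) e
  simp only [coe_pow_zeta] at e2
  rw [dec_scal (Nat.mod_lt _ (by norm_num)), ZMod.natCast_mod, Nat.cast_pow]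
  exact (congrFun (congrFun e2 a) b).symm

/-- The covering map. -/
noncomputable def cover : Cov →* Suz :=
  (MulEquiv.ofBijective psi psi_bijective).symm.toMonoidHom.comp (QuotientGroup.mk' _)

theorem cover_ker : cover.ker = Z := by
  ext x
  rw [MonoidHom.mem_ker]
  constructor
  · intro h
    have h2 : (MulEquiv.ofBijective psi psi_bijective).symm (QuotientGroup.mk' _ x) = 1 := h
    rw [MulEquiv.map_eq_one_iff] at h2
    exact (QuotientGroup.eq_one_iff x).mp h2
  · intro h
    show (MulEquiv.ofBijective psi psi_bijective).symm (QuotientGroup.mk' _ x) = 1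
    rw [QuotientGroup.mk'_apply, (QuotientGroup.eq_one_iff x).mpr h, map_one]

theorem cover_surjective : Function.Surjective cover :=
  (MulEquiv.ofBijective psi psi_bijective).symm.surjective.comp (QuotientGroup.mk'_surjective _)

theorem pn_check : (eqP (evalP SuzCoverData.pWord) (scalP 12 5) &&
    eqP (evalP SuzCoverData.nWord) (scalP 12 1)) = true := by decide +kernel

theorem pn_perm : SuzCoverData.pWord.Perm SuzCoverData.nWord := by decide +kernel

theorem zeta_mem_commutator : zeta ∈ commutator Cov := by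
  have hp : wval uC SuzCoverData.pWord = zeta := by
    refine Subtype.ext (Units.ext ?_)
    rw [coe_wval_uC, eq_of_eqP (Bool.and_eq_true_iff.1 pn_check).1, dec_scal (by norm_num), coe_zeta]
    rfl
  have hn : wval uC SuzCoverData.nWord = 1 := by
    refine Subtype.ext (Units.ext ?_)
    rw [coe_wval_uC, eq_of_eqP (Bool.and_eq_true_iff.1 pn_check).2, dec_scal (by norm_num), Nat.cast_one,
      map_one]
    rfl
  rw [← Abelianization.ker_of Cov, MonoidHom.mem_ker]
  have hw : ∀ w : List ℕ, Abelianization.of (wval uC w) =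
      (w.map fun g => Abelianization.of (uC g)).prod := by
    intro w
    induction w with
    | nil => simp [wval]
    | cons g w ih => rw [wval, map_mul, ih, List.map_cons, List.prod_cons, mul_comm]
  rw [← hp, hw, (pn_perm.map _).prod_eq, ← hw, hn, map_one]

theorem isStemExtension : Cfsg.IsStemExtension cover :=
  ⟨cover_surjective, by rw [cover_ker]; exact z_le_center,
    by rw [cover_ker]; exact Subgroup.zpowers_le.2 zeta_mem_commutator⟩

theorem multiplier : Cfsg.HasCyclicSchurMultiplier Suz 6 := by
  refine ⟨?_, fun Γ _ _ σ hσ => SuzMultBound.kernel_bound σ hσ⟩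
  refine ⟨Cov, inferInstance, inferInstance, cover, isStemExtension, ⟨?_⟩⟩
  refine (MulEquiv.subgroupCongr cover_ker).trans ?_
  haveI : IsCyclic Z := inferInstance
  exact mulEquivOfCyclicCardEq (by rw [Nat.card_zpowers, orderOf_zeta]; simp)

end Cfsg.Agent.Presented.SuzCover
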