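import Cfsg.Agent.Lib.Presented.SuzHWords

/-!
# Coset tables of `⟨a, …, f⟩`

A checked table whose relator words follow from the relators in six generators, and at all cosets of
which these relators close, describes the cosets of the subgroup of its subgroup words.
-/

set_option autoImplicit false
set_option maxRecDepth 20000

namespace Cfsg.Agent.Presented.SuzHTable

open Cfsg.Spor SuzIndex SuzPoints SuzHWords

/-- The relators in six generators close at every coset. -/
noncomputable def relsClose (D : CosetCert) : Bool :=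
  checkBelow (fun i => allList (fun w => Nat.beq (D.path w i) i) SuzG2Data.rels) D.depth D.N

theorem tablePerm_sq {D : CosetCert} (he : D.edgesOK = true) (hn : D.nodesOK = true) (g : ℕ) :
    tablePerm he hn g * tablePerm he hn g = 1 := by
  unfold tablePerm
  split
  · exact Equiv.ext fun i => Function.Involutive.toPerm_involutive _ i
  · rw [mul_one]

theorem exists_table6 (D : CosetCert) (he : D.edgesOK = true) (hn : D.nodesOK = true)
    (hw : D.wordsOK = true) (hsub : D.subOK = true) (hm : D.m = 6) (hclose : relsClose D = true)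
    (hR : SuzG2.rotOK6 (D.words.take D.nR) = true)
    (hlt : ((D.words.drop D.nR).all six) = true) :
    ∃ e : Fin D.N ≃ hSub ⧸ wordSub s6 (D.words.drop D.nR),
      (∀ i : Fin D.N, (i : ℕ) = 0 → e i = QuotientGroup.mk 1) ∧
      ∀ g (hg : g < D.m) (i : Fin D.N),
        s6 g • e i = e ⟨D.actOf i g, CosetCert.actOf_lt he hn i.2 hg⟩ := by
  obtain ⟨φ, hφ⟩ := exists_hom (P := Equiv.Perm (Fin D.N)) (fun g => tablePerm he hn g)
    (tablePerm_sq he hn) fun w hw' => by
      refine Equiv.ext fun i => Fin.ext ?_
      rw [tablePerm_wval he hn w (fun g hg => hm.symm ▸ SuzG2.rels_lt w hw' g hg), Equiv.Perm.one_apply]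
      have h := checkBelow_spec hclose i.1 i.2
      rw [allList_eq, List.all_eq_true] at h
      exact Nat.beq_eq.mp (h w hw')
  have hφg : ∀ g, g < D.m → φ (s6 g) = tablePerm he hn g := fun g hg => by
    have hg' : g < 6 := hm ▸ hg
    rw [← hφ g hg']
    exact congrArg φ (Subtype.ext (coe_s6 hg'))
  refine CosetCert.exists_equiv he hn _ (fun g _ => s6_sq g)
    (SuzG2.wval_rot6 s6_sq (fun w hw' => ?_) hR) ?_ hw hsub ?_ φ
    (fun g hg i => by rw [hφg g hg, tablePerm_apply he hn hg]) ?_
  · refine Subtype.ext ?_
    rw [coe_wval (SuzG2.rels_lt w hw')]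
    exact wval_rot gens_all gens_ok SuzG2.rels_suz w hw'
  · exact fun w hw' => Subgroup.subset_closure ⟨w, hw', rfl⟩
  · rw [hm]; exact closure_s6
  · intro h hh
    induction hh using Subgroup.closure_induction with
    | mem x hx =>
      obtain ⟨w, hw', rfl⟩ := hx
      intro i hi
      have h6 := six_lt (List.all_eq_true.1 hlt w hw')
      have hwm : ∀ g ∈ w, g < D.m := fun g hg => hm.symm ▸ h6 g hg
      have e : φ (wval s6 w) = wval (tablePerm he hn) w :=
        (wval_map φ w).trans (SuzG2.wval_congr fun j hj => hφg j (hwm j hj))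
      refine Fin.ext ?_
      rw [e, tablePerm_wval he hn w hwm, hi]
      exact Nat.beq_eq.mp (List.all_eq_true.1 hsub w hw')
    | one => simp
    | mul a b _ _ iha ihb => intro i hi; rw [map_mul, Equiv.Perm.mul_apply, ihb i hi, iha i hi]
    | inv a _ iha => intro i hi; rw [map_inv, Equiv.Perm.inv_eq_iff_eq, iha i hi]

end Cfsg.Agent.Presented.SuzHTable
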