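import Cfsg.Agent.Lib.Presented.SuzPoints

/-!
# Words in `⟨a, …, f⟩`

Elements of the subgroup `⟨a, …, f⟩` of the presented Suzuki group given by words, with checks on the
table of 1782 points.
-/

set_option autoImplicit false
set_option maxRecDepth 20000

namespace Cfsg.Agent.Presented.SuzHWords

open Cfsg.Spor SuzIndex SuzPoints

theorem wval_mem' {G : Type*} [Group G] {s : ℕ → G} {H : Subgroup G} :
    ∀ {w : List ℕ}, (∀ g ∈ w, s g ∈ H) → wval s w ∈ H := by
  intro w
  induction w with
  | nil => intro _; exact one_mem _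
  | cons g w ih =>
    intro h
    exact mul_mem (ih fun a ha => h a (List.mem_cons_of_mem _ ha)) (h g List.mem_cons_self)

/-- A word in listed words. -/
def flat (ls : List (List ℕ)) (u : List ℕ) : List ℕ := (u.map fun k => ls.getD k []).flatten

theorem wval_flat_mem {G : Type*} [Group G] {s : ℕ → G} {H : Subgroup G} {ls : List (List ℕ)}
    (h : ∀ l ∈ ls, wval s l ∈ H) (u : List ℕ) : wval s (flat ls u) ∈ H := by
  induction u with
  | nil => exact one_mem _
  | cons k u ih =>
    rw [flat, List.map_cons, List.flatten_cons, wval_append]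
    refine mul_mem ih ?_
    by_cases hk : k < ls.length
    · rw [List.getD_eq_getElem _ _ hk]; exact h _ (List.getElem_mem hk)
    · rw [List.getD_eq_default _ _ (by omega)]; exact one_mem _

theorem wval_rep' {G : Type*} [Group G] {s : ℕ → G} (w : List ℕ) (k : ℕ) :
    wval s (rep k w) = wval s w ^ k := wval_replicate w k

/-- The generators as elements of the subgroup. -/
noncomputable def s6 (g : ℕ) : hSub := if h : g < 6 then ⟨gen g, gen_mem h⟩ else 1

theorem s6_sq (g : ℕ) : s6 g * s6 g = 1 := by
  by_cases h : g < 6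
  · refine Subtype.ext ?_
    simp [s6, h, gen_sq]
  · simp [s6, h]

theorem coe_s6 {g : ℕ} (h : g < 6) : (s6 g : Suz) = gen g := by simp [s6, h]

theorem coe_wval {w : List ℕ} (hw : ∀ g ∈ w, g < 6) : ((wval s6 w : hSub) : Suz) = wval gen w :=
  (wval_map hSub.subtype w).trans (SuzG2.wval_congr fun i hi => coe_s6 (hw i hi))

theorem wval_reverse6 (u : List ℕ) : wval s6 u.reverse = (wval s6 u)⁻¹ := by
  rw [wval_eq_prod, wval_eq_prod, List.map_reverse, List.reverse_reverse, List.prod_inv_reverse,
    List.map_reverse, List.reverse_reverse, List.map_map]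
  exact congrArg List.prod (List.map_congr_left fun g _ => eq_inv_of_mul_eq_one_left (s6_sq g))

theorem closure_s6 : Subgroup.closure (s6 '' {g | g < 6}) = ⊤ := by
  refine Subgroup.map_injective hSub.subtype_injective ?_
  rw [MonoidHom.map_closure, ← MonoidHom.range_eq_map, Subgroup.range_subtype, Set.image_image]
  exact (congrArg Subgroup.closure (Set.image_congr fun g hg => coe_s6 hg)).trans SuzMultBound.closure_gen6

/-- Two words of the subgroup are equal on the base. -/
noncomputable def same6 (u v : List ℕ) : Bool := six u && six v && eqW u v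

theorem eq_of_same6 {u v : List ℕ} (h : same6 u v = true) : wval s6 u = wval s6 v := by
  simp only [same6, Bool.and_eq_true] at h
  refine Subtype.ext ?_
  rw [coe_wval (six_lt h.1.1), coe_wval (six_lt h.1.2)]
  exact wval_eq_of_eqW h.2

/-- A word of the subgroup moves a base point. -/
noncomputable def moves6 (u : List ℕ) : Bool :=
  six u && (SuzChain.chain.map Level.pt).any fun p =>
    Nat.blt p SuzC1782.cert.N && !(Nat.beq (SuzC1782.cert.path u p) p)

theorem ne_one_of_moves6 {u : List ℕ} (h : moves6 u = true) : wval s6 u ≠ 1 := by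
  simp only [moves6, Bool.and_eq_true, List.any_eq_true, Bool.not_eq_true'] at h
  obtain ⟨hu, p, -, hp, hne⟩ := h
  intro e
  refine wval_ne_one (six_lt7 hu) (Nat.blt_eq.mp hp) hne ?_
  rw [← coe_wval (six_lt hu), e]
  rfl

/-- An element given by a word has prime order. -/
noncomputable def orderB (u : List ℕ) (p : ℕ) : Bool := same6 (rep p u) [] && moves6 u

theorem orderOf_of_orderB {u : List ℕ} {p : ℕ} (hp : p.Prime) (h : orderB u p = true) :
    orderOf (wval s6 u) = p := by
  simp only [orderB, Bool.and_eq_true] at h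
  haveI := Fact.mk hp
  refine orderOf_eq_prime ?_ (ne_one_of_moves6 h.2)
  rw [← wval_rep', eq_of_same6 h.1]
  rfl

theorem card_hSub' : Nat.card hSub = 251596800 := SuzOrder.card_hSub

instance finite_hSub : Finite hSub := Nat.finite_of_card_ne_zero (by rw [card_hSub']; norm_num)

/-- Conjugating a `p`-subgroup into a subgroup of full `p`-part. -/
theorem exists_conj_le {G : Type*} [Group G] [Finite G] {p : ℕ} [Fact p.Prime] {M R : Subgroup G}
    (hR : IsPGroup p R) (hM : p ^ (Nat.card G).factorization p ∣ Nat.card M) :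
    ∃ h : G, ∀ r ∈ R, h * r * h⁻¹ ∈ M := by
  obtain ⟨Q, hQ⟩ := Sylow.exists_subgroup_card_pow_prime p hM
  set Q' : Subgroup G := Q.map M.subtype
  have hc : Nat.card Q' = p ^ (Nat.card G).factorization p := by
    rw [← hQ]; exact (Nat.card_congr (Q.equivMapOfInjective _ M.subtype_injective).toEquiv).symm
  obtain ⟨R', hR'⟩ := hR.exists_le_sylow
  obtain ⟨h, hh⟩ := MulAction.exists_smul_eq G R' (Sylow.ofCard Q' hc)
  refine ⟨h, fun r hr => ?_⟩
  have h1 : h * r * h⁻¹ ∈ (h • R' : Sylow p G) := by
    show h * r * h⁻¹ ∈ (h • R').toSubgroup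
    rw [Sylow.coe_subgroup_smul]
    exact ⟨r, hR' hr, rfl⟩
  rw [hh] at h1
  have h2 : h * r * h⁻¹ ∈ Q' := h1
  exact Subgroup.map_subtype_le _ h2

theorem card_comap_conj {G : Type*} [Group G] (M : Subgroup G) (h : G) :
    Nat.card (M.comap (MulAut.conj h).toMonoidHom) = Nat.card M := by
  refine Nat.card_congr ((MulAut.conj h).toEquiv.subtypeEquiv fun _ => Iff.rfl)

end Cfsg.Agent.Presented.SuzHWords
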