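import Cfsg.Prelude.Def_Spor_Suz
import Cfsg.Agent.Lib.Presented.Index
import Cfsg.Agent.Lib.Presented.Orbit
import Cfsg.Agent.Lib.Presented.Data.SuzC1782

/-!
# The subgroup of index 1782 of the presented Suzuki group
-/

set_option autoImplicit false

namespace Cfsg.Agent.Presented.SuzIndex

open Cfsg.Spor Cfsg.Agent.Presented

/-- The generators in table order. -/
def gens : List Suz.Gen := [.a, .b, .c, .d, .e, .f, .g]

theorem gens_all (x : Suz.Gen) : x ∈ gens := by cases x <;> decide

theorem gens_nodup : gens.Nodup := by decide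

theorem gens_ok : gensOK gens Suz.edges = true := by decide +kernel

/-- The generating words of the subgroup. -/
def hGens : List (FreeGroup Suz.Gen) := [Suz.a, Suz.b, Suz.c, Suz.d, Suz.e, Suz.f]

/-- The subgroup generated by `a, …, f`. -/
def hSub : Subgroup Suz :=
  (Subgroup.closure {x | x ∈ hGens}).map
    (PresentedGroup.mk (coxRelators Suz.edges ∪ {r | r ∈ Suz.extra}))

/-- The generators of `Suz` by number. -/
abbrev gen : ℕ → Suz := genFun gens Suz.edges Suz.extra

theorem exists_table : ∃ e : Fin SuzC1782.cert.N ≃ Suz ⧸ hSub,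
    (∀ i : Fin SuzC1782.cert.N, (i : ℕ) = 0 → e i = QuotientGroup.mk 1) ∧
    ∀ g (hgm : g < SuzC1782.cert.m) (i : Fin SuzC1782.cert.N),
      gen g • e i = e ⟨SuzC1782.cert.actOf i g,
        CosetCert.actOf_lt SuzC1782.cert_edgesOK SuzC1782.cert_nodesOK i.2 hgm⟩ := by
  have h1 : (SuzC1782.cert.words.drop SuzC1782.cert.nR).take hGens.length =
      hGens.map (letters gens) := by decide +kernel
  have h2 : relsOK gens Suz.edges Suz.extra (SuzC1782.cert.words.take SuzC1782.cert.nR) = true := by
    decide +kernel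
  have h3 : rotOK gens Suz.edges Suz.extra (SuzC1782.deriv.words.take SuzC1782.deriv.nR) = true := by
    decide +kernel
  have h4 : SuzC1782.deriv.words.drop SuzC1782.deriv.nR = hGens.map (letters gens) := by decide +kernel
  have h5 : (SuzC1782.cert.words.drop SuzC1782.cert.nR).drop hGens.length =
      SuzC1782.deriv.loops.map Prod.fst := by decide +kernel
  exact indexCert gens_all gens_ok rfl SuzC1782.cert_edgesOK SuzC1782.cert_nodesOK
    SuzC1782.cert_wordsOK SuzC1782.cert_subOK h2 gens_nodup hGens hSub rfl h1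
    (deriv_more gens_all gens_ok SuzC1782.deriv_factsOK SuzC1782.deriv_loopsOK hGens hSub rfl h3 h4 h5)

theorem hSub_index : hSub.index = 1782 := by
  obtain ⟨e, -, -⟩ := exists_table
  rw [card_quotient_of_equiv e]; rfl

theorem hSub_eq_closure :
    hSub = Subgroup.closure {x | ∃ k ∈ [[0], [1], [2], [3], [4], [5]], x = wval gen k} := by
  rw [hSub, map_closure_eq_wval gens_all gens_ok,
    show hGens.map (letters gens) = [[0], [1], [2], [3], [4], [5]] by decide +kernel]

theorem suborbits : ∃ q₁ q₂ : Suz ⧸ hSub, (MulAction.orbit hSub q₁).ncard = 416 ∧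
    (MulAction.orbit hSub q₂).ncard = 1365 := by
  obtain ⟨e, -, he⟩ := exists_table
  refine ⟨e ⟨45, by decide +kernel⟩, e ⟨1, by decide +kernel⟩, ?_, ?_⟩
  · rw [CosetCert.orbit_ncard SuzC1782.cert_edgesOK SuzC1782.cert_nodesOK e he hSub_eq_closure
      _ SuzC1782.orbit1_ok (by decide +kernel)]
    exact SuzC1782.orbit1_count
  · rw [CosetCert.orbit_ncard SuzC1782.cert_edgesOK SuzC1782.cert_nodesOK e he hSub_eq_closure
      _ SuzC1782.orbit0_ok (by decide +kernel)]
    exact SuzC1782.orbit0_count

end Cfsg.Agent.Presented.SuzIndex
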