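import Cfsg.Agent.Lib.Presented.SuzOrder
import Cfsg.Agent.Lib.Presented.Data.SuzT56
import Cfsg.Agent.Lib.Presented.Data.SuzT162
import Cfsg.Agent.Lib.Presented.Data.SuzT22880Checks

/-!
# The subgroup of index 22880 of the presented Suzuki group
-/

set_option autoImplicit false

namespace Cfsg.Agent.Presented.SuzIndexU4

open Cfsg.Spor Cfsg.Agent.Presented SuzIndex SuzOrder

theorem bound_SuzT56_rels : stepRelsOK gens Suz.edges Suz.extra [0, 1, 2, 3, 5] []
    (SuzT56.cert.words.take SuzT56.cert.nR) = true := by decide +kernel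

theorem bound_SuzT56_sub : ((SuzT56.cert.words.drop SuzT56.cert.nR).take 4).map
    (List.map fun g => [0, 1, 2, 3, 5].getD g 0) = [[0], [1], [2], [3]] := by decide +kernel

theorem bound_SuzT56_more : ∀ w ∈ (SuzT56.cert.words.drop SuzT56.cert.nR).drop 4,
    wval (stepGen gens Suz.edges Suz.extra [0, 1, 2, 3, 5]) w ∈ wordSub gen [[0], [1], [2], [3]] := by
  have hR : stepRelsOK gens Suz.edges Suz.extra [0, 1, 2, 3, 5] []
      (SuzT56.deriv.words.take SuzT56.deriv.nR) = true := by decide +kernel
  have h0 : ((SuzT56.deriv.words.drop SuzT56.deriv.nR).map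
      (List.map fun g => [0, 1, 2, 3, 5].getD g 0)) = [[0], [1], [2], [3]] := by decide +kernel
  have h1 : (SuzT56.cert.words.drop SuzT56.cert.nR).drop 4 = SuzT56.deriv.loops.map Prod.fst := by
    decide +kernel
  exact step_more gens_all gens_ok (ex := []) (by simp) SuzT56.deriv_factsOK SuzT56.deriv_loopsOK hR
    (Kprev := [[0], [1], [2], [3]]) (by rw [h0]; simp) le_rfl h1

theorem bound_SuzT56 : OrderLE (wordSub gen [[0], [1], [2], [3], [5]]) 120960 := by
  have h := step_le gens_all gens_ok (π := [0, 1, 2, 3, 5]) (ex := []) (by simp) SuzT56.cert_edgesOK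
    SuzT56.cert_nodesOK rfl bound_SuzT56_rels 4 (Kprev := [[0], [1], [2], [3]]) (by rw [bound_SuzT56_sub]; simp)
    bound2160 bound_SuzT56_more
  exact ⟨h.1, h.2.trans (le_of_eq (by decide +kernel))⟩

theorem bound_SuzT162_rels : stepRelsOK gens Suz.edges Suz.extra [0, 1, 2, 3, 5, 6] []
    (SuzT162.cert.words.take SuzT162.cert.nR) = true := by decide +kernel

theorem bound_SuzT162_sub : ((SuzT162.cert.words.drop SuzT162.cert.nR).take 5).map
    (List.map fun g => [0, 1, 2, 3, 5, 6].getD g 0) = [[0], [1], [2], [3], [5]] := by decide +kernel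

theorem bound_SuzT162_more : ∀ w ∈ (SuzT162.cert.words.drop SuzT162.cert.nR).drop 5,
    wval (stepGen gens Suz.edges Suz.extra [0, 1, 2, 3, 5, 6]) w ∈ wordSub gen [[0], [1], [2], [3], [5]] := by
  have hR : stepRelsOK gens Suz.edges Suz.extra [0, 1, 2, 3, 5, 6] []
      (SuzT162.deriv.words.take SuzT162.deriv.nR) = true := by decide +kernel
  have h0 : ((SuzT162.deriv.words.drop SuzT162.deriv.nR).map
      (List.map fun g => [0, 1, 2, 3, 5, 6].getD g 0)) = [[0], [1], [2], [3], [5]] := by decide +kernel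
  have h1 : (SuzT162.cert.words.drop SuzT162.cert.nR).drop 5 = SuzT162.deriv.loops.map Prod.fst := by
    decide +kernel
  exact step_more gens_all gens_ok (ex := []) (by simp) SuzT162.deriv_factsOK SuzT162.deriv_loopsOK hR
    (Kprev := [[0], [1], [2], [3], [5]]) (by rw [h0]; simp) le_rfl h1

theorem bound_SuzT162 : OrderLE (wordSub gen [[0], [1], [2], [3], [5], [6]]) 19595520 := by
  have h := step_le gens_all gens_ok (π := [0, 1, 2, 3, 5, 6]) (ex := []) (by simp) SuzT162.cert_edgesOK
    SuzT162.cert_nodesOK rfl bound_SuzT162_rels 5 (Kprev := [[0], [1], [2], [3], [5]]) (by rw [bound_SuzT162_sub]; simp)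
    bound_SuzT56 bound_SuzT162_more
  exact ⟨h.1, h.2.trans (le_of_eq (by decide +kernel))⟩

theorem bound_SuzT22880_rels : stepRelsOK gens Suz.edges Suz.extra [0, 1, 2, 3, 4, 5, 6] []
    (SuzT22880.cert.words.take SuzT22880.cert.nR) = true := by decide +kernel

theorem bound_SuzT22880_sub : ((SuzT22880.cert.words.drop SuzT22880.cert.nR).take 6).map
    (List.map fun g => [0, 1, 2, 3, 4, 5, 6].getD g 0) = [[0], [1], [2], [3], [5], [6]] := by decide +kernel

theorem bound_SuzT22880_more : ∀ w ∈ (SuzT22880.cert.words.drop SuzT22880.cert.nR).drop 6,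
    wval (stepGen gens Suz.edges Suz.extra [0, 1, 2, 3, 4, 5, 6]) w ∈ wordSub gen [[0], [1], [2], [3], [5], [6]] := by
  have hR : stepRelsOK gens Suz.edges Suz.extra [0, 1, 2, 3, 4, 5, 6] []
      (SuzT22880.deriv.words.take SuzT22880.deriv.nR) = true := by decide +kernel
  have h0 : ((SuzT22880.deriv.words.drop SuzT22880.deriv.nR).map
      (List.map fun g => [0, 1, 2, 3, 4, 5, 6].getD g 0)) = [[0], [1], [2], [3], [5], [6]] := by decide +kernel
  have h1 : (SuzT22880.cert.words.drop SuzT22880.cert.nR).drop 6 = SuzT22880.deriv.loops.map Prod.fst := by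
    decide +kernel
  exact step_more gens_all gens_ok (ex := []) (by simp) SuzT22880.deriv_factsOK SuzT22880.deriv_loopsOK hR
    (Kprev := [[0], [1], [2], [3], [5], [6]]) (by rw [h0]; simp) le_rfl h1

theorem bound_SuzT22880 : OrderLE (wordSub gen [[0], [1], [2], [3], [4], [5], [6]]) 448345497600 := by
  have h := step_le gens_all gens_ok (π := [0, 1, 2, 3, 4, 5, 6]) (ex := []) (by simp) SuzT22880.cert_edgesOK
    SuzT22880.cert_nodesOK rfl bound_SuzT22880_rels 6 (Kprev := [[0], [1], [2], [3], [5], [6]]) (by rw [bound_SuzT22880_sub]; simp)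
    bound_SuzT162 bound_SuzT22880_more
  exact ⟨h.1, h.2.trans (le_of_eq (by decide +kernel))⟩

/-- The generating words `a, b, c, d, f, g`. -/
def u4Gens : List (FreeGroup Suz.Gen) := [Suz.a, Suz.b, Suz.c, Suz.d, Suz.f, Suz.g]

theorem u4_index : ((Subgroup.closure {x | x ∈ u4Gens}).map
    (PresentedGroup.mk (coxRelators Suz.edges ∪ {r | r ∈ Suz.extra}))).index = 22880 := by
  haveI := finite_suz
  have hS : (Subgroup.closure {x | x ∈ u4Gens}).map
      (PresentedGroup.mk (coxRelators Suz.edges ∪ {r | r ∈ Suz.extra})) =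
        wordSub gen [[0], [1], [2], [3], [5], [6]] := by
    rw [map_closure_eq_wval gens_all gens_ok,
      show u4Gens.map (letters gens) = [[0], [1], [2], [3], [5], [6]] by decide +kernel]
    rfl
  rw [hS]
  have hw : ∀ w ∈ SuzT22880.cert.words,
      w.map (fun g => [0, 1, 2, 3, 4, 5, 6].getD g 0) = w := by decide +kernel
  have hgen : Subgroup.closure (gen '' {g | g < 7}) = ⊤ := by
    rw [eq_top_iff, ← PresentedGroup.closure_range_of, Subgroup.closure_le]
    rintro _ ⟨x, rfl⟩
    exact Subgroup.subset_closure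
      ⟨gens.idxOf x, List.idxOf_lt_length_of_mem (gens_all x), genFun_idxOf gens_all x⟩
  refine index_eq_of_bounds _ ?_ bound_SuzT162 (by rw [card_suz])
  refine index_le_of_cert (D := SuzT22880.cert) SuzT22880.cert_edgesOK SuzT22880.cert_nodesOK
    (fun g _ => genFun_mul_self gens_all gens_ok g) ?_ hgen _ ?_
  · intro w hmem
    have h := stepRels gens_all gens_ok (ex := []) (by simp) bound_SuzT22880_rels w hmem
    rwa [wval_stepGen, hw w (List.mem_of_mem_take hmem)] at h
  · intro w hmem
    rw [← List.take_append_drop 6 (SuzT22880.cert.words.drop SuzT22880.cert.nR), List.mem_append] at hmem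
    rcases hmem with hmem | hmem
    · have h := bound_SuzT22880_sub
      refine Subgroup.subset_closure ⟨w, ?_, rfl⟩
      rw [← h, List.mem_map]
      exact ⟨w, hmem, hw w (List.mem_of_mem_drop (List.mem_of_mem_take hmem))⟩
    · have h := bound_SuzT22880_more w hmem
      rwa [wval_stepGen, hw w (List.mem_of_mem_drop (List.mem_of_mem_drop hmem))] at h

end Cfsg.Agent.Presented.SuzIndexU4
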