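import Cfsg.Agent.Lib.Presented.SuzG2
import Cfsg.Agent.Lib.Presented.Data.SuzJ2Data
import Cfsg.Agent.Lib.HallJanko.Multiplier

/-!
# The subgroup `⟨a, …, e⟩` of the presented Suzuki group is the Hall–Janko group

Five permutations of 100 points satisfy the relators in `a, …, e` and generate the Hall–Janko group.  The
pairs generate a subgroup of `Suz × J₂` of order at most 604800, so both projections are bijective.
-/

set_option autoImplicit false
set_option maxRecDepth 20000

namespace Cfsg.Agent.Presented.SuzJ2

open Cfsg.Spor Cfsg.Agent.Presented Cfsg.Agent.Mathieu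
open Cfsg.Agent.HJ (enc100 Q100 gens100)

/-- The subgroup generated by `a, …, e`. -/
def jSub : Subgroup Suz := Subgroup.closure (SuzIndex.gen '' {g | g < 5})

/-- The relators in five generators. -/
def rels5 : List (List ℕ) := SuzG2Data.rels.filter fun w => w.all fun g => Nat.blt g 5

theorem imgs_perm : SuzJ2Data.imgs.all (permOK 100) = true := by decide +kernel

theorem slpIn_ok : slpOK 100 gens100 SuzJ2Data.slpIn = true := by decide +kernel

theorem slpOut_ok : slpOK 100 SuzJ2Data.imgs SuzJ2Data.slpOut = true := by decide +kernel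

theorem imgs_in : (SuzJ2Data.imgs.all fun l =>
    (gens100 ++ SuzJ2Data.slpIn.map fun s => s.1).contains l) = true := by decide +kernel

theorem gens_out : (gens100.all fun l =>
    (SuzJ2Data.imgs ++ SuzJ2Data.slpOut.map fun s => s.1).contains l) = true := by decide +kernel

theorem img_exists (i : ℕ) : ∃ σ : Q100, i < 5 → Rep enc100 (σ : Equiv.Perm (Fin 100)) (SuzJ2Data.imgs.getD i 0) := by
  by_cases hi : i < 5
  · have hlen : SuzJ2Data.imgs.length = 5 := by decide +kernel
    have hm : SuzJ2Data.imgs.getD i 0 ∈ SuzJ2Data.imgs := by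
      rw [List.getD_eq_getElem _ _ (hlen.symm ▸ hi)]; exact List.getElem_mem _
    obtain ⟨σ, hσ, hr⟩ := rep_of_slp (e := enc100) (H := genGroup enc100 gens100) gens100 SuzJ2Data.slpIn
      (fun l hl => by
        obtain ⟨τ, hτ⟩ := exists_rep (e := enc100) (List.all_eq_true.1 HJ.gens100_perm l hl)
        exact ⟨τ, Subgroup.subset_closure ⟨l, hl, hτ⟩, hτ⟩) slpIn_ok _
      (List.mem_append.1 (List.contains_iff_mem.1 (List.all_eq_true.1 imgs_in _ hm)))
    rw [HJ.genGroup_eq] at hσ
    exact ⟨⟨σ, hσ⟩, fun _ => hr⟩
  · exact ⟨1, fun h => absurd h hi⟩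

/-- The image of generator number `i`. -/
noncomputable def img (i : ℕ) : Q100 := if i < 5 then (img_exists i).choose else 1

theorem img_rep {i : ℕ} (hi : i < 5) :
    Rep enc100 (img i : Equiv.Perm (Fin 100)) (SuzJ2Data.imgs.getD i 0) := by
  rw [img, if_pos hi]; exact (img_exists i).choose_spec hi

/-- A word of packed permutations. -/
noncomputable def packW (w : List ℕ) : ℕ :=
  List.rec (motive := fun _ => ℕ) (packId 100) (fun g _ ih => packMulS 100 ih (SuzJ2Data.imgs.getD g 0)) w

theorem rep_word : ∀ w : List ℕ, (∀ g ∈ w, g < 5) →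
    Rep enc100 ((wval img w : Q100) : Equiv.Perm (Fin 100)) (packW w) := by
  intro w
  induction w with
  | nil => intro _; exact rep_packId (by norm_num)
  | cons g w ih =>
    intro h
    exact HJ.repM_mul (ih fun a ha => h a (List.mem_cons_of_mem _ ha)) (img_rep (h g List.mem_cons_self))

theorem rels5_check : (rels5.all fun w => samePack 100 (packW w) (packId 100)) = true := by decide +kernel

theorem rels5_mem {w : List ℕ} (hw : w ∈ rels5) : w ∈ SuzG2Data.rels ∧ ∀ g ∈ w, g < 5 := by
  simpa [rels5, List.mem_filter] using hw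

theorem img_rels {w : List ℕ} (hw : w ∈ rels5) : wval img w = 1 :=
  HJ.eqM_of_same (rep_word w (rels5_mem hw).2) (rep_packId (by norm_num))
    (List.all_eq_true.1 rels5_check w hw)

theorem closure_img : Subgroup.closure (img '' {g | g < 5}) = ⊤ := by
  rw [eq_top_iff]
  intro x _
  have hle : Q100 ≤ (Subgroup.closure (img '' {g | g < 5})).map Q100.subtype := by
    refine HJ.genGroup_eq.ge.trans ?_
    refine genGroup_le fun σ l hl hσ => ?_
    obtain ⟨τ, hτ, hr⟩ := rep_of_slp (e := enc100)
      (H := (Subgroup.closure (img '' {g | g < 5})).map Q100.subtype) SuzJ2Data.imgs SuzJ2Data.slpOut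
      (fun l hl => by
        obtain ⟨k, hk, rfl⟩ := List.getElem_of_mem hl
        have hlen : SuzJ2Data.imgs.length = 5 := by decide +kernel
        have hk5 : k < 5 := hlen ▸ hk
        refine ⟨_, Subgroup.mem_map_of_mem _ (Subgroup.subset_closure ⟨k, hk5, rfl⟩), ?_⟩
        have h := img_rep hk5
        rwa [List.getD_eq_getElem _ _ hk] at h) slpOut_ok l
      (List.mem_append.1 (List.contains_iff_mem.1 (List.all_eq_true.1 gens_out l hl)))
    exact hσ.unique hr ▸ hτ
  obtain ⟨y, hy, e⟩ := hle x.2
  rwa [← Subtype.ext e]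

/-! ## The bound -/

/-- Every word is empty or a rotation of a relator in five generators or of a reversed one. -/
def rotOK5 (ws : List (List ℕ)) : Bool :=
  ws.all fun w => w.isEmpty || (List.range w.length).any fun k =>
    rels5.contains (w.rotate k) || rels5.contains (w.rotate k).reverse

variable {P : Type*} [Group P] {s : ℕ → P}

theorem wval_rot5 (hs : ∀ g, s g * s g = 1) (hrel : ∀ w ∈ rels5, wval s w = 1)
    {ws : List (List ℕ)} (h : rotOK5 ws = true) : ∀ w ∈ ws, wval s w = 1 := by
  intro w hw
  simp only [rotOK5, List.all_eq_true, Bool.or_eq_true, List.any_eq_true, List.contains_eq_mem,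
    decide_eq_true_eq] at h
  have inv : ∀ u : List ℕ, wval s u.reverse = (wval s u)⁻¹ := by
    intro u
    rw [wval_eq_prod, wval_eq_prod, List.map_reverse, List.reverse_reverse, List.prod_inv_reverse,
      List.map_reverse, List.reverse_reverse, List.map_map]
    exact congrArg List.prod (List.map_congr_left fun g _ => eq_inv_of_mul_eq_one_left (hs g))
  rcases h w hw with h | ⟨k, -, h'⟩
  · rw [List.isEmpty_iff] at h; rw [h]; rfl
  · have h1 : wval s (w.rotate k) = 1 := by
      rcases h' with h' | h'
      · exact hrel _ h'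
      · exact inv_eq_one.1 ((inv _).symm.trans (hrel _ h'))
    rw [List.rotate_eq_drop_append_take_mod, wval_append, mul_eq_one_comm, ← wval_append,
      List.take_append_drop] at h1
    exact h1

theorem step5 (hs : ∀ g, s g * s g = 1) (hrel : ∀ w ∈ rels5, wval s w = 1)
    {D : CosetCert} {E : DerivCert} (he : D.edgesOK = true) (hn : D.nodesOK = true)
    (hf : E.factsOK = true) (hl : E.loopsOK = true)
    (hD : rotOK5 (D.words.take D.nR) = true) (hE : rotOK5 (E.words.take E.nR) = true) {k n : ℕ}
    (hk : (D.words.drop D.nR).take k = (List.range k).map fun g => [g])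
    (hEk : E.words.drop E.nR = (List.range k).map fun g => [g])
    (hrest : (D.words.drop D.nR).drop k = E.loops.map Prod.fst)
    (hprev : OrderLE (Subgroup.closure (s '' {g | g < k})) n) :
    OrderLE (Subgroup.closure (s '' {g | g < D.m})) (D.N * n) := by
  have hgen : ∀ w ∈ (List.range k).map (fun g => [g]),
      wval s w ∈ Subgroup.closure (s '' {g | g < k}) := by
    intro w hw
    obtain ⟨g, hg, rfl⟩ := List.mem_map.1 hw
    exact Subgroup.subset_closure ⟨g, List.mem_range.1 hg, by simp [wval]⟩
  refine closure_card_le he hn (fun g _ => hs g) (wval_rot5 hs hrel hD) _ ?_ hprev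
  intro w hw
  rw [← List.take_append_drop k (D.words.drop D.nR), List.mem_append, hk, hrest] at hw
  rcases hw with hw | hw
  · exact hgen w hw
  · exact DerivCert.loops_mem E _ hf hl (fun g _ => hs g) (wval_rot5 hs hrel hE) (by rw [hEk]; exact hgen) w hw

theorem bound_closure (hs : ∀ g, s g * s g = 1) (hrel : ∀ w ∈ rels5, wval s w = 1) :
    OrderLE (Subgroup.closure (s '' {g | g < 5})) 604800 := by
  have h0 : OrderLE (Subgroup.closure (s '' {g | g < 0})) 1 := by
    simpa using (orderLE_bot (G := P))
  have h4 := step5 hs hrel SuzT2160.cert_edgesOK SuzT2160.cert_nodesOK SuzT2160.deriv_factsOK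
    SuzT2160.deriv_loopsOK (by decide +kernel) (by decide +kernel) (k := 0) (by decide +kernel)
    (by decide +kernel) (by decide +kernel) h0
  exact step5 hs hrel SuzT280.cert_edgesOK SuzT280.cert_nodesOK SuzT280.deriv_factsOK
    SuzT280.deriv_loopsOK (by decide +kernel) (by decide +kernel) (k := 4) (by decide +kernel)
    (by decide +kernel) (by decide +kernel) h4

/-- The pairs. -/
noncomputable def pair (i : ℕ) : Suz × Q100 := if i < 5 then (SuzIndex.gen i, img i) else 1

theorem rels5_suz : rotOK SuzIndex.gens Suz.edges Suz.extra rels5 = true := by decide +kernel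

theorem pair_rels (w : List ℕ) (hw : w ∈ rels5) : wval pair w = 1 := by
  refine Prod.ext ?_ ?_
  · refine ((wval_map (MonoidHom.fst Suz Q100) w).trans (SuzG2.wval_congr (g := SuzIndex.gen) ?_)).trans
      (wval_rot SuzIndex.gens_all SuzIndex.gens_ok rels5_suz w hw)
    intro i hi
    simp [pair, (rels5_mem hw).2 i hi]
  · refine ((wval_map (MonoidHom.snd Suz Q100) w).trans (SuzG2.wval_congr (g := img) ?_)).trans (img_rels hw)
    intro i hi
    simp [pair, (rels5_mem hw).2 i hi]

theorem pair_sq (g : ℕ) : pair g * pair g = 1 := by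
  by_cases hg : g < 5
  · have key : ∀ i < 5, [i, i] ∈ rels5 := by decide +kernel
    simpa [wval] using pair_rels _ (key g hg)
  · simp [pair, hg]

theorem card_le_jSub : 604800 ≤ Nat.card jSub := by
  haveI := SuzOrder.finite_suz
  have hle : jSub ≤ SuzIndex.hSub := by
    rw [jSub, Subgroup.closure_le]
    rintro _ ⟨g, hg, rfl⟩
    rw [SuzIndex.hSub_eq_closure]
    refine Subgroup.subset_closure ⟨[g], ?_, by simp [wval]⟩
    have hg' : g < 5 := hg
    interval_cases g <;> simp
  obtain ⟨-, hb⟩ := SuzG2.bound_closure (s := SuzG2.sPair) SuzG2.sPair_sq SuzG2.sPair_rels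
  have hgen : ∀ g, g < 5 → SuzIndex.gen g ∈ jSub := fun g hg => Subgroup.subset_closure ⟨g, hg, rfl⟩
  by_contra hlt
  have h5 : OrderLE (Subgroup.closure (SuzIndex.gen '' {g | g < 5})) (Nat.card jSub) := ⟨inferInstance, le_rfl⟩
  have h6 := SuzG2.step6 (s := SuzIndex.gen) (fun g => genFun_mul_self SuzIndex.gens_all SuzIndex.gens_ok g)
    (fun w hw => wval_rot SuzIndex.gens_all SuzIndex.gens_ok SuzG2.rels_suz w hw)
    SuzT416.cert_edgesOK SuzT416.cert_nodesOK SuzT416.deriv_factsOK SuzT416.deriv_loopsOK
    (by decide +kernel) (by decide +kernel) (k := 5) (by decide +kernel)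
    (by decide +kernel) (by decide +kernel) h5
  have he : Subgroup.closure (SuzIndex.gen '' {g | g < 6}) = SuzIndex.hSub := by
    rw [SuzIndex.hSub_eq_closure]
    congr 1
    ext x
    constructor
    · rintro ⟨g, hg, rfl⟩
      have hg' : g < 6 := hg
      refine ⟨[g], ?_, by simp [wval]⟩
      interval_cases g <;> simp
    · rintro ⟨k, hk, rfl⟩
      simp only [List.mem_cons, List.not_mem_nil, or_false] at hk
      obtain ⟨g, hg, rfl⟩ : ∃ g < 6, k = [g] := by
        rcases hk with rfl | rfl | rfl | rfl | rfl | rfl <;> exact ⟨_, by norm_num, rfl⟩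
      exact ⟨g, hg, by simp [wval]⟩
  have hc : Nat.card SuzIndex.hSub = 251596800 := SuzOrder.card_hSub
  have hcard : Nat.card (Subgroup.closure (SuzIndex.gen '' {g | g < 6})) = 251596800 := by rw [he, hc]
  have hN : SuzT416.cert.N = 416 := rfl
  have := h6.2
  rw [show SuzT416.cert.m = 6 from rfl, hcard, hN] at this
  omega

theorem exists_equiv : Nonempty (jSub ≃* Q100) := by
  set S := Subgroup.closure (pair '' {g | g < 5}) with hS
  obtain ⟨hfin, hle⟩ := bound_closure pair_sq pair_rels
  have h1 : S.map (MonoidHom.fst Suz Q100) = jSub := by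
    rw [hS, MonoidHom.map_closure, Set.image_image, jSub]
    congr 1
    exact Set.image_congr fun g hg => by simp [pair, (show g < 5 from hg)]
  have h2 : S.map (MonoidHom.snd Suz Q100) = ⊤ := by
    rw [← closure_img, hS, MonoidHom.map_closure, Set.image_image]
    congr 1
    exact Set.image_congr fun g hg => by simp [pair, (show g < 5 from hg)]
  haveI : Finite Suz := SuzOrder.finite_suz
  have i1 : Function.Injective ((MonoidHom.fst Suz Q100).subgroupMap S) :=
    ((Nat.bijective_iff_surjective_and_card _).2 ⟨MonoidHom.subgroupMap_surjective _ _, le_antisymm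
      (hle.trans (by rw [h1]; exact card_le_jSub))
      (Nat.card_le_card_of_surjective _ (MonoidHom.subgroupMap_surjective _ _))⟩).1
  have i2 : Function.Injective ((MonoidHom.snd Suz Q100).subgroupMap S) :=
    ((Nat.bijective_iff_surjective_and_card _).2 ⟨MonoidHom.subgroupMap_surjective _ _, le_antisymm
      (hle.trans (le_of_eq (by rw [h2, Subgroup.card_top, HJ.card_Q100])))
      (Nat.card_le_card_of_surjective _ (MonoidHom.subgroupMap_surjective _ _))⟩).1
  exact ⟨(MulEquiv.subgroupCongr h1.symm).trans
    ((MulEquiv.ofBijective _ ⟨i1, MonoidHom.subgroupMap_surjective _ _⟩).symm.trans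
      ((MulEquiv.ofBijective _ ⟨i2, MonoidHom.subgroupMap_surjective _ _⟩).trans
        ((MulEquiv.subgroupCongr h2).trans Subgroup.topEquiv)))⟩

theorem card_jSub : Nat.card jSub = 604800 := by
  obtain ⟨e⟩ := exists_equiv
  rw [Nat.card_congr e.toEquiv, HJ.card_Q100]

end Cfsg.Agent.Presented.SuzJ2
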