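import Cfsg.Agent.Lib.Presented.SuzJClass
import Cfsg.Agent.Lib.HallJanko.OuterAut

/-!
# Automorphisms of `⟨a, …, e⟩`

Up to an inner automorphism, every automorphism is the identity or a fixed outer one, given by five
words.
-/

set_option autoImplicit false
set_option maxRecDepth 20000

namespace Cfsg.Agent.Presented.SuzJAut

open Cfsg Cfsg.Spor SuzIndex SuzPoints SuzHWords SuzJClass Cfsg.Agent.Mathieu
open Cfsg.Agent.HJ (enc100 Q100)

/-- The identity, as five words. -/
def idW : List (List ℕ) := [[0], [1], [2], [3], [4]]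

/-- An outer automorphism, as five words. -/
def sigW : List (List ℕ) :=
  [
    [0],
    [0, 1, 0, 2, 3, 2, 1, 4, 3, 2, 1, 3, 4, 2, 3, 2, 1, 0, 1, 2, 3, 2, 3, 4, 3, 2, 1],
    [2],
    [0, 2, 3, 2, 4, 3, 2],
    [2, 0, 3, 2, 3, 4, 3, 2, 3]]

theorem s6_mem {g : ℕ} (hg : g < 5) : s6 g ∈ jSub6 := by
  have := wval_mem_jSub6 (w := [g]) (by simpa [five, Nat.blt_eq] using hg)
  simpa [wval] using this

/-- The generators as elements of the subgroup. -/
noncomputable def s5 (g : ℕ) : jSub6 := if h : g < 5 then ⟨s6 g, s6_mem h⟩ else 1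

theorem exists_equiv : ∃ e : jSub6 ≃* Q100, ∀ g, g < 5 → e (s5 g) = SuzJ2.img g := by
  set S := Subgroup.closure (SuzJ2.pair '' {g | g < 5}) with hS
  obtain ⟨hfin, hle⟩ := SuzJ2.bound_closure SuzJ2.pair_sq SuzJ2.pair_rels
  have h1 : S.map (MonoidHom.fst Suz Q100) = SuzJ2.jSub := by
    rw [hS, MonoidHom.map_closure, Set.image_image, SuzJ2.jSub]
    exact congrArg Subgroup.closure (Set.image_congr fun g hg => by
      simp [SuzJ2.pair, (show g < 5 from hg)])
  have h2 : S.map (MonoidHom.snd Suz Q100) = ⊤ := by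
    rw [← SuzJ2.closure_img, hS, MonoidHom.map_closure, Set.image_image]
    exact congrArg Subgroup.closure (Set.image_congr fun g hg => by
      simp [SuzJ2.pair, (show g < 5 from hg)])
  haveI : Finite Suz := SuzOrder.finite_suz
  have i1 : Function.Bijective ((MonoidHom.fst Suz Q100).subgroupMap S) :=
    (Nat.bijective_iff_surjective_and_card _).2 ⟨MonoidHom.subgroupMap_surjective _ _, le_antisymm
      (hle.trans (by rw [h1]; exact SuzJ2.card_le_jSub))
      (Nat.card_le_card_of_surjective _ (MonoidHom.subgroupMap_surjective _ _))⟩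
  have i2 : Function.Bijective ((MonoidHom.snd Suz Q100).subgroupMap S) :=
    (Nat.bijective_iff_surjective_and_card _).2 ⟨MonoidHom.subgroupMap_surjective _ _, le_antisymm
      (hle.trans (le_of_eq (by rw [h2, Subgroup.card_top, HJ.card_Q100])))
      (Nat.card_le_card_of_surjective _ (MonoidHom.subgroupMap_surjective _ _))⟩
  let e0 : jSub6 ≃* SuzJ2.jSub := Subgroup.subgroupOfEquivOfLe SuzMultBound.jSub_le
  refine ⟨e0.trans ((MulEquiv.subgroupCongr h1.symm).trans ((MulEquiv.ofBijective _ i1).symm.trans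
    ((MulEquiv.ofBijective _ i2).trans ((MulEquiv.subgroupCongr h2).trans Subgroup.topEquiv)))),
    fun g hg => ?_⟩
  have hmem : SuzJ2.pair g ∈ S := Subgroup.subset_closure ⟨g, hg, rfl⟩
  have he : (MulEquiv.ofBijective _ i1).symm (MulEquiv.subgroupCongr h1.symm (e0 (s5 g))) =
      ⟨SuzJ2.pair g, hmem⟩ := by
    rw [MulEquiv.symm_apply_eq]
    refine Subtype.ext ?_
    have hg6 : g < 6 := lt_trans hg (by norm_num)
    show ((s5 g : hSub) : Suz) = (SuzJ2.pair g).1
    simp [s5, hg, SuzJ2.pair, coe_s6 hg6]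
  show (((MulEquiv.ofBijective _ i1).symm
    (MulEquiv.subgroupCongr h1.symm (e0 (s5 g))) : S) : Suz × Q100).2 = SuzJ2.img g
  rw [he]
  simp [SuzJ2.pair, hg]

theorem sig_ok : ((List.range 5).all fun g => five (sigW.getD g []) &&
    samePack 100 (packMulS 100 (packMulS 100 HJ.outer100 (SuzJ2Data.imgs.getD g 0)) HJ.outerInv100)
      (SuzJ2.packW (sigW.getD g []))) = true := by
  decide +kernel

/-- Conjugation by an odd permutation is an automorphism of the Hall–Janko group that is not inner and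
takes the five generators to the values of the five words. -/
theorem exists_outer : ∃ A : MulAut Q100, A ∉ Inn Q100 ∧
    ∀ g, g < 5 → A (SuzJ2.img g) = wval SuzJ2.img (sigW.getD g []) := by
  have hc := HJ.outer100_check
  simp only [Bool.and_eq_true, List.all_eq_true, List.mem_range] at hc
  obtain ⟨⟨⟨hd, hdi⟩, hinv⟩, hgen⟩ := hc
  obtain ⟨δ, hδ⟩ := exists_rep (e := enc100) hd
  obtain ⟨τ, hτ⟩ := exists_rep (e := enc100) hdi
  have hδi : Rep enc100 δ⁻¹ HJ.outerInv100 :=
    eq_inv_of_mul_eq_one_right ((rep_packMul hδ hτ).eq_one hinv) ▸ hτ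
  have hok := List.all_eq_true.1 sig_ok
  have himg : ∀ g, g < 5 → δ * (SuzJ2.img g : Equiv.Perm (Fin 100)) * δ⁻¹ =
      ((wval SuzJ2.img (sigW.getD g []) : Q100) : Equiv.Perm (Fin 100)) := by
    intro g hg
    have h := hok g (List.mem_range.2 hg)
    simp only [Bool.and_eq_true] at h
    rw [packMulS_eq, packMulS_eq] at h
    exact ((rep_packMul (rep_packMul hδ (SuzJ2.img_rep hg)) hδi).of_same h.2).unique
      (SuzJ2.rep_word _ (five_lt h.1))
  have hnorm : Q100.map (MulAut.conj δ).toMonoidHom = Q100 := by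
    refine Subgroup.eq_of_le_of_card_ge ?_
      (by rw [Subgroup.card_map_of_injective (MulAut.conj δ).injective])
    rintro _ ⟨x, hx, rfl⟩
    have hx' : (⟨x, hx⟩ : Q100) ∈ Subgroup.closure (SuzJ2.img '' {g | g < 5}) := by
      rw [SuzJ2.closure_img]; trivial
    suffices key : ∀ z : Q100, z ∈ Subgroup.closure (SuzJ2.img '' {g | g < 5}) →
        δ * (z : Equiv.Perm (Fin 100)) * δ⁻¹ ∈ Q100 from key _ hx'
    intro z hz
    induction hz using Subgroup.closure_induction with
    | mem y hy => obtain ⟨g, hg, rfl⟩ := hy; rw [himg g hg]; exact Subtype.coe_prop _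
    | one => simp
    | mul a b _ _ iha ihb =>
      rw [Subgroup.coe_mul, show δ * ((a : Equiv.Perm (Fin 100)) * b) * δ⁻¹ =
        (δ * a * δ⁻¹) * (δ * b * δ⁻¹) by group]
      exact mul_mem iha ihb
    | inv a _ iha =>
      rw [Subgroup.coe_inv, show δ * (a : Equiv.Perm (Fin 100))⁻¹ * δ⁻¹ = (δ * a * δ⁻¹)⁻¹ by group]
      exact inv_mem iha
  let A : MulAut Q100 := ((MulAut.conj δ).subgroupMap Q100).trans (MulEquiv.subgroupCongr hnorm)
  refine ⟨A, ?_, fun g hg => Subtype.ext (himg g hg)⟩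
  rintro ⟨c, hcA⟩
  have hconj : ∀ z : Q100, (c : Equiv.Perm (Fin 100)) * z * (c : Equiv.Perm (Fin 100))⁻¹ = δ * z * δ⁻¹ := by
    intro z
    exact congrArg (fun f : MulAut Q100 => ((f z : Q100) : Equiv.Perm (Fin 100))) hcA
  obtain ⟨σx, hσx, hx⟩ := HJ.known100_mem (List.all_eq_true.1 HJ.rigid100_mem HJ.rigid100.x (by simp))
  obtain ⟨σt, hσt, ht⟩ := HJ.known100_mem (List.all_eq_true.1 HJ.rigid100_mem HJ.rigid100.t (by simp))
  have hxd := HJ.outerX100
  have htd := HJ.outerT100_check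
  rw [packMulS_eq, packMulS_eq] at hxd htd
  have hgx : (c : Equiv.Perm (Fin 100)) * σx = δ * σx * δ⁻¹ * c := by
    rw [← hconj ⟨σx, hσx⟩]; group
  have hgt : (c : Equiv.Perm (Fin 100)) * σt = δ * σt * δ⁻¹ * c := by
    rw [← hconj ⟨σt, hσt⟩]; group
  have hxdR := (rep_packMul (rep_packMul hδ hx) hδi).of_same hxd
  have htdR := (rep_packMul (rep_packMul hδ ht) hδi).of_same htd
  obtain ⟨l, hl, hlr⟩ := HJ.stab100.exists_solution hx hxdR c.2 hgx
  have h1 := List.all_eq_true.1 HJ.outer100_no_inner l hl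
  simp only [packMulS_eq] at h1
  rw [(rep_packMul hlr ht).same (hgt ▸ rep_packMul htdR hlr)] at h1
  simp at h1

theorem aut_cases (α : MulAut jSub6) : ∃ (j : jSub6) (θ : List (List ℕ)), (θ = idW ∨ θ = sigW) ∧
    ∀ g, g < 5 → (α (s5 g) : hSub) = (j : hSub) * wval s6 (θ.getD g []) * (j : hSub)⁻¹ := by
  obtain ⟨e, he⟩ := exists_equiv
  obtain ⟨A, hA, hAimg⟩ := exists_outer
  have key : ∀ θ : List (List ℕ), (θ = idW ∨ θ = sigW) → ∀ g, g < 5 →
      (e.symm (wval SuzJ2.img (θ.getD g [])) : hSub) = wval s6 (θ.getD g []) := by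
    intro θ hθ g hg
    have h5 : five (θ.getD g []) = true := by
      rcases hθ with rfl | rfl <;> interval_cases g <;> decide +kernel
    rw [← MulEquiv.coe_toMonoidHom, wval_map e.symm.toMonoidHom, ← Subgroup.coe_subtype,
      wval_map jSub6.subtype]
    refine SuzG2.wval_congr fun i hi => ?_
    have hi5 := five_lt h5 i hi
    show (e.symm (SuzJ2.img i) : hSub) = s6 i
    rw [← he i hi5, e.symm_apply_apply]
    simp [s5, hi5]
  have hid : ∀ g, g < 5 → idW.getD g [] = [g] := by decide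
  set β : MulAut Q100 := (e.symm.trans α).trans e with hβ
  have hβα : ∀ g, g < 5 → α (s5 g) = e.symm (β (SuzJ2.img g)) := fun g hg => by
    rw [← he g hg]; simp [hβ]
  have hout : (β : Out Q100) = 1 ∨ (β : Out Q100) = (A : Out Q100) := by
    haveI : Finite (Out Q100) := Nat.finite_of_card_ne_zero (by rw [HJ.card_out_Q100]; norm_num)
    by_contra h
    push Not at h
    have hne : (A : Out Q100) ≠ 1 := fun h' => hA ((QuotientGroup.eq_one_iff A).1 h')
    have h3 : ({1, (A : Out Q100), (β : Out Q100)} : Set (Out Q100)).ncard = 3 := by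
      rw [Set.ncard_eq_three]
      exact ⟨_, _, _, hne.symm, h.1.symm, h.2.symm, rfl⟩
    have := Set.ncard_le_ncard (Set.subset_univ ({1, (A : Out Q100), (β : Out Q100)} : Set (Out Q100)))
    rw [h3, Set.ncard_univ, HJ.card_out_Q100] at this
    omega
  rcases hout with h | h
  · obtain ⟨c, hc⟩ := (QuotientGroup.eq_one_iff β).1 h
    refine ⟨e.symm c, idW, Or.inl rfl, fun g hg => ?_⟩
    rw [hβα g hg, show β (SuzJ2.img g) = c * wval SuzJ2.img (idW.getD g []) * c⁻¹ by
      rw [← hc, hid g hg]; simp [wval]]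
    simp only [map_mul, map_inv, Subgroup.coe_mul, Subgroup.coe_inv, key idW (Or.inl rfl) g hg]
  · obtain ⟨c, hc⟩ : β * A⁻¹ ∈ Inn Q100 := by
      rw [← QuotientGroup.eq_one_iff]
      show (β : Out Q100) * (A : Out Q100)⁻¹ = 1
      rw [h, mul_inv_cancel]
    refine ⟨e.symm c, sigW, Or.inr rfl, fun g hg => ?_⟩
    rw [hβα g hg, show β (SuzJ2.img g) = c * wval SuzJ2.img (sigW.getD g []) * c⁻¹ by
      rw [← hAimg g hg, show β = MulAut.conj c * A by rw [hc]; group]
      rfl]
    simp only [map_mul, map_inv, Subgroup.coe_mul, Subgroup.coe_inv, key sigW (Or.inr rfl) g hg]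

end Cfsg.Agent.Presented.SuzJAut
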