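import Cfsg.Agent.Lib.Presented.SuzHTable
import Cfsg.Agent.Lib.Presented.Count
import Cfsg.Agent.Lib.Presented.Data.SuzT2080
import Cfsg.Agent.Lib.Presented.Data.SuzJClassData

/-!
# Subgroups of order 604800 of `⟨a, …, f⟩`

Such a subgroup contains, after conjugation, a fixed subgroup of order 25, and it contains a conjugate of
a fixed element `x` of order three.  The 2080 conjugates of `⟨x⟩` fall into orbits under elements of
`⟨a, …, e⟩` normalising the subgroup of order 25; for a representative of each orbit either an element of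
order 13 appears, or the five generators `a, …, e` appear, or an element of order seven is forced.
-/

set_option autoImplicit false
set_option maxRecDepth 20000

namespace Cfsg.Agent.Presented.SuzJClass

open Cfsg.Spor SuzIndex SuzPoints SuzHWords SuzJClassData

local notation "D" => SuzT2080.cert

/-- The subgroup `⟨a, …, e⟩` inside `⟨a, …, f⟩`. -/
def jSub6 : Subgroup hSub := SuzJ2.jSub.subgroupOf hSub

theorem card_jSub6 : Nat.card jSub6 = 604800 := by
  rw [jSub6, Nat.card_congr (Subgroup.subgroupOfEquivOfLe SuzMultBound.jSub_le).toEquiv, SuzJ2.card_jSub]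

/-- The letters are generators of `⟨a, …, e⟩`. -/
def five (w : List ℕ) : Bool := w.all fun g => Nat.blt g 5

theorem five_lt {w : List ℕ} (h : five w = true) : ∀ g ∈ w, g < 5 := fun g hg => by
  simpa [Nat.blt_eq] using List.all_eq_true.1 h g hg

theorem wval_mem_jSub6 {w : List ℕ} (h : five w = true) : wval s6 w ∈ jSub6 := by
  rw [jSub6, Subgroup.mem_subgroupOf, coe_wval fun g hg => (five_lt h g hg).trans (by norm_num)]
  exact SuzPoints.wval_mem fun g hg => Subgroup.subset_closure ⟨g, five_lt h g hg, rfl⟩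

theorem eq_jSub6 {M : Subgroup hSub} (hc : Nat.card M = 604800) (hg : ∀ g < 5, s6 g ∈ M) : M = jSub6 := by
  refine (Subgroup.eq_of_le_of_card_ge ?_ (by rw [hc, card_jSub6])).symm
  intro x hx
  have h1 : (x : Suz) ∈ M.map hSub.subtype := by
    have hle : SuzJ2.jSub ≤ M.map hSub.subtype := by
      rw [SuzJ2.jSub, Subgroup.closure_le]
      rintro _ ⟨g, hg', rfl⟩
      exact ⟨s6 g, hg g hg', coe_s6 (lt_trans hg' (by norm_num : 5 < 6))⟩
    exact hle hx
  obtain ⟨y, hy, e⟩ := h1
  rwa [← Subtype.ext e]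

/-! ## The points -/

theorem close_ok : SuzHTable.relsClose D = true := by
  simp only [SuzHTable.relsClose, checkBelow_fast]
  decide +kernel

theorem exists_table : ∃ e : Fin (D).N ≃ hSub ⧸ wordSub s6 ((D).words.drop (D).nR),
    (∀ i : Fin (D).N, (i : ℕ) = 0 → e i = QuotientGroup.mk 1) ∧
    ∀ g (hg : g < (D).m) (i : Fin (D).N), s6 g • e i =
      e ⟨(D).actOf i g, CosetCert.actOf_lt SuzT2080.cert_edgesOK SuzT2080.cert_nodesOK i.2 hg⟩ :=
  SuzHTable.exists_table6 D SuzT2080.cert_edgesOK SuzT2080.cert_nodesOK SuzT2080.cert_wordsOK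
    SuzT2080.cert_subOK rfl close_ok (by decide +kernel) (by decide +kernel)

/-- A word leading from coset `0` to a coset. -/
noncomputable def treeW : ℕ → ℕ → List ℕ
  | 0, _ => []
  | n + 1, i =>
    if Nat.beq i 0 then [] else
      treeW n ((D).par.get (D).pw i / 6) ++ [(D).par.get (D).pw i % 6]

/-- The word of coset `i`. -/
noncomputable def T (i : ℕ) : List ℕ := treeW 20 i

/-- The conjugate of the element of order three at coset `i`. -/
noncomputable def xAt (i : ℕ) : List ℕ := (T i).reverse ++ xW ++ T i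

/-- The element of order seven at coset `i`. -/
noncomputable def yAt (i : ℕ) : List ℕ := (T i).reverse ++ yW ++ T i

/-- The element `x` at coset `i`. -/
noncomputable def X (i : ℕ) : hSub := wval s6 (xAt i)

theorem X_eq (i : ℕ) : X i = wval s6 (T i) * wval s6 xW * (wval s6 (T i))⁻¹ := by
  rw [X, xAt, wval_append, wval_append, wval_reverse6, mul_assoc]

theorem T_ok : checkBelow (fun i => six (T i) && Nat.beq ((D).path (T i) 0) i) (D).depth (D).N = true := by
  rw [checkBelow_fast]; decide +kernel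

theorem T_lt {i : ℕ} (hi : i < (D).N) : ∀ g ∈ T i, g < 6 := by
  have h := checkBelow_spec T_ok i hi
  simp only [Bool.and_eq_true] at h
  exact six_lt h.1

/-- The elements conjugating `x` to itself or to its inverse. -/
def normX : Subgroup hSub where
  carrier := {s | s * wval s6 xW * s⁻¹ = wval s6 xW ∨ s * wval s6 xW * s⁻¹ = (wval s6 xW)⁻¹}
  one_mem' := Or.inl (by group)
  mul_mem' := by
    intro a b ha hb
    simp only [Set.mem_ofPred_eq] at ha hb ⊢
    have key : a * b * wval s6 xW * (a * b)⁻¹ = a * (b * wval s6 xW * b⁻¹) * a⁻¹ := by group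
    rw [key]
    rcases hb with hb | hb <;> rw [hb]
    · exact ha
    · rw [show a * (wval s6 xW)⁻¹ * a⁻¹ = (a * wval s6 xW * a⁻¹)⁻¹ by group]
      rcases ha with ha | ha <;> rw [ha]
      · exact Or.inr rfl
      · exact Or.inl (inv_inv _)
  inv_mem' := by
    intro a ha
    simp only [Set.mem_ofPred_eq] at ha ⊢
    have h2 : a⁻¹ * (a * wval s6 xW * a⁻¹) * a⁻¹⁻¹ = wval s6 xW := by group
    rcases ha with ha | ha <;> rw [ha] at h2
    · exact Or.inl h2
    · refine Or.inr ?_
      calc a⁻¹ * wval s6 xW * a⁻¹⁻¹ = (a⁻¹ * (wval s6 xW)⁻¹ * a⁻¹⁻¹)⁻¹ := by group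
        _ = _ := by rw [h2]

theorem norm_ok : ((D).words.drop (D).nR).all (fun w =>
    same6 (w.reverse ++ xW ++ w) xW || same6 (w.reverse ++ xW ++ w) xW.reverse) = true := by
  decide +kernel

theorem sub_le_normX : wordSub s6 ((D).words.drop (D).nR) ≤ normX := by
  rw [wordSub, Subgroup.closure_le]
  rintro _ ⟨w, hw, rfl⟩
  have h := List.all_eq_true.1 norm_ok w hw
  simp only [Bool.or_eq_true] at h
  show wval s6 w * wval s6 xW * (wval s6 w)⁻¹ = _ ∨ _
  rw [← wval_reverse6 w, ← wval_reverse6 xW, mul_assoc, ← wval_append, ← wval_append]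
  exact h.imp eq_of_same6 eq_of_same6

/-- The points, as cosets. -/
noncomputable def pt : Fin (D).N ≃ hSub ⧸ wordSub s6 ((D).words.drop (D).nR) := exists_table.choose

theorem wval_smul_pt (w : List ℕ) (hw : ∀ g ∈ w, g < 6) (i : Fin (D).N) :
    wval s6 w • pt i = pt ⟨(D).path w i,
      CosetCert.path_lt SuzT2080.cert_edgesOK SuzT2080.cert_nodesOK w hw i.2⟩ :=
  CosetCert.smul_path SuzT2080.cert_edgesOK SuzT2080.cert_nodesOK pt exists_table.choose_spec.2 w hw i

theorem pt_eq (i : Fin (D).N) : pt i = QuotientGroup.mk (wval s6 (T i)) := by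
  have h0 : 0 < (D).N := by decide +kernel
  have h := checkBelow_spec T_ok i.1 i.2
  simp only [Bool.and_eq_true, Nat.beq_eq] at h
  have h1 := wval_smul_pt (T i) (six_lt h.1) ⟨0, h0⟩
  have h2 : pt ⟨0, h0⟩ = QuotientGroup.mk 1 := exists_table.choose_spec.1 ⟨0, h0⟩ rfl
  rw [h2, MulAction.Quotient.smul_mk, smul_eq_mul, mul_one] at h1
  rw [h1]
  exact congrArg pt (Fin.ext h.2.symm)

theorem conj_X {h : hSub} {i j : Fin (D).N} (hh : h • pt i = pt j) :
    h * X i * h⁻¹ = X j ∨ h * X i * h⁻¹ = (X j)⁻¹ := by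
  rw [pt_eq, pt_eq, MulAction.Quotient.smul_mk, smul_eq_mul, eq_comm, QuotientGroup.eq] at hh
  set s := (wval s6 (T j))⁻¹ * (h * wval s6 (T i)) with hs
  have e : h * X i * h⁻¹ = wval s6 (T j) * (s * wval s6 xW * s⁻¹) * (wval s6 (T j))⁻¹ := by
    rw [X_eq, hs]; group
  rcases sub_le_normX hh with h' | h' <;> rw [e, h', X_eq]
  · exact Or.inl rfl
  · exact Or.inr (by group)

theorem exists_X (h : hSub) :
    ∃ i : Fin (D).N, h * wval s6 xW * h⁻¹ = X i ∨ h * wval s6 xW * h⁻¹ = (X i)⁻¹ := by
  have h0 : 0 < (D).N := by decide +kernel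
  obtain ⟨i, hi⟩ := pt.surjective (h • pt ⟨0, h0⟩)
  have e : X (0 : ℕ) = wval s6 xW := by rw [X_eq]; simp [T, treeW, wval]
  exact ⟨i, e ▸ conj_X hi.symm⟩

/-! ## The representatives -/

/-- Every subgroup of order 604800 containing `p`, `q` and the element at coset `i` is `⟨a, …, e⟩`. -/
def Good (i : ℕ) : Prop :=
  ∀ M : Subgroup hSub, Nat.card M = 604800 → wval s6 pW ∈ M → wval s6 qW ∈ M → X i ∈ M → M = jSub6

theorem list3_mem {M : Subgroup hSub} (hp : wval s6 pW ∈ M) (hq : wval s6 qW ∈ M) {i : ℕ} (hx : X i ∈ M) :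
    ∀ l ∈ [pW, qW, xAt i], wval s6 l ∈ M := by
  simp only [List.mem_cons, List.not_mem_nil, or_false]
  rintro l (rfl | rfl | rfl)
  exacts [hp, hq, hx]

theorem not_thirteen {M : Subgroup hSub} (hc : Nat.card M = 604800) {u : List ℕ}
    (hu : orderB u 13 = true) : wval s6 u ∉ M := by
  intro hmem
  have h := Subgroup.orderOf_dvd_natCard M hmem
  rw [orderOf_of_orderB (by norm_num) hu, hc] at h
  norm_num at h

theorem casesA_ok : casesA.all (fun c => orderB (flat [pW, qW, xAt c.1] c.2) 13) = true := by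
  decide +kernel

theorem casesB_ok : casesB.all (fun c => Nat.beq c.2.length 5 && (List.range 5).all fun g =>
    same6 (flat [pW, qW, xAt c.1] (c.2.getD g [])) [g]) = true := by
  decide +kernel

theorem good_A {c : ℕ × List ℕ} (hc : c ∈ casesA) : Good c.1 := fun _ hM hp hq hx =>
  (not_thirteen hM (List.all_eq_true.1 casesA_ok c hc) (wval_flat_mem (list3_mem hp hq hx) _)).elim

theorem good_B {c : ℕ × List (List ℕ)} (hc : c ∈ casesB) : Good c.1 := by
  intro M hM hp hq hx
  have h := List.all_eq_true.1 casesB_ok c hc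
  simp only [Bool.and_eq_true, List.all_eq_true] at h
  refine eq_jSub6 hM fun g hg => ?_
  have e := eq_of_same6 (h.2 g (List.mem_range.2 hg))
  rw [show wval s6 [g] = s6 g by simp [wval]] at e
  rw [← e]
  exact wval_flat_mem (list3_mem hp hq hx) _

/-! ## Propagation -/

/-- Combinations of `p` and `q`. -/
def pqWords : List (List ℕ) :=
  (List.range 5).flatMap fun a => (List.range 5).map fun b => rep a pW ++ rep b qW

theorem nW_ok : nW.all (fun n => five n && ([pW, qW].all fun r => pqWords.any fun u =>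
    same6 (n.reverse ++ r ++ n) u)) = true := by
  decide +kernel

theorem good_step {n : List ℕ} (hn : n ∈ nW) {i j : Fin (D).N} (hp : (D).path n i = j) (hg : Good i) :
    Good j := by
  intro M hM hpM hqM hx
  have h := List.all_eq_true.1 nW_ok n hn
  simp only [Bool.and_eq_true, List.all_eq_true, List.any_eq_true] at h
  obtain ⟨h5, hpq⟩ := h
  set ν := wval s6 n with hν
  have hconj : ∀ r ∈ [pW, qW], ν * wval s6 r * ν⁻¹ ∈ M := by
    intro r hr
    obtain ⟨u, hu, hs⟩ := hpq r hr
    rw [hν, ← wval_reverse6, mul_assoc, ← wval_append, ← wval_append, eq_of_same6 hs]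
    simp only [pqWords, List.mem_flatMap, List.mem_map] at hu
    obtain ⟨a, -, b, -, rfl⟩ := hu
    rw [wval_append, wval_rep', wval_rep']
    exact mul_mem (pow_mem hqM _) (pow_mem hpM _)
  have hxj : ν * X i * ν⁻¹ ∈ M := by
    have e : ν • pt i = pt j := by
      rw [hν, wval_smul_pt n (fun g hg => (five_lt h5 g hg).trans (by norm_num))]
      exact congrArg pt (Fin.ext hp)
    rcases conj_X e with e' | e' <;> rw [e']
    · exact hx
    · exact inv_mem hx
  have key := hg (M.comap (MulAut.conj ν).toMonoidHom) (by rw [card_comap_conj, hM])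
    (hconj pW List.mem_cons_self) (hconj qW (List.mem_cons_of_mem _ List.mem_cons_self)) hxj
  refine eq_jSub6 hM fun g hg => ?_
  have hνJ : ν ∈ jSub6 := wval_mem_jSub6 h5
  have hgJ : s6 g ∈ jSub6 := by
    have := wval_mem_jSub6 (w := [g]) (by simpa [five, Nat.blt_eq] using hg)
    simpa [wval] using this
  have hmem : ν⁻¹ * s6 g * ν ∈ M.comap (MulAut.conj ν).toMonoidHom := by
    rw [key]; exact mul_mem (mul_mem (inv_mem hνJ) hgJ) hνJ
  have h2 : ν * (ν⁻¹ * s6 g * ν) * ν⁻¹ ∈ M := hmem
  rwa [show ν * (ν⁻¹ * s6 g * ν) * ν⁻¹ = s6 g by group] at h2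

/-- Following the parents leads to one of the given representatives. -/
noncomputable def rootOK (keys : List ℕ) : ℕ → ℕ → Bool
  | 0, _ => false
  | n + 1, i => force (prop.get 16 i) fun e =>
      bif Nat.beq e 0 then keys.any (fun k => Nat.beq k i)
      else force ((e - 1) / 4) fun p =>
        Nat.blt p (D).N && Nat.blt ((e - 1) % 4) nW.length &&
          Nat.beq ((D).path (nW.getD ((e - 1) % 4) []) p) i && rootOK keys n p

theorem good_of_root {keys : List ℕ} (hk : ∀ k ∈ keys, Good k) :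
    ∀ n (i : Fin (D).N), rootOK keys n i = true → Good i := by
  intro n
  induction n with
  | zero => intro i h; simp [rootOK] at h
  | succ n ih =>
    intro i h
    simp only [rootOK, force_eq] at h
    cases hb : Nat.beq (prop.get 16 i) 0
    · simp only [hb, cond_false, Bool.and_eq_true, Nat.blt_eq, Nat.beq_eq] at h
      obtain ⟨⟨⟨hp, hj⟩, hpath⟩, hr⟩ := h
      rw [List.getD_eq_getElem _ _ hj] at hpath
      exact good_step (List.getElem_mem hj) (i := ⟨_, hp⟩) hpath (ih ⟨_, hp⟩ hr)
    · simp only [hb, cond_true, List.any_eq_true, Nat.beq_eq] at h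
      obtain ⟨k, hk', e⟩ := h
      exact e ▸ hk k hk'

/-- The representatives of the first two kinds. -/
def keysAB : List ℕ := casesA.map Prod.fst ++ casesB.map Prod.fst

theorem rootAB_ok : checkBelow (fun i =>
    pointsC.any (fun k => Nat.beq k i) || rootOK keysAB (fuel + 1) i) (D).depth (D).N = true := by
  rw [checkBelow_fast]; decide +kernel

theorem good_of_not_C {i : Fin (D).N} (hi : (i : ℕ) ∉ pointsC) : Good i := by
  have h := checkBelow_spec rootAB_ok i.1 i.2
  simp only [Bool.or_eq_true, List.any_eq_true, Nat.beq_eq] at h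
  rcases h with ⟨k, hk, e⟩ | h
  · exact absurd (e ▸ hk) hi
  · refine good_of_root (fun k hk => ?_) _ i h
    simp only [keysAB, List.mem_append, List.mem_map] at hk
    rcases hk with ⟨c, hc, rfl⟩ | ⟨c, hc, rfl⟩
    exacts [good_A hc, good_B hc]

theorem casesC_ok : casesC.all (fun c => Nat.blt c.1 (D).N && six (yAt c.1) &&
    Nat.beq ((D).path (yAt c.1) c.1) c.1 && orderB (flat [pW, qW, xAt c.1, yAt c.1] c.2) 13 &&
    same6 (rep 7 (yAt c.1)) []) = true := by
  decide +kernel

theorem good_C {c : ℕ × List ℕ} (hc : c ∈ casesC) : Good c.1 := by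
  intro M hM hp hq hx
  have h := List.all_eq_true.1 casesC_ok c hc
  simp only [Bool.and_eq_true, Nat.blt_eq, Nat.beq_eq] at h
  obtain ⟨⟨⟨⟨hi, hy6⟩, hypath⟩, hz⟩, hy7⟩ := h
  by_cases hout : ∃ m : M, ∃ j : Fin (D).N, (m : hSub) • pt ⟨c.1, hi⟩ = pt j ∧ (j : ℕ) ∉ pointsC
  · obtain ⟨m, j, hm, hj⟩ := hout
    refine good_of_not_C hj M hM hp hq ?_
    have hmx : (m : hSub) * X c.1 * (m : hSub)⁻¹ ∈ M := mul_mem (mul_mem m.2 hx) (inv_mem m.2)
    rcases conj_X hm with e | e <;> rw [e] at hmx
    · exact hmx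
    · exact inv_inv (X j) ▸ inv_mem hmx
  · push Not at hout
    exfalso
    set x₀ := pt ⟨c.1, hi⟩ with hx₀
    set K : Subgroup hSub := MulAction.stabilizer hSub x₀ with hK
    have horb : (MulAction.orbit M x₀).ncard ≤ 30 := by
      have hsub : MulAction.orbit M x₀ ⊆ pt '' {j | (j : ℕ) ∈ pointsC} := by
        rintro _ ⟨m, rfl⟩
        obtain ⟨j, hj⟩ := pt.surjective ((m : hSub) • x₀)
        exact ⟨j, hout m j hj.symm, hj⟩
      refine (Set.ncard_le_ncard hsub (Set.toFinite _)).trans
        ((Set.ncard_image_le (Set.toFinite _)).trans ?_)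
      calc Set.ncard {j : Fin (D).N | (j : ℕ) ∈ pointsC}
          = Set.ncard (Fin.val '' {j : Fin (D).N | (j : ℕ) ∈ pointsC}) :=
            (Set.ncard_image_of_injective _ Fin.val_injective).symm
        _ ≤ Set.ncard (pointsC.toFinset : Set ℕ) :=
            Set.ncard_le_ncard (by rintro _ ⟨j, hj, rfl⟩; simpa using hj) (Finset.finite_toSet _)
        _ ≤ 30 := by rw [Set.ncard_coe_finset]; exact (List.toFinset_card_le _).trans (by decide +kernel)
    have hKcard : Nat.card K = 120960 := by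
      have h1 := (MulAction.stabilizer hSub x₀).index_mul_card
      rw [MulAction.index_stabilizer_of_transitive, ← Nat.card_congr pt, Nat.card_fin, card_hSub',
        show (D).N = 2080 from rfl] at h1
      rw [hK]; omega
    have hMK : 20160 ≤ Nat.card (M ⊓ K : Subgroup hSub) := by
      have h1 := (MulAction.stabilizer M x₀).index_mul_card
      rw [MulAction.index_stabilizer, hM] at h1
      have h2 : Nat.card (MulAction.stabilizer M x₀) = Nat.card (M ⊓ K : Subgroup hSub) :=
        Nat.card_congr ((Equiv.subtypeSubtypeEquivSubtypeInter (fun g => g ∈ M)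
          (fun g : hSub => g • x₀ = x₀)).trans (Equiv.subtypeEquivRight fun g => Iff.rfl))
      rw [h2] at h1
      by_contra hlt
      have := Nat.mul_le_mul horb (Nat.le_of_lt_succ (Nat.lt_succ_of_lt (not_le.1 hlt)))
      nlinarith [not_le.1 hlt]
    have hrel : (M ⊓ K).relIndex K ≤ 6 ∧ (M ⊓ K).relIndex K ≠ 0 := by
      have h1 := ((M ⊓ K).subgroupOf K).index_mul_card
      rw [Nat.card_congr (Subgroup.subgroupOfEquivOfLe (inf_le_right : M ⊓ K ≤ K)).toEquiv, hKcard] at h1
      change (M ⊓ K).relIndex K * _ = _ at h1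
      constructor
      · by_contra h7
        nlinarith [Nat.mul_le_mul (not_le.1 h7) hMK]
      · intro h0; rw [h0] at h1; simp at h1
    set y := wval s6 (yAt c.1) with hy
    have hyK : y ∈ K := by
      rw [hK, MulAction.mem_stabilizer_iff, hy, hx₀, wval_smul_pt _ (six_lt hy6)]
      exact congrArg pt (Fin.ext hypath)
    obtain ⟨k, hk0, hk, hkM⟩ := Subgroup.exists_pow_mem_of_relIndex_ne_zero hrel.2 hyK
    have hy1 : y ^ 7 = 1 := by rw [hy, ← wval_rep', eq_of_same6 hy7]; rfl
    have hcop : Nat.Coprime k 7 :=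
      (Nat.coprime_comm.1 ((Nat.Prime.coprime_iff_not_dvd (by norm_num)).2 fun hd => by
        have := Nat.le_of_dvd hk0 hd; omega))
    have hyM : y ∈ M := by
      obtain ⟨t, ht⟩ := exists_pow_eq_self_of_coprime
        (hcop.coprime_dvd_right (orderOf_dvd_of_pow_eq_one hy1) : Nat.Coprime k (orderOf y))
      rw [← ht]
      exact pow_mem hkM.1.1 _
    refine not_thirteen hM hz (wval_flat_mem ?_ _)
    simp only [List.mem_cons, List.not_mem_nil, or_false]
    rintro l (rfl | rfl | rfl | rfl)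
    exacts [hp, hq, hx, hyM]

theorem rootABC_ok : checkBelow (fun i =>
    rootOK (keysAB ++ casesC.map Prod.fst) (fuel + 1) i) (D).depth (D).N = true := by
  rw [checkBelow_fast]; decide +kernel

theorem good_all (i : Fin (D).N) : Good i := by
  refine good_of_root (fun k hk => ?_) _ i (checkBelow_spec rootABC_ok i.1 i.2)
  simp only [keysAB, List.mem_append, List.mem_map] at hk
  rcases hk with (⟨c, hc, rfl⟩ | ⟨c, hc, rfl⟩) | ⟨c, hc, rfl⟩
  exacts [good_A hc, good_B hc, good_C hc]

/-! ## The conjugacy class -/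

theorem pq_ok : (same6 (rep 5 pW) [] && same6 (rep 5 qW) [] && same6 (pW ++ qW) (qW ++ pW) &&
    same6 (rep 3 xW) []) = true := by
  decide +kernel

theorem pq_pgroup : IsPGroup 5 (Subgroup.closure ({wval s6 pW, wval s6 qW} : Set hSub)) := by
  have h := pq_ok
  simp only [Bool.and_eq_true] at h
  obtain ⟨⟨⟨h1, h2⟩, h3⟩, -⟩ := h
  have hp : wval s6 pW ^ 5 = 1 := by rw [← wval_rep', eq_of_same6 h1]; rfl
  have hq : wval s6 qW ^ 5 = 1 := by rw [← wval_rep', eq_of_same6 h2]; rfl
  have hcomm : Commute (wval s6 qW) (wval s6 pW) := by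
    show _ * _ = _ * _
    rw [← wval_append, ← wval_append, eq_of_same6 h3]
  have key : ∀ x ∈ Subgroup.closure ({wval s6 pW, wval s6 qW} : Set hSub),
      ∃ a b : ℤ, x = wval s6 pW ^ a * wval s6 qW ^ b := by
    intro x hx
    induction hx using Subgroup.closure_induction with
    | mem x hx =>
      rcases hx with rfl | rfl
      exacts [⟨1, 0, by simp⟩, ⟨0, 1, by simp⟩]
    | one => exact ⟨0, 0, by simp⟩
    | mul x y _ _ ihx ihy =>
      obtain ⟨a, b, rfl⟩ := ihx
      obtain ⟨c, d, rfl⟩ := ihy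
      refine ⟨a + c, b + d, ?_⟩
      rw [zpow_add, zpow_add]
      have := (hcomm.zpow_zpow b c).eq
      grind
    | inv x _ ihx =>
      obtain ⟨a, b, rfl⟩ := ihx
      refine ⟨-a, -b, ?_⟩
      rw [mul_inv_rev, ← zpow_neg, ← zpow_neg]
      exact (hcomm.zpow_zpow _ _).eq
  rintro ⟨x, hx⟩
  refine ⟨1, Subtype.ext ?_⟩
  obtain ⟨a, b, rfl⟩ := key x hx
  rw [SubgroupClass.coe_pow, pow_one, (hcomm.symm.zpow_zpow a b).mul_pow, ← zpow_natCast, ← zpow_natCast,
    ← zpow_mul, ← zpow_mul, mul_comm a, mul_comm b, zpow_mul, zpow_mul, zpow_natCast, zpow_natCast, hp, hq]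
  simp

theorem fact_eq {p : ℕ} (hp : p.Prime) (k m : ℕ) (hm : ¬ p ∣ m) (hm0 : m ≠ 0) :
    (p ^ k * m).factorization p = k := by
  rw [Nat.factorization_mul (pow_ne_zero _ hp.ne_zero) hm0, Finsupp.add_apply, hp.factorization_pow,
    Finsupp.single_eq_same, Nat.factorization_eq_zero_of_not_dvd hm, add_zero]

/-- Every subgroup of order 604800 is conjugate to `⟨a, …, e⟩`. -/
theorem conj_jSub6 (M : Subgroup hSub) (hM : Nat.card M = 604800) :
    ∃ h : hSub, M.comap (MulAut.conj h).toMonoidHom = jSub6 := by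
  haveI : Fact (Nat.Prime 5) := ⟨by norm_num⟩
  haveI : Fact (Nat.Prime 3) := ⟨by norm_num⟩
  have h5 : (5 : ℕ) ^ (Nat.card hSub).factorization 5 ∣ Nat.card M := by
    rw [card_hSub', hM, show 251596800 = 5 ^ 2 * 10063872 by norm_num,
      fact_eq (by norm_num) 2 10063872 (by norm_num) (by norm_num)]
    norm_num
  obtain ⟨h, hh⟩ := exists_conj_le pq_pgroup h5
  set M' := M.comap (MulAut.conj h).toMonoidHom with hM'
  have hcM' : Nat.card M' = 604800 := by rw [hM', card_comap_conj, hM]
  have hp : wval s6 pW ∈ M' := hh _ (Subgroup.subset_closure (Set.mem_insert _ _))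
  have hq : wval s6 qW ∈ M' := hh _ (Subgroup.subset_closure (Set.mem_insert_of_mem _ rfl))
  have h3 : (3 : ℕ) ^ (Nat.card hSub).factorization 3 ∣ Nat.card M' := by
    rw [card_hSub', hcM', show 251596800 = 3 ^ 3 * 9318400 by norm_num,
      fact_eq (by norm_num) 3 9318400 (by norm_num) (by norm_num)]
    norm_num
  have hx : wval s6 xW ^ 3 = 1 := by
    have h := pq_ok
    simp only [Bool.and_eq_true] at h
    rw [← wval_rep', eq_of_same6 h.2]; rfl
  have hgrp : IsPGroup 3 (Subgroup.zpowers (wval s6 xW)) := by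
    rintro ⟨x, k, rfl⟩
    refine ⟨1, Subtype.ext ?_⟩
    rw [SubgroupClass.coe_pow, pow_one, ← zpow_natCast, ← zpow_mul, mul_comm, zpow_mul, zpow_natCast, hx]
    simp
  obtain ⟨k, hk⟩ := exists_conj_le hgrp h3
  obtain ⟨i, hi⟩ := exists_X k
  refine ⟨h, good_all i M' hcM' hp hq ?_⟩
  have hmem := hk _ (Subgroup.mem_zpowers _)
  rcases hi with e | e <;> rw [e] at hmem
  · exact hmem
  · exact inv_inv (X i) ▸ inv_mem hmem

end Cfsg.Agent.Presented.SuzJClass
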