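import Cfsg.Agent.Lib.Presented.SuzIndex
import Cfsg.Agent.Lib.Presented.Tower
import Cfsg.Agent.Lib.Presented.Data.SuzT416
import Cfsg.Agent.Lib.Presented.Data.SuzT280
import Cfsg.Agent.Lib.Presented.Data.SuzT2160
import Cfsg.Agent.Lib.Presented.Data.SuzChain

/-!
# The order and simplicity of the presented Suzuki group
-/

set_option autoImplicit false

namespace Cfsg.Agent.Presented.SuzOrder

open Cfsg.Spor Cfsg.Agent.Presented SuzIndex

theorem bound2160 : OrderLE (wordSub gen [[0], [1], [2], [3]]) 2160 := by
  have hR : stepRelsOK gens Suz.edges Suz.extra [0, 1, 2, 3] []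
      (SuzT2160.cert.words.take SuzT2160.cert.nR) = true := by decide +kernel
  have hR' : stepRelsOK gens Suz.edges Suz.extra [0, 1, 2, 3] []
      (SuzT2160.deriv.words.take SuzT2160.deriv.nR) = true := by decide +kernel
  have h0 : (SuzT2160.deriv.words.drop SuzT2160.deriv.nR) = [] := by decide +kernel
  have h1 : (SuzT2160.cert.words.drop SuzT2160.cert.nR).drop 0 = SuzT2160.deriv.loops.map Prod.fst := by
    decide +kernel
  exact step_le gens_all gens_ok (π := [0, 1, 2, 3]) (ex := []) (by simp) SuzT2160.cert_edgesOK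
    SuzT2160.cert_nodesOK rfl hR 0 (Kprev := []) (by simp) (orderLE_nil gen)
    (step_more gens_all gens_ok (ex := []) (by simp) SuzT2160.deriv_factsOK SuzT2160.deriv_loopsOK hR'
      (Kprev := []) (by rw [h0]; simp) le_rfl h1)

theorem boundJ2 : OrderLE (wordSub gen [[0], [1], [2], [3], [4]]) (280 * 2160) := by
  have hR : stepRelsOK gens Suz.edges Suz.extra [0, 1, 2, 3, 4] []
      (SuzT280.cert.words.take SuzT280.cert.nR) = true := by decide +kernel
  have hR' : stepRelsOK gens Suz.edges Suz.extra [0, 1, 2, 3, 4] []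
      (SuzT280.deriv.words.take SuzT280.deriv.nR) = true := by decide +kernel
  have h0 : ((SuzT280.deriv.words.drop SuzT280.deriv.nR).map
      (List.map fun g => [0, 1, 2, 3, 4].getD g 0)) = [[0], [1], [2], [3]] := by decide +kernel
  have hK : (((SuzT280.cert.words.drop SuzT280.cert.nR).take 4).map
      (List.map fun g => [0, 1, 2, 3, 4].getD g 0)) = [[0], [1], [2], [3]] := by decide +kernel
  have h1 : (SuzT280.cert.words.drop SuzT280.cert.nR).drop 4 = SuzT280.deriv.loops.map Prod.fst := by
    decide +kernel
  exact step_le gens_all gens_ok (π := [0, 1, 2, 3, 4]) (ex := []) (by simp) SuzT280.cert_edgesOK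
    SuzT280.cert_nodesOK rfl hR 4 (Kprev := [[0], [1], [2], [3]]) (by rw [hK]; simp) bound2160
    (step_more gens_all gens_ok (ex := []) (by simp) SuzT280.deriv_factsOK SuzT280.deriv_loopsOK hR'
      (Kprev := [[0], [1], [2], [3]]) (by rw [h0]; simp) le_rfl h1)

theorem boundG24 : OrderLE hSub (416 * (280 * 2160)) := by
  have hR : stepRelsOK gens Suz.edges Suz.extra [0, 1, 2, 3, 4, 5] []
      (SuzT416.cert.words.take SuzT416.cert.nR) = true := by decide +kernel
  have hR' : stepRelsOK gens Suz.edges Suz.extra [0, 1, 2, 3, 4, 5] []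
      (SuzT416.deriv.words.take SuzT416.deriv.nR) = true := by decide +kernel
  have h0 : ((SuzT416.deriv.words.drop SuzT416.deriv.nR).map
      (List.map fun g => [0, 1, 2, 3, 4, 5].getD g 0)) = [[0], [1], [2], [3], [4]] := by decide +kernel
  have hK : (((SuzT416.cert.words.drop SuzT416.cert.nR).take 5).map
      (List.map fun g => [0, 1, 2, 3, 4, 5].getD g 0)) = [[0], [1], [2], [3], [4]] := by decide +kernel
  have h1 : (SuzT416.cert.words.drop SuzT416.cert.nR).drop 5 = SuzT416.deriv.loops.map Prod.fst := by
    decide +kernel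
  rw [hSub_eq_closure]
  exact step_le gens_all gens_ok (π := [0, 1, 2, 3, 4, 5]) (ex := []) (by simp) SuzT416.cert_edgesOK
    SuzT416.cert_nodesOK rfl hR 5 (Kprev := [[0], [1], [2], [3], [4]]) (by rw [hK]; simp) boundJ2
    (step_more gens_all gens_ok (ex := []) (by simp) SuzT416.deriv_factsOK SuzT416.deriv_loopsOK hR'
      (Kprev := [[0], [1], [2], [3], [4]]) (by rw [h0]; simp) le_rfl h1)

theorem finite_suz : Finite Suz := by
  obtain ⟨e, -, -⟩ := exists_table
  exact (card_le_of_table e boundG24).1

theorem chain_prod : (SuzChain.chain.map Level.size).prod = 448345497600 := by decide +kernel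

theorem card_suz : Nat.card Suz = 448345497600 := by
  obtain ⟨e, -, he⟩ := exists_table
  haveI := finite_suz
  refine le_antisymm ((card_le_of_table e boundG24).2.trans (le_of_eq ?_)) ?_
  · decide +kernel
  · have h := chain_card_le SuzC1782.cert_edgesOK SuzC1782.cert_nodesOK e he (by decide +kernel)
      SuzChain.chain [] SuzChain.chain_ok
    rw [chain_prod] at h
    refine le_trans ?_ (h.trans ?_)
    · exact Nat.le_mul_of_pos_right _ Nat.card_pos
    · exact Nat.card_le_card_of_injective _ Subtype.val_injective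

theorem card_hSub : Nat.card hSub = 251596800 := by
  have h := hSub.index_mul_card
  rw [hSub_index, card_suz] at h
  omega

theorem simple_suz : IsSimpleGroup Suz := by
  obtain ⟨e, he0, he⟩ := exists_table
  haveI := finite_suz
  refine isSimpleGroup_of_table SuzC1782.cert_edgesOK SuzC1782.cert_nodesOK e he0 he ?_
    (by decide +kernel) SuzChain.chain_ok (by rw [chain_prod, card_suz]) (by decide +kernel)
    hSub_eq_closure (ts := SuzChain.suborbs) (by decide +kernel) (q := 11) (by rw [card_hSub]; decide +kernel)
    SuzChain.factors (by decide +kernel) (by decide +kernel) (by decide +kernel)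
  rw [eq_top_iff, ← PresentedGroup.closure_range_of, Subgroup.closure_le]
  rintro _ ⟨x, rfl⟩
  exact Subgroup.subset_closure
    ⟨gens.idxOf x, List.idxOf_lt_length_of_mem (gens_all x), genFun_idxOf gens_all x⟩

end Cfsg.Agent.Presented.SuzOrder
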