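import Cfsg.Agent.Lib.Presented.SuzAct
import Cfsg.Agent.Lib.Presented.Count
import Cfsg.Agent.Lib.Presented.Data.SuzPClassData
import Mathlib.GroupTheory.GroupAction.Basic

/-!
# Subgroups of order 184320 of `⟨a, …, f⟩`

Such a subgroup contains, after conjugation, a fixed 2-subgroup with orbits of sizes 1, 4, 16, 64, 256,
1024 on a suborbit of 1365 points.  Its own orbit of the fixed point is a union of these orbits whose size
divides 184320, so it fixes that point or a fixed set of five points.
-/

set_option autoImplicit false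
set_option maxRecDepth 20000

namespace Cfsg.Agent.Presented.SuzPClass

open Cfsg.Spor SuzIndex SuzPoints SuzHWords SuzAct SuzPClassData
open scoped Pointwise

attribute [local instance] SuzAct.act6

local notation "D" => SuzC1782.cert

theorem smul_val {w : List ℕ} (hw : ∀ g ∈ w, g < 6) (i : Fin (D).N) :
    ((wval s6 w • i : Fin (D).N) : ℕ) = (D).path w i := pi6_wval hw i

theorem smul_s6 {g : ℕ} (hg : g < 6) (i : Fin (D).N) :
    ((s6 g • i : Fin (D).N) : ℕ) = (D).actOf i g := by
  have h := smul_val (w := [g]) (by simpa using hg) i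
  simpa [wval] using h

/-! ## The 2-subgroup -/

/-- The span of the first `k` generators. -/
def span (k : ℕ) : Subgroup hSub := Subgroup.closure {x | ∃ w ∈ uW.take k, x = wval s6 w}

theorem flat_span (k : ℕ) (u : List ℕ) : wval s6 (flat (uW.take k) u) ∈ span k :=
  wval_flat_mem (H := span k) (fun l hl => Subgroup.subset_closure ⟨l, hl, rfl⟩) u

/-- The step at one generator. -/
noncomputable def stepB (k : ℕ) : Bool :=
  force k fun k =>
    same6 (uW.getD k [] ++ uW.getD k []) (flat (uW.take k) (uSq.getD k [])) &&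
      (List.range k).all fun j =>
        same6 ((uW.getD k []).reverse ++ uW.getD j [] ++ uW.getD k [])
          (flat (uW.take k) ((uConj.getD k []).getD j []))

theorem step_ok : (List.range 12).all stepB = true := by decide +kernel

theorem pgroup_adjoin {G : Type*} [Group G] {K : Subgroup G} (hK : IsPGroup 2 K) {u : G}
    (hu : u * u ∈ K) (hconj : ∀ x ∈ K, u * x * u⁻¹ ∈ K) {L : Subgroup G}
    (hL : L ≤ Subgroup.closure ((K : Set G) ∪ {u})) : IsPGroup 2 L := by
  have key : ∀ x ∈ Subgroup.closure ((K : Set G) ∪ {u}), x ∈ K ∨ x * u ∈ K := by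
    intro x hx
    induction hx using Subgroup.closure_induction with
    | mem x hx =>
      rcases hx with hx | hx
      · exact Or.inl hx
      · rw [Set.mem_singleton_iff.1 hx]; exact Or.inr hu
    | one => exact Or.inl (one_mem _)
    | mul x y _ _ ihx ihy =>
      rcases ihx with hx | hx <;> rcases ihy with hy | hy
      · exact Or.inl (mul_mem hx hy)
      · exact Or.inr (by rw [mul_assoc]; exact mul_mem hx hy)
      · refine Or.inr ?_
        rw [show x * y * u = (x * u) * ((u * u)⁻¹ * (u * y * u⁻¹) * (u * u)) by group]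
        exact mul_mem hx (mul_mem (mul_mem (inv_mem hu) (hconj y hy)) hu)
      · refine Or.inl ?_
        rw [show x * y = (x * u) * ((u * u)⁻¹ * (u * (y * u) * u⁻¹)) by group]
        exact mul_mem hx (mul_mem (inv_mem hu) (hconj _ hy))
    | inv x _ ihx =>
      rcases ihx with hx | hx
      · exact Or.inl (inv_mem hx)
      · refine Or.inr ?_
        rw [show x⁻¹ * u = u * (x * u)⁻¹ * u⁻¹ * (u * u) by group]
        exact mul_mem (hconj _ (inv_mem hx)) hu
  rintro ⟨x, hx⟩
  have h2 : x * x ∈ K := by
    rcases key x (hL hx) with h | h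
    · exact mul_mem h h
    · rw [show x * x = (x * u) * ((u * u)⁻¹ * (u * (x * u) * u⁻¹)) by group]
      exact mul_mem h (mul_mem (inv_mem hu) (hconj _ h))
  obtain ⟨n, hn⟩ := hK ⟨x * x, h2⟩
  refine ⟨n + 1, Subtype.ext ?_⟩
  have e : (x * x) ^ 2 ^ n = 1 := congrArg Subtype.val hn
  rw [SubgroupClass.coe_pow, show (2 : ℕ) ^ (n + 1) = 2 * 2 ^ n by ring, pow_mul, pow_two]
  exact e

theorem span_pgroup : ∀ k, k ≤ 12 → IsPGroup 2 (span k) := by
  intro k
  induction k with
  | zero =>
    intro _
    have : span 0 = ⊥ := by simp [span]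
    rw [this]; exact IsPGroup.of_bot
  | succ k ih =>
    intro hk
    have hlen : uW.length = 12 := by decide +kernel
    have hkl : k < uW.length := by omega
    have h := List.all_eq_true.1 step_ok k (List.mem_range.2 (by omega))
    simp only [stepB, force_eq, Bool.and_eq_true, List.all_eq_true, List.mem_range] at h
    obtain ⟨hsq, hcj⟩ := h
    rw [List.getD_eq_getElem _ _ hkl] at hsq hcj
    set u := wval s6 uW[k] with hu
    have hu2 : u * u ∈ span k := by
      rw [hu, ← wval_append, eq_of_same6 hsq]; exact flat_span k _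
    have hcl : ∀ x ∈ span k, u * x * u⁻¹ ∈ span k := by
      intro x hx
      induction hx using Subgroup.closure_induction with
      | mem x hx =>
        obtain ⟨w, hw, rfl⟩ := hx
        obtain ⟨j, hj, rfl⟩ := List.getElem_of_mem hw
        rw [List.length_take] at hj
        have h' := hcj j (by omega)
        rw [List.getD_eq_getElem uW _ (by omega : j < uW.length)] at h'
        rw [List.getElem_take, hu, ← wval_reverse6, mul_assoc, ← wval_append, ← wval_append, eq_of_same6 h']
        exact flat_span k _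
      | one => simp
      | mul a b _ _ iha ihb =>
        rw [show u * (a * b) * u⁻¹ = (u * a * u⁻¹) * (u * b * u⁻¹) by group]; exact mul_mem iha ihb
      | inv a _ iha =>
        rw [show u * a⁻¹ * u⁻¹ = (u * a * u⁻¹)⁻¹ by group]; exact inv_mem iha
    refine pgroup_adjoin (ih (by omega)) hu2 hcl ?_
    rw [span, Subgroup.closure_le]
    rintro _ ⟨w, hw, rfl⟩
    rw [List.take_add_one, List.getElem?_eq_getElem hkl, Option.toList_some, List.mem_append,
      List.mem_singleton] at hw
    rcases hw with hw | rfl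
    · exact Subgroup.subset_closure (Or.inl (Subgroup.subset_closure ⟨w, hw, rfl⟩))
    · exact Subgroup.subset_closure (Or.inr rfl)

/-! ## The suborbit -/

/-- Point number `k` of the suborbit. -/
noncomputable def pAt (k : ℕ) : ℕ := pts.get 11 k

/-- The position of a point. -/
noncomputable def posAt (x : ℕ) : ℕ := pos.get 11 x

theorem pts_ok : checkBelow (fun k => force (pAt k) fun x =>
    Nat.blt x (D).N && Nat.beq (posAt x) k &&
      allList (fun g => force ((D).actOf x g) fun y =>
        Nat.blt (posAt y) 1365 && Nat.beq (pAt (posAt y)) y) [0, 1, 2, 3, 4, 5]) 11 1365 = true := by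
  rw [checkBelow_fast]; decide +kernel

theorem pAt_lt {k : ℕ} (hk : k < 1365) : pAt k < (D).N := by
  have h := checkBelow_spec pts_ok k hk
  simp only [force_eq, Bool.and_eq_true, Nat.blt_eq] at h
  exact h.1.1

/-- Point number `k` as a point of the table. -/
noncomputable def point (k : Fin 1365) : Fin (D).N := ⟨pAt k, pAt_lt k.2⟩

theorem point_injective : Function.Injective point := by
  intro a b e
  have ha := checkBelow_spec pts_ok a.1 a.2
  have hb := checkBelow_spec pts_ok b.1 b.2
  simp only [force_eq, Bool.and_eq_true, Nat.beq_eq] at ha hb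
  have e' : pAt a.1 = pAt b.1 := congrArg Fin.val e
  exact Fin.ext (by rw [← ha.1.2, e', hb.1.2])

/-- The base point. -/
noncomputable def y1 : Fin (D).N := point ⟨0, by norm_num⟩

theorem mem_pts_of_mem_orbit {x : Fin (D).N} (hx : x ∈ MulAction.orbit hSub y1) :
    x ∈ Set.range point := by
  obtain ⟨h, rfl⟩ := hx
  have hmem : h ∈ Subgroup.closure (s6 '' {g | g < 6}) := by rw [closure_s6]; trivial
  have key : ∀ (g : ℕ), g < 6 → ∀ z ∈ Set.range point, s6 g • z ∈ Set.range point := by
    rintro g hg _ ⟨k, rfl⟩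
    have h := checkBelow_spec pts_ok k.1 k.2
    simp only [force_eq, Bool.and_eq_true, allList_eq, List.all_eq_true, Nat.blt_eq, Nat.beq_eq] at h
    obtain ⟨h1, h2⟩ := h.2 g (by interval_cases g <;> simp)
    exact ⟨⟨_, h1⟩, Fin.ext (h2.trans (smul_s6 hg (point k)).symm)⟩
  show h • y1 ∈ _
  generalize hz : y1 = z
  have hzr : z ∈ Set.range point := ⟨_, hz⟩
  clear hz
  induction hmem using Subgroup.closure_induction'' generalizing z with
  | mem y hy => obtain ⟨g, hg, rfl⟩ := hy; exact key g hg z hzr
  | inv_mem y hy =>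
    obtain ⟨g, hg, rfl⟩ := hy
    rw [inv_eq_of_mul_eq_one_left (s6_sq g)]
    exact key g hg z hzr
  | one => rwa [one_smul]
  | mul a b _ _ iha ihb => rw [mul_smul]; exact iha _ (ihb z hzr)

/-- Offsets, sizes and roots of the six blocks, with the steps inside them. -/
noncomputable def blockB (b : ℕ) : Bool :=
  force b fun b => force (offsets.getD b 0) fun o =>
    six (roots.getD b []) && Nat.beq ((D).path (roots.getD b []) (pAt 0)) (pAt o) &&
      (List.range (sizes.getD b 0)).all fun i => Nat.beq i 0 || force (step.get 16 (o + i)) fun e =>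
        Nat.blt (e / 16) i && Nat.blt (e % 16) uW.length &&
          Nat.beq ((D).path (uW.getD (e % 16) []) (pAt (o + e / 16))) (pAt (o + i))

theorem block_ok : ((List.range 6).all blockB && uW.all six &&
    (List.range 6).all (fun b => Nat.ble (offsets.getD b 0 + sizes.getD b 0) 1365)) = true := by
  decide +kernel

/-- The block of a position. -/
def blk (k : ℕ) : ℕ :=
  if k < 1 then 0 else if k < 5 then 1 else if k < 21 then 2 else if k < 85 then 3 else
    if k < 341 then 4 else 5

theorem blk_spec : ∀ k, k < 1365 → ∃ b < 6, blk k = b ∧ offsets.getD b 0 ≤ k ∧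
    k < offsets.getD b 0 + sizes.getD b 0 := by
  intro k hk
  unfold blk
  split_ifs
  exacts [⟨0, by norm_num, rfl, by simp [offsets], by simp [offsets, sizes]; omega⟩,
    ⟨1, by norm_num, rfl, by simp [offsets]; omega, by simp [offsets, sizes]; omega⟩,
    ⟨2, by norm_num, rfl, by simp [offsets]; omega, by simp [offsets, sizes]; omega⟩,
    ⟨3, by norm_num, rfl, by simp [offsets]; omega, by simp [offsets, sizes]; omega⟩,
    ⟨4, by norm_num, rfl, by simp [offsets]; omega, by simp [offsets, sizes]; omega⟩,
    ⟨5, by norm_num, rfl, by simp [offsets]; omega, by simp [offsets, sizes]; omega⟩]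

theorem reach {b : ℕ} (hb : b < 6) : ∀ (i : ℕ) (hi : i < sizes.getD b 0)
    (hk : offsets.getD b 0 + i < 1365), ∃ h ∈ span 12,
    h • point ⟨offsets.getD b 0, lt_of_le_of_lt (Nat.le_add_right _ _) hk⟩ =
      point ⟨offsets.getD b 0 + i, hk⟩ := by
  have hB := block_ok
  simp only [Bool.and_eq_true, List.all_eq_true] at hB
  obtain ⟨⟨hB, hU⟩, -⟩ := hB
  have h := hB b (List.mem_range.2 hb)
  simp only [blockB, force_eq, Bool.and_eq_true, List.all_eq_true, List.mem_range, Bool.or_eq_true,
    Nat.blt_eq, Nat.beq_eq] at h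
  intro i
  induction i using Nat.strong_induction_on with
  | _ i ih =>
    intro hi hk
    rcases h.2 i hi with h0 | ⟨⟨hlt, hu⟩, hp⟩
    · subst h0; exact ⟨1, one_mem _, by rw [one_smul]; rfl⟩
    · obtain ⟨g, hg, e⟩ := ih _ hlt (lt_trans hlt hi) (lt_trans (Nat.add_lt_add_left hlt _) hk)
      rw [List.getD_eq_getElem _ _ hu] at hp
      have hlen : uW.length = 12 := by decide +kernel
      have h6 := six_lt (hU _ (List.getElem_mem hu))
      refine ⟨wval s6 (uW[step.get 16 (offsets.getD b 0 + i) % 16]'hu) * g, mul_mem (Subgroup.subset_closure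
        ⟨_, by rw [List.take_of_length_le hlen.le]; exact List.getElem_mem hu, rfl⟩) hg, ?_⟩
      rw [mul_smul, e]
      exact Fin.ext ((smul_val h6 _).trans hp)

theorem point_mem_orbit (k : Fin 1365) : point k ∈ MulAction.orbit hSub y1 := by
  obtain ⟨b, hb, -, h1, h2⟩ := blk_spec k.1 k.2
  obtain ⟨h, -, e⟩ := reach hb (k.1 - offsets.getD b 0) (by omega) (by omega)
  have hB := block_ok
  simp only [Bool.and_eq_true, List.all_eq_true] at hB
  have hr := hB.1.1 b (List.mem_range.2 hb)
  simp only [blockB, force_eq, Bool.and_eq_true, Nat.beq_eq] at hr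
  refine ⟨h * wval s6 (roots.getD b []), ?_⟩
  show (h * wval s6 (roots.getD b [])) • y1 = point k
  have e1 : wval s6 (roots.getD b []) • y1 = point ⟨offsets.getD b 0, by omega⟩ :=
    Fin.ext ((smul_val (six_lt hr.1.1) _).trans hr.1.2)
  rw [mul_smul, e1, e]
  exact congrArg point (Fin.ext (by show offsets.getD b 0 + (k.1 - offsets.getD b 0) = k.1; omega))

theorem orbit_y1 : MulAction.orbit hSub y1 = Set.range point :=
  Set.Subset.antisymm (fun _ hx => mem_pts_of_mem_orbit hx)
    (by rintro _ ⟨k, rfl⟩; exact point_mem_orbit k)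

theorem orbit_y1_ncard : (MulAction.orbit hSub y1).ncard = 1365 := by
  rw [orbit_y1, Set.ncard_range_of_injective point_injective, Nat.card_fin]

theorem card_stabilizer_of_orbit {X : Type*} [MulAction hSub X] (x : X)
    (hx : (MulAction.orbit hSub x).ncard = 1365) :
    Nat.card (MulAction.stabilizer hSub x) = 184320 := by
  have h := (MulAction.stabilizer hSub x).index_mul_card
  rw [MulAction.index_stabilizer, hx, card_hSub'] at h
  omega

/-! ## The images of the five-point set -/

/-- The list of set number `k`. -/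
noncomputable def setL (k : ℕ) : List ℕ :=
  [sets.get 11 (5 * k), sets.get 11 (5 * k + 1), sets.get 11 (5 * k + 2), sets.get 11 (5 * k + 3),
    sets.get 11 (5 * k + 4)]

/-- A number read off from the list, the last entry leading. -/
noncomputable def code (k : ℕ) : ℕ := (setL k).foldr (fun x acc => x + 2048 * acc) 0

/-- The image of a set under a generator. -/
noncomputable def actK (k g : ℕ) : ℕ := setAct.get 11 (6 * k + g)

theorem sets_ok : checkBelow (fun k =>
    incr (setL k) && (setL k).all (fun x => Nat.blt x (D).N) &&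
    allList (fun g => force (actK k g) fun l => Nat.blt l 1365 &&
      (setL k).all (fun x => (setL l).contains ((D).actOf x g)) &&
      (setL l).all (fun x => (setL k).contains ((D).actOf x g))) [0, 1, 2, 3, 4, 5]) 11 1365 = true := by
  rw [checkBelow_fast]; decide +kernel

theorem tree_ok : checkBelow (fun k => Nat.beq k 0 || force (setPar.get 14 k) fun e =>
    Nat.blt (e / 8) k && Nat.blt (e % 8) 6 && Nat.beq (actK (e / 8) (e % 8)) k) 11 1365 = true := by
  rw [checkBelow_fast]; decide +kernel

theorem ord_ok : (Nat.beq setOrd.length 1365 && setOrd.all (fun k => Nat.blt k 1365) &&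
    incr (setOrd.map code)) = true := by
  decide +kernel

/-- Set number `k`. -/
noncomputable def setK (k : ℕ) : Set (Fin (D).N) := {x | (x : ℕ) ∈ setL k}

theorem smul_setK {k g : ℕ} (hk : k < 1365) (hg : g < 6) : s6 g • setK k = setK (actK k g) := by
  have h := checkBelow_spec sets_ok k hk
  simp only [Bool.and_eq_true, allList_eq, List.all_eq_true, force_eq, List.contains_eq_mem,
    decide_eq_true_eq, Nat.blt_eq] at h
  obtain ⟨⟨-, h1⟩, h2⟩ := h.2 g (by interval_cases g <;> simp)
  ext x
  rw [Set.mem_smul_set_iff_inv_smul_mem, inv_eq_of_mul_eq_one_left (s6_sq g)]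
  show ((s6 g • x : Fin (D).N) : ℕ) ∈ setL k ↔ (x : ℕ) ∈ setL (actK k g)
  rw [smul_s6 hg]
  constructor
  · intro hx
    have h3 := h1 _ hx
    rwa [CosetCert.actOf_actOf SuzC1782.cert_edgesOK SuzC1782.cert_nodesOK x.2
      (lt_trans hg (by decide +kernel))] at h3
  · exact h2 _

theorem actK_lt {k g : ℕ} (hk : k < 1365) (hg : g < 6) : actK k g < 1365 := by
  have h := checkBelow_spec sets_ok k hk
  simp only [Bool.and_eq_true, allList_eq, List.all_eq_true, force_eq, Nat.blt_eq] at h
  exact (h.2 g (by interval_cases g <;> simp)).1.1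

theorem setK_reach : ∀ k, k < 1365 → setK k ∈ MulAction.orbit hSub (setK 0) := by
  intro k
  induction k using Nat.strong_induction_on with
  | _ k ih =>
    intro hk
    have h := checkBelow_spec tree_ok k hk
    simp only [Bool.or_eq_true, Nat.beq_eq, force_eq, Bool.and_eq_true, Nat.blt_eq] at h
    rcases h with rfl | ⟨⟨hp, hg⟩, he⟩
    · exact MulAction.mem_orbit_self _
    · obtain ⟨a, ha⟩ := ih _ hp (lt_trans hp hk)
      refine ⟨s6 (setPar.get 14 k % 8) * a, ?_⟩
      show (_ * a) • setK 0 = setK k
      have ha' : a • setK 0 = setK (setPar.get 14 k / 8) := ha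
      rw [mul_smul, ha', smul_setK (lt_trans hp hk) hg, he]

theorem setL_eq {a b : ℕ} (ha : a < 1365) (hb : b < 1365) (e : setK a = setK b) : setL a = setL b := by
  have h1 := checkBelow_spec sets_ok a ha
  have h2 := checkBelow_spec sets_ok b hb
  simp only [Bool.and_eq_true, List.all_eq_true, Nat.blt_eq] at h1 h2
  refine List.Perm.eq_of_pairwise (le := (· < ·)) (fun x y _ _ hxy hyx => absurd hxy (lt_asymm hyx))
    (incr_spec h1.1.1) (incr_spec h2.1.1) ?_
  refine (List.perm_ext_iff_of_nodup ((incr_spec h1.1.1).imp fun h => ne_of_lt h)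
    ((incr_spec h2.1.1).imp fun h => ne_of_lt h)).2 fun x => ⟨fun hx => ?_, fun hx => ?_⟩
  · exact (Set.ext_iff.1 e ⟨x, h1.1.2 x hx⟩).1 hx
  · exact (Set.ext_iff.1 e ⟨x, h2.1.2 x hx⟩).2 hx

theorem setK_injective : Function.Injective (fun k : Fin 1365 => setK k) := by
  have h := ord_ok
  simp only [Bool.and_eq_true, Nat.beq_eq, List.all_eq_true, Nat.blt_eq] at h
  obtain ⟨⟨hlen, hlt⟩, hinc⟩ := h
  have hnd : (setOrd.map code).Nodup := (incr_spec hinc).imp fun h => ne_of_lt h
  have hall : ∀ k : Fin 1365, (k : ℕ) ∈ setOrd := by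
    intro k
    have hs : setOrd.toFinset ⊆ Finset.range 1365 := fun x hx =>
      Finset.mem_range.2 (hlt x (List.mem_toFinset.1 hx))
    have he := Finset.eq_of_subset_of_card_le hs
      (by rw [Finset.card_range, List.toFinset_card_of_nodup (List.Nodup.of_map _ hnd), hlen])
    exact List.mem_toFinset.1 (he ▸ Finset.mem_range.2 k.2)
  intro a b e
  exact Fin.ext (List.inj_on_of_nodup_map hnd (hall a) (hall b) (congrArg
    (fun l => List.foldr (fun x acc => x + 2048 * acc) 0 l) (setL_eq a.2 b.2 e)))

theorem orbit_set : MulAction.orbit hSub (setK 0) = Set.range (fun k : Fin 1365 => setK k) := by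
  refine Set.Subset.antisymm ?_ (by rintro _ ⟨k, rfl⟩; exact setK_reach k.1 k.2)
  rintro _ ⟨h, rfl⟩
  have hmem : h ∈ Subgroup.closure (s6 '' {g | g < 6}) := by rw [closure_s6]; trivial
  show h • setK 0 ∈ _
  suffices key : ∀ k : Fin 1365, ∃ l : Fin 1365, h • setK k = setK l by
    obtain ⟨l, hl⟩ := key ⟨0, by norm_num⟩
    exact ⟨l, hl.symm⟩
  induction hmem using Subgroup.closure_induction'' with
  | mem y hy =>
    obtain ⟨g, hg, rfl⟩ := hy
    exact fun k => ⟨⟨_, actK_lt k.2 hg⟩, smul_setK k.2 hg⟩
  | inv_mem y hy =>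
    obtain ⟨g, hg, rfl⟩ := hy
    rw [inv_eq_of_mul_eq_one_left (s6_sq g)]
    exact fun k => ⟨⟨_, actK_lt k.2 hg⟩, smul_setK k.2 hg⟩
  | one => exact fun k => ⟨k, one_smul _ _⟩
  | mul a b _ _ iha ihb =>
    intro k
    obtain ⟨l, hl⟩ := ihb k
    obtain ⟨l', hl'⟩ := iha l
    exact ⟨l', by rw [mul_smul, hl, hl']⟩

theorem orbit_set_ncard : (MulAction.orbit hSub (setK 0)).ncard = 1365 := by
  rw [orbit_set, Set.ncard_range_of_injective setK_injective, Nat.card_fin]

/-! ## The classes -/

theorem set0_ok : (setL 0).all (fun x => [0, 1, 2, 3, 4].any fun k => Nat.beq (pAt k) x) &&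
    [0, 1, 2, 3, 4].all (fun k => (setL 0).contains (pAt k)) = true := by
  decide +kernel

theorem sums_ok : (List.range 6).sublists.all (fun sel =>
    (!sel.contains 0) || !(Nat.beq (184320 % (sel.map fun b => sizes.getD b 0).sum) 0) ||
      (sel == [0]) || (sel == [0, 1])) = true := by
  decide +kernel

/-- Every subgroup of order 184320 is conjugate to the stabiliser of the point or of the five-point set. -/
theorem conj_class (M : Subgroup hSub) (hM : Nat.card M = 184320) :
    ∃ h : hSub, M.comap (MulAut.conj h).toMonoidHom = MulAction.stabilizer hSub y1 ∨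
      M.comap (MulAut.conj h).toMonoidHom = MulAction.stabilizer hSub (setK 0) := by
  classical
  haveI : Fact (Nat.Prime 2) := ⟨by norm_num⟩
  have h2 : (2 : ℕ) ^ (Nat.card hSub).factorization 2 ∣ Nat.card M := by
    rw [card_hSub', hM, show 251596800 = 2 ^ 12 * 61425 by norm_num,
      Nat.factorization_mul (by norm_num) (by norm_num), Finsupp.add_apply,
      Nat.prime_two.factorization_pow, Finsupp.single_eq_same,
      Nat.factorization_eq_zero_of_not_dvd (by norm_num : ¬ 2 ∣ 61425)]
    norm_num
  obtain ⟨h, hh⟩ := exists_conj_le (span_pgroup 12 le_rfl) h2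
  refine ⟨h, ?_⟩
  set M' := M.comap (MulAut.conj h).toMonoidHom with hM'
  have hc : Nat.card M' = 184320 := by rw [hM', card_comap_conj, hM]
  have hU : ∀ u ∈ span 12, u ∈ M' := hh
  set O := MulAction.orbit M' y1 with hO
  have hsub : O ⊆ Set.range point := by
    rintro _ ⟨m, rfl⟩
    exact mem_pts_of_mem_orbit ⟨(m : hSub), rfl⟩
  have hstep : ∀ {u : hSub}, u ∈ span 12 → ∀ {z}, z ∈ O → u • z ∈ O := by
    rintro u hu _ ⟨m, rfl⟩
    exact ⟨⟨u, hU u hu⟩ * m, mul_smul _ _ _⟩
  set sel := (List.range 6).filter fun b => decide (∃ k : Fin 1365, blk k = b ∧ point k ∈ O) with hsel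
  have hiff : ∀ k : Fin 1365, point k ∈ O ↔ blk k ∈ sel := by
    intro k
    obtain ⟨b, hb, hbk, h1, h2⟩ := blk_spec k.1 k.2
    constructor
    · intro hk
      exact List.mem_filter.2 ⟨List.mem_range.2 (hbk ▸ hb), decide_eq_true ⟨k, rfl, hk⟩⟩
    · intro hk
      obtain ⟨j, hj, hjO⟩ : ∃ j : Fin 1365, blk j = blk k ∧ point j ∈ O :=
        of_decide_eq_true (List.mem_filter.1 hk).2
      obtain ⟨b', hb', hbj, h1', h2'⟩ := blk_spec j.1 j.2
      obtain rfl : b' = b := by rw [← hbj, ← hbk]; exact hj
      obtain ⟨u, hu, e⟩ := reach hb (j.1 - offsets.getD b' 0) (by omega) (by omega)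
      obtain ⟨v, hv, e'⟩ := reach hb (k.1 - offsets.getD b' 0) (by omega) (by omega)
      have ej : (⟨offsets.getD b' 0 + (j.1 - offsets.getD b' 0), by omega⟩ : Fin 1365) = j :=
        Fin.ext (by show offsets.getD b' 0 + (j.1 - offsets.getD b' 0) = j.1; omega)
      have ek : (⟨offsets.getD b' 0 + (k.1 - offsets.getD b' 0), by omega⟩ : Fin 1365) = k :=
        Fin.ext (by show offsets.getD b' 0 + (k.1 - offsets.getD b' 0) = k.1; omega)
      rw [ej] at e
      rw [ek] at e'
      rw [← e', eq_inv_smul_iff.2 e]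
      exact hstep hv (hstep (inv_mem hu) hjO)
  have h0 : 0 ∈ sel := (hiff ⟨0, by norm_num⟩).1 (MulAction.mem_orbit_self _)
  have hcount : O.ncard = (sel.map fun b => sizes.getD b 0).sum := by
    have e1 : O = point '' ↑(Finset.univ.filter fun k : Fin 1365 => blk k ∈ sel) := by
      ext z
      simp only [Set.mem_image, Finset.coe_filter, Finset.mem_univ, true_and, Set.mem_ofPred_eq]
      constructor
      · intro hz
        obtain ⟨k, rfl⟩ := hsub hz
        exact ⟨k, (hiff k).1 hz, rfl⟩
      · rintro ⟨k, hk, rfl⟩; exact (hiff k).2 hk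
    rw [e1, Set.ncard_image_of_injective _ point_injective, Set.ncard_coe_finset,
      ← List.sum_toFinset _ (List.nodup_range.filter _),
      Finset.card_eq_sum_card_fiberwise (t := sel.toFinset)
        (fun k hk => List.mem_toFinset.2 (Finset.mem_filter.1 hk).2)]
    refine Finset.sum_congr rfl fun b hb => ?_
    have hb' : b < 6 := List.mem_range.1 (List.mem_filter.1 (List.mem_toFinset.1 hb)).1
    rw [Finset.filter_filter]
    have e : (Finset.univ.filter fun k : Fin 1365 => blk k ∈ sel ∧ blk k = b) =
        Finset.univ.filter fun k : Fin 1365 =>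
          offsets.getD b 0 ≤ k.1 ∧ k.1 < offsets.getD b 0 + sizes.getD b 0 := by
      refine Finset.filter_congr fun k _ => ?_
      obtain ⟨b', hb'', hbk, h1, h2⟩ := blk_spec k.1 k.2
      constructor
      · rintro ⟨-, e⟩; rw [← e, hbk]; exact ⟨h1, h2⟩
      · rintro ⟨l1, l2⟩
        have : b' = b := by
          interval_cases b <;> interval_cases b' <;>
            simp [offsets, sizes] at h1 h2 l1 l2 <;> omega
        rw [hbk, this]
        exact ⟨List.mem_toFinset.1 hb, rfl⟩
    have hB := block_ok
    simp only [Bool.and_eq_true, List.all_eq_true, Nat.ble_eq] at hB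
    have hle := hB.2 b (List.mem_range.2 hb')
    have emap : (Finset.univ.filter fun k : Fin 1365 =>
          offsets.getD b 0 ≤ k.1 ∧ k.1 < offsets.getD b 0 + sizes.getD b 0).map Fin.valEmbedding =
        Finset.Ico (offsets.getD b 0) (offsets.getD b 0 + sizes.getD b 0) := by
      ext x
      simp only [Finset.mem_map, Finset.mem_filter, Finset.mem_univ, true_and, Fin.valEmbedding_apply,
        Finset.mem_Ico]
      exact ⟨by rintro ⟨k, hk, rfl⟩; exact hk, fun hx => ⟨⟨x, lt_of_lt_of_le hx.2 hle⟩, hx, rfl⟩⟩
    rw [e, ← Finset.card_map Fin.valEmbedding, emap, Nat.card_Ico, Nat.add_sub_cancel_left]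
  have hdvd : O.ncard ∣ 184320 := by
    have h := (MulAction.stabilizer M' y1).index_mul_card
    rw [MulAction.index_stabilizer, hc] at h
    exact Dvd.intro _ h
  have hcase := List.all_eq_true.1 sums_ok sel (List.mem_sublists.2 List.filter_sublist)
  simp only [Bool.or_eq_true, Bool.not_eq_true', List.contains_eq_mem, decide_eq_false_iff_not,
    beq_iff_eq] at hcase
  rcases hcase with ((hcase | hcase) | hcase) | hcase
  · exact absurd h0 hcase
  · rw [← hcount, Nat.mod_eq_zero_of_dvd hdvd] at hcase
    simp at hcase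
  · left
    refine Subgroup.eq_of_le_of_card_ge (fun m hm => ?_)
      (by rw [hc, card_stabilizer_of_orbit _ orbit_y1_ncard])
    obtain ⟨k, hk⟩ := hsub (⟨⟨m, hm⟩, rfl⟩ : m • y1 ∈ O)
    have hkO : point k ∈ O := by rw [hk]; exact ⟨⟨m, hm⟩, rfl⟩
    have hb := (hiff k).1 hkO
    rw [hcase, List.mem_singleton] at hb
    have : (k : ℕ) = 0 := by unfold blk at hb; split_ifs at hb <;> omega
    rw [MulAction.mem_stabilizer_iff, ← hk]
    exact congrArg point (Fin.ext this)
  · right
    refine Subgroup.eq_of_le_of_card_ge (fun m hm => ?_)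
      (by rw [hc, card_stabilizer_of_orbit _ orbit_set_ncard])
    have hset : setK 0 = O := by
      have h5 := set0_ok
      simp only [Bool.and_eq_true, List.all_eq_true, List.any_eq_true, Nat.beq_eq, List.contains_eq_mem,
        decide_eq_true_eq, List.mem_cons, List.not_mem_nil, or_false] at h5
      ext z
      constructor
      · intro hz
        obtain ⟨k, hk, e⟩ := h5.1 _ hz
        have hk5 : k < 5 := by omega
        have ez : point ⟨k, by omega⟩ = z := Fin.ext e
        rw [← ez, hiff, hcase]
        simp only [blk, List.mem_cons, List.not_mem_nil, or_false]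
        split_ifs <;> simp
      · intro hz
        obtain ⟨k, rfl⟩ := hsub hz
        have hb := (hiff k).1 hz
        rw [hcase] at hb
        simp only [List.mem_cons, List.not_mem_nil, or_false] at hb
        have hk5 : (k : ℕ) < 5 := by
          by_contra hk5
          revert hb
          unfold blk
          split_ifs <;> simp <;> omega
        exact h5.2 k.1 (by omega)
    rw [MulAction.mem_stabilizer_iff, hset]
    exact MulAction.smul_orbit (⟨m, hm⟩ : M') y1

end Cfsg.Agent.Presented.SuzPClass
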