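import Cfsg.Agent.Lib.Presented.SuzMultBound
import Cfsg.Agent.Lib.Presented.SuzG2

/-!
# The presented Suzuki group on 1782 points

Words are compared through the walks from a base, and homomorphisms out of `⟨a, …, f⟩` are given by six
images that satisfy the relators.
-/

set_option autoImplicit false
set_option maxRecDepth 20000

namespace Cfsg.Agent.Presented.SuzPoints

open Cfsg.Spor SuzIndex

/-- The table as an equivalence. -/
noncomputable def tab : Fin SuzC1782.cert.N ≃ Suz ⧸ hSub := exists_table.choose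

theorem tab_zero (i : Fin SuzC1782.cert.N) (h : (i : ℕ) = 0) : tab i = QuotientGroup.mk 1 :=
  exists_table.choose_spec.1 i h

theorem tab_gen (g : ℕ) (hg : g < SuzC1782.cert.m) (i : Fin SuzC1782.cert.N) :
    gen g • tab i = tab ⟨SuzC1782.cert.actOf i g,
      CosetCert.actOf_lt SuzC1782.cert_edgesOK SuzC1782.cert_nodesOK i.2 hg⟩ :=
  exists_table.choose_spec.2 g hg i

theorem gen_sq (g : ℕ) : gen g * gen g = 1 := genFun_mul_self gens_all gens_ok g

theorem smul_word (w : List ℕ) (hw : ∀ g ∈ w, g < 7) (i : Fin SuzC1782.cert.N) :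
    wval gen w • tab i = tab ⟨SuzC1782.cert.path w i,
      CosetCert.path_lt SuzC1782.cert_edgesOK SuzC1782.cert_nodesOK w hw i.2⟩ :=
  CosetCert.smul_path SuzC1782.cert_edgesOK SuzC1782.cert_nodesOK tab tab_gen w hw i

/-- The letters of a word are generators of `⟨a, …, f⟩`. -/
def six (w : List ℕ) : Bool := w.all fun g => Nat.blt g 6

theorem six_lt {w : List ℕ} (h : six w = true) : ∀ g ∈ w, g < 6 := fun g hg => by
  simpa [Nat.blt_eq] using List.all_eq_true.1 h g hg

theorem six_lt7 {w : List ℕ} (h : six w = true) : ∀ g ∈ w, g < 7 := fun g hg =>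
  (six_lt h g hg).trans (by norm_num)

/-- Two words agree on the base, so that they are equal. -/
noncomputable def eqW (u v : List ℕ) : Bool :=
  sameOK SuzC1782.cert (SuzChain.chain.map Level.pt) u v

theorem wval_eq_of_eqW {u v : List ℕ} (h : eqW u v = true) : wval gen u = wval gen v := by
  haveI := SuzOrder.finite_suz
  simp only [eqW, sameOK, Bool.and_eq_true, List.all_eq_true, Nat.blt_eq, Nat.beq_eq] at h
  obtain ⟨⟨hu, hv⟩, hp⟩ := h
  refine eq_of_paths SuzC1782.cert_edgesOK SuzC1782.cert_nodesOK tab tab_gen (by decide +kernel)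
    SuzChain.chain_ok (by rw [SuzOrder.card_suz, SuzOrder.chain_prod]) _ _ fun p hpm hlt => ?_
  rw [smul_word u hu, smul_word v hv]
  exact congrArg tab (Fin.ext (hp p hpm))

/-- A word moves a point, so that it is not trivial. -/
theorem wval_ne_one {u : List ℕ} (hu : ∀ g ∈ u, g < 7) {x : ℕ} (hx : x < SuzC1782.cert.N)
    (h : Nat.beq (SuzC1782.cert.path u x) x = false) : wval gen u ≠ 1 := by
  intro he
  have h1 := smul_word u hu ⟨x, hx⟩
  rw [he, one_smul] at h1
  have h2 : SuzC1782.cert.path u x = x := (congrArg Fin.val (tab.injective h1)).symm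
  rw [h2] at h
  simp [Nat.beq_refl] at h

theorem wval_reverse (u : List ℕ) : wval gen u.reverse = (wval gen u)⁻¹ := by
  rw [wval_eq_prod, wval_eq_prod, List.map_reverse, List.reverse_reverse, List.prod_inv_reverse,
    List.map_reverse, List.reverse_reverse, List.map_map]
  exact congrArg List.prod (List.map_congr_left fun g _ => eq_inv_of_mul_eq_one_left (gen_sq g))

theorem gen_mem {g : ℕ} (hg : g < 6) : gen g ∈ hSub :=
  SuzMultBound.closure_gen6 ▸ Subgroup.subset_closure ⟨g, hg, rfl⟩

theorem wval_mem {H : Subgroup Suz} : ∀ {w : List ℕ}, (∀ g ∈ w, gen g ∈ H) → wval gen w ∈ H := by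
  intro w
  induction w with
  | nil => intro _; exact one_mem _
  | cons g w ih =>
    intro h
    exact mul_mem (ih fun a ha => h a (List.mem_cons_of_mem _ ha)) (h g List.mem_cons_self)

theorem wval_mem_hSub {w : List ℕ} (h : six w = true) : wval gen w ∈ hSub :=
  wval_mem fun g hg => gen_mem (six_lt h g hg)

/-- A word in listed words. -/
theorem wval_flatten_mem {H : Subgroup Suz} {ls : List (List ℕ)} (h : ∀ l ∈ ls, wval gen l ∈ H) (u : List ℕ) :
    wval gen ((u.map fun k => ls.getD k []).flatten) ∈ H := by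
  induction u with
  | nil => exact one_mem _
  | cons k u ih =>
    rw [List.map_cons, List.flatten_cons, wval_append]
    refine mul_mem ih ?_
    by_cases hk : k < ls.length
    · rw [List.getD_eq_getElem _ _ hk]; exact h _ (List.getElem_mem hk)
    · rw [List.getD_eq_default _ _ (by omega)]; exact one_mem _

/-- Six involutions that satisfy the relators define a homomorphism on `⟨a, …, f⟩`. -/
theorem exists_hom {P : Type*} [Group P] (t : ℕ → P) (ht : ∀ g, t g * t g = 1)
    (hrel : ∀ w ∈ SuzG2Data.rels, wval t w = 1) :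
    ∃ φ : hSub →* P, ∀ g (hg : g < 6), φ ⟨gen g, gen_mem hg⟩ = t g := by
  haveI : Finite Suz := SuzOrder.finite_suz
  let s : ℕ → Suz × P := fun g => if g < 6 then (gen g, t g) else 1
  have hs : ∀ g, s g * s g = 1 := fun g => by
    by_cases hg : g < 6
    · simp [s, hg, gen_sq, ht]
    · simp [s, hg]
  have hrels : ∀ w ∈ SuzG2Data.rels, wval s w = 1 := by
    intro w hw
    refine Prod.ext ?_ ?_
    · refine ((wval_map (MonoidHom.fst Suz P) w).trans (SuzG2.wval_congr (g := gen) ?_)).trans
        (wval_rot gens_all gens_ok SuzG2.rels_suz w hw)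
      intro i hi
      simp [s, SuzG2.rels_lt w hw i hi]
    · refine ((wval_map (MonoidHom.snd Suz P) w).trans (SuzG2.wval_congr (g := t) ?_)).trans (hrel w hw)
      intro i hi
      simp [s, SuzG2.rels_lt w hw i hi]
  obtain ⟨hfin, hle⟩ := SuzG2.bound_closure hs hrels
  set S := Subgroup.closure (s '' {g | g < 6}) with hS
  have h1 : S.map (MonoidHom.fst Suz P) = hSub := by
    rw [hS, MonoidHom.map_closure, Set.image_image]
    refine (congrArg Subgroup.closure (Set.image_congr fun g hg => ?_)).trans SuzMultBound.closure_gen6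
    simp [s, (show g < 6 from hg)]
  have hinj : Function.Injective ((MonoidHom.fst Suz P).subgroupMap S) :=
    ((Nat.bijective_iff_surjective_and_card _).2 ⟨MonoidHom.subgroupMap_surjective _ _, le_antisymm
      (hle.trans (le_of_eq (by rw [h1, SuzOrder.card_hSub])))
      (Nat.card_le_card_of_surjective _ (MonoidHom.subgroupMap_surjective _ _))⟩).1
  let e1 : S ≃* S.map (MonoidHom.fst Suz P) :=
    MulEquiv.ofBijective _ ⟨hinj, MonoidHom.subgroupMap_surjective _ _⟩
  refine ⟨((MonoidHom.snd Suz P).comp S.subtype).comp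
    (e1.symm.toMonoidHom.comp (MulEquiv.subgroupCongr h1.symm).toMonoidHom), fun g hg => ?_⟩
  have hmem : s g ∈ S := Subgroup.subset_closure ⟨g, hg, rfl⟩
  have he : e1.symm (MulEquiv.subgroupCongr h1.symm ⟨gen g, gen_mem hg⟩) = ⟨s g, hmem⟩ := by
    rw [MulEquiv.symm_apply_eq]
    refine Subtype.ext ?_
    show gen g = (s g).1
    simp [s, hg]
  show (e1.symm (MulEquiv.subgroupCongr h1.symm ⟨gen g, gen_mem hg⟩) : Suz × P).2 = t g
  rw [he]
  simp [s, hg]

end Cfsg.Agent.Presented.SuzPoints
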