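import Cfsg.Agent.Lib.Presented.SuzJClass
import Cfsg.Agent.Lib.Presented.SuzPClass
import Cfsg.Agent.Lib.Presented.Data.SuzRankData

/-!
# The two possible actions of `G₂(4)` on 1782 points with suborbits 1, 416, 1365

A rank three group on 1782 points with point stabiliser `G₂(4)` is transported to the points of the
table, with the point stabiliser acting as `⟨a, …, f⟩` or as the variant in which the suborbit of 1365
points is replaced by the images of a five-point set.
-/

set_option autoImplicit false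
set_option maxRecDepth 20000

namespace Cfsg.Agent.Presented.SuzRankModel

open Cfsg.Spor SuzIndex SuzPoints SuzHWords SuzAct SuzRankData
open SuzJClass (jSub6)
open scoped Pointwise

attribute [local instance] SuzAct.act6

local notation "D" => SuzC1782.cert

/-- The point belongs to the suborbit of 1365 points. -/
noncomputable def inO2 (x : ℕ) : Bool := Nat.blt (pos2.get 11 x) 1365

/-- The table, or its variant. -/
noncomputable def actM (w : Bool) (x g : ℕ) : ℕ :=
  bif w && inO2 x then o2.get 11 (SuzPClass.actK (pos2.get 11 x) g) else (D).actOf x g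

/-- A walk. -/
noncomputable def pathM (w : Bool) (l : List ℕ) : ℕ → ℕ :=
  List.rec (motive := fun _ => ℕ → ℕ) (fun x => x) (fun g _ ih x => force (actM w x g) ih) l

@[simp] theorem pathM_nil (w : Bool) (x : ℕ) : pathM w [] x = x := rfl

@[simp] theorem pathM_cons (w : Bool) (g x : ℕ) (l : List ℕ) :
    pathM w (g :: l) x = pathM w l (actM w x g) := force_eq _ _

theorem pathM_false (l : List ℕ) : ∀ x, pathM false l x = (D).path l x := by
  induction l with
  | nil => intro x; simp
  | cons g l ih => intro x; simp [ih, actM]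

/-- The first point. -/
noncomputable def z0 : Fin (D).N := ⟨0, by decide +kernel⟩

/-- The point fixed by `⟨a, …, e⟩` in the suborbit of 416 points. -/
noncomputable def b0 : Fin (D).N := ⟨943, by decide +kernel⟩

theorem cover_ok : checkBelow (fun x =>
    (Nat.beq x 0 && !inO2 x && allList (fun g => Nat.beq ((D).actOf x g) 0) [0, 1, 2, 3, 4, 5]) ||
    (inO2 x && !(Nat.beq x 0) && Nat.beq (o2.get 11 (pos2.get 11 x)) x &&
      force (SuzPClass.posAt x) (fun k => Nat.blt k 1365 && Nat.beq (SuzPClass.pAt k) x) &&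
      allList (fun g => force ((D).actOf x g) fun y => inO2 y && !(Nat.beq y 0)) [0, 1, 2, 3, 4, 5]) ||
    (!inO2 x && !(Nat.beq x 0) &&
      force (pos1.get 11 x) (fun k => Nat.blt k 416 && Nat.beq (o1.get 11 k) x) &&
      allList (fun g => force ((D).actOf x g) fun y => !inO2 y && !(Nat.beq y 0)) [0, 1, 2, 3, 4, 5]))
    11 (D).N = true := by
  rw [checkBelow_fast]; decide +kernel

theorem o2_ok : checkBelow (fun k => force (o2.get 11 k) fun x =>
    Nat.blt x (D).N && Nat.beq (pos2.get 11 x) k && !(Nat.beq x 0)) 11 1365 = true := by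
  rw [checkBelow_fast]; decide +kernel

theorem o1_ok : checkBelow (fun k => force (o1.get 11 k) fun x =>
    Nat.blt x (D).N && Nat.beq (pos1.get 11 x) k && (bif Nat.beq k 0 then Nat.beq x 943
      else force (par1.get 12 k) fun e => Nat.blt (e / 8) k && Nat.blt (e % 8) 6 &&
        Nat.beq ((D).actOf (o1.get 11 (e / 8)) (e % 8)) x)) 11 416 = true := by
  rw [checkBelow_fast]; decide +kernel

theorem b0_ok : ([0, 1, 2, 3, 4].all fun g => Nat.beq ((D).actOf 943 g) 943) = true := by decide +kernel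

theorem smul_s6 {g : ℕ} (hg : g < 6) (i : Fin (D).N) :
    ((s6 g • i : Fin (D).N) : ℕ) = (D).actOf i g := SuzPClass.smul_s6 hg i

theorem o1_orbit : ∀ k (hk : k < 416) (hx : o1.get 11 k < (D).N),
    (⟨o1.get 11 k, hx⟩ : Fin (D).N) ∈ MulAction.orbit hSub b0 := by
  intro k
  induction k using Nat.strong_induction_on with
  | _ k ih =>
    intro hk hx
    have h := checkBelow_spec o1_ok k hk
    simp only [force_eq, Bool.and_eq_true, Nat.blt_eq, Nat.beq_eq] at h
    obtain ⟨-, h⟩ := h
    by_cases h0 : k = 0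
    · subst h0
      simp only [Nat.beq_refl, cond_true, Nat.beq_eq] at h
      have e : (⟨o1.get 11 0, hx⟩ : Fin (D).N) = b0 := by
        refine Fin.ext ?_
        simp only [b0, h]
      rw [e]
      exact MulAction.mem_orbit_self _
    · rw [show Nat.beq k 0 = false by simpa [Bool.eq_false_iff, Nat.beq_eq] using h0, cond_false] at h
      simp only [Bool.and_eq_true, Nat.blt_eq, Nat.beq_eq] at h
      obtain ⟨⟨hp, hg⟩, he⟩ := h
      have hp' := checkBelow_spec o1_ok _ (lt_trans hp hk)
      simp only [force_eq, Bool.and_eq_true, Nat.blt_eq] at hp'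
      obtain ⟨a, ha⟩ := ih _ hp (lt_trans hp hk) hp'.1.1
      refine ⟨s6 (par1.get 12 k % 8) * a, ?_⟩
      show (_ * a) • b0 = _
      rw [mul_smul]
      refine Fin.ext ?_
      rw [smul_s6 hg]
      have ha' : ((a • b0 : Fin (D).N) : ℕ) = o1.get 11 (par1.get 12 k / 8) := congrArg Fin.val ha
      rw [ha', he]

theorem stab_b0 : MulAction.stabilizer hSub b0 = jSub6 := by
  refine (Subgroup.eq_of_le_of_card_ge ?_ ?_).symm
  · intro x hx
    have h1 : (x : Suz) ∈ (MulAction.stabilizer hSub b0).map hSub.subtype := by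
      have hle : SuzJ2.jSub ≤ (MulAction.stabilizer hSub b0).map hSub.subtype := by
        rw [SuzJ2.jSub, Subgroup.closure_le]
        rintro _ ⟨g, hg, rfl⟩
        have hg5 : g < 5 := hg
        refine ⟨s6 g, MulAction.mem_stabilizer_iff.2 (Fin.ext ?_), coe_s6 (lt_trans hg5 (by norm_num))⟩
        rw [smul_s6 (lt_trans hg5 (by norm_num))]
        exact Nat.beq_eq.mp (List.all_eq_true.1 b0_ok g (by interval_cases g <;> simp))
      exact hle hx
    obtain ⟨y, hy, e⟩ := h1
    rwa [← Subtype.ext e]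
  · rw [SuzJClass.card_jSub6]
    have h := (MulAction.stabilizer hSub b0).index_mul_card
    rw [MulAction.index_stabilizer, card_hSub'] at h
    have hn : 416 ≤ (MulAction.orbit hSub b0).ncard := by
      have hx : ∀ k : Fin 416, o1.get 11 k < (D).N := fun k => by
        have h := checkBelow_spec o1_ok k.1 k.2
        simp only [force_eq, Bool.and_eq_true, Nat.blt_eq] at h
        exact h.1.1
      have hinj : Function.Injective (fun k : Fin 416 => (⟨o1.get 11 k, hx k⟩ : Fin (D).N)) := by
        intro a b e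
        have ha := checkBelow_spec o1_ok a.1 a.2
        have hb := checkBelow_spec o1_ok b.1 b.2
        simp only [force_eq, Bool.and_eq_true, Nat.beq_eq] at ha hb
        have e' : o1.get 11 a = o1.get 11 b := congrArg Fin.val e
        exact Fin.ext (by rw [← ha.1.2, e', hb.1.2])
      rw [← Nat.card_fin 416, ← Set.ncard_range_of_injective hinj]
      exact Set.ncard_le_ncard (by rintro _ ⟨k, rfl⟩; exact o1_orbit k.1 k.2 _) (Set.toFinite _)
    nlinarith

/-- The group on the table points has the given point stabiliser. -/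
structure IsModel (w : Bool) (G : Subgroup (Equiv.Perm (Fin (D).N)))
    (ψ : hSub →* Equiv.Perm (Fin (D).N)) : Prop where
  card : Nat.card G = 448345497600
  trans : ∀ x y : Fin (D).N, ∃ g ∈ G, g x = y
  inj : Function.Injective ψ
  gens : ∀ g, g < 6 → ∀ x : Fin (D).N, ((ψ (s6 g) x : Fin (D).N) : ℕ) = actM w x g
  range : ∀ σ : Equiv.Perm (Fin (D).N), (∃ h, ψ h = σ) ↔ σ ∈ G ∧ σ z0 = z0
  size : ∀ x : Fin (D).N, x ≠ z0 →
    Nat.card (ψ.range ⊓ MulAction.stabilizer (Equiv.Perm (Fin (D).N)) x : Subgroup _) = 604800 →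
    ∃ h, ψ h x = b0
  fix_b0 : (MulAction.stabilizer hSub b0).map ψ = ψ.range ⊓ MulAction.stabilizer (Equiv.Perm (Fin (D).N)) b0

theorem exists_equivariant {H X Y : Type*} [Group H] [MulAction H X] [MulAction H Y] (x : X) (y : Y)
    (hst : MulAction.stabilizer H x = MulAction.stabilizer H y) :
    ∃ f : X → Y, (∀ h : H, f (h • x) = h • y) ∧
      ∀ h k : H, f (h • x) = f (k • x) → h • x = k • x := by
  classical
  let f : X → Y := fun z => if hz : ∃ h : H, h • x = z then hz.choose • y else y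
  have key : ∀ h k : H, h • x = k • x ↔ h • y = k • y := by
    intro h k
    rw [← inv_smul_eq_iff, ← mul_smul, ← inv_smul_eq_iff (g := k), ← mul_smul,
      ← MulAction.mem_stabilizer_iff, hst, MulAction.mem_stabilizer_iff]
  have hf : ∀ h : H, f (h • x) = h • y := by
    intro h
    have hz : ∃ k : H, k • x = h • x := ⟨h, rfl⟩
    rw [show f (h • x) = hz.choose • y from dif_pos hz]
    exact (key _ _).1 hz.choose_spec
  exact ⟨f, hf, fun h k e => (key h k).2 (by rw [← hf, e, hf])⟩

theorem stab_smul_inv {H X : Type*} [Group H] [MulAction H X] (h : H) (x : X) :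
    MulAction.stabilizer H (h⁻¹ • x) = (MulAction.stabilizer H x).comap (MulAut.conj h).toMonoidHom := by
  ext s
  simp only [MulAction.mem_stabilizer_iff, Subgroup.mem_comap, MulEquiv.coe_toMonoidHom, MulAut.conj_apply]
  rw [mul_smul, mul_smul, eq_inv_smul_iff]

theorem stab_card_of_orbit {X : Type*} [MulAction hSub X] (x : X) {n : ℕ}
    (hx : (MulAction.orbit hSub x).ncard = n) :
    n * Nat.card (MulAction.stabilizer hSub x) = 251596800 := by
  have h := (MulAction.stabilizer hSub x).index_mul_card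
  rwa [MulAction.index_stabilizer, hx, card_hSub'] at h

theorem exists_model {Ω : Type*} [Fintype Ω] [DecidableEq Ω] (hΩ : Fintype.card Ω = 1782)
    (G : Subgroup (Equiv.Perm Ω)) [MulAction.IsPretransitive G Ω] (a : Ω)
    (ε : hSub ≃* MulAction.stabilizer G a) (b c : Ω)
    (hb : (MulAction.orbit (MulAction.stabilizer G a) b).ncard = 416)
    (hc : (MulAction.orbit (MulAction.stabilizer G a) c).ncard = 1365) :
    ∃ (w : Bool) (G' : Subgroup (Equiv.Perm (Fin (D).N))) (ψ : hSub →* Equiv.Perm (Fin (D).N)),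
      Nonempty (G ≃* G') ∧ IsModel w G' ψ := by
  classical
  set φ : hSub →* Equiv.Perm Ω :=
    (G.subtype.comp (MulAction.stabilizer G a).subtype).comp ε.toMonoidHom with hφ
  letI iΩ : MulAction hSub Ω := MulAction.compHom Ω φ
  have hsmul : ∀ (h : hSub) (y : Ω), h • y = φ h y := fun _ _ => rfl
  have horb : ∀ y : Ω, MulAction.orbit hSub y = MulAction.orbit (MulAction.stabilizer G a) y := by
    intro y
    ext z
    constructor
    · rintro ⟨h, rfl⟩; exact ⟨ε h, rfl⟩
    · rintro ⟨s, rfl⟩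
      refine ⟨ε.symm s, ?_⟩
      show φ (ε.symm s) y = _
      simp [hφ]
      rfl
  have ha : ∀ h : hSub, h • a = a := fun h => (ε h).2
  -- the two suborbits
  obtain ⟨h₁, hh₁⟩ := SuzJClass.conj_jSub6 (MulAction.stabilizer hSub b) (by
    have := stab_card_of_orbit b (n := 416) (by rw [horb, hb])
    omega)
  rw [← stab_smul_inv, ← stab_b0] at hh₁
  obtain ⟨h₂, hh₂⟩ := SuzPClass.conj_class (MulAction.stabilizer hSub c) (by
    have := stab_card_of_orbit c (n := 1365) (by rw [horb, hc])
    omega)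
  rw [← stab_smul_inv] at hh₂
  set b' := h₁⁻¹ • b with hb'def
  set c' := h₂⁻¹ • c with hc'def
  have hob : (MulAction.orbit hSub b').ncard = 416 := by
    rw [hb'def, MulAction.orbit_smul, horb, hb]
  have hoc : (MulAction.orbit hSub c').ncard = 1365 := by
    rw [hc'def, MulAction.orbit_smul, horb, hc]
  have hoa : (MulAction.orbit hSub a).ncard = 1 := by
    have e : MulAction.orbit hSub a = {a} := by
      ext z
      constructor
      · rintro ⟨h, rfl⟩; exact ha h
      · intro e; rw [Set.mem_singleton_iff] at e; rw [e]; exact MulAction.mem_orbit_self a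
    rw [e, Set.ncard_singleton]
  obtain ⟨f1, hf1, hi1⟩ := exists_equivariant b0 b' hh₁.symm
  -- the third piece
  obtain ⟨w, F, hF, hFi⟩ : ∃ (w : Bool) (F : Fin (D).N → Ω),
      (∀ z : Fin (D).N, inO2 z → F z ∈ MulAction.orbit hSub c' ∧ ∀ g, g < 6 → ∀ z' : Fin (D).N,
        (z' : ℕ) = actM w z g → inO2 z' = true ∧ F z' = s6 g • F z) ∧
      ∀ z z' : Fin (D).N, inO2 z → inO2 z' → F z = F z' → z = z' := by
    have hcov : ∀ z : Fin (D).N, inO2 z → o2.get 11 (pos2.get 11 z) = z ∧
        (∃ k : Fin 1365, SuzPClass.point k = z) ∧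
        ∀ g, g < 6 → inO2 ((D).actOf z g) = true := by
      intro z hz
      have h := checkBelow_spec cover_ok z.1 z.2
      simp only [hz, Bool.not_true, Bool.and_false, Bool.false_and, Bool.or_false, Bool.false_or,
        Bool.true_and, Bool.and_eq_true, force_eq, allList_eq, List.all_eq_true, Nat.blt_eq,
        Nat.beq_eq] at h
      obtain ⟨⟨⟨-, h1⟩, h2, h3⟩, h4⟩ := h
      exact ⟨h1, ⟨⟨_, h2⟩, Fin.ext h3⟩, fun g hg => (h4 g (by interval_cases g <;> simp)).1⟩
    rcases hh₂ with hh₂ | hh₂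
    · obtain ⟨f2, hf2, hi2⟩ := exists_equivariant SuzPClass.y1 c' hh₂.symm
      have hmem : ∀ z : Fin (D).N, inO2 z → ∃ h : hSub, h • SuzPClass.y1 = z := by
        intro z hz
        obtain ⟨k, hk⟩ := (hcov z hz).2.1
        exact hk ▸ SuzPClass.point_mem_orbit k
      refine ⟨false, f2, fun z hz => ?_, fun z z' hz hz' e => ?_⟩
      · obtain ⟨h, rfl⟩ := hmem z hz
        refine ⟨⟨h, (hf2 h).symm⟩, fun g hg z' hz' => ?_⟩
        have e : z' = s6 g • h • SuzPClass.y1 := Fin.ext (by rw [hz', smul_s6 hg]; rfl)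
        refine ⟨by rw [hz']; exact (hcov _ hz).2.2 g hg, ?_⟩
        rw [e, ← mul_smul, hf2, hf2, mul_smul]
      · obtain ⟨h, rfl⟩ := hmem z hz
        obtain ⟨k, rfl⟩ := hmem z' hz'
        exact hi2 h k e
    · obtain ⟨f2, hf2, hi2⟩ := exists_equivariant (SuzPClass.setK 0) c' hh₂.symm
      have hmem : ∀ z : Fin (D).N, inO2 z → ∃ h : hSub, h • SuzPClass.setK 0 =
          SuzPClass.setK (pos2.get 11 z) := fun z hz => SuzPClass.setK_reach _ (Nat.blt_eq.mp hz)
      refine ⟨true, fun z => f2 (SuzPClass.setK (pos2.get 11 z)), fun z hz => ?_, fun z z' hz hz' e => ?_⟩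
      · obtain ⟨h, hh⟩ := hmem z hz
        refine ⟨⟨h, ((congrArg f2 hh).symm.trans (hf2 h)).symm⟩, fun g hg z' hz' => ?_⟩
        have hlt : pos2.get 11 z < 1365 := Nat.blt_eq.mp hz
        have hk := SuzPClass.actK_lt hlt hg
        have h := checkBelow_spec o2_ok _ hk
        simp only [force_eq, Bool.and_eq_true, Nat.beq_eq] at h
        have e' : pos2.get 11 z' = SuzPClass.actK (pos2.get 11 z) g := by
          rw [hz']; simp only [actM, Bool.true_and, hz, cond_true]; exact h.1.2
        refine ⟨by simp [inO2, e', Nat.blt_eq, hk], ?_⟩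
        show f2 _ = s6 g • f2 _
        rw [e', ← SuzPClass.smul_setK hlt hg, ← hh, ← mul_smul, hf2, hf2, mul_smul]
      · obtain ⟨h, hh⟩ := hmem z hz
        obtain ⟨k, hk⟩ := hmem z' hz'
        have e2 : f2 (SuzPClass.setK (pos2.get 11 z)) = f2 (SuzPClass.setK (pos2.get 11 z')) := e
        rw [← hh, ← hk] at e2
        have e3 : SuzPClass.setK (pos2.get 11 z) = SuzPClass.setK (pos2.get 11 z') := by
          rw [← hh, ← hk]; exact hi2 h k e2
        have e4 := @SuzPClass.setK_injective ⟨_, Nat.blt_eq.mp hz⟩ ⟨_, Nat.blt_eq.mp hz'⟩ e3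
        have e5 : pos2.get 11 z = pos2.get 11 z' := Fin.val_eq_of_eq e4
        refine Fin.ext ?_
        rw [← (hcov z hz).1, ← (hcov z' hz').1, e5]
  -- the bijection
  let π : Fin (D).N → Ω := fun z => if (z : ℕ) = 0 then a else if inO2 z then F z else f1 z
  have hrest : ∀ z : Fin (D).N, (z : ℕ) ≠ 0 → inO2 z = false →
      (∃ h : hSub, h • b0 = z) ∧ ∀ g, g < 6 → inO2 ((D).actOf z g) = false ∧ (D).actOf z g ≠ 0 := by
    intro z hz0 hz
    have h := checkBelow_spec cover_ok z.1 z.2
    simp only [hz, show Nat.beq (z : ℕ) 0 = false by simpa [Bool.eq_false_iff, Nat.beq_eq] using hz0,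
      Bool.false_and, Bool.not_false, Bool.false_or, Bool.true_and, Bool.and_eq_true, force_eq,
      allList_eq, List.all_eq_true, Nat.blt_eq, Nat.beq_eq, Bool.not_eq_true'] at h
    obtain ⟨⟨h1, h2⟩, h3⟩ := h
    refine ⟨?_, fun g hg => ?_⟩
    · obtain ⟨k, hk⟩ := o1_orbit _ h1 (h2.symm ▸ z.2)
      exact ⟨k, hk.trans (Fin.ext h2)⟩
    · obtain ⟨h4, h5⟩ := h3 g (by interval_cases g <;> simp)
      exact ⟨h4, fun e => by rw [e] at h5; simp at h5⟩
  have hz0o : inO2 0 = false := by decide +kernel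
  have hmemπ : ∀ z : Fin (D).N, ((z : ℕ) = 0 ∧ π z = a) ∨
      ((z : ℕ) ≠ 0 ∧ inO2 z = true ∧ π z = F z ∧ π z ∈ MulAction.orbit hSub c') ∨
      ((z : ℕ) ≠ 0 ∧ inO2 z = false ∧ π z = f1 z ∧ π z ∈ MulAction.orbit hSub b') := by
    intro z
    by_cases h0 : (z : ℕ) = 0
    · exact Or.inl ⟨h0, if_pos h0⟩
    · cases h2 : inO2 z
      · refine Or.inr (Or.inr ⟨h0, rfl, ?_, ?_⟩)
        · simp [π, h0, h2]
        · obtain ⟨h, hh⟩ := (hrest z h0 h2).1
          refine ⟨h, ?_⟩
          simp only [π, h0, h2, if_false, Bool.false_eq_true]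
          rw [← hh, hf1]
      · refine Or.inr (Or.inl ⟨h0, rfl, ?_, ?_⟩)
        · simp [π, h0, h2]
        · simp only [π, h0, h2, if_false, if_true]
          exact (hF z h2).1
  have hdisj : ∀ {u v : Ω}, (MulAction.orbit hSub u).ncard ≠ (MulAction.orbit hSub v).ncard →
      ∀ {z}, z ∈ MulAction.orbit hSub u → z ∈ MulAction.orbit hSub v → False := by
    intro u v hne z hu hv
    exact hne (by rw [← MulAction.orbit_eq_iff.2 hu, MulAction.orbit_eq_iff.2 hv])
  have hinj : Function.Injective π := by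
    intro z z' e
    have haO : a ∈ MulAction.orbit hSub a := MulAction.mem_orbit_self a
    rcases hmemπ z with ⟨h, hz⟩ | ⟨h, h', hz, hzo⟩ | ⟨h, h', hz, hzo⟩ <;>
      rcases hmemπ z' with ⟨k, kz⟩ | ⟨k, k', kz, kzo⟩ | ⟨k, k', kz, kzo⟩
    · exact Fin.ext (h.trans k.symm)
    · rw [← e, hz] at kzo; exact (hdisj (by rw [hoa, hoc]; norm_num) haO kzo).elim
    · rw [← e, hz] at kzo; exact (hdisj (by rw [hoa, hob]; norm_num) haO kzo).elim
    · rw [e, kz] at hzo; exact (hdisj (by rw [hoa, hoc]; norm_num) haO hzo).elim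
    · exact hFi z z' h' k' (by rw [← hz, e, kz])
    · rw [e] at hzo; exact (hdisj (by rw [hob, hoc]; norm_num) kzo hzo).elim
    · rw [e, kz] at hzo; exact (hdisj (by rw [hoa, hob]; norm_num) haO hzo).elim
    · rw [e] at hzo; exact (hdisj (by rw [hob, hoc]; norm_num) hzo kzo).elim
    · obtain ⟨s, rfl⟩ := (hrest z h h').1
      obtain ⟨t, rfl⟩ := (hrest z' k k').1
      exact hi1 s t (by rw [← hz, e, kz])
  have hN : (D).N = 1782 := rfl
  let πe : Fin (D).N ≃ Ω := Equiv.ofBijective π
    ((Fintype.bijective_iff_injective_and_card π).2 ⟨hinj, by rw [Fintype.card_fin, hΩ, hN]⟩)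
  have hequiv : ∀ g, g < 6 → ∀ z z' : Fin (D).N, (z' : ℕ) = actM w z g → π z' = s6 g • π z := by
    intro g hg z z' hz'
    rcases hmemπ z with ⟨h, hz⟩ | ⟨h, h', hz, -⟩ | ⟨h, h', hz, -⟩
    · have hc0 := checkBelow_spec cover_ok 0 (by decide +kernel : 0 < (D).N)
      simp only [hz0o, Nat.beq_refl, Bool.not_false, Bool.not_true, Bool.true_and, Bool.false_and,
        Bool.and_false, Bool.or_false, allList_eq, List.all_eq_true, Nat.beq_eq] at hc0
      have e0 : (z' : ℕ) = 0 := by
        rw [hz', h]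
        simp only [actM, hz0o, Bool.and_false, cond_false]
        exact hc0 g (by interval_cases g <;> simp)
      rw [hz, ha, show π z' = a from if_pos e0]
    · obtain ⟨h1, h2⟩ := (hF z h').2 g hg z' hz'
      have h3 : (z' : ℕ) ≠ 0 := fun e => by rw [e, hz0o] at h1; simp at h1
      rw [hz, ← h2]
      simp [π, h3, h1]
    · have e1 : actM w z g = (D).actOf z g := by simp [actM, h']
      obtain ⟨h1, h2⟩ := (hrest z h h').2 g hg
      obtain ⟨s, hs⟩ := (hrest z h h').1
      have e2 : z' = s6 g • s • b0 := Fin.ext (by rw [hz', e1, smul_s6 hg, hs])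
      rw [hz, show π z' = f1 z' by simp [π, hz', e1, h1, h2], e2, ← hs, ← mul_smul, hf1, hf1, mul_smul]
  -- transport
  set T : Equiv.Perm Ω ≃* Equiv.Perm (Fin (D).N) := πe.symm.permCongrHom with hT
  have hTapp : ∀ (σ : Equiv.Perm Ω) (z : Fin (D).N), π (T σ z) = σ (π z) := fun σ z => by
    show πe (T σ z) = σ (πe z)
    simp [hT, Equiv.permCongrHom, Equiv.permCongr_apply]
  set G' : Subgroup (Equiv.Perm (Fin (D).N)) := G.map T.toMonoidHom with hG'
  set ψ : hSub →* Equiv.Perm (Fin (D).N) := T.toMonoidHom.comp φ with hψ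
  have hπ0 : π z0 = a := if_pos rfl
  have hψapp : ∀ h z, π (ψ h z) = h • π z := fun h z => hTapp (φ h) z
  have hψinj : Function.Injective ψ := by
    intro x y e
    exact ε.injective (Subtype.ext (Subtype.ext (T.injective e)))
  have hψgens : ∀ g, g < 6 → ∀ x : Fin (D).N, ((ψ (s6 g) x : Fin (D).N) : ℕ) = actM w x g := by
    intro g hg x
    have hlt : actM w x g < (D).N := by
      simp only [actM]
      cases hb : (w && inO2 x)
      · exact CosetCert.actOf_lt SuzC1782.cert_edgesOK SuzC1782.cert_nodesOK x.2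
          (lt_trans hg (by decide +kernel))
      · simp only [Bool.and_eq_true] at hb
        have := checkBelow_spec o2_ok _ (SuzPClass.actK_lt (Nat.blt_eq.mp hb.2) hg)
        simp only [force_eq, Bool.and_eq_true, Nat.blt_eq] at this
        exact this.1.1
    have e : ψ (s6 g) x = ⟨_, hlt⟩ := hinj (by rw [hψapp, hequiv g hg x ⟨_, hlt⟩ rfl])
    rw [e]
  have hψrange : ∀ σ : Equiv.Perm (Fin (D).N), (∃ h, ψ h = σ) ↔ σ ∈ G' ∧ σ z0 = z0 := by
    intro σ
    constructor
    · rintro ⟨h, rfl⟩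
      exact ⟨⟨φ h, (ε h).1.2, rfl⟩, hinj (by rw [hψapp, hπ0, ha])⟩
    · rintro ⟨⟨τ, hτ, rfl⟩, hfix⟩
      have hτa : τ a = a := by
        have := hTapp τ z0
        rw [show T τ z0 = z0 from hfix, hπ0] at this
        exact this.symm
      refine ⟨ε.symm ⟨⟨τ, hτ⟩, hτa⟩, ?_⟩
      simp [hψ, hφ]
  have hmap : ∀ x : Fin (D).N, (MulAction.stabilizer hSub (π x)).map ψ =
      ψ.range ⊓ MulAction.stabilizer (Equiv.Perm (Fin (D).N)) x := by
    intro x
    ext σ
    constructor
    · rintro ⟨h, hh, rfl⟩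
      refine ⟨⟨h, rfl⟩, hinj ?_⟩
      show π (ψ h x) = π x
      rw [hψapp]; exact hh
    · rintro ⟨⟨h, rfl⟩, hh⟩
      refine ⟨h, ?_, rfl⟩
      show h • π x = π x
      rw [← hψapp]; exact congrArg π hh
  have hπb0 : π b0 = b' := by
    have hb943 : inO2 943 = false := by decide +kernel
    have := hf1 1
    rw [one_smul, one_smul] at this
    simp [π, b0, hb943]
    exact this
  refine ⟨w, G', ψ, ⟨G.equivMapOfInjective _ T.injective⟩, ⟨?_, ?_, hψinj, hψgens, hψrange, ?_, ?_⟩⟩
  · rw [hG', Subgroup.card_map_of_injective T.injective]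
    have h := (MulAction.stabilizer G a).index_mul_card
    rw [MulAction.index_stabilizer_of_transitive, Nat.card_eq_fintype_card, hΩ,
      ← Nat.card_congr ε.toEquiv, card_hSub'] at h
    omega
  · intro x y
    obtain ⟨g, hg⟩ := MulAction.exists_smul_eq G (π x) (π y)
    exact ⟨T g, ⟨g, g.2, rfl⟩, hinj (by rw [hTapp]; exact hg)⟩
  · intro x hx0 hcard
    rw [← hmap, Subgroup.card_map_of_injective hψinj] at hcard
    have hn := (MulAction.stabilizer hSub (π x)).index_mul_card
    rw [MulAction.index_stabilizer, hcard, card_hSub'] at hn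
    rcases hmemπ x with ⟨h, -⟩ | ⟨-, -, -, ho⟩ | ⟨-, -, -, ho⟩
    · exact absurd (Fin.ext h) hx0
    · rw [MulAction.orbit_eq_iff.2 ho, hoc] at hn; omega
    · obtain ⟨h, hh⟩ := ho
      refine ⟨h⁻¹, hinj ?_⟩
      rw [hψapp, hπb0, inv_smul_eq_iff]
      exact hh.symm
  · rw [← hmap, hπb0, hh₁]

end Cfsg.Agent.Presented.SuzRankModel
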