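import Cfsg.Agent.Lib.Presented.SuzRankModel
import Cfsg.Agent.Lib.Presented.SuzJAut

/-!
# The Suzuki group as a rank three group on 1782 points

An element exchanging the two distinguished points normalises their common stabiliser, so it intertwines
the five generators with themselves or with their images under the outer automorphism.  On each orbit of
`⟨a, …, e⟩` it is then determined by the image of one point, for which few choices remain; all but one of
the resulting candidates contradict the order of the common stabiliser, and the last one is in the table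
group.
-/

set_option autoImplicit false
set_option maxRecDepth 20000

namespace Cfsg.Agent.Presented.SuzRankThree

open Cfsg.Spor SuzIndex SuzPoints SuzHWords SuzAct SuzRankData SuzRankModel
open SuzJClass (jSub6 five five_lt)
open SuzJAut (idW sigW s5 s6_mem)

attribute [local instance] SuzAct.act6

local notation "D" => SuzC1782.cert

/-! ## Candidates -/

/-- The data of one case: the model, the five images, the trees, representatives, loops and choices. -/
structure Case where
  w : Bool
  θ : List (List ℕ)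
  par : NTree
  reps : List ℕ
  loops : List (List (List ℕ))
  choices : List (List ℕ)
  certs : List (List ℕ × Cert)

/-- The combinations of choices. -/
def combos : List (List ℕ) → List (List ℕ)
  | [] => [[]]
  | l :: ls => l.flatMap fun c => (combos ls).map fun r => c :: r

theorem mem_combos : ∀ {ls : List (List ℕ)} {r : List ℕ}, r.length = ls.length →
    (∀ i, i < ls.length → r.getD i 0 ∈ ls.getD i []) → r ∈ combos ls := by
  intro ls
  induction ls with
  | nil => intro r hr _; rw [List.length_eq_zero_iff.1 hr]; simp [combos]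
  | cons l ls ih =>
    intro r hr h
    cases r with
    | nil => simp at hr
    | cons c r =>
      simp only [combos, List.mem_flatMap, List.mem_map]
      refine ⟨c, by simpa using h 0 (by simp), r, ih (by simpa using hr) fun i hi => ?_, rfl⟩
      simpa using h (i + 1) (by simpa using hi)

/-- The image of a point under a candidate. -/
noncomputable def pval (C : Case) (ch : List ℕ) : ℕ → ℕ → ℕ
  | 0, _ => 0
  | n + 1, z => force (C.par.get 16 z) fun e =>
      bif Nat.beq e 0 then
        bif Nat.beq z 0 then 943 else bif Nat.beq z 943 then 0 else ch.getD (C.reps.idxOf z) 0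
      else force (pval C ch n ((e - 1) / 8)) fun v => pathM C.w (C.θ.getD ((e - 1) % 8) []) v

/-- Every point leads to a representative. -/
noncomputable def treeOK (C : Case) : ℕ → ℕ → Bool
  | 0, _ => false
  | n + 1, z => force (C.par.get 16 z) fun e =>
      bif Nat.beq e 0 then Nat.beq z 0 || Nat.beq z 943 || C.reps.contains z
      else force ((e - 1) / 8) fun p => force ((e - 1) % 8) fun g =>
        Nat.blt p (D).N && Nat.blt g 5 && Nat.beq (actM C.w p g) z && treeOK C n p

/-- The fuel for the trees. -/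
def fuel : ℕ := depth + 1

/-- The candidate of a combination. -/
noncomputable def cand (C : Case) (ch : List ℕ) (z : ℕ) : ℕ := pval C ch fuel z

/-- The conditions on a case. -/
noncomputable def caseOK (C : Case) : Bool :=
  checkBelow (treeOK C fuel) 11 (D).N &&
  (Nat.beq C.θ.length 5 && C.θ.all five) &&
  (Nat.beq C.reps.length C.choices.length && Nat.beq C.loops.length C.reps.length) &&
  ((List.range C.reps.length).all fun i => force (C.reps.getD i 0) fun x =>
    !(Nat.beq x 0) && !(Nat.beq x 943) && Nat.blt x (D).N &&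
      (C.loops.getD i []).all fun l => five l && Nat.beq (pathM C.w l x) x) &&
  checkBelow (fun c => (List.range C.reps.length).all fun i =>
    !((C.loops.getD i []).all fun l => Nat.beq (pathM C.w (subst C.θ l) c) c) ||
      Nat.beq c 0 || Nat.beq c 943 || (C.choices.getD i []).contains c) 11 (D).N

/-! ## Certificates -/

/-- A walk in the model extended by a candidate. -/
noncomputable def pathX (C : Case) (ch : List ℕ) (l : List ℕ) : ℕ → ℕ :=
  List.rec (motive := fun _ => ℕ → ℕ) (fun z => z)
    (fun g _ ih z => force (bif Nat.blt g 6 then actM C.w z g else cand C ch z) ih) l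

@[simp] theorem pathX_nil (C : Case) (ch : List ℕ) (z : ℕ) : pathX C ch [] z = z := rfl

@[simp] theorem pathX_cons (C : Case) (ch : List ℕ) (g z : ℕ) (l : List ℕ) :
    pathX C ch (g :: l) z = pathX C ch l (bif Nat.blt g 6 then actM C.w z g else cand C ch z) :=
  force_eq _ _

/-- Membership in one of the two invariant sets. -/
noncomputable def inSet (s x : ℕ) : Bool :=
  bif Nat.beq s 0 then Nat.beq (inX.get 1 x) 1 else Nat.beq (inS.get 1 x) 1

/-- A set is invariant under the five generators. -/
noncomputable def setOK (w : Bool) (s : ℕ) : Bool :=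
  checkBelow (fun x => !(inSet s x) || allList (fun g => inSet s (actM w x g)) [0, 1, 2, 3, 4]) 11 (D).N

/-- The effect of a product of transpositions. -/
def appSw (sw : List (ℕ × ℕ)) (i : ℕ) : ℕ :=
  sw.foldr (fun p v => if v = p.1 then p.2 else if v = p.2 then p.1 else v) i

/-- A word fixes the two points. -/
noncomputable def fixOK (C : Case) (ch w : List ℕ) : Bool :=
  Nat.beq (pathX C ch w 0) 0 && Nat.beq (pathX C ch w 943) 943

/-- The seven words for substitution. -/
def sevenW : List (List ℕ) := [[0], [1], [2], [3], [4], [5], wP]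

/-- A certificate. -/
noncomputable def certOK (C : Case) (ch : List ℕ) : Cert → Bool
  | .same a b => !(Nat.beq a b) && Nat.blt a (D).N && Nat.blt b (D).N && Nat.beq (cand C ch a) (cand C ch b)
  | .out s w x => setOK C.w s && fixOK C ch w && Nat.blt x (D).N && inSet s x && !(inSet s (pathX C ch w x))
  | .odd sw w => setOK C.w 0 && fixOK C ch w && sw.all (fun p => !(Nat.beq p.1 p.2) && Nat.blt p.1 100 &&
      Nat.blt p.2 100) && Nat.beq (sw.length % 2) 1 && (List.range 100).all fun i =>
        Nat.beq (pathX C ch w (xs.get 11 i)) (xs.get 11 (appSw sw i))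
  | .good => !C.w && checkBelow (fun z => Nat.beq (cand C ch z) ((D).path wP z)) 11 (D).N &&
      eqW [6] (flat sevenW w6)

/-- All combinations are certified. -/
noncomputable def allOK (C : Case) : Bool :=
  (C.certs.map Prod.fst == combos C.choices) && C.certs.all fun p => certOK C p.1 p.2

/-! ## The four cases -/

/-- The case of a model and an automorphism. -/
def theCase (w o : Bool) : Case :=
  match w, o with
  | false, false => ⟨false, idW, parR, repsR, loopsR, choicesRi, certsRi⟩
  | false, true => ⟨false, sigW, parR, repsR, loopsR, choicesRs, certsRs⟩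
  | true, false => ⟨true, idW, parW, repsW, loopsW, choicesWi, certsWi⟩
  | true, true => ⟨true, sigW, parW, repsW, loopsW, choicesWs, certsWs⟩

theorem caseRi : caseOK (theCase false false) = true := by
  simp only [caseOK, checkBelow_fast]; decide +kernel

theorem caseRs : caseOK (theCase false true) = true := by
  simp only [caseOK, checkBelow_fast]; decide +kernel

theorem caseWi : caseOK (theCase true false) = true := by
  simp only [caseOK, checkBelow_fast]; decide +kernel

theorem caseWs : caseOK (theCase true true) = true := by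
  simp only [caseOK, checkBelow_fast]; decide +kernel

theorem allRi : allOK (theCase false false) = true := by decide +kernel

theorem allRs : allOK (theCase false true) = true := by decide +kernel

theorem allWi : allOK (theCase true false) = true := by decide +kernel

theorem allWs : allOK (theCase true true) = true := by decide +kernel

/-! ## Soundness -/

variable {w : Bool} {G : Subgroup (Equiv.Perm (Fin (D).N))} {ψ : hSub →* Equiv.Perm (Fin (D).N)}

theorem psi_wval (M : IsModel w G ψ) : ∀ {l : List ℕ}, (∀ g ∈ l, g < 6) → ∀ x : Fin (D).N,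
    ((ψ (wval s6 l) x : Fin (D).N) : ℕ) = pathM w l x := by
  intro l
  induction l with
  | nil => intro _ x; simp [wval]
  | cons g l ih =>
    intro h x
    rw [wval, map_mul, Equiv.Perm.mul_apply, ih (fun a ha => h a (List.mem_cons_of_mem _ ha)),
      M.gens g (h g List.mem_cons_self), pathM_cons]

theorem b0_ne : b0 ≠ z0 := fun e => absurd (congrArg Fin.val e) (by simp [b0, z0])

/-- An element exchanging the two points, normalised on `⟨a, …, e⟩`. -/
theorem exists_swap (M : IsModel w G ψ) : ∃ (P : Equiv.Perm (Fin (D).N)) (o : Bool),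
    P ∈ G ∧ P z0 = b0 ∧ P b0 = z0 ∧
    ∀ g, g < 5 → ∀ z z' : Fin (D).N, (z' : ℕ) = actM w z g →
      (P z' : ℕ) = pathM w ((bif o then sigW else idW).getD g []) (P z) := by
  classical
  obtain ⟨h, hh, hhb⟩ := M.trans b0 z0
  set x := h z0 with hx
  have hxne : x ≠ z0 := fun e => b0_ne (h.injective (hhb.trans e.symm))
  have hfix0 : ∀ k : hSub, ψ k z0 = z0 := fun k => ((M.range _).1 ⟨k, rfl⟩).2
  have hmemG : ∀ k : hSub, ψ k ∈ G := fun k => ((M.range _).1 ⟨k, rfl⟩).1
  -- the stabiliser of the pair `z0, x`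
  have hcard : Nat.card (ψ.range ⊓ MulAction.stabilizer (Equiv.Perm (Fin (D).N)) x : Subgroup _) = 604800 := by
    have hmap : (ψ.range ⊓ MulAction.stabilizer (Equiv.Perm (Fin (D).N)) b0).map (MulAut.conj h).toMonoidHom =
        ψ.range ⊓ MulAction.stabilizer (Equiv.Perm (Fin (D).N)) x := by
      ext σ
      simp only [Subgroup.mem_map, Subgroup.mem_inf, MulAction.mem_stabilizer_iff, Equiv.Perm.smul_def,
        MonoidHom.mem_range, MulEquiv.coe_toMonoidHom, MulAut.conj_apply]
      constructor
      · rintro ⟨τ, ⟨hτ, hτb⟩, rfl⟩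
        obtain ⟨hτG, hτ0⟩ := (M.range τ).1 hτ
        refine ⟨(M.range _).2 ⟨mul_mem (mul_mem hh hτG) (inv_mem hh), ?_⟩, ?_⟩
        · simp only [Equiv.Perm.mul_apply]
          rw [show h⁻¹ z0 = b0 from Equiv.Perm.inv_eq_iff_eq.2 hhb.symm, hτb, hhb]
        · simp only [Equiv.Perm.mul_apply, hx]
          rw [show h⁻¹ (h z0) = z0 from h.symm_apply_apply z0, hτ0]
      · rintro ⟨hσ, hσx⟩
        obtain ⟨hσG, hσ0⟩ := (M.range σ).1 hσ
        refine ⟨h⁻¹ * σ * h, ⟨(M.range _).2 ⟨mul_mem (mul_mem (inv_mem hh) hσG) hh, ?_⟩, ?_⟩, by group⟩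
        · simp only [Equiv.Perm.mul_apply]
          rw [show h z0 = x from rfl, hσx, hx, show h⁻¹ (h z0) = z0 from h.symm_apply_apply z0]
        · simp only [Equiv.Perm.mul_apply]
          rw [hhb, hσ0]
          exact Equiv.Perm.inv_eq_iff_eq.2 hhb.symm
    rw [← hmap, Subgroup.card_map_of_injective (MulAut.conj h).injective, ← M.fix_b0,
      Subgroup.card_map_of_injective M.inj, SuzRankModel.stab_b0, SuzJClass.card_jSub6]
  obtain ⟨s, hs⟩ := M.size x hxne hcard
  set P0 := ψ s * h with hP0
  have hP0G : P0 ∈ G := mul_mem (hmemG s) hh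
  have hP00 : P0 z0 = b0 := hs
  have hP0b : P0 b0 = z0 := by
    show ψ s (h b0) = z0
    rw [hhb, hfix0]
  -- the automorphism of the common stabiliser
  have hback : ∀ σ : Equiv.Perm (Fin (D).N), σ ∈ G → σ z0 = z0 → σ b0 = b0 →
      ∃ j : jSub6, ψ j = σ := by
    intro σ h1 h2 h3
    have hmem : σ ∈ (MulAction.stabilizer hSub b0).map ψ := by
      rw [M.fix_b0]
      exact ⟨MonoidHom.mem_range.2 ((M.range σ).2 ⟨h1, h2⟩), h3⟩
    obtain ⟨j, hj, e⟩ := hmem
    exact ⟨⟨j, SuzRankModel.stab_b0 ▸ hj⟩, e⟩
  have hjfix : ∀ j : jSub6, ψ j b0 = b0 := fun j => by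
    have hmem : ψ j ∈ (MulAction.stabilizer hSub b0).map ψ :=
      ⟨j, SuzRankModel.stab_b0.symm ▸ j.2, rfl⟩
    rw [M.fix_b0] at hmem
    exact hmem.2
  have hex : ∀ j : jSub6, ∃ k : jSub6, ψ k = P0 * ψ j * P0⁻¹ := fun j => by
    refine hback _ (mul_mem (mul_mem hP0G (hmemG j)) (inv_mem hP0G)) ?_ ?_
    · simp only [Equiv.Perm.mul_apply]
      rw [show P0⁻¹ z0 = b0 from Equiv.Perm.inv_eq_iff_eq.2 hP0b.symm, hjfix, hP0b]
    · simp only [Equiv.Perm.mul_apply]
      rw [show P0⁻¹ b0 = z0 from Equiv.Perm.inv_eq_iff_eq.2 hP00.symm, hfix0, hP00]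
  choose α hα using hex
  have hψinj : ∀ j k : jSub6, ψ j = ψ k → j = k := fun j k e => Subtype.ext (M.inj e)
  let A : jSub6 →* jSub6 := MonoidHom.mk' α fun j k => hψinj _ _ (by
    rw [Subgroup.coe_mul, map_mul, hα, hα, hα, Subgroup.coe_mul, map_mul]
    group)
  have hAinj : Function.Injective A := fun j k e => by
    refine hψinj j k ?_
    have h2 : P0 * ψ j * P0⁻¹ = P0 * ψ k * P0⁻¹ := by
      rw [← hα, ← hα]; exact congrArg (fun m : jSub6 => ψ m) e
    simpa using h2
  obtain ⟨j, θ, hθ, hjθ⟩ := SuzJAut.aut_cases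
    (MulEquiv.ofBijective A (Finite.injective_iff_bijective.1 hAinj))
  obtain ⟨o, hoθ⟩ : ∃ o : Bool, θ = (bif o then sigW else idW) := by
    rcases hθ with h | h
    exacts [⟨false, h⟩, ⟨true, h⟩]
  refine ⟨(ψ j)⁻¹ * P0, o, mul_mem (inv_mem (hmemG j)) hP0G, ?_, ?_, fun g hg z z' hz' => ?_⟩
  · simp only [Equiv.Perm.mul_apply, hP00]
    exact Equiv.Perm.inv_eq_iff_eq.2 (hjfix j).symm
  · simp only [Equiv.Perm.mul_apply, hP0b]
    exact Equiv.Perm.inv_eq_iff_eq.2 (hfix0 j).symm
  · have hg6 : g < 6 := lt_trans hg (by norm_num)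
    have e1 : P0 * ψ (s6 g) * P0⁻¹ = ψ j * ψ (wval s6 (θ.getD g [])) * (ψ j)⁻¹ := by
      have h1 : ((α (s5 g) : jSub6) : hSub) = (j : hSub) * wval s6 (θ.getD g []) * (j : hSub)⁻¹ := hjθ g hg
      have h2 := hα (s5 g)
      rw [h1, map_mul, map_mul, map_inv] at h2
      rw [h2]
      simp [s5, hg]
    have e2 : (ψ j)⁻¹ * P0 * ψ (s6 g) = ψ (wval s6 (θ.getD g [])) * ((ψ j)⁻¹ * P0) := by
      calc (ψ j)⁻¹ * P0 * ψ (s6 g) = (ψ j)⁻¹ * (P0 * ψ (s6 g) * P0⁻¹) * P0 := by group
        _ = _ := by rw [e1]; group
    have hz : z' = ψ (s6 g) z := Fin.ext (by rw [hz', M.gens g hg6])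
    rw [hz, ← hoθ, ← Equiv.Perm.mul_apply, e2, Equiv.Perm.mul_apply]
    refine psi_wval M (fun i hi => ?_) _
    have h5 : five (θ.getD g []) = true := by
      rcases hθ with rfl | rfl <;> interval_cases g <;> decide +kernel
    exact lt_trans (five_lt h5 i hi) (by norm_num)

variable {C : Case} {P : Equiv.Perm (Fin (D).N)}

/-- The permutation intertwines the five generators as the case says. -/
def Twines (C : Case) (P : Equiv.Perm (Fin (D).N)) : Prop :=
  P z0 = b0 ∧ P b0 = z0 ∧ ∀ g, g < 5 → ∀ z z' : Fin (D).N, (z' : ℕ) = actM C.w z g →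
    (P z' : ℕ) = pathM C.w (C.θ.getD g []) (P z)

theorem pathM_append (w : Bool) (u v : List ℕ) : ∀ x, pathM w (u ++ v) x = pathM w v (pathM w u x) := by
  induction u with
  | nil => intro x; simp
  | cons g u ih => intro x; simp [ih]

theorem twine_word (M : IsModel C.w G ψ) (hT : Twines C P) :
    ∀ {l : List ℕ}, (∀ g ∈ l, g < 5) → ∀ z z' : Fin (D).N, (z' : ℕ) = pathM C.w l z →
      (P z' : ℕ) = pathM C.w (subst C.θ l) (P z) := by
  intro l
  induction l with
  | nil =>
    intro _ z z' hz'
    rw [pathM_nil] at hz'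
    rw [Fin.ext hz']
    simp [subst]
  | cons g l ih =>
    intro hl z z' hz'
    rw [pathM_cons] at hz'
    have hg := hl g List.mem_cons_self
    have hlt : actM C.w z g < (D).N := by
      rw [← M.gens g (lt_trans hg (by norm_num))]; exact Fin.is_lt _
    rw [ih (fun a ha => hl a (List.mem_cons_of_mem _ ha)) ⟨_, hlt⟩ z' hz', hT.2.2 g hg z ⟨_, hlt⟩ rfl,
      ← pathM_append]
    simp [subst]

/-- The combination of a permutation. -/
noncomputable def choiceOf (C : Case) (P : Equiv.Perm (Fin (D).N)) : List ℕ :=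
  C.reps.map fun x => if h : x < (D).N then (P ⟨x, h⟩ : ℕ) else 0

theorem choice_mem (M : IsModel C.w G ψ) (hC : caseOK C = true) (hT : Twines C P) :
    choiceOf C P ∈ combos C.choices := by
  simp only [caseOK, Bool.and_eq_true, Nat.beq_eq, List.all_eq_true, List.mem_range, force_eq,
    Bool.not_eq_true', Nat.blt_eq] at hC
  obtain ⟨⟨⟨-, h1, -⟩, h2⟩, h3⟩ := hC
  refine mem_combos (by rw [choiceOf, List.length_map, h1]) fun i hi => ?_
  have hi' : i < C.reps.length := h1.symm ▸ hi
  obtain ⟨⟨⟨hx0, hx9⟩, hxN⟩, hloops⟩ := h2 i hi'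
  rw [List.getD_eq_getElem _ _ hi'] at hx0 hx9 hxN hloops
  rw [List.getD_eq_getElem (choiceOf C P) _ (by simpa [choiceOf] using hi')]
  simp only [choiceOf, List.getElem_map]
  rw [dif_pos hxN]
  set X : Fin (D).N := ⟨C.reps[i], hxN⟩ with hX
  have h := checkBelow_spec h3 (P X : ℕ) (Fin.is_lt _)
  simp only [List.all_eq_true, List.mem_range, Bool.or_eq_true, Bool.not_eq_true', Nat.beq_eq,
    List.contains_eq_mem, decide_eq_true_eq] at h
  rcases h i hi' with ((h | h) | h) | h
  · exfalso
    rw [← Bool.not_eq_true, List.all_eq_true] at h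
    refine h fun l hl => ?_
    obtain ⟨hl5, hlfix⟩ := hloops l hl
    have := twine_word M hT (five_lt hl5) X X hlfix.symm
    rw [Nat.beq_eq]; exact this.symm
  · exfalso
    have e : P X = P b0 := by rw [hT.2.1]; exact Fin.ext h
    have := congrArg Fin.val (P.injective e)
    rw [hX] at this
    simp [b0] at this
    simp [this] at hx9
  · exfalso
    have e : P X = P z0 := by rw [hT.1]; exact Fin.ext h
    have := congrArg Fin.val (P.injective e)
    rw [hX] at this
    simp [z0] at this
    simp [this] at hx0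
  · exact h

theorem pval_eq (hC : caseOK C = true) (hT : Twines C P) : ∀ n (z : Fin (D).N), treeOK C n z = true →
    pval C (choiceOf C P) n z = (P z : ℕ) := by
  intro n
  induction n with
  | zero => intro z h; simp [treeOK] at h
  | succ n ih =>
    intro z h
    simp only [treeOK, force_eq] at h
    simp only [pval, force_eq]
    cases he : Nat.beq (C.par.get 16 z) 0
    · simp only [he, cond_false, Bool.and_eq_true, Nat.blt_eq, Nat.beq_eq] at h ⊢
      obtain ⟨⟨⟨hp, hg⟩, hact⟩, hr⟩ := h
      rw [ih ⟨_, hp⟩ hr, hT.2.2 _ hg ⟨_, hp⟩ z hact.symm]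
    · simp only [he, cond_true, Bool.or_eq_true, Nat.beq_eq, List.contains_eq_mem, decide_eq_true_eq] at h ⊢
      by_cases hz0 : (z : ℕ) = 0
      · rw [show Nat.beq z 0 = true from Nat.beq_eq.mpr hz0, cond_true,
          show z = z0 from Fin.ext hz0, hT.1]
        rfl
      · rw [show Nat.beq z 0 = false by simpa [Bool.eq_false_iff, Nat.beq_eq] using hz0, cond_false]
        by_cases hz9 : (z : ℕ) = 943
        · rw [show Nat.beq z 943 = true from Nat.beq_eq.mpr hz9, cond_true,
            show z = b0 from Fin.ext (by rw [hz9]; rfl), hT.2.1]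
          rfl
        · rw [show Nat.beq z 943 = false by simpa [Bool.eq_false_iff, Nat.beq_eq] using hz9, cond_false]
          have hmem : (z : ℕ) ∈ C.reps := by
            rcases h with (h | h) | h
            exacts [absurd h hz0, absurd h hz9, h]
          have hidx := List.idxOf_lt_length_iff.2 hmem
          rw [choiceOf, List.getD_eq_getElem _ _ (by rwa [List.length_map]), List.getElem_map,
            List.getElem_idxOf hidx, dif_pos z.2]

theorem cand_eq (hC : caseOK C = true) (hT : Twines C P) (z : Fin (D).N) :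
    cand C (choiceOf C P) z = (P z : ℕ) := by
  refine pval_eq hC hT _ z ?_
  simp only [caseOK, Bool.and_eq_true] at hC
  exact checkBelow_spec hC.1.1.1.1 z.1 z.2

/-- The seven letters. -/
noncomputable def letter (ψ : hSub →* Equiv.Perm (Fin (D).N)) (P : Equiv.Perm (Fin (D).N)) (g : ℕ) :
    Equiv.Perm (Fin (D).N) :=
  if g < 6 then ψ (s6 g) else P

theorem wval_letter_mem (M : IsModel w G ψ) (hP : P ∈ G) (l : List ℕ) : wval (letter ψ P) l ∈ G :=
  wval_mem' fun g _ => by
    unfold letter
    split
    · exact ((M.range _).1 ⟨_, rfl⟩).1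
    · exact hP

theorem pathX_eq (M : IsModel C.w G ψ) (hC : caseOK C = true) (hT : Twines C P) :
    ∀ (l : List ℕ) (z : Fin (D).N),
      ((wval (letter ψ P) l z : Fin (D).N) : ℕ) = pathX C (choiceOf C P) l z := by
  intro l
  induction l with
  | nil => intro z; simp [wval]
  | cons g l ih =>
    intro z
    rw [wval, Equiv.Perm.mul_apply, ih, pathX_cons]
    refine congrArg (pathX C (choiceOf C P) l) ?_
    by_cases hg : g < 6
    · rw [letter, if_pos hg, show Nat.blt g 6 = true from Nat.blt_eq.mpr hg, cond_true, M.gens g hg]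
    · rw [letter, if_neg hg, show Nat.blt g 6 = false by simpa [Bool.eq_false_iff, Nat.blt_eq] using hg,
        cond_false, cand_eq hC hT]

/-- A word fixing the two points gives an element of `⟨a, …, e⟩`. -/
theorem exists_j (M : IsModel C.w G ψ) (hC : caseOK C = true) (hT : Twines C P) (hP : P ∈ G) {l : List ℕ}
    (hl : fixOK C (choiceOf C P) l = true) : ∃ j : jSub6, ψ j = wval (letter ψ P) l := by
  simp only [fixOK, Bool.and_eq_true, Nat.beq_eq] at hl
  have h0 : wval (letter ψ P) l z0 = z0 := Fin.ext (by rw [pathX_eq M hC hT]; exact hl.1)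
  have h9 : wval (letter ψ P) l b0 = b0 := Fin.ext (by rw [pathX_eq M hC hT]; exact hl.2)
  have hmem : wval (letter ψ P) l ∈ (MulAction.stabilizer hSub b0).map ψ := by
    rw [M.fix_b0]
    exact ⟨MonoidHom.mem_range.2 ((M.range _).2 ⟨wval_letter_mem M hP l, h0⟩), h9⟩
  obtain ⟨j, hj, e⟩ := hmem
  exact ⟨⟨j, SuzRankModel.stab_b0 ▸ hj⟩, e⟩

theorem closure_s5 : Subgroup.closure (s6 '' {g | g < 5}) = jSub6 := by
  refine Subgroup.map_injective hSub.subtype_injective ?_
  rw [MonoidHom.map_closure, Set.image_image, SuzJClass.jSub6, Subgroup.map_subgroupOf_eq_of_le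
    SuzMultBound.jSub_le, SuzJ2.jSub]
  exact congrArg Subgroup.closure (Set.image_congr fun g hg => coe_s6 (lt_trans hg (by norm_num : 5 < 6)))

theorem set_invariant (M : IsModel w G ψ) {s : ℕ} (hs : setOK w s = true) (j : jSub6)
    (x : Fin (D).N) : inSet s (ψ j x) = inSet s x := by
  have key : ∀ g, g < 5 → ∀ y : Fin (D).N, inSet s (ψ (s6 g) y) = inSet s y := by
    intro g hg
    have one : ∀ y : Fin (D).N, inSet s y = true → inSet s (ψ (s6 g) y) = true := by
      intro y hy
      have h := checkBelow_spec hs y.1 y.2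
      simp only [hy, Bool.not_true, Bool.false_or, allList_eq, List.all_eq_true] at h
      rw [M.gens g (lt_trans hg (by norm_num))]
      exact h g (by interval_cases g <;> simp)
    intro y
    refine Bool.eq_iff_iff.2 ⟨fun h => ?_, one y⟩
    have h2 := one _ h
    rwa [← Equiv.Perm.mul_apply, ← map_mul, s6_sq, map_one, Equiv.Perm.one_apply] at h2
  have hj : (j : hSub) ∈ Subgroup.closure (s6 '' {g | g < 5}) := by rw [closure_s5]; exact j.2
  generalize (j : hSub) = k at hj ⊢
  induction hj using Subgroup.closure_induction'' generalizing x with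
  | mem y hy => obtain ⟨g, hg, rfl⟩ := hy; exact key g hg x
  | inv_mem y hy =>
    obtain ⟨g, hg, rfl⟩ := hy
    rw [inv_eq_of_mul_eq_one_left (s6_sq g)]
    exact key g hg x
  | one => simp
  | mul a b _ _ iha ihb => rw [map_mul, Equiv.Perm.mul_apply, iha, ihb]

theorem xs_ok : (checkBelow (fun i => force (xs.get 11 i) fun x =>
    Nat.blt x (D).N && inSet 0 x && Nat.beq (xi.get 7 x) i) 7 100 &&
    checkBelow (fun x => !(inSet 0 x) ||
      force (xi.get 7 x) (fun i => Nat.blt i 100 && Nat.beq (xs.get 11 i) x)) 11 (D).N) = true := by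
  simp only [checkBelow_fast]; decide +kernel

theorem sign_swaps (sw : List (ℕ × ℕ)) (h : ∀ p ∈ sw, p.1 ≠ p.2 ∧ p.1 < 100 ∧ p.2 < 100) :
    ∃ τ : Equiv.Perm (Fin 100), Equiv.Perm.sign τ = (-1) ^ sw.length ∧
      ∀ i : Fin 100, (τ i : ℕ) = appSw sw i := by
  induction sw with
  | nil => exact ⟨1, by simp, fun i => rfl⟩
  | cons p sw ih =>
    obtain ⟨τ, hs, hv⟩ := ih fun q hq => h q (List.mem_cons_of_mem _ hq)
    obtain ⟨hne, ha, hb⟩ := h p List.mem_cons_self
    refine ⟨Equiv.swap ⟨p.1, ha⟩ ⟨p.2, hb⟩ * τ, ?_, fun i => ?_⟩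
    · rw [map_mul, Equiv.Perm.sign_swap (fun e => hne (congrArg Fin.val e)), hs, List.length_cons, pow_succ']
    · rw [Equiv.Perm.mul_apply]
      show _ = if appSw sw i = p.1 then p.2 else if appSw sw i = p.2 then p.1 else appSw sw i
      rw [← hv i, Equiv.swap_apply_def]
      simp only [Fin.ext_iff]
      split_ifs <;> rfl

theorem perfect_jSub6 : commutator jSub6 = ⊤ := by
  obtain ⟨e, -⟩ := SuzJAut.exists_equiv
  have h := congrArg (Subgroup.map e.symm.toMonoidHom) SuzMultBound.perfect_q100
  rw [commutator_def, Subgroup.map_commutator,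
    Subgroup.map_top_of_surjective e.symm.toMonoidHom e.symm.surjective] at h
  rwa [commutator_def]

/-- The outcome of a certificate. -/
theorem sound (M : IsModel C.w G ψ) (hC : caseOK C = true) (hT : Twines C P) (hP : P ∈ G) (c : Cert)
    (hc : certOK C (choiceOf C P) c = true) : Nonempty (G ≃* Suz) := by
  cases c with
  | same a b =>
    exfalso
    simp only [certOK, Bool.and_eq_true, Bool.not_eq_true', Nat.blt_eq, Nat.beq_eq] at hc
    obtain ⟨⟨⟨hne, ha⟩, hb⟩, e⟩ := hc
    have h1 := cand_eq hC hT ⟨a, ha⟩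
    have h2 := cand_eq hC hT ⟨b, hb⟩
    have h3 : P ⟨a, ha⟩ = P ⟨b, hb⟩ := Fin.ext (by rw [← h1, ← h2]; exact e)
    have := congrArg Fin.val (P.injective h3)
    simp only at this
    simp [this] at hne
  | out s l x =>
    exfalso
    simp only [certOK, Bool.and_eq_true, Bool.not_eq_true', Nat.blt_eq] at hc
    obtain ⟨⟨⟨⟨hs, hl⟩, hx⟩, hin⟩, hout⟩ := hc
    obtain ⟨j, hj⟩ := exists_j M hC hT hP hl
    have h := set_invariant M hs j ⟨x, hx⟩
    rw [hj, pathX_eq M hC hT, hout, hin] at h
    exact Bool.false_ne_true h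
  | odd sw l =>
    exfalso
    simp only [certOK, Bool.and_eq_true, Bool.not_eq_true', Nat.blt_eq, Nat.beq_eq, List.all_eq_true,
      List.mem_range] at hc
    obtain ⟨⟨⟨⟨hs, hl⟩, hsw⟩, hodd⟩, hval⟩ := hc
    obtain ⟨τ, hτs, hτ⟩ := sign_swaps sw fun p hp =>
      ⟨fun e => by simpa [e] using (hsw p hp).1.1, (hsw p hp).1.2, (hsw p hp).2⟩
    obtain ⟨j, hj⟩ := exists_j M hC hT hP hl
    have hX := xs_ok
    simp only [Bool.and_eq_true] at hX
    have h1 : ∀ i : Fin 100, xs.get 11 i < (D).N ∧ inSet 0 (xs.get 11 i) = true ∧ xi.get 7 (xs.get 11 i) = i :=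
      fun i => by
        have h := checkBelow_spec hX.1 i.1 i.2
        simp only [force_eq, Bool.and_eq_true, Nat.blt_eq, Nat.beq_eq] at h
        exact ⟨h.1.1, h.1.2, h.2⟩
    let pX : Fin 100 → Fin (D).N := fun i => ⟨xs.get 11 i, (h1 i).1⟩
    have hinj : Function.Injective pX := fun i k e => by
      have e' : xs.get 11 i = xs.get 11 k := congrArg Fin.val e
      exact Fin.ext (by rw [← (h1 i).2.2, e', (h1 k).2.2])
    have hex : ∀ (k : jSub6) (i : Fin 100), ∃ i' : Fin 100, pX i' = ψ k (pX i) := by
      intro k i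
      have hk := set_invariant M hs k (pX i)
      rw [show inSet 0 (pX i) = true from (h1 i).2.1] at hk
      have h := checkBelow_spec hX.2 _ (ψ k (pX i)).2
      simp only [hk, Bool.not_true, Bool.false_or, force_eq, Bool.and_eq_true, Nat.blt_eq, Nat.beq_eq] at h
      exact ⟨⟨_, h.1⟩, Fin.ext h.2⟩
    choose r hr using hex
    have hrb : ∀ k, Function.Bijective (r k) := fun k => Finite.injective_iff_bijective.1 fun i i' e =>
      hinj ((ψ (k : hSub)).injective (by rw [← hr, ← hr, e]))
    let χ : jSub6 →* Equiv.Perm (Fin 100) := MonoidHom.mk' (fun k => Equiv.ofBijective _ (hrb k))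
      fun k k' => Equiv.ext fun i => hinj (by
        show pX (r (k * k') i) = pX (r k (r k' i))
        rw [hr, hr, hr, Subgroup.coe_mul, map_mul, Equiv.Perm.mul_apply])
    have hker : (Equiv.Perm.sign.comp χ).ker = ⊤ := top_le_iff.1
      (perfect_jSub6.symm.le.trans (Abelianization.commutator_subset_ker _))
    have hsign : Equiv.Perm.sign (χ j) = 1 :=
      MonoidHom.mem_ker.1 (hker ▸ Subgroup.mem_top j : j ∈ (Equiv.Perm.sign.comp χ).ker)
    have hχ : χ j = τ := Equiv.ext fun i => hinj (by
      show pX (r j i) = pX (τ i)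
      rw [hr]
      refine Fin.ext ?_
      rw [hj, pathX_eq M hC hT]
      show pathX C (choiceOf C P) l (xs.get 11 i) = xs.get 11 (τ i : ℕ)
      rw [hτ]
      exact hval i.1 i.2)
    rw [hχ, hτs, (Nat.odd_iff.2 hodd).neg_one_pow] at hsign
    exact absurd hsign (by decide)
  | good =>
    simp only [certOK, Bool.and_eq_true, Bool.not_eq_true', Nat.beq_eq] at hc
    obtain ⟨⟨hw, hp⟩, h6⟩ := hc
    haveI := SuzOrder.finite_suz
    have hψ : ∀ g, g < 6 → ψ (s6 g) = tabHom (gen g) := by
      intro g hg
      refine Equiv.ext fun z => Fin.ext ?_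
      rw [M.gens g hg, tabHom_gen (lt_trans hg (by norm_num)), hw]
      simp [actM]
    have hPw : P = tabHom (wval gen wP) := by
      refine Equiv.ext fun z => Fin.ext ?_
      rw [tabHom_wval (by decide +kernel : ∀ g ∈ wP, g < 7), ← cand_eq hC hT]
      exact Nat.beq_eq.mp (checkBelow_spec hp z.1 z.2)
    have hle : tabHom.range ≤ G := by
      rw [MonoidHom.range_eq_map, ← PresentedGroup.closure_range_of, MonoidHom.map_closure,
        Subgroup.closure_le]
      rintro _ ⟨_, ⟨x, rfl⟩, rfl⟩
      obtain ⟨g, hg, hgx⟩ : ∃ g, g < 7 ∧ gen g = PresentedGroup.of x :=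
        ⟨gens.idxOf x, List.idxOf_lt_length_of_mem (gens_all x), genFun_idxOf gens_all x⟩
      rw [← hgx]
      have hsix : ∀ g, g < 6 → tabHom (gen g) ∈ G := fun g hg =>
        hψ g hg ▸ ((M.range _).1 ⟨_, rfl⟩).1
      by_cases h : g < 6
      · exact hsix g h
      · obtain rfl : g = 6 := by omega
        have e := wval_eq_of_eqW h6
        rw [show wval gen [6] = gen 6 by simp [wval]] at e
        rw [e, SetLike.mem_coe, ← Subgroup.mem_comap]
        refine wval_flat_mem (fun l hl => ?_) _
        rw [Subgroup.mem_comap]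
        simp only [sevenW, List.mem_cons, List.not_mem_nil, or_false] at hl
        rcases hl with rfl | rfl | rfl | rfl | rfl | rfl | rfl
        all_goals first
          | exact hPw ▸ hP
          | (simp only [wval, one_mul]; exact hsix _ (by norm_num))
    have heq : tabHom.range = G := by
      refine Subgroup.eq_of_le_of_card_ge hle (le_of_eq ?_)
      rw [M.card, ← SuzOrder.card_suz]
      exact Nat.card_congr (MonoidHom.ofInjective tabHom_injective).toEquiv
    exact ⟨(MulEquiv.subgroupCongr heq.symm).trans (MonoidHom.ofInjective tabHom_injective).symm⟩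

theorem theCase_w (w o : Bool) : (theCase w o).w = w := by cases w <;> cases o <;> rfl

theorem theCase_θ (w o : Bool) : (theCase w o).θ = (bif o then sigW else idW) := by
  cases w <;> cases o <;> rfl

/-- A model is the Suzuki group. -/
theorem model_iso (M : IsModel w G ψ) : Nonempty (G ≃* Suz) := by
  obtain ⟨P, o, hP, h0, h9, hP5⟩ := exists_swap M
  have hC : caseOK (theCase w o) = true ∧ allOK (theCase w o) = true := by
    cases w <;> cases o
    exacts [⟨caseRi, allRi⟩, ⟨caseRs, allRs⟩, ⟨caseWi, allWi⟩, ⟨caseWs, allWs⟩]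
  have hT : Twines (theCase w o) P := ⟨h0, h9, by rw [theCase_w, theCase_θ]; exact hP5⟩
  have M' : IsModel (theCase w o).w G ψ := by rw [theCase_w]; exact M
  have hmem := choice_mem M' hC.1 hT
  have h := hC.2
  simp only [allOK, Bool.and_eq_true, beq_iff_eq, List.all_eq_true] at h
  rw [← h.1, List.mem_map] at hmem
  obtain ⟨p, hp, e⟩ := hmem
  exact sound M' hC.1 hT hP p.2 (e ▸ h.2 p hp)

end Cfsg.Agent.Presented.SuzRankThree
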