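import Cfsg.Agent.Lib.Presented.RuPres

/-!
# A presentation of L3(3) and its embedding words in the presented Tits group
-/

set_option autoImplicit false

namespace Cfsg.Agent.Presented.TitsPres

open Cfsg.Spor Cfsg.Agent.Presented

/-- The generators of the presentation. -/
def gens3 : List (Fin 3) := [0, 1, 2]

/-- The orders of the products of two generators. -/
def edges3 : List (Fin 3 × ℕ × Fin 3) := [(0, 4, 1), (0, 3, 2), (1, 6, 2)]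

/-- The further relators. -/
def words3 : List (List ℕ) :=
   [[0, 1, 0, 1, 2, 1, 0, 1, 2, 0, 2, 1, 0, 1, 2],
    [0, 1, 2, 1, 2, 1, 0, 1, 2, 1, 2, 1, 0, 1, 2, 1, 2, 1],
    [0, 1, 0, 2, 0, 1, 0, 2, 0, 1, 0, 2, 0, 1, 0, 2, 0, 1, 0, 2, 0, 1, 0, 2],
    [0, 1, 2, 0, 1, 2, 0, 1, 2, 0, 1, 2, 0, 1, 2, 0, 1, 2, 0, 1, 2, 0, 1, 2, 0, 1, 2, 0, 1, 2, 0, 1, 2, 0, 1, 2, 0, 1, 2]]

/-- The further relators, in the free group. -/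
def extra3 : List (FreeGroup (Fin 3)) := words3.map (RuPres.relOf (Fin.ofNat 3))

/-- The presented group. -/
abbrev G3 : Type := CoxPresented (Fin 3) edges3 extra3

theorem gens3_all (x : Fin 3) : x ∈ gens3 := by revert x; decide

theorem gens3_nodup : gens3.Nodup := by decide

theorem gens3_ok : gensOK gens3 edges3 = true := by decide +kernel

/-- The generators by number. -/
abbrev gen3 : ℕ → G3 := genFun gens3 edges3 extra3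

/-- The element of order 13. -/
def cyc3 : List ℕ := [0, 1, 2]

/-- The images of the generators, as words in the generators of the Tits group. -/
def imgWords : List (List ℕ) :=
   [[1],
    [0, 2, 3, 0, 3, 2, 0],
    [3]]

/-- The subgroup words of the coset table on 3200 points. -/
def sub3200 : List (List ℕ) :=
   [[1],
    [0, 2, 3, 0, 3, 2, 0],
    [3],
    [2, 3, 0, 1, 3, 1, 2, 0, 1, 0],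
    [0, 1, 0, 1, 0, 2, 0, 1, 0, 1, 0],
    [0, 1, 0, 1, 3, 0, 3, 2, 1, 3, 2],
    [0, 1, 3, 0, 2, 3, 0, 1, 0, 3, 1, 0],
    [0, 2, 1, 3, 2, 3, 1, 0, 1, 3, 1, 0],
    [0, 3, 2, 1, 0, 1, 3, 2, 1, 0, 1, 0],
    [2, 0, 3, 2, 1, 3, 0, 1, 2, 3, 1, 0],
    [2, 1, 0, 1, 3, 1, 2, 1, 0, 3, 1, 0],
    [2, 1, 3, 2, 0, 3, 1, 0, 2, 1, 0, 2],
    [2, 3, 0, 1, 0, 1, 2, 0, 1, 3, 2, 0],
    [2, 3, 0, 2, 3, 0, 3, 0, 2, 0, 3, 2],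
    [2, 3, 1, 2, 1, 3, 2, 1, 3, 1, 0, 2],
    [0, 1, 0, 2, 0, 1, 2, 0, 3, 0, 2, 3, 2],
    [0, 1, 0, 2, 0, 3, 2, 3, 0, 3, 2, 3, 0],
    [0, 1, 0, 3, 2, 3, 1, 2, 3, 2, 1, 3, 0],
    [0, 1, 3, 2, 3, 0, 1, 0, 3, 2, 3, 1, 0],
    [0, 2, 1, 3, 0, 1, 2, 3, 1, 2, 0, 3, 0],
    [0, 2, 1, 3, 0, 1, 3, 1, 0, 2, 1, 3, 0],
    [0, 2, 3, 2, 0, 3, 2, 3, 0, 2, 3, 2, 0],
    [0, 2, 3, 2, 3, 0, 2, 3, 2, 0, 1, 3, 2],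
    [0, 3, 1, 0, 2, 0, 3, 2, 1, 0, 3, 0, 2],
    [0, 3, 1, 0, 3, 2, 0, 1, 0, 1, 2, 3, 2],
    [0, 3, 2, 1, 0, 3, 0, 3, 1, 0, 2, 3, 2],
    [0, 3, 2, 1, 3, 1, 2, 0, 1, 2, 3, 1, 2],
    [2, 0, 1, 0, 2, 3, 2, 0, 3, 1, 0, 1, 2],
    [2, 0, 1, 2, 0, 3, 1, 0, 3, 2, 0, 1, 2],
    [0, 1, 0, 2, 3, 0, 3, 2, 1, 3, 1, 0, 1, 0],
    [0, 1, 3, 2, 3, 0, 3, 2, 0, 1, 0, 2, 1, 0],
    [0, 2, 0, 1, 3, 0, 3, 1, 0, 3, 1, 0, 2, 0],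
    [0, 2, 0, 3, 2, 0, 1, 3, 0, 2, 0, 3, 1, 0],
    [0, 2, 1, 0, 1, 3, 2, 3, 0, 3, 1, 2, 1, 0],
    [0, 2, 1, 0, 2, 3, 2, 0, 3, 2, 3, 0, 2, 0]]

/-- The same elements as words in the generators of L3(3). -/
def sub3200Expr : List (List ℕ) :=
   [[0],
    [1],
    [2],
    [0, 2, 1, 0, 2, 0, 1, 0, 2, 1, 0, 2, 1, 0, 1],
    [1, 0, 2, 1, 2, 1, 2, 0, 1],
    [0, 1, 0, 2, 1, 2, 1, 0, 2, 1, 0, 2, 1, 0, 2, 0],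
    [0, 1, 0, 1, 2, 0, 1, 2, 1, 2, 0, 1, 2, 0, 1, 2],
    [0, 2, 0, 1, 2, 0, 1, 2, 0, 1, 2, 0, 1, 2, 0, 1, 2, 1, 0],
    [0, 2, 1, 2, 1, 0, 2, 0, 1, 2],
    [2, 1, 2, 1, 0, 2, 0, 1, 2, 0, 1, 2, 0],
    [1, 0, 2, 0, 1, 0, 2, 0, 1, 2, 0, 1],
    [1, 0, 2, 1, 0, 2, 1, 0, 2, 1, 0, 2, 1, 0, 2, 1, 0, 1],
    [1, 2, 0, 1, 2, 0, 1, 2, 1, 0, 2, 1, 2],
    [1, 2, 1],
    [1, 0, 1, 2, 1, 0],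
    [0, 2, 1, 0, 2, 1, 0, 2, 0, 1],
    [2, 0, 1, 2, 0, 1, 2, 0, 1, 2, 1, 0, 2, 0, 1, 0, 1],
    [0, 2, 0, 1, 0, 2, 1, 0, 2, 1, 0, 2, 0, 1, 2, 0, 1],
    [2, 1, 0, 2, 1, 2, 0, 1, 2],
    [1, 2, 1, 2, 0, 1, 2, 1, 0],
    [1, 0, 1, 2, 1, 0, 2, 1, 0, 2, 1, 0, 1],
    [0, 1, 0, 1, 2, 1, 2, 1, 2, 0, 1, 0],
    [0, 2, 0, 1, 2, 0, 1, 0, 2, 1, 2, 1, 0, 1, 2],
    [2, 1, 0, 1, 2, 1, 2, 0, 1, 2, 1, 2, 1],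
    [1, 0, 1, 2, 1, 2, 1, 2, 0, 1, 2, 1, 0],
    [1, 0, 2, 0, 1, 2, 1, 0, 2, 1],
    [1, 0, 2, 1, 0, 2, 0, 1, 2, 1, 2, 0, 1, 2],
    [0, 1, 0, 2, 1, 0, 2, 0, 1],
    [0, 1, 2, 0, 1, 2, 0, 1, 2, 0, 1, 2, 0, 1, 0],
    [1, 2, 1, 0, 1, 2, 0, 1, 2, 0, 1, 2, 1, 2, 0],
    [0, 2, 1, 0, 2, 1, 2, 1, 0, 2, 0, 1, 0, 2, 1, 2],
    [2, 0, 1, 2, 1, 0, 2, 1, 0, 2, 1, 0, 2],
    [1, 0, 2, 1, 0, 2, 1, 2, 0],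
    [1, 0, 2, 0, 1, 0, 2, 1, 2, 0, 1, 2, 1, 0, 2],
    [0, 1, 0, 2, 1, 2, 1, 2, 0, 1, 2]]

end Cfsg.Agent.Presented.TitsPres
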