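import Cfsg.Agent.Lib.Presented.Index
import Cfsg.Agent.Lib.Presented.Tower
import Cfsg.Agent.Lib.Presented.LinSection
import Cfsg.Agent.Lib.Presented.TitsPres
import Cfsg.Agent.Lib.Presented.Data.TitsL33
import Cfsg.Agent.Lib.Presented.Data.TitsL33Mult

/-!
# Central extensions of the presented L3(3) split

The coset table over a cyclic subgroup of order 13 carries a linear certificate, and the preimage of a
cyclic subgroup in a central extension is abelian.
-/

set_option autoImplicit false
set_option maxRecDepth 20000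

namespace Cfsg.Agent.Presented.TitsL33Sec

open Cfsg.Spor Cfsg.Agent.Presented TitsPres

/-- The subgroup word, in the free group. -/
def hGens : List (FreeGroup (Fin 3)) := [RuPres.relOf (Fin.ofNat 3) cyc3]

/-- The cyclic subgroup of order 13. -/
def hSub : Subgroup G3 :=
  (Subgroup.closure {x | x ∈ hGens}).map (PresentedGroup.mk (coxRelators edges3 ∪ {r | r ∈ extra3}))

theorem hGens_letters : hGens.map (letters gens3) = [cyc3] := by decide +kernel

theorem exists_table : ∃ e : Fin TitsL33.cert.N ≃ G3 ⧸ hSub,
    (∀ i : Fin TitsL33.cert.N, (i : ℕ) = 0 → e i = QuotientGroup.mk 1) ∧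
    ∀ g (hgm : g < TitsL33.cert.m) (i : Fin TitsL33.cert.N),
      gen3 g • e i = e ⟨TitsL33.cert.actOf i g,
        CosetCert.actOf_lt TitsL33.cert_edgesOK TitsL33.cert_nodesOK i.2 hgm⟩ := by
  have h2 : relsOK gens3 edges3 extra3 (TitsL33.cert.words.take TitsL33.cert.nR) = true := by
    decide +kernel
  have h1 : (TitsL33.cert.words.drop TitsL33.cert.nR) = [cyc3] := by decide +kernel
  have hlen : hGens.length = [cyc3].length := rfl
  exact indexCert gens3_all gens3_ok rfl TitsL33.cert_edgesOK TitsL33.cert_nodesOK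
    TitsL33.cert_wordsOK TitsL33.cert_subOK h2 gens3_nodup hGens hSub rfl
    (by rw [h1, hlen, List.take_length, hGens_letters])
    (fun w hw => by rw [h1, hlen, List.drop_length] at hw; simp at hw)

theorem hSub_le : hSub ≤ Subgroup.zpowers (wval gen3 cyc3) := by
  rw [hSub, map_closure_eq_wval gens3_all gens3_ok, hGens_letters, Subgroup.closure_le]
  rintro x ⟨k, hk, rfl⟩
  rw [List.mem_singleton] at hk
  rw [hk]
  exact Subgroup.mem_zpowers _

theorem cyc_pow : wval gen3 cyc3 ^ 13 = 1 := by
  rw [← wval_replicate]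
  have h : rotOK gens3 edges3 extra3 [(List.replicate 13 cyc3).flatten] = true := by decide +kernel
  exact wval_rot gens3_all gens3_ok h _ List.mem_cons_self

theorem finite_card : Finite G3 ∧ Nat.card G3 ≤ 432 * 13 := by
  obtain ⟨e, -, -⟩ := exists_table
  have hfin : IsOfFinOrder (wval gen3 cyc3) :=
    isOfFinOrder_iff_pow_eq_one.mpr ⟨13, by norm_num, cyc_pow⟩
  haveI : Finite (Subgroup.zpowers (wval gen3 cyc3)) := hfin.finite_zpowers.to_subtype
  have hle : OrderLE (Subgroup.zpowers (wval gen3 cyc3)) 13 := by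
    refine ⟨inferInstance, ?_⟩
    rw [Nat.card_zpowers]
    exact Nat.le_of_dvd (by norm_num) (orderOf_dvd_of_pow_eq_one cyc_pow)
  exact card_le_of_table e (hle.mono hSub_le)

/-- The words of the relators in the certificate. -/
noncomputable def base : List (List ℕ) :=
  (List.range TitsL33Mult.lin.nc).map fun r => TitsL33Mult.lin.cws.getD r []

/-- Every central extension of the presented L3(3) has a section. -/
theorem exists_section {Γ : Type*} [Group Γ] (σ : Γ →* G3) (hsurj : Function.Surjective σ)
    (hc : σ.ker ≤ Subgroup.center Γ) : ∃ φ : G3 →* Γ, ∀ y, σ (φ y) = y := by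
  obtain ⟨e, he0, he⟩ := exists_table
  have hbase : ∀ b ∈ base, wval gen3 b = 1 :=
    wval_rot gens3_all gens3_ok (extra := extra3) (ws := base) (by decide +kernel)
  letI : CommGroup (hSub.comap σ) :=
    { (inferInstance : Group (hSub.comap σ)) with
      mul_comm := fun x y => Subtype.ext (commute_of_zpowers σ hc hsurj hSub_le x.2 y.2) }
  obtain ⟨X, hX, hrel⟩ := LinCert.exact_lifts (L := TitsL33Mult.lin) σ hsurj hc TitsL33.cert_edgesOK
    TitsL33.cert_nodesOK TitsL33Mult.labelsOK TitsL33Mult.packOK TitsL33Mult.checkSel TitsL33Mult.checkComb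
    e he0 he (fun r hr => hbase _ (List.mem_map.mpr ⟨r, List.mem_range.mpr hr, rfl⟩))
    (MonoidHom.id (hSub.comap σ)) (fun x _ h2 => congrArg Subtype.val h2)
  refine exists_section_of_lifts gens3_all σ X hX (base := base) ?_ (by decide +kernel) (by decide +kernel)
    (by decide +kernel)
  intro b hb
  obtain ⟨r, hr, rfl⟩ := List.mem_map.mp hb
  exact hrel r (List.mem_range.mp hr)

end Cfsg.Agent.Presented.TitsL33Sec
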