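import Cfsg.Agent.Lib.Presented.Rigid
import Cfsg.Agent.Lib.Presented.RuGroup
import Cfsg.Agent.Lib.Presented.TitsL33Sec
import Cfsg.Agent.Lib.Presented.Data.TitsC3200Checks
import Cfsg.Agent.Lib.Presented.Data.TitsC3200Mult
import Cfsg.Agent.Lib.Schur.Stem

/-!
# The Schur multiplier of the presented Tits group is trivial

The coset table over a subgroup L3(3), whose central extensions split, carries a linear certificate.
-/

set_option autoImplicit false
set_option maxRecDepth 20000

namespace Cfsg.Agent.Presented.TitsMult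

open Cfsg.Spor Cfsg.Agent.Presented RuPres RuIndex TitsPres

/-- Two words with the same paths on the base of the table of 1755 cosets are equal. -/
theorem eq_of_sameOK {u v : List ℕ}
    (h : sameOK RuC1755.cert (RuTChain.chain.map Level.pt) u v = true) : wval gen4 u = wval gen4 v := by
  obtain ⟨e, -, he⟩ := exists_table4
  haveI := RuTower.finite_tits
  simp only [sameOK, Bool.and_eq_true, List.all_eq_true, Nat.blt_eq, Nat.beq_eq] at h
  obtain ⟨⟨hu, hv⟩, hp⟩ := h
  refine eq_of_paths RuC1755.cert_edgesOK RuC1755.cert_nodesOK e he (by decide +kernel) RuTChain.chain_ok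
    (by rw [RuGroup.card_tits, RuTChain.chain_prod]) _ _ fun p hpm hpN => ?_
  rw [CosetCert.smul_path RuC1755.cert_edgesOK RuC1755.cert_nodesOK e he u hu ⟨p, hpN⟩,
    CosetCert.smul_path RuC1755.cert_edgesOK RuC1755.cert_nodesOK e he v hv ⟨p, hpN⟩]
  exact congrArg e (Fin.ext (hp p hpm))

/-- The images of the generators of L3(3). -/
def img (i : ℕ) : G4 := wval gen4 (imgWords.getD i [])

theorem img_rels_ok : (((relList gens3 edges3 extra3).map (letters gens3)).all fun w =>
    sameOK RuC1755.cert (RuTChain.chain.map Level.pt) (subst imgWords w) []) = true := by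
  decide +kernel

theorem img_mul_self (i : ℕ) : img i * img i = 1 := by
  by_cases hi : i < 3
  · have h : ((List.range 3).all fun i => sameOK RuC1755.cert (RuTChain.chain.map Level.pt)
        (imgWords.getD i [] ++ imgWords.getD i []) []) = true := by decide +kernel
    have h' := eq_of_sameOK (List.all_eq_true.mp h i (List.mem_range.mpr hi))
    rw [wval_append] at h'
    exact h'
  · rw [img, List.getD_eq_default _ _ (by simpa [imgWords] using Nat.le_of_not_lt hi)]
    simp [wval]

/-- The embedding of L3(3). -/
def l33Hom : G3 →* G4 :=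
  PresentedGroup.toGroup (f := fun x => img (gens3.idxOf x)) (fun r hr => by
    rw [lift_eq_wval (fun x => img (gens3.idxOf x)) (fun x => img_mul_self _) gens3_all img
      (fun x => rfl) r]
    show wval (fun i => wval gen4 (imgWords.getD i [])) _ = 1
    rw [← wval_subst]
    have h := eq_of_sameOK (List.all_eq_true.mp img_rels_ok _
      (List.mem_map.mpr ⟨r, mem_relList gens3_all hr, rfl⟩))
    exact h)

theorem l33Hom_wval (w : List ℕ) (hw : ∀ g ∈ w, g < 3) :
    l33Hom (wval gen3 w) = wval gen4 (subst imgWords w) := by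
  rw [wval_map, wval_subst]
  refine wval_congr_lt (n := 3) (fun g hg => ?_) w hw
  have hlt : g < gens3.length := hg
  rw [show gen3 g = PresentedGroup.of gens3[g] by simp [genFun, hlt]]
  rw [l33Hom, PresentedGroup.toGroup.of, List.Nodup.idxOf_getElem gens3_nodup g hlt]
  rfl

/-- The subgroup words, in the free group. -/
def hGens : List (FreeGroup (Fin 4)) := sub3200.map (RuPres.relOf (Fin.ofNat 4))

/-- The subgroup L3(3). -/
def hSub : Subgroup G4 :=
  (Subgroup.closure {x | x ∈ hGens}).map (PresentedGroup.mk (coxRelators edges4 ∪ {r | r ∈ extra4}))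

theorem hGens_letters : hGens.map (letters gens4) = sub3200 := by decide +kernel

theorem exists_table : ∃ e : Fin TitsC3200.cert.N ≃ G4 ⧸ hSub,
    (∀ i : Fin TitsC3200.cert.N, (i : ℕ) = 0 → e i = QuotientGroup.mk 1) ∧
    ∀ g (hgm : g < TitsC3200.cert.m) (i : Fin TitsC3200.cert.N),
      gen4 g • e i = e ⟨TitsC3200.cert.actOf i g,
        CosetCert.actOf_lt TitsC3200.cert_edgesOK TitsC3200.cert_nodesOK i.2 hgm⟩ := by
  have h2 : relsOK gens4 edges4 extra4 (TitsC3200.cert.words.take TitsC3200.cert.nR) = true := by
    decide +kernel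
  have h1 : (TitsC3200.cert.words.drop TitsC3200.cert.nR) = sub3200 := by decide +kernel
  have hlen : hGens.length = sub3200.length := by rw [← hGens_letters, List.length_map]
  exact indexCert gens4_all gens4_ok rfl TitsC3200.cert_edgesOK TitsC3200.cert_nodesOK
    TitsC3200.cert_wordsOK TitsC3200.cert_subOK h2 gens4_nodup hGens hSub rfl
    (by rw [h1, hlen, List.take_length, hGens_letters])
    (fun w hw => by rw [h1, hlen, List.drop_length] at hw; simp at hw)

theorem card_hSub : Nat.card hSub = 5616 := by
  obtain ⟨e, -, -⟩ := exists_table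
  have h := hSub.index_mul_card
  rw [card_quotient_of_equiv e, RuGroup.card_tits, show TitsC3200.cert.N = 3200 from rfl] at h
  omega

theorem hSub_le_range : hSub ≤ l33Hom.range := by
  rw [hSub, map_closure_eq_wval gens4_all gens4_ok, hGens_letters, Subgroup.closure_le]
  rintro x ⟨k, hk, rfl⟩
  obtain ⟨i, hi, rfl⟩ := List.mem_iff_getElem.mp hk
  have hall : ((List.range sub3200.length).all fun i =>
      sameOK RuC1755.cert (RuTChain.chain.map Level.pt) (sub3200.getD i [])
        (subst imgWords (sub3200Expr.getD i [])) &&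
      ((sub3200Expr.getD i []).all fun g => Nat.blt g 3)) = true := by decide +kernel
  have h := List.all_eq_true.mp hall i (List.mem_range.mpr hi)
  simp only [Bool.and_eq_true, List.all_eq_true, Nat.blt_eq] at h
  rw [List.getD_eq_getElem _ _ hi] at h
  exact ⟨wval gen3 (sub3200Expr.getD i []), by rw [l33Hom_wval _ h.2, eq_of_sameOK h.1]⟩

theorem range_eq : l33Hom.range = hSub ∧ Function.Injective l33Hom := by
  obtain ⟨hfin, hcard⟩ := TitsL33Sec.finite_card
  haveI := RuTower.finite_tits
  have hsurj := l33Hom.rangeRestrict_surjective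
  have h1 : Nat.card l33Hom.range ≤ Nat.card G3 := Nat.card_le_card_of_surjective _ hsurj
  have h2 := Subgroup.card_le_of_le hSub_le_range
  rw [card_hSub] at h2
  refine ⟨(Subgroup.eq_of_le_of_card_ge hSub_le_range (by rw [card_hSub]; omega)).symm, ?_⟩
  have hb : Function.Bijective l33Hom.rangeRestrict :=
    hsurj.bijective_of_nat_card_le (by omega)
  exact fun a b h => hb.1 (Subtype.ext h)

/-- The inclusion of the subgroup L3(3), as an equivalence. -/
noncomputable def l33Equiv : G3 ≃* hSub :=
  (MonoidHom.ofInjective range_eq.2).trans (MulEquiv.subgroupCongr range_eq.1)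

/-- The words of the relators in the certificate. -/
noncomputable def base : List (List ℕ) :=
  (List.range TitsC3200Mult.lin.nc).map fun r => TitsC3200Mult.lin.cws.getD r []

/-- Every central extension of the presented Tits group has a section. -/
theorem exists_section {Γ : Type*} [Group Γ] (σ : Γ →* G4) (hsurj : Function.Surjective σ)
    (hc : σ.ker ≤ Subgroup.center Γ) : ∃ φ : G4 →* Γ, ∀ y, σ (φ y) = y := by
  obtain ⟨e, he0, he⟩ := exists_table
  -- a section over the subgroup
  let σP : hSub.comap σ →* G3 :=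
    l33Equiv.symm.toMonoidHom.comp ((σ.comp (hSub.comap σ).subtype).codRestrict hSub fun x => x.2)
  have hσP : ∀ x : hSub.comap σ, (l33Equiv (σP x) : G4) = σ x := fun x => by
    show ((l33Equiv (l33Equiv.symm _) : hSub) : G4) = _
    rw [MulEquiv.apply_symm_apply]; rfl
  obtain ⟨φ₀, hφ₀⟩ := TitsL33Sec.exists_section σP
    (fun y => by
      obtain ⟨x, hx⟩ := hsurj (l33Equiv y : hSub)
      refine ⟨⟨x, by show σ x ∈ hSub; rw [hx]; exact (l33Equiv y).2⟩, l33Equiv.injective (Subtype.ext ?_)⟩
      rw [hσP]; exact hx)
    (fun x hx => by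
      rw [Subgroup.mem_center_iff]
      intro y
      have h1 : σ (x : Γ) = 1 := by rw [← hσP, MonoidHom.mem_ker.mp hx, map_one]; rfl
      exact Subtype.ext (Subgroup.mem_center_iff.mp (hc h1) y))
  obtain ⟨τ, hτ⟩ := exists_tau_of_section σ hc hSub
    ((hSub.comap σ).subtype.comp (φ₀.comp l33Equiv.symm.toMonoidHom)) fun h => by
      show σ ((φ₀ (l33Equiv.symm h) : hSub.comap σ) : Γ) = h
      rw [← hσP, hφ₀, MulEquiv.apply_symm_apply]
  letI : CommGroup (Subgroup.center Γ) :=
    { (inferInstance : Group (Subgroup.center Γ)) with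
      mul_comm := fun a b => Subtype.ext (Subgroup.mem_center_iff.mp b.2 a) }
  have hbase : ∀ b ∈ base, wval gen4 b = 1 :=
    wval_rot gens4_all gens4_ok (extra := extra4) (ws := base) (by decide +kernel)
  obtain ⟨X, hX, hrel⟩ := LinCert.exact_lifts (L := TitsC3200Mult.lin) σ hsurj hc TitsC3200.cert_edgesOK
    TitsC3200.cert_nodesOK TitsC3200Mult.labelsOK TitsC3200Mult.packOK TitsC3200Mult.checkSel
    TitsC3200Mult.checkComb e he0 he (fun r hr => hbase _ (List.mem_map.mpr ⟨r, List.mem_range.mpr hr, rfl⟩))
    τ hτ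
  refine exists_section_of_lifts gens4_all σ X hX (base := base) ?_ (by decide +kernel) (by decide +kernel)
    (by decide +kernel)
  intro b hb
  obtain ⟨r, hr, rfl⟩ := List.mem_map.mp hb
  exact hrel r (List.mem_range.mp hr)

/-- The Schur multiplier of the presented Tits group is trivial. -/
theorem multiplier_trivial : Cfsg.HasCyclicSchurMultiplier G4 1 := by
  haveI := RuTower.finite_tits
  refine Schur.hasCyclicSchurMultiplier_one fun Γ _ _ σ hσ => ?_
  obtain ⟨hsurj, hc, hcomm⟩ := hσ
  obtain ⟨φ, hφ⟩ := exists_section σ hsurj hc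
  exact ker_eq_bot_of_section σ hc hcomm φ hφ

end Cfsg.Agent.Presented.TitsMult
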